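import Cfsg.Agent.Lib.Transfer.Local.TauTwo

/-!
Nonabelian `p`-subgroups lie in a unique maximal subgroup.
-/

set_option autoImplicit false
set_option linter.style.haveILetI false
set_option linter.unusedSectionVars false
set_option maxHeartbeats 1000000

namespace Cfsg.Agent.Transfer.Loc

open Subgroup
open scoped commutatorElement Pointwise

universe u

variable {G : Type u} [Group G] [Finite G] {p : ℕ} [hp : Fact p.Prime] (hG : Cfsg.IsMinSimpleOddOrder G)
include hG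

/-- For `p ∉ σ(M)` the `p`-subgroups of `M` are abelian. -/
theorem abelian_of_not_sigma {M P : Subgroup G} (hM : IsCoatom M) (hpσ : p ∉ Cfsg.sigma M) (hP : IsPGroup p P)
    (hPM : P ≤ M) : IsMulCommutative P := by
  haveI := solvable_of_ne_top hG hM.1
  obtain ⟨T, hT, hPT⟩ := exists_sylowIn_ge hPM hP
  suffices h : IsMulCommutative T from
    ⟨⟨fun a b => Subtype.ext (congrArg Subtype.val (h.is_comm.comm ⟨a, hPT a.2⟩ ⟨b, hPT b.2⟩) :)⟩⟩
  rcases eq_or_ne T ⊥ with h1 | h1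
  · rw [h1]; infer_instance
  by_cases hr1 : Cfsg.PRankLE p 1 M
  · have hc : IsCyclic T := by
      by_contra hc
      exact not_prank_one_of_not_cyclic hG
        (ne_two hG ((dvd_card_of_pGroup hT.2.1 h1).trans (card_subgroup_dvd_card T))) hT.2.1 hc (prankLE_mono hT.1 hr1)
    exact IsCyclic.isMulCommutative
  · obtain ⟨B, hBT, hB, hB2⟩ := exists_elem_sylow hr1 hT
    have hBc : Nat.card B = p ^ 2 := by
      refine le_antisymm ?_ hB2
      by_contra hlt
      obtain ⟨n, hn⟩ := IsPGroup.iff_card.1 (Grp.elemAb_isPGroup hB)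
      refine hpσ (alpha_subset_sigma hG hM ⟨hp.out, not_prank_of_elem (hBT.trans hT.1) hB ?_⟩)
      rw [hn] at hlt ⊢
      exact Nat.pow_le_pow_right hp.out.pos ((Nat.pow_lt_pow_iff_right hp.out.one_lt).1 (not_le.1 hlt))
    obtain ⟨B₀, h⟩ := exists_exc hG hM (hBT.trans hT.1) hB hBc hpσ
    exact h.abelian hT hBT

theorem mem_sigma_of_nonabelian {M P : Subgroup G} (hM : IsCoatom M) (hP : IsPGroup p P) (hna : ¬ IsMulCommutative P)
    (hPM : P ≤ M) : p ∈ Cfsg.sigma M := by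
  by_contra h
  exact hna (abelian_of_not_sigma hG hM h hP hPM)

omit hp in
theorem nilpotent_of_alpha_empty {M : Subgroup G} (hM : IsCoatom M) (hα : ∀ s, s ∉ Cfsg.alpha M) :
    Group.IsNilpotent (Cfsg.sigmaCore M) :=
  Grp.isNilpotent_of_le (sigmaCore_le_derived hG hM)
    (beta_nilpotent hG hM le_rfl fun s _ _ hb => hα s (beta_subset hb))

theorem coatom_eq_of_alpha_empty {M H P : Subgroup G} (hM : IsCoatom M) (hH : IsCoatom H) (hσ : p ∈ Cfsg.sigma M)
    (hσH : p ∈ Cfsg.sigma H) (hα : ∀ s, s ∉ Cfsg.alpha M) (hP : Grp.IsSylowIn p P M) (hPH : P ≤ H) : H = M :=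
  sigma_sylow_unique hG hM hH (nilpotent_of_alpha_empty hG hM hα) hσ hσH hP hPH

/-- Invariant Sylow subgroups of `M_σ` for an operator `p`-group. -/
theorem exists_inv_sylow_sigma {q : ℕ} [hq : Fact q.Prime] {M U : Subgroup G} (hM : IsCoatom M) (hUM : U ≤ M)
    (hU : IsPGroup p U) (hpM : p ∣ Nat.card M) (hβ : p ∉ Cfsg.beta M) (hσ : q ∈ Cfsg.sigma M) (hqp : q ≠ p) :
    ∃ Q, Grp.IsSylowIn q Q M ∧ U ≤ normalizer (Q : Set G) := by
  haveI := solvable_of_ne_top hG hM.1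
  set S := Cfsg.sigmaCore M with hS
  have hnc := ((Cfsg.Agent.S1414.result hG M hM).2.2.2.2 p hp.out hpM hβ).2.1
  obtain ⟨N, hN, hNd, j, hj⟩ := hasNormalPComplement_iff_exists.1 hnc
  haveI := hN
  set O := O' p S with hO
  have hle : N.map S.subtype ≤ O := by
    rw [hO, O'_eq]
    exact map_mono (Grp.le_pPrimeCore inferInstance (hp.out.coprime_iff_not_dvd.2 hNd).symm)
  obtain ⟨T, hT⟩ := Grp.exists_isSylowIn q M
  have hTS : T ≤ S := sylow_le_piCore hG hM (alpha_subset_sigma hG hM) le_rfl hσ hT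
  have hTO : T ≤ O := by
    refine le_trans (fun x hx => ?_) hle
    obtain ⟨i, hi⟩ := hT.2.1 ⟨x, hx⟩
    refine ⟨⟨x, hTS hx⟩, ?_, rfl⟩
    rw [SetLike.mem_coe, ← QuotientGroup.eq_one_iff, ← orderOf_eq_one_iff]
    refine Nat.eq_one_of_dvd_coprimes (a := q ^ i) (b := p ^ j)
      (Nat.Coprime.pow _ _ ((Nat.coprime_primes hq.out hp.out).2 hqp)) ?_ ?_
    · refine orderOf_dvd_of_pow_eq_one ?_
      rw [← QuotientGroup.mk_pow, show (⟨x, hTS hx⟩ : ↥S) ^ q ^ i = 1 from
        Subtype.ext (by simpa using congrArg Subtype.val hi)]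
      rfl
    · rw [← hj, Subgroup.index_eq_card]; exact _root_.orderOf_dvd_natCard _
  have hOM : O ≤ M := (O'_le p S).trans (TransHyp.piCoreOf_le M)
  have hUO : U ≤ normalizer (O : Set G) := le_normalizer_core (hUM.trans (TransHyp.le_normalizer_piCoreOf M))
  have hcop : (Nat.card U).Coprime (Nat.card O) := by
    obtain ⟨n, hn⟩ := IsPGroup.iff_card.1 hU
    rw [hn]
    exact ((O'_coprime (r := p) S).symm).pow_left n
  obtain ⟨Q, hQ, hUQ⟩ := Grp.exists_invariant_sylow U O hUO hcop (Or.inr (isSolvable_of_le hOM)) q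
  have hTO' : Grp.IsSylowIn q T O := ⟨hTO, hT.2.1, fun hd => hT.2.2 (by
    rw [← relIndex_mul_relIndex T O M hTO hOM]
    exact hd.mul_right _)⟩
  obtain ⟨k, hk, e⟩ := hTO'.conj hQ
  exact ⟨Q, e ▸ hT.smul (Grp.conj_smul_eq_self_of_mem (hOM hk)), hUQ⟩

omit hp in
/-- A Sylow subgroup of rank at least three lies in a unique maximal subgroup. -/
theorem u_of_rank {q : ℕ} [hq : Fact q.Prime] {M Q : Subgroup G} (hM : IsCoatom M) (hα : q ∈ Cfsg.alpha M)
    (hQ : Grp.IsSylowIn q Q M) : Cfsg.InUniqueMaximal Q := by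
  haveI := solvable_of_ne_top hG hM.1
  obtain ⟨E, hEQ, hE, hE3⟩ := exists_elem_sylow hα.2 hQ
  exact u_mono hG (u_elem_three hG hE hE3) hEQ (ne_top_of_pGroup hG hQ.2.1)

/-- Nonabelian Sylow subgroups of rank two lie in a unique maximal subgroup. -/
theorem sylow_unique_rank_two (S : Sylow p G) (hr : Cfsg.PRankLE p 2 (S : Subgroup G))
    (hna : ¬ IsMulCommutative (S : Subgroup G)) {M₀ : Subgroup G} (hM₀ : IsCoatom M₀)
    (hN₀ : normalizer (omZ p (S : Subgroup G) : Set G) ≤ M₀) {H : Subgroup G} (hH : IsCoatom H)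
    (hSH : (S : Subgroup G) ≤ H) : H = M₀ := by
  haveI := solvable_of_ne_top hG hH.1
  haveI := solvable_of_ne_top hG hM₀.1
  have hSp : IsPGroup p (S : Subgroup G) := S.isPGroup'
  rcases Cfsg.Agent.S1412.result hG p S hr with hab | ⟨S₁, S₂, hsup, hc12, hna₁, hc3, hexp, hcyc, hom⟩
  · exact absurd hab hna
  haveI := hcyc
  have hS₁S : S₁ ≤ (S : Subgroup G) := hsup ▸ le_sup_left
  set Z := omZ p (S : Subgroup G) with hZdef
  by_contra hne
  have hSM₀ : (S : Subgroup G) ≤ M₀ := (le_normalizer.trans (normalizer_le_omZ (p := p) _)).trans hN₀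
  have hσ₀ := mem_sigma_of_nonabelian hG hM₀ hSp hna hSM₀
  have hσH := mem_sigma_of_nonabelian hG hH hSp hna hSH
  have hsylIn : ∀ {K : Subgroup G}, (S : Subgroup G) ≤ K → Grp.IsSylowIn p (S : Subgroup G) K := fun {K} hK =>
    ⟨hK, hSp, fun hd => S.not_dvd_index (hd.trans (Subgroup.relIndex_dvd_index_of_le hK))⟩
  have hrG : ∀ B : Subgroup G, Cfsg.IsElementaryAbelian p B → Nat.card B ≤ p ^ 2 := by
    intro B hB
    obtain ⟨T, hBT⟩ := (Grp.elemAb_isPGroup hB).exists_le_sylow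
    by_contra hlt
    refine not_prank_of_elem hBT hB ?_ (prankLE_equiv (Sylow.equiv S T) hr)
    obtain ⟨n, hn⟩ := IsPGroup.iff_card.1 (Grp.elemAb_isPGroup hB)
    rw [hn] at hlt ⊢
    exact Nat.pow_le_pow_right hp.out.pos ((Nat.pow_lt_pow_iff_right hp.out.one_lt).1 (not_le.1 hlt))
  have hαp : ∀ {K : Subgroup G}, IsCoatom K → p ∉ Cfsg.alpha K := by
    rintro K hK ⟨-, hh⟩
    obtain ⟨E, -, hE, hE3⟩ := exists_elem_of_not_prank hh
    exact absurd (hE3.trans (hrG E hE)) (not_le.2 (Nat.pow_lt_pow_right hp.out.one_lt (by norm_num)))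
  -- `Ω₁Z(S)` is a line
  have hZc : Nat.card Z = p := by
    have hS₁0 : S₁ ≠ ⊥ := fun e => hna₁ (by rw [e]; infer_instance)
    have hS0 : (S : Subgroup G) ≠ ⊥ := ne_bot_of_le_ne_bot hS₁0 hS₁S
    have hZS₂ : Z ≤ S₂ := by
      intro x hx
      have hxS : x ∈ (S : Subgroup G) := hx.1
      rw [← hsup, ← SetLike.mem_coe, Subgroup.coe_mul_of_left_le_normalizer_right S₁ S₂
        (fun a ha => centralizer_le_normalizer _ (mem_centralizer_iff.2 fun b hb => (hc12 a ha b hb).symm))] at hxS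
      obtain ⟨a, ha, b, hb, rfl⟩ := hxS
      refine mul_mem ((hom.ge.trans ((closure_le _).2 fun y hy => hy.1) :
        S₁ ⊓ centralizer (S₁ : Set G) ≤ S₂) ⟨ha, mem_centralizer_iff.2 fun c hc => ?_⟩) hb
      have h1 := mem_centralizer_iff.1 hx.2.1 c (hS₁S hc)
      have h2 : b * c = c * b := (hc12 c hc b hb).symm
      have h3 : c * a * b = a * c * b := by
        calc c * a * b = c * (a * b) := mul_assoc _ _ _
          _ = a * b * c := h1
          _ = a * (b * c) := mul_assoc _ _ _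
          _ = a * c * b := by rw [h2, mul_assoc]
      exact mul_right_cancel h3
    have hc : IsCyclic Z := isCyclic_of_injective (inclusion hZS₂) (inclusion_injective hZS₂)
    exact le_antisymm (card_le_prime_of_cyclic hc (omZ_elem (p := p) _).2)
      (Nat.le_of_dvd Nat.card_pos (dvd_card_of_pGroup (hSp.to_le (omZ_le _)) (omZ_ne_bot hSp hS0)))
  -- planes
  have hplane : ∀ A : Subgroup G, A ≤ (S : Subgroup G) → Cfsg.IsElementaryAbelian p A → Nat.card A = p ^ 2 →
      IsMaxPlane p A := fun A _ hA hA2 =>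
    ⟨hA, hA2, fun B hB hAB => (Subgroup.eq_of_le_of_card_ge hAB ((hrG B hB).trans hA2.ge)).symm⟩
  have hexp' : ∀ x ∈ S₁, x ^ p = 1 := by
    intro x hx
    have := Monoid.pow_exponent_eq_one (⟨x, hx⟩ : S₁)
    rw [hexp] at this
    simpa using congrArg Subtype.val this
  -- every plane: all lines but `Z` have normalisers in `H`, and `C(A)` lies in both
  have key : ∀ A : Subgroup G, A ≤ (S : Subgroup G) → Cfsg.IsElementaryAbelian p A → Nat.card A = p ^ 2 →
      Z ≤ A ∧ ∀ L : Subgroup G, L ≤ A → Nat.card L = p → L ≠ Z → normalizer (L : Set G) ≤ H := by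
    intro A hAS hA hA2
    have hAm := hplane A hAS hA hA2
    have hZA : Z ≤ A := hAm.omZ_le_self hAS
    refine ⟨hZA, ?_⟩
    have hncent : ¬ (S : Subgroup G) ≤ centralizer (A : Set G) := fun hc => by
      have h1 : A ≤ Z := fun a ha => ⟨hAS ha, le_centralizer_iff.1 hc ha, hA.2 a ha⟩
      have h2 := Subgroup.card_dvd_of_le h1
      rw [hA2, hZc] at h2
      exact absurd (Nat.le_of_dvd hp.out.pos h2) (not_le.2 (lt_self_pow₀ hp.out.one_lt (by norm_num)))
    obtain ⟨L₀, hL₀, hL₀c, hgood⟩ : ∃ L : Subgroup G, L ≤ A ∧ Nat.card L = p ∧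
        (normalizer (L : Set G) ≤ H ∧ ∀ K : Subgroup G, IsCoatom K → normalizer (L : Set G) ≤ K → K = H) := by
      by_contra hno
      push Not at hno
      obtain ⟨-, hα, hnil⟩ := (plane_main hG hH (hAS.trans hSH) hA hA2).2 fun L hL hLc h => by
        obtain ⟨K, hK, hNK, hKne⟩ := hno L hL hLc h.1
        exact hKne (h.2 K hK hNK)
      exact hne ((sigma_sylow_unique hG hH hM₀ hnil hσH hσ₀ (hsylIn hSH) hSM₀)).symm
    have hL₀Z : L₀ ≠ Z := fun e => hne (hgood.2 M₀ hM₀ (by rw [e]; exact hN₀)).symm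
    have hlt : (S : Subgroup G) ⊓ centralizer (A : Set G) < (S : Subgroup G) :=
      lt_of_le_of_ne inf_le_left fun e => hncent (e.ge.trans inf_le_right)
    obtain ⟨y, ⟨hyS, hyN⟩, hyC⟩ := SetLike.exists_of_lt (exists_grow hSp hlt)
    have hyA : y ∈ normalizer (A : Set G) := by
      rw [Grp.mem_normalizer_iff_smul]
      refine Subgroup.eq_of_le_of_card_ge ?_ (by rw [Grp.card_conj_smul])
      rintro _ ⟨a, ha, rfl⟩
      show MulAut.conj y a ∈ A
      exact hAm.mem (by rw [← map_pow, hA.2 a ha, map_one])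
        ((mem_normalizer_iff.1 hyN a).1 ⟨hAS ha, hAm.le_centralizer ha⟩).2
    obtain ⟨k, hk⟩ := hSp ⟨y, hyS⟩
    intro L hL hLc hLZ
    obtain ⟨n, hn⟩ := line_orbit hAm hL₀ hL₀c hZA hZc hL₀Z (by simpa using congrArg Subtype.val hk) hyA
      (fun w hw => mem_centralizer_iff.1 (omZ_le_centralizer _ hw) y hyS) (fun hc => hyC ⟨hyS, hc⟩) L hL hLc hLZ
    intro x hx
    have hyn : y ^ n ∈ H := pow_mem (hSH hyS) n
    have h6 : (y ^ n)⁻¹ * x * y ^ n ∈ normalizer (L₀ : Set G) := by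
      rw [Grp.mem_normalizer_iff_smul, ← Grp.conj_smul_conj_smul, ← Grp.conj_smul_conj_smul, hn,
        Grp.mem_normalizer_iff_smul.1 hx, ← hn, Grp.conj_smul_conj_smul, inv_mul_cancel, map_one, one_smul]
    have h7 := H.mul_mem (H.mul_mem hyn (hgood.1 h6)) (inv_mem hyn)
    rwa [show y ^ n * ((y ^ n)⁻¹ * x * y ^ n) * (y ^ n)⁻¹ = x by group] at h7
  -- `M₀` has some `α`-prime
  obtain ⟨q, hqα⟩ : ∃ q, q ∈ Cfsg.alpha M₀ := by
    by_contra hno
    push Not at hno
    exact hne (coatom_eq_of_alpha_empty hG hM₀ hH hσ₀ hσH hno (hsylIn hSM₀) hSH)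
  haveI := Fact.mk hqα.1
  have hqp : q ≠ p := fun e => hαp hM₀ (e ▸ hqα)
  have hpβ : p ∉ Cfsg.beta M₀ := fun hb => hαp hM₀ (beta_subset hb)
  obtain ⟨Q, hQ, hSQ⟩ := exists_inv_sylow_sigma hG (q := q) hM₀ hSM₀ hSp (hσ₀.2.1) hpβ
    (alpha_subset_sigma hG hM₀ hqα) hqp
  have hQU := u_of_rank hG hM₀ hqα hQ
  have hQH : ¬ Q ≤ H := fun h => hne (hQU.unique ⟨hH, h⟩ ⟨hM₀, hQ.1⟩)
  have hpQ : ¬ p ∣ Nat.card Q := by
    intro hd
    obtain ⟨n, hn⟩ := IsPGroup.iff_card.1 hQ.2.1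
    exact hqp ((Nat.prime_dvd_prime_iff_eq hp.out Fact.out).1 (hp.out.dvd_of_dvd_pow (hn ▸ hd))).symm
  have hcent : ∀ A : Subgroup G, A ≤ (S : Subgroup G) → Cfsg.IsElementaryAbelian p A → Nat.card A = p ^ 2 →
      Q ⊓ H ≤ centralizer (A : Set G) := by
    intro A hAS hA hA2
    have hAm := hplane A hAS hA hA2
    have hAH := hAS.trans hSH
    rcases eq_or_ne (Q ⊓ H) ⊥ with h0 | h0
    · rw [h0]; exact bot_le
    have hRp : IsPGroup q ↥(Q ⊓ H) := hQ.2.1.to_le inf_le_left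
    have hAR : A ≤ normalizer ((Q ⊓ H : Subgroup G) : Set G) :=
      Grp.le_normalizer_inf' (hAS.trans hSQ) (hAH.trans le_normalizer)
    by_cases hqH : q ∈ Cfsg.sigma H
    · exfalso
      obtain ⟨Q', hQ', -, hRQ', hQ'm⟩ := hAm.inv_sylow hG hH hAH hqH hqp hRp inf_le_right hAR
      obtain ⟨c, hc, e⟩ := hAm.conj_meet hG hqp hQ'm
        (maxInv_of_sylow hQ.2.1 (sigma_sylow hG hM₀ (alpha_subset_sigma hG hM₀ hqα) hQ).2 (hAS.trans hSQ))
        hH.1 hAH (ne_bot_of_le_ne_bot h0 (le_inf inf_le_right hRQ'))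
        (ne_bot_of_le_ne_bot h0 (le_inf inf_le_right inf_le_left))
      refine hQH ?_
      rw [e, ← Grp.conj_smul_eq_self_of_mem ((plane_main hG hH hAH hA hA2).1 hc)]
      exact Subgroup.pointwise_smul_le_pointwise_smul_iff.2 hQ'.1
    · exact inv_centralized hG hAm hH hAH hqp hqH hRp inf_le_right hAR (Or.inl hσH)
  -- a plane
  obtain ⟨A, hAS, hA, hA2⟩ := exists_elem_of_not_prank (not_prank_one_of_not_cyclic hG
    (ne_two hG (hσH.2.1.trans (card_subgroup_dvd_card H))) hSp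
    (fun hc => hna (by haveI := hc; exact IsCyclic.isMulCommutative)))
  have hA2' : Nat.card A = p ^ 2 := le_antisymm (hrG A hA) hA2
  have hAm := hplane A hAS hA hA2'
  have hQZ : Q ≤ centralizer (Z : Set G) := by
    refine Grp.le_of_hyperplanes hA hAm.ne_bot Q hpQ (hAS.trans hSQ) fun D hD hi => ?_
    rcases eq_or_ne D Z with e | e
    · rw [e]; exact inf_le_right
    · have hNH := (key A hAS hA hA2').2 D hD (card_of_hyperplane hA2' hD hi) e
      exact ((le_inf inf_le_left (inf_le_right.trans ((centralizer_le_normalizer _).trans hNH))).trans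
        (hcent A hAS hA hA2')).trans (centralizer_le (key A hAS hA hA2').1)
  -- `S₁/Z` acting on `Q`
  have hQN : Q ≤ normalizer (Z : Set G) := hQZ.trans (centralizer_le_normalizer _)
  have hSN : (S : Subgroup G) ≤ normalizer (Z : Set G) := le_normalizer.trans (normalizer_le_omZ (p := p) _)
  have hS₁N := hS₁S.trans hSN
  have hom' : S₁ ⊓ centralizer (S₁ : Set G) ≤ Z := fun x hx => by
    refine ⟨hS₁S hx.1, le_centralizer_iff.1 ?_ (mem_zpowers x), hexp' x hx.1⟩
    rw [← hsup]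
    refine le_centralizer_iff.1 (zpowers_le.2 (mem_centralizer_iff.2 fun s hs => ?_))
    rw [SetLike.mem_coe, ← SetLike.mem_coe, Subgroup.coe_mul_of_left_le_normalizer_right S₁ S₂
      (fun a ha => centralizer_le_normalizer _ (mem_centralizer_iff.2 fun b hb => (hc12 a ha b hb).symm))] at hs
    obtain ⟨a, ha, b, hb, rfl⟩ := hs
    calc a * b * x = a * (b * x) := mul_assoc _ _ _
      _ = a * (x * b) := by rw [hc12 x hx.1 b hb]
      _ = x * (a * b) := by rw [← mul_assoc, mem_centralizer_iff.1 hx.2 a ha, mul_assoc]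
  have hZS₁ : Z ≤ S₁ := by
    intro x hx
    have hxS : x ∈ (S : Subgroup G) := hx.1
    rw [← hsup, ← SetLike.mem_coe, Subgroup.coe_mul_of_left_le_normalizer_right S₁ S₂
      (fun a ha => centralizer_le_normalizer _ (mem_centralizer_iff.2 fun b hb => (hc12 a ha b hb).symm))] at hxS
    obtain ⟨a, ha, b, hb, rfl⟩ := hxS
    refine mul_mem ha ((hom.le.trans inf_le_left) (subset_closure ⟨hb, ?_⟩))
    have h1 := hx.2.2
    rwa [(show Commute a b from hc12 a ha b hb).mul_pow, hexp' a ha, one_mul] at h1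
  have hderived : ⁅S₁, S₁⁆ ≤ Z := (Cfsg.Agent.S1412.inf_centralizer_eq_commutator hna₁ hc3).ge.trans hom'
  have hcardS : Nat.card (qimg Z S₁) = p ^ 2 := by
    have h1 := card_qimg hZS₁ hS₁N
    rw [hc3, hZc, pow_succ', ← pow_one p] at h1
    exact Nat.eq_of_mul_eq_mul_left hp.out.pos (by simpa using h1)
  have hSel : Cfsg.IsElementaryAbelian p (qimg Z S₁) := by
    refine ⟨le_centralizer_iff_isMulCommutative.1 (commutator_eq_bot_iff_le_centralizer.1 ?_), ?_⟩
    · rw [← qimg_commutator hS₁N hS₁N]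
      exact (qimg_eq_bot (hderived.trans le_normalizer)).2 hderived
    · rintro _ ⟨v, hv, rfl⟩
      rw [← map_pow, show v ^ p = 1 from Subtype.ext (by simpa using hexp' _ hv), map_one]
  refine hQH ?_
  have hgoal : qimg Z Q ≤ qimg Z H := by
    refine Grp.le_of_hyperplanes hSel (fun e => ?_) _ (fun hd => hpQ (hd.trans (card_qimg_dvd hQN)))
      (qimg_normalizer (hS₁S.trans hSQ)) fun D hD hi => ?_
    · rw [e, Subgroup.card_bot] at hcardS
      exact absurd hcardS (Nat.one_lt_pow two_ne_zero hp.out.one_lt).ne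
    set B := qpre Z D with hB
    have hBS : B ≤ S₁ := qpre_le hZS₁ hD
    have hBc : Nat.card B = p ^ 2 := by
      rw [hB, ← card_qpre, hZc, card_of_hyperplane hcardS hD hi, pow_two]
    have hBe : Cfsg.IsElementaryAbelian p B :=
      ⟨⟨⟨IsPGroup.commutative_of_card_eq_prime_sq hBc⟩⟩, fun b hb => hexp' b (hBS hb)⟩
    rintro _ ⟨⟨v, hv, rfl⟩, hvC⟩
    refine mem_map_of_mem _ (show (v : G) ∈ H from (plane_main hG hH ((hBS.trans hS₁S).trans hSH) hBe hBc).1
      (mem_centralizer_iff.2 fun b hb => ?_))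
    have hbN : b ∈ normalizer (Z : Set G) := hS₁N (hBS hb)
    have hbD : QuotientGroup.mk' (Z.subgroupOf (normalizer (Z : Set G))) ⟨b, hbN⟩ ∈ D := by
      have h1 := mem_qimg hb hbN
      rwa [hB, qimg_qpre] at h1
    have hc : b * v * b⁻¹ * (v : G)⁻¹ ∈ Z := by
      have h2 : QuotientGroup.mk' (Z.subgroupOf (normalizer (Z : Set G))) (⟨b, hbN⟩ * v * ⟨b, hbN⟩⁻¹ * v⁻¹) = 1 := by
        rw [map_mul, map_mul, map_mul, map_inv, map_inv, mem_centralizer_iff.1 hvC _ hbD]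
        group
      have h3 := (QuotientGroup.eq_one_iff _).1 h2
      exact h3
    have hq' : b * v * b⁻¹ * (v : G)⁻¹ ∈ Q :=
      Q.mul_mem ((mem_normalizer_iff.1 (hSQ (hS₁S (hBS hb))) _).1 hv) (Q.inv_mem hv)
    have hbot : Q ⊓ Z = ⊥ := Grp.inf_eq_bot_of_coprime (coprime_O hqp hQ.2.1 (hSp.to_le (omZ_le _)))
    have h4 : b * v * b⁻¹ * (v : G)⁻¹ ∈ Q ⊓ Z := ⟨hq', hc⟩
    rw [hbot, mem_bot, mul_inv_eq_one] at h4
    calc b * (v : G) = b * v * b⁻¹ * b := by group
      _ = v * b := by rw [h4]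
  exact ((le_qpre_iff hQN).2 hgoal).trans (qpre_le ((omZ_le _).trans hSH) le_rfl)

end Cfsg.Agent.Transfer.Loc
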