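import Cfsg.Agent.Lib.Transfer.Local.NonabelianUnique
import Cfsg.Agent.S1422

/-!
Centralisers of elements of order `p ∈ σ(M)` lying in `β` or in the derived group of `M_σ`.
-/

set_option autoImplicit false
set_option linter.style.haveILetI false
set_option linter.unusedSectionVars false
set_option maxHeartbeats 1000000

namespace Cfsg.Agent.Transfer.Loc

open Subgroup
open scoped commutatorElement Pointwise

universe u

variable {p : ℕ} [hp : Fact p.Prime]

/-- A derived element in a maximal plane of a `p`-group of rank at least three is central. -/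
theorem maxPlane_derived {R : Type u} [Group R] [Finite R] (hp2 : p ≠ 2) (hR : IsPGroup p R)
    (hr : ¬ Cfsg.PRankLE p 2 R) {E : Subgroup R} (hEe : Cfsg.IsElementaryAbelian p E) (hE2 : Nat.card E = p ^ 2)
    (hEmax : ∀ B : Subgroup R, Cfsg.IsElementaryAbelian p B → E ≤ B → B = E) {x : R} (hx : x ∈ E)
    (hxd : x ∈ commutator R) : x ∈ center R := by
  obtain ⟨hET, hZ1, -, -, hTi⟩ := Cfsg.Agent.S1453.result p hp2 hR hr E hEe hE2 hEmax
  set T := centralizer ((closure {x : R | x ∈ Subgroup.upperCentralSeries R 2 ∧ x ^ p = 1} : Subgroup R) : Set R)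
  set Z₁ := closure {x : R | x ∈ center R ∧ x ^ p = 1}
  have hZc : Z₁ ≤ center R := (closure_le _).2 fun x hx => hx.1
  haveI : IsCyclic Z₁ := isCyclic_of_prime_card (p := p) hZ1
  have hZe : Cfsg.IsElementaryAbelian p Z₁ := elem_of_card_prime hZ1
  have hZE : Z₁ ≤ E := (le_sup_right : Z₁ ≤ E ⊔ Z₁).trans
    (hEmax _ (Cfsg.Agent.Fus.isElementaryAbelian_sup hEe hZe fun a _ b hb => mem_center_iff.1 (hZc hb) a) le_sup_left).le
  have hZT : Z₁ ≤ T := hZc.trans (Subgroup.center_le_centralizer _)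
  obtain ⟨n, hn⟩ := IsPGroup.iff_card.1 hR
  have hn0 : n ≠ 0 := fun h => hp.out.ne_one (by
    have h4 := Subgroup.index_dvd_card T
    rw [hTi, hn, h, pow_zero] at h4
    exact Nat.dvd_one.1 h4)
  haveI : T.Normal := Subgroup.normal_of_index_eq_minFac_card (by
    rw [hTi, hn, Nat.pow_minFac hn0, hp.out.minFac_eq])
  haveI : IsCyclic (R ⧸ T) := isCyclic_of_prime_card (p := p) (by rw [← Subgroup.index_eq_card, hTi])
  have hdT : commutator R ≤ T :=
    Subgroup.Normal.quotient_commutative_iff_commutator_le.1 ⟨⟨fun a b => (IsCyclic.commGroup (α := R ⧸ T)).mul_comm a b⟩⟩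
  obtain ⟨j, hj, e⟩ := (Nat.dvd_prime_pow hp.out).1 (hE2 ▸ card_dvd_of_le (inf_le_left : E ⊓ T ≤ E))
  have hle : Nat.card ↥(E ⊓ T) ≤ Nat.card Z₁ := by
    rw [hZ1, e]
    refine (Nat.pow_le_pow_right hp.out.pos (?_ : j ≤ 1)).trans (pow_one p).le
    by_contra hj1
    exact hET ((Subgroup.eq_of_le_of_card_ge inf_le_left
      (by rw [hE2, e]; exact Nat.pow_le_pow_right hp.out.pos (by omega))).ge.trans inf_le_right)
  exact hZc ((Subgroup.eq_of_le_of_card_ge (le_inf hZE hZT) hle).ge ⟨hx, hdT hxd⟩)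

variable {G : Type u} [Group G] [Finite G] (hG : Cfsg.IsMinSimpleOddOrder G) {M : Subgroup G} (hM : IsCoatom M)
include hG hM

/-- For `p ∉ β(M)` the derived group of `M_σ` meets a Sylow subgroup in its derived group. -/
theorem sigma_derived_inf_sylow (hσ : p ∈ Cfsg.sigma M) (hβ : p ∉ Cfsg.beta M) {S : Subgroup G}
    (hS : Grp.IsSylowIn p S M) : ⁅Cfsg.sigmaCore M, Cfsg.sigmaCore M⁆ ⊓ S ≤ ⁅S, S⁆ := by
  set K := Cfsg.sigmaCore M
  have hSK : S ≤ K := sylow_le_piCore hG hM (alpha_subset_sigma hG hM) le_rfl hσ hS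
  obtain ⟨N, hN, hNd, k, hk⟩ := hasNormalPComplement_iff_exists.1
    ((Cfsg.Agent.S1414.result hG M hM).2.2.2.2 p hp.out hσ.2.1 hβ).2.1
  haveI := hN
  set S' := S.subgroupOf K
  have htop : N ⊔ S' = ⊤ := by
    rw [← Subgroup.index_eq_one]
    obtain ⟨j, -, hj⟩ := (Nat.dvd_prime_pow hp.out).1 (hk ▸ Subgroup.index_dvd_of_le (le_sup_left : N ≤ N ⊔ S'))
    rcases Nat.eq_zero_or_pos j with rfl | hj0
    · rw [hj, pow_zero]
    exfalso
    have h1 : p ∣ S'.index := by
      refine dvd_trans ?_ (Subgroup.index_dvd_of_le (le_sup_right : S' ≤ N ⊔ S'))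
      rw [hj]; exact dvd_pow_self p hj0.ne'
    refine hS.2.2 (h1.trans ?_)
    rw [← Subgroup.relIndex_mul_relIndex S K M hSK (TransHyp.piCoreOf_le M)]
    exact dvd_mul_right _ _
  rintro x ⟨hxd, hxS⟩
  obtain ⟨⟨x', hx'⟩, hxd', rfl⟩ := (derived_eq_map K).le hxd
  set f := QuotientGroup.mk' N
  have hmap : S'.map f = ⊤ := by
    rw [← Subgroup.map_top_of_surjective f (QuotientGroup.mk'_surjective N), ← htop, Subgroup.map_sup,
      QuotientGroup.map_mk'_self, bot_sup_eq]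
  have h2 : f ⟨x', hx'⟩ ∈ Subgroup.map f ⁅S', S'⁆ := by
    rw [Subgroup.map_commutator, hmap]
    have := mem_map_of_mem f hxd'
    rwa [_root_.commutator_def, Subgroup.map_commutator,
      Subgroup.map_top_of_surjective f (QuotientGroup.mk'_surjective N)] at this
  obtain ⟨s, hs, hsx⟩ := h2
  have hsS : s ∈ S' := S'.commutator_le_self hs
  have h3 : s⁻¹ * ⟨x', hx'⟩ ∈ S' ⊓ N :=
    ⟨S'.mul_mem (S'.inv_mem hsS) hxS, QuotientGroup.eq.1 hsx⟩
  have hbot : S' ⊓ N = ⊥ := Grp.inf_eq_bot_of_coprime (by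
    obtain ⟨m, hm⟩ := IsPGroup.iff_card.1 (hS.2.1.of_equiv (subgroupOfEquivOfLe hSK).symm)
    rw [hm]
    exact (hp.out.coprime_iff_not_dvd.2 hNd).pow_left m)
  rw [hbot, mem_bot, inv_mul_eq_one] at h3
  have h4 := mem_map_of_mem K.subtype hs
  rw [Subgroup.map_commutator, map_subgroupOf_eq_of_le hSK] at h4
  rwa [h3] at h4

omit hM in
/-- A plane in a larger elementary group lies in a unique maximal subgroup. -/
theorem u_plane_not_max {A B : Subgroup G} (hA : Cfsg.IsElementaryAbelian p A) (hA2 : Nat.card A = p ^ 2)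
    (hB : Cfsg.IsElementaryAbelian p B) (hlt : A < B) : Cfsg.InUniqueMaximal A := by
  obtain ⟨n, hn⟩ := IsPGroup.iff_card.1 (Grp.elemAb_isPGroup hB)
  have h2 : p ^ 2 < Nat.card B := hA2 ▸ Set.ncard_lt_ncard (SetLike.coe_ssubset_coe.2 hlt)
  have hB3 : p ^ 3 ≤ Nat.card B := by
    rw [hn] at h2 ⊢
    exact Nat.pow_le_pow_right hp.out.pos ((Nat.pow_lt_pow_iff_right hp.out.one_lt).1 h2)
  exact u_elem_of_centralizes hG (u_elem_three hG hB hB3)
    (hlt.le.trans (le_centralizer_iff_isMulCommutative.2 hB.1)) hA hA2.ge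

/-- The elements considered have centralisers in `M` only. -/
theorem centralizer_prime_sigma (hσ : p ∈ Cfsg.sigma M) {X : Subgroup G} (hXM : X ≤ M) (hX : Nat.card X = p)
    (h : p ∈ Cfsg.beta M ∨ X ≤ ⁅Cfsg.sigmaCore M, Cfsg.sigmaCore M⁆) :
    ∃ U : Subgroup G, U ≤ M ∧ U ≤ centralizer (X : Set G) ∧ Cfsg.InUniqueMaximal U := by
  haveI := solvable_of_ne_top hG hM.1
  have hXe := elem_of_card_prime hX
  obtain ⟨S, hS, hXS⟩ := exists_sylowIn_ge hXM (Grp.elemAb_isPGroup hXe)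
  obtain ⟨x, hx, hx1⟩ := (Subgroup.bot_or_exists_ne_one X).resolve_left fun e =>
    hp.out.ne_one (by rw [← hX, e, Subgroup.card_bot])
  let T : Sylow p G := hS.2.1.toSylow (sigma_sylow hG hM hσ hS).2
  have hS1 : S ≠ ⊥ := sylow_ne_bot_of_dvd hS hσ.2.1
  have hp2 : p ≠ 2 := ne_two hG (hσ.2.1.trans (card_subgroup_dvd_card M))
  set Z := omZ p S
  have hW : Cfsg.IsElementaryAbelian p (X ⊔ Z) := Fus.isElementaryAbelian_sup hXe (omZ_elem S) fun a ha b hb =>
    mem_centralizer_iff.1 (omZ_le_centralizer S hb) a (hXS ha)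
  have hWS : X ⊔ Z ≤ S := sup_le hXS (omZ_le S)
  -- if `X` is central the Sylow subgroup will do
  have hcentral : (S : Subgroup G) ≤ centralizer (X : Set G) → ¬ IsMulCommutative S →
      ∃ U : Subgroup G, U ≤ M ∧ U ≤ centralizer (X : Set G) ∧ Cfsg.InUniqueMaximal U := fun hc hna =>
    ⟨S, hS.1, hc, Cfsg.Agent.S1422.result hG p S hS.2.1 hna⟩
  have hU3 : ∀ B : Subgroup G, B ≤ S → Cfsg.IsElementaryAbelian p B → p ^ 3 ≤ Nat.card B → X ≤ B →
      ∃ U : Subgroup G, U ≤ M ∧ U ≤ centralizer (X : Set G) ∧ Cfsg.InUniqueMaximal U := fun B hBS hB hB3 hXB =>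
    ⟨B, hBS.trans hS.1, (le_centralizer_iff_isMulCommutative.2 hB.1).trans (centralizer_le hXB), u_elem_three hG hB hB3⟩
  by_cases hβ : p ∈ Cfsg.beta M
  · obtain ⟨E, hES, hE, hE3⟩ := exists_elem_sylow hβ.1.2 hS
    by_cases hXZ : X ≤ Z
    · exact ⟨S, hS.1, le_centralizer_iff.1 (hXZ.trans (omZ_le_centralizer S)),
        u_mono hG (u_elem_three hG hE hE3) hES (ne_top_of_pGroup hG hS.2.1)⟩
    · by_cases h3 : p ^ 3 ≤ Nat.card ↥(X ⊔ Z)
      · exact hU3 _ hWS hW h3 le_sup_left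
      have hW2 : Nat.card ↥(X ⊔ Z) = p ^ 2 := by
        obtain ⟨n, hn⟩ := IsPGroup.iff_card.1 (Grp.elemAb_isPGroup hW)
        rw [hn] at h3 ⊢
        have hlt : Nat.card Z < Nat.card ↥(X ⊔ Z) := Set.ncard_lt_ncard (SetLike.coe_ssubset_coe.2
          (lt_of_le_of_ne le_sup_right fun e => hXZ (le_sup_left.trans e.ge)))
        have h1 : p ≤ Nat.card Z := Nat.le_of_dvd Nat.card_pos
          (dvd_card_of_pGroup (hS.2.1.to_le (omZ_le S)) (omZ_ne_bot hS.2.1 hS1))
        rw [hn] at hlt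
        have h2 : 2 ≤ n := by
          by_contra hn2
          exact absurd ((h1.trans_lt hlt).trans_le ((Nat.pow_le_pow_right hp.out.pos (by omega : n ≤ 1)).trans (pow_one p).le))
            (lt_irrefl p)
        have h4 : n < 3 := by
          by_contra hn3
          exact h3 (Nat.pow_le_pow_right hp.out.pos (by omega))
        congr 1; omega
      obtain ⟨-, -, -, hid⟩ := hβ
      obtain ⟨B, -, hB, hlt⟩ := hid T (X ⊔ Z) hWS hW hW2
      exact ⟨X ⊔ Z, hWS.trans hS.1, (le_centralizer_iff_isMulCommutative.2 hW.1).trans (centralizer_le (le_sup_left : X ≤ X ⊔ Z)),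
        u_plane_not_max hG hW hW2 hB hlt⟩
  -- now `X` lies in the derived group of `S`
  have hXd : X ≤ ⁅S, S⁆ := (le_inf (h.resolve_left hβ) hXS).trans (sigma_derived_inf_sylow hG hM hσ hβ hS)
  have hna : ¬ IsMulCommutative S := fun hc => hx1 (by
    have h1 := hXd hx
    rwa [commutator_eq_bot_iff_le_centralizer.2 (le_centralizer_iff_isMulCommutative.2 hc), mem_bot] at h1)
  by_cases hc : (S : Subgroup G) ≤ centralizer (X : Set G)
  · exact hcentral hc hna
  by_cases hr : Cfsg.PRankLE p 2 S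
  · exfalso
    rcases Cfsg.Agent.S1412.result hG p T hr with hab | ⟨S₁, S₂, hsup, hc12, hna₁, hc3, -, hcyc, -⟩
    · exact hna hab
    haveI := hcyc
    have hsup' : S₁ ⊔ S₂ = S := hsup
    have e := Cfsg.Agent.S1412.inf_centralizer_eq_commutator hna₁ hc3
    have hd : ⁅S, S⁆ ≤ ⁅S₁, S₁⁆ := by
      have h12 : ⁅S₁, S₂⁆ = ⊥ := commutator_eq_bot_iff_le_centralizer.2 fun a ha =>
        mem_centralizer_iff.2 fun b hb => (hc12 a ha b hb).symm
      have h22 : ⁅S₂, S₂⁆ = ⊥ := commutator_eq_bot_iff_le_centralizer.2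
        (le_centralizer_iff_isMulCommutative.2 IsCyclic.isMulCommutative)
      have hN₁ : S₁ ≤ normalizer ((⁅S₁, S₁⁆ : Subgroup G) : Set G) := Grp.left_le_normalizer_commutator S₁ S₁
      have hN₂ : S₂ ≤ normalizer ((⁅S₁, S₁⁆ : Subgroup G) : Set G) :=
        ((le_centralizer_iff.1 (commutator_eq_bot_iff_le_centralizer.1 h12)).trans
          (centralizer_le S₁.commutator_le_self)).trans (centralizer_le_normalizer _)
      rw [← hsup']
      refine commutator_sup_le ?_ ?_ (sup_le hN₁ hN₂)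
      · rw [Subgroup.commutator_comm]
        refine commutator_sup_le le_rfl (by rw [h12]; exact bot_le) (sup_le hN₁ hN₂)
      · rw [Subgroup.commutator_comm]
        refine commutator_sup_le (by rw [Subgroup.commutator_comm, h12]; exact bot_le) (by rw [h22]; exact bot_le)
          (sup_le hN₁ hN₂)
    refine hc (le_centralizer_iff.1 (fun y hy => ?_))
    have hy' : y ∈ S₁ ⊓ centralizer (S₁ : Set G) := e.ge (hd (hXd hy))
    refine le_centralizer_iff.1 ?_ (mem_zpowers y)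
    rw [← hsup']
    refine sup_le (le_centralizer_iff.1 (zpowers_le.2 hy'.2)) (le_centralizer_iff.1 (zpowers_le.2 ?_))
    exact mem_centralizer_iff.2 fun b hb => (hc12 y hy'.1 b hb).symm
  -- rank at least three
  have hXZ : ¬ X ≤ Z := fun hle => hc (le_centralizer_iff.1 (hle.trans (omZ_le_centralizer S)))
  by_cases h3 : p ^ 3 ≤ Nat.card ↥(X ⊔ Z)
  · exact hU3 _ hWS hW h3 le_sup_left
  have hW2 : Nat.card ↥(X ⊔ Z) = p ^ 2 := by
    obtain ⟨n, hn⟩ := IsPGroup.iff_card.1 (Grp.elemAb_isPGroup hW)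
    rw [hn] at h3 ⊢
    have hlt : Nat.card Z < Nat.card ↥(X ⊔ Z) := Set.ncard_lt_ncard (SetLike.coe_ssubset_coe.2
      (lt_of_le_of_ne le_sup_right fun e => hXZ (le_sup_left.trans e.ge)))
    have h1 : p ≤ Nat.card Z := Nat.le_of_dvd Nat.card_pos
      (dvd_card_of_pGroup (hS.2.1.to_le (omZ_le S)) (omZ_ne_bot hS.2.1 hS1))
    rw [hn] at hlt
    have h2 : 2 ≤ n := by
      by_contra hn2
      exact absurd ((h1.trans_lt hlt).trans_le ((Nat.pow_le_pow_right hp.out.pos (by omega : n ≤ 1)).trans (pow_one p).le))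
        (lt_irrefl p)
    have h4 : n < 3 := by
      by_contra hn3
      exact h3 (Nat.pow_le_pow_right hp.out.pos (by omega))
    congr 1; omega
  by_cases hmax : ∃ B : Subgroup G, Cfsg.IsElementaryAbelian p B ∧ X ⊔ Z < B
  · obtain ⟨B, hB, hlt⟩ := hmax
    exact ⟨X ⊔ Z, hWS.trans hS.1, (le_centralizer_iff_isMulCommutative.2 hW.1).trans (centralizer_le (le_sup_left : X ≤ X ⊔ Z)),
      u_plane_not_max hG hW hW2 hB hlt⟩
  push Not at hmax
  exfalso
  haveI := hW.1
  set E := (X ⊔ Z).subgroupOf S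
  have hEmax : ∀ B : Subgroup S, Cfsg.IsElementaryAbelian p B → E ≤ B → B = E := by
    intro B hB hle
    haveI := hB.1
    have hB' : Cfsg.IsElementaryAbelian p (B.map S.subtype) := ⟨Subgroup.map_isMulCommutative _ _, by
      rintro _ ⟨d, hd, rfl⟩
      exact congrArg Subtype.val (hB.2 d hd)⟩
    have hle' : X ⊔ Z ≤ B.map S.subtype := (map_subgroupOf_eq_of_le hWS).ge.trans (map_mono hle)
    have h1 : B.map S.subtype = X ⊔ Z := (eq_or_lt_of_le hle').resolve_right (hmax _ hB') |>.symm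
    rw [← comap_map_eq_self_of_injective S.subtype_injective B, h1]
    rfl
  refine hc (le_centralizer_iff.1 fun y hy => ?_)
  have hyd : (⟨y, hXS hy⟩ : S) ∈ commutator S := by
    obtain ⟨w, hw, e⟩ := (derived_eq_map S).le (hXd hy)
    rwa [show (⟨y, hXS hy⟩ : S) = w from Subtype.ext e.symm]
  have hcen := maxPlane_derived hp2 hS.2.1 hr (E := E) ⟨inferInstance, fun a ha => Subtype.ext (hW.2 _ ha)⟩
    (by rw [Nat.card_congr (subgroupOfEquivOfLe hWS).toEquiv, hW2]) hEmax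
    (show (⟨y, hXS hy⟩ : S) ∈ E from (le_sup_left : X ≤ X ⊔ Z) hy) hyd
  exact mem_centralizer_iff.2 fun s hs => congrArg Subtype.val (mem_center_iff.1 hcen ⟨s, hs⟩)

end Cfsg.Agent.Transfer.Loc
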