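import Cfsg.Agent.Lib.Transfer.Local.CoreStructure
import Cfsg.Agent.S1423

/-!
`F(M)` is a TI-set when `M_σ` is not nilpotent.
-/

set_option autoImplicit false
set_option linter.style.haveILetI false
set_option linter.unusedSectionVars false
set_option maxHeartbeats 1000000

namespace Cfsg.Agent.Transfer.Loc

open Subgroup
open scoped commutatorElement Pointwise

universe u

variable {G : Type u} [Group G] [Finite G] (hG : Cfsg.IsMinSimpleOddOrder G) {M : Subgroup G} (hM : IsCoatom M)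
include hG hM

/-- In a full subgroup `F(M) ≤ M_σ`. -/
theorem fittingOf_le_sigmaCore_of_full (hfull : IsKappaFull M) : Cfsg.fittingOf M ≤ Cfsg.sigmaCore M := by
  obtain ⟨-, hYτ, hF⟩ := Cfsg.Agent.S1439.result hG M hM
  refine hF.le.trans (sup_le (fittingOf_le _) ?_)
  suffices h : Cfsg.piCoreOf {q | q.Prime ∧ q ∉ Cfsg.sigma M} (Cfsg.fittingOf M) = ⊥ from h.le.trans bot_le
  by_contra hne
  obtain ⟨p, hp, hd⟩ := Nat.exists_prime_and_dvd fun e => hne (Subgroup.card_eq_one.1 e)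
  haveI := Fact.mk hp
  have hτ := hYτ p hp hd
  exact hτ.2.2.2 (kappa_rank_one hG hM (hfull p hp
    ((hd.trans (card_dvd_of_le (TransHyp.piCoreOf_le _))).trans (card_dvd_of_le (fittingOf_le M))) hτ.2.1))

/-- The TI property of `F(M)`. -/
theorem fittingOf_ti_of_not_nilpotent {K U : Subgroup G} (hKU : Cfsg.IsSigmaDecomposition M K U)
    (hnil : ¬ Group.IsNilpotent (Cfsg.sigmaCore M)) : Cfsg.IsTISubset (Cfsg.fittingOf M : Set G) := by
  haveI := solvable_of_ne_top hG hM.1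
  obtain ⟨hU, -, -, -, hqp, hβ, Q, hQ, hMQ, -, hqQ, -, -⟩ := sigmaCore_structure hG hM hKU hnil
  set q := Nat.card (kStar M K)
  haveI := Fact.mk hqp
  have hfull : IsKappaFull M := fun p hp hd hσ => by
    obtain ⟨hE', hcK, -⟩ := decomp_compl hG hM hKU
    refine hKU.hall.2.1 p hp ?_
    rw [← compl_card hE', hcK, hU, Subgroup.card_bot, one_mul] at hd
    exact (hp.dvd_mul.1 hd).resolve_right fun h =>
      hσ (TransHyp.piCoreOf_primes (π := Cfsg.sigma M) (X := M) hp h)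
  have hFS := fittingOf_le_sigmaCore_of_full hG hM hfull
  have hQM : Q ≤ M := hQ.1.trans (TransHyp.piCoreOf_le M)
  have hQF : Q ≤ Cfsg.fittingOf M := le_fittingOf hQM hMQ hQ.2.1.isNilpotent
  have hMF : M ≤ Subgroup.normalizer (Cfsg.fittingOf M : Set G) := le_normalizer_fittingOf M
  intro g hg x hx hgx
  have hgM : g ∉ M := fun h => hg (hMF h)
  by_contra hx1
  obtain ⟨r, _, z, hz, hzo, hzc, -⟩ := exists_prime_zpowers_le hx1
  have hzF : z ∈ Cfsg.fittingOf M := (zpowers_le.2 hx) hz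
  obtain ⟨i, hi⟩ := mem_zpowers_iff.1 hz
  have hgz : g * z * g⁻¹ ∈ Cfsg.fittingOf M := by
    rw [← hi, ← conj_zpow]
    exact Subgroup.zpow_mem _ hgx i
  have hgM' : g⁻¹ ∉ M := fun h => hgM (by simpa using M.inv_mem h)
  have hzg : z ∈ MulAut.conj g⁻¹ • M := by
    refine ⟨g * z * g⁻¹, fittingOf_le M hgz, ?_⟩
    show MulAut.conj g⁻¹ (g * z * g⁻¹) = z
    rw [MulAut.conj_apply]; group
  obtain ⟨E, hE, -⟩ := exists_compl_ge hG hM (U := ⊥) bot_le fun s hs hd => by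
    rw [Subgroup.card_bot, Nat.dvd_one] at hd; exact absurd hd hs.ne_one
  have hrσ : r ∈ Cfsg.sigma M := TransHyp.piCoreOf_primes (π := Cfsg.sigma M) (X := M) Fact.out
    (hzc ▸ card_dvd_of_le ((zpowers_le.2 (hFS hzF)) : zpowers z ≤ Cfsg.sigmaCore M))
  have hrq : r ≠ q := fun e => ((Cfsg.Agent.S1426.result hG M hM E hE).2.2 g⁻¹ hgM').2.1 r Fact.out
    (hzc ▸ card_dvd_of_le (zpowers_le.2 (show z ∈ Cfsg.sigmaCore M ⊓ M.map (MulAut.conj g⁻¹).toMonoidHom from
      ⟨hFS hzF, hzg⟩))) (e ▸ hβ)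
  have hzM : zpowers z ≤ M := zpowers_le.2 (fittingOf_le M hzF)
  have hz1 : zpowers z ≠ ⊥ := fun e => (Fact.out (p := r.Prime)).ne_one (by rw [← hzc, e, Subgroup.card_bot])
  have hC : ¬ centralizer (zpowers z : Set G) ≤ M := fun h => hgM'
    (mem_of_sigma_le_conj hG hM hrσ (IsPGroup.of_card (n := 1) (hzc.trans (pow_one r).symm)) hz1 hzM h
      (zpowers_le.2 hzg))
  obtain ⟨L, hL, hCL⟩ := exists_coatom_normalizer hG hz1 fun e => hM.1 (top_le_iff.1 (e ▸ hzM))
  have hQC : Q ≤ centralizer (zpowers z : Set G) := fun a ha => mem_centralizer_iff.2 fun c hc => by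
    refine TypeP.commute_of_coprime_orderOf (fittingOf_isNilpotent M) ((zpowers_le.2 hzF) hc) (hQF ha) ?_
    obtain ⟨n, hn⟩ := IsPGroup.iff_card.1 hQ.2.1
    refine ((((Nat.coprime_primes Fact.out hqp).2 hrq).pow_right n).coprime_dvd_left ?_).coprime_dvd_right
      (hn ▸ Subgroup.orderOf_dvd_natCard _ ha)
    exact (Subgroup.orderOf_dvd_natCard _ hc).trans (dvd_of_eq hzc)
  obtain ⟨P, hP⟩ := Grp.isSylowIn_iff.1 hQ
  obtain ⟨y, hy⟩ := exists_prime_orderOf_dvd_card' (G := Q) q hqQ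
  obtain ⟨-, huniq, hPM⟩ := Cfsg.Agent.S1423.result hG M hM q
    (TransHyp.piCoreOf_primes (π := Cfsg.sigma M) (X := M) hqp (hqQ.trans (card_dvd_of_le hQ.1)))
    (zpowers (y : G)) (zpowers_le.2 (hQM y.2)) (by rw [Nat.card_zpowers, Subgroup.orderOf_coe, hy]) P (Or.inl hβ)
  rw [hP] at huniq hPM
  exact hC (((centralizer_le_normalizer _).trans hCL).trans
    (huniq.unique ⟨hL, hQC.trans ((centralizer_le_normalizer _).trans hCL)⟩ ⟨hM, hPM⟩).le)

end Cfsg.Agent.Transfer.Loc
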