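import Cfsg.Agent.Lib.Transfer.Local.Maximal
import Cfsg.Agent.Lib.Transfer.Transitivity
import Cfsg.Agent.Lib.Fus.TransitivityOdd
import Cfsg.Agent.Lib.Grp.RankThreeFour
import Cfsg.Agent.Lib.Invol.ZJFunctor
import Cfsg.Agent.S1393
import Cfsg.Agent.S1395
import Cfsg.Agent.S1396
import Cfsg.Agent.S1450
import Cfsg.Agent.S1452
import Cfsg.Agent.S1457
import Cfsg.Agent.S1458

/-!
A noncyclic elementary abelian group all whose invariant `p'`-subgroups lie in a maximal subgroup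
lies in no other maximal subgroup.
-/

set_option autoImplicit false
set_option linter.style.haveILetI false
set_option linter.unusedSectionVars false

namespace Cfsg.Agent.Transfer.Loc

open Subgroup
open scoped commutatorElement Pointwise
open Cfsg.Agent.Grp (pPrimeCore_isNormal pCore_isNormal pCore_isPGroup pPrimeCore_coprime)

universe u

section General

variable {Γ : Type u} [Group Γ] [Finite Γ] {p : ℕ} [hp : Fact p.Prime]

theorem frattini_core (R N O₁ : Subgroup Γ) [N.Normal] (hR : IsPGroup p R)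
    (hO : (Nat.card O₁).Coprime p) (hN : R ⊔ O₁ = N) (hRO : R ≤ normalizer (O₁ : Set Γ)) :
    normalizer (R : Set Γ) ⊔ O₁ = ⊤ := by
  have hRN : R ≤ N := hN ▸ le_sup_left
  have hidx : ¬ p ∣ (R.subgroupOf N).index := fun h => by
    have h1 : Nat.card N ∣ Nat.card R * Nat.card O₁ := by
      rw [← hN]
      exact Grp.card_sup_dvd_mul hRO
    rw [← Subgroup.card_mul_index (R.subgroupOf N), Nat.card_congr (subgroupOfEquivOfLe hRN).toEquiv] at h1
    exact hp.out.ne_one (Nat.eq_one_of_dvd_coprimes hO (h.trans ((Nat.mul_dvd_mul_iff_left Nat.card_pos).1 h1)) dvd_rfl)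
  let S : Sylow p N := IsPGroup.toSylow (hR.of_equiv (subgroupOfEquivOfLe hRN).symm) hidx
  have h2 := Sylow.normalizer_sup_eq_top S
  have h3 : (S : Subgroup N).map N.subtype = R := map_subgroupOf_eq_of_le hRN
  rw [h3] at h2
  refine top_le_iff.1 (h2.ge.trans (sup_le le_sup_left ?_))
  rw [← hN]
  exact sup_le (le_normalizer.trans le_sup_left) le_sup_right

/-- A `p'`-subgroup normalised by a Sylow subgroup of a solvable group lies in the `p'`-core. -/
theorem le_pPrimeCore_of_sylow [Group.IsSolvable Γ] (S : Sylow p Γ) {Y : Subgroup Γ}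
    (hY : (Nat.card Y).Coprime p) (hSY : (S : Subgroup Γ) ≤ normalizer (Y : Set Γ)) :
    Y ≤ Cfsg.pPrimeCore p Γ := by
  haveI : (Cfsg.pPrimeCore p Γ).Normal := pPrimeCore_isNormal
  set f := QuotientGroup.mk' (Cfsg.pPrimeCore p Γ)
  have hfs : Function.Surjective f := QuotientGroup.mk'_surjective _
  set R := Cfsg.pCore p (Γ ⧸ Cfsg.pPrimeCore p Γ)
  have hRn : R.Normal := pCore_isNormal
  have hY' : (Nat.card (Y.map f)).Coprime p := hY.coprime_dvd_left (card_map_dvd _ f)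
  have hdisj : Y.map f ⊓ R = ⊥ := Cfsg.Agent.Grp.inf_eq_bot_of_coprime (by
    obtain ⟨m, hm⟩ := IsPGroup.iff_card.1 (pCore_isPGroup (p := p) (G := Γ ⧸ Cfsg.pPrimeCore p Γ))
    rw [hm]; exact hY'.pow_right m)
  have hRS : R ≤ (S : Subgroup Γ).map f := Grp.pCore_le_sylow (S.mapSurjective hfs)
  have hRY : R ≤ normalizer (Y.map f : Set (Γ ⧸ Cfsg.pPrimeCore p Γ)) :=
    hRS.trans ((map_mono hSY).trans (le_normalizer_map f))
  have hYR : Y.map f ≤ centralizer (R : Set (Γ ⧸ Cfsg.pPrimeCore p Γ)) := by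
    refine commute_of_coprime (by rw [normalizer_eq_top]; exact le_top) hRY ?_
    obtain ⟨m, hm⟩ := IsPGroup.iff_card.1 (pCore_isPGroup (p := p) (G := Γ ⧸ Cfsg.pPrimeCore p Γ))
    rw [hm]; exact hY'.pow_right m
  haveI : Group.IsSolvable (Γ ⧸ Cfsg.pPrimeCore p Γ) := Group.isSolvable_of_surjective (f := f) hfs
  intro y hy
  have h3 : f y ∈ Y.map f ⊓ R := ⟨mem_map_of_mem f hy,
    Grp.centralizer_pCore_le Grp.pPrimeCore_quotient_bot (hYR (mem_map_of_mem f hy))⟩
  rw [hdisj, mem_bot] at h3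
  exact (QuotientGroup.eq_one_iff y).1 h3

theorem sup_core_eq_pPrimePCore (S : Sylow p Γ) :
    ((S : Subgroup Γ) ⊓ Cfsg.pPrimePCore p Γ) ⊔ Cfsg.pPrimeCore p Γ = Cfsg.pPrimePCore p Γ := by
  haveI : (Cfsg.pPrimeCore p Γ).Normal := pPrimeCore_isNormal
  set f := QuotientGroup.mk' (Cfsg.pPrimeCore p Γ) with hf
  have hY : Cfsg.pPrimePCore p Γ = (Cfsg.pCore p (Γ ⧸ Cfsg.pPrimeCore p Γ)).comap f := rfl
  refine le_antisymm (sup_le inf_le_right fun x hx => ?_) fun x hx => ?_
  · rw [hY, mem_comap]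
    rw [show f x = 1 from (QuotientGroup.eq_one_iff x).2 hx]
    exact one_mem _
  · have hfx : f x ∈ (S : Subgroup Γ).map f :=
      Grp.pCore_le_sylow (S.mapSurjective (QuotientGroup.mk'_surjective _)) hx
    obtain ⟨s, hs, he⟩ := hfx
    have hsY : s ∈ Cfsg.pPrimePCore p Γ := by
      rw [hY, mem_comap, he]; exact hx
    have h1 : s⁻¹ * x ∈ Cfsg.pPrimeCore p Γ := QuotientGroup.eq.1 he
    have := mul_mem_sup (S := (S : Subgroup Γ) ⊓ Cfsg.pPrimePCore p Γ) ⟨hs, hsY⟩ h1
    rwa [mul_inv_cancel_left] at this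

end General

variable {G : Type u} [Group G] [Finite G] {p : ℕ} [hp : Fact p.Prime]

/-- The centre of the Thompson subgroup. -/
abbrev ZJ (p : ℕ) (R : Subgroup G) : Subgroup G := Cfsg.centerThompsonOf p R

theorem le_O'_of_sylow {X S Y : Subgroup G} [Group.IsSolvable X] (hS : Grp.IsSylowIn p S X) (hYX : Y ≤ X)
    (hY : (Nat.card Y).Coprime p) (hSY : S ≤ normalizer (Y : Set G)) : Y ≤ O' p X := by
  obtain ⟨T, rfl⟩ := Grp.isSylowIn_iff.1 hS
  rw [O'_eq, ← map_subgroupOf_eq_of_le hYX]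
  refine map_mono (le_pPrimeCore_of_sylow T ?_ fun a ha => ?_)
  · rwa [Nat.card_congr (subgroupOfEquivOfLe hYX).toEquiv]
  · refine Subgroup.mem_normalizer_iff.2 fun y => ?_
    have := Subgroup.mem_normalizer_iff.1 (hSY (mem_map_of_mem X.subtype ha)) (y : G)
    simpa [mem_subgroupOf] using this

theorem zj_factor {X S : Subgroup G} [Group.IsSolvable X] (hodd : Odd (Nat.card G)) (hS : Grp.IsSylowIn p S X) :
    X ≤ O' p X ⊔ (X ⊓ normalizer (ZJ p S : Set G)) := by
  obtain ⟨T, rfl⟩ := Grp.isSylowIn_iff.1 hS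
  haveI := Cfsg.Agent.S1458.result (G := X) (hodd.of_dvd_nat (card_subgroup_dvd_card X)) p T
  haveI : (Cfsg.pPrimeCore p X).Normal := pPrimeCore_isNormal
  have hF := Invol.isZJFunctor_centerEl (p := p)
  have h := frattini_core (p := p) (Cfsg.centerThompsonOf p (T : Subgroup X)) _ (Cfsg.pPrimeCore p X)
    (T.isPGroup'.to_le (hF.le _)) pPrimeCore_coprime rfl (by rw [normalizer_eq_top]; exact le_top)
  have hmap : ZJ p ((T : Subgroup X).map X.subtype) = (Cfsg.centerThompsonOf p (T : Subgroup X)).map X.subtype :=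
    (hF.map X.subtype (T : Subgroup X) fun x _ e => X.subtype_injective (by rw [e, map_one])).symm
  intro x hx
  have hxm : (⟨x, hx⟩ : X) ∈ normalizer (Cfsg.centerThompsonOf p (T : Subgroup X) : Set X) ⊔ Cfsg.pPrimeCore p X :=
    h ▸ mem_top _
  have := mem_map_of_mem X.subtype hxm
  rw [Subgroup.map_sup, ← O'_eq] at this
  refine sup_le (le_trans (le_inf (map_subtype_le _) ?_) le_sup_right) le_sup_left this
  rw [hmap]
  exact le_normalizer_map _

theorem ZJ_ne_bot {R : Subgroup G} (hR : IsPGroup p R) (h : R ≠ ⊥) : ZJ p R ≠ ⊥ :=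
  (Invol.isZJFunctor_centerEl (p := p)).ne_bot hR h

theorem ZJ_le (R : Subgroup G) : ZJ p R ≤ R := (Invol.isZJFunctor_centerEl (p := p)).le R

theorem normalizer_le_ZJ (R : Subgroup G) : normalizer (R : Set G) ≤ normalizer (ZJ p R : Set G) :=
  (Invol.isZJFunctor_centerEl (p := p)).normalizer_le R

theorem exists_grow {R S : Subgroup G} (hS : IsPGroup p S) (h : R < S) :
    R < S ⊓ normalizer (R : Set G) := Grp.lt_inf_normalizer hS.isNilpotent h

/-- A `p`-rank three Sylow subgroup has a self-centralising normal subgroup of rank three. -/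
theorem exists_scn (hp2 : p ≠ 2) {P : Subgroup G} (hP : IsPGroup p P) (hr : ¬ Cfsg.PRankLE p 2 P) :
    ∃ A : Subgroup G, Cfsg.IsSCN P A ∧ ¬ Cfsg.PRankLE p 2 A := by
  obtain ⟨E, hEc, hEp, hE3⟩ : ∃ E : Subgroup P, IsMulCommutative E ∧ (∀ a ∈ E, a ^ p = 1) ∧ p ^ 2 < Nat.card E := by
    unfold Cfsg.PRankLE at hr; push Not at hr; exact hr
  have hE3' : p ^ 3 ≤ Nat.card E := by
    obtain ⟨n, hn⟩ := IsPGroup.iff_card.1 (hP.to_subgroup E)
    rw [hn] at hE3 ⊢
    exact Nat.pow_le_pow_right hp.out.pos ((Nat.pow_lt_pow_iff_right hp.out.one_lt).1 hE3)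
  obtain ⟨U, hUn, hUe, hU2⟩ := Grp.RankThree.exists_normal_sq hP ⟨hEc, hEp⟩ hE3'
  haveI := hUn
  obtain ⟨A, -, hAn, hAc, hA3⟩ := Cfsg.Agent.S1452.result p hp2 hP hr U hUe hU2
  refine ⟨A.map P.subtype, ⟨map_subtype_le _, ?_, le_antisymm ?_ ?_⟩, fun h => hA3 fun B hBc hB => ?_⟩
  · haveI := hAn; exact map_normal_le_normalizer A
  · rintro x ⟨hx, hxC⟩
    refine ⟨⟨x, hx⟩, ?_, rfl⟩
    rw [SetLike.mem_coe, ← hAc]
    exact mem_centralizer_iff.2 fun a ha => Subtype.ext (mem_centralizer_iff.1 hxC a ⟨a, ha, rfl⟩)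
  · rintro _ ⟨a, ha, rfl⟩
    refine ⟨a.2, mem_centralizer_iff.2 ?_⟩
    rintro _ ⟨b, hb, rfl⟩
    have : a ∈ centralizer (A : Set P) := by rw [hAc]; exact ha
    exact congrArg Subtype.val (mem_centralizer_iff.1 this b hb)
  · let e := A.equivMapOfInjective P.subtype P.subtype_injective
    have := h (B.map e.toMonoidHom) (by haveI := hBc; infer_instance) (by
      rintro _ ⟨b, hb, rfl⟩
      rw [← map_pow, hB b hb, map_one])
    rwa [card_map_of_injective e.injective] at this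

section MinSimple

variable (hG : Cfsg.IsMinSimpleOddOrder G)
include hG

theorem scn_abelian {P A : Subgroup G} (hA : Cfsg.IsSCN P A) : IsMulCommutative A :=
  ⟨⟨fun a b => Subtype.ext (by
    have h : (b : G) ∈ P ⊓ centralizer (A : Set G) := hA.2.2.symm ▸ b.2
    exact mem_centralizer_iff.1 h.2 a a.2)⟩⟩

/-- Transitivity on the maximal invariant `q`-subgroups for a self-centralising normal subgroup of rank three. -/
theorem scn_conj (P : Sylow p G) {A : Subgroup G} (hA : Cfsg.IsSCN (P : Subgroup G) A)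
    (h3 : ¬ Cfsg.PRankLE p 2 A) {q : ℕ} [Fact q.Prime] (hqp : q ≠ p) :
    (∀ Q₁ ∈ Cfsg.maxInvSubgroups ⊤ A ({q} : Set ℕ), ∀ Q₂ ∈ Cfsg.maxInvSubgroups ⊤ A ({q} : Set ℕ),
      ∃ k ∈ O' p (centralizer (A : Set G)), Q₂ = Q₁.map (MulAut.conj k).toMonoidHom) ∧
    Cfsg.maxInvSubgroups ⊤ (P : Subgroup G) ({q} : Set ℕ) ⊆ Cfsg.maxInvSubgroups ⊤ A ({q} : Set ℕ) := by
  have hAc := scn_abelian hG hA
  have hAp : IsPGroup p A := P.isPGroup'.to_le hA.1
  have hpG : p ∣ Nat.card G := by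
    by_contra hd
    refine h3 fun B _ _ => ?_
    obtain ⟨n, hn⟩ := IsPGroup.iff_card.1 (hAp.to_subgroup B)
    rcases Nat.eq_zero_or_pos n with rfl | h0
    · rw [hn, pow_zero]; exact Nat.one_le_pow _ _ hp.out.pos
    · exact absurd (((dvd_pow_self p h0.ne').trans (dvd_of_eq hn.symm)).trans
        ((card_subgroup_dvd_card B).trans (card_subgroup_dvd_card A))) hd
  have hr1 : ¬ Cfsg.PRankLE p 1 A := fun h => h3 fun B hB hB' =>
    (h B hB hB').trans (Nat.pow_le_pow_right hp.out.pos (by norm_num))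
  have hT : Cfsg.TransitivityHypothesis A :=
    Cfsg.Agent.S1396.result hG p hpG A hAp hAc (Or.inr ⟨P, hA, hr1⟩)
  have hqA : ¬ q ∣ Nat.card A := fun h => hqp (by
    obtain ⟨n, hn⟩ := IsPGroup.iff_card.1 hAp
    exact (Nat.prime_dvd_prime_iff_eq Fact.out hp.out).1 ((Fact.out : q.Prime).dvd_of_dvd_pow (hn ▸ h)))
  have hAA : A ≤ centralizer (A : Set G) := fun a ha => ((hA.2.2.symm ▸ ha : a ∈ (P : Subgroup G) ⊓ centralizer (A : Set G))).2
  have hZ : ¬ Cfsg.RankLE 2 ↥(A ⊓ centralizer (A : Set G)) := by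
    rw [inf_eq_left.2 hAA]; exact fun h => h3 (h p hp.out)
  have hA1 : A ≠ ⊥ := hT.1
  have hpA : p ∣ Nat.card A := by
    obtain ⟨m, hm⟩ := IsPGroup.iff_card.1 hAp
    rcases Nat.eq_zero_or_pos m with rfl | h0
    · exact absurd (card_eq_one.1 (by simpa using hm)) hA1
    · rw [hm]; exact dvd_pow_self p h0.ne'
  have htr := Cfsg.Agent.S1393.result hG A hT hZ q Fact.out hqA
  have hPπ : ∀ r : ℕ, r.Prime → r ∣ Nat.card (P : Subgroup G) → r ∣ Nat.card A := by
    intro r hr hd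
    obtain ⟨n, hn⟩ := IsPGroup.iff_card.1 P.isPGroup'
    rw [(Nat.prime_dvd_prime_iff_eq hr hp.out).1 (hr.dvd_of_dvd_pow (hn ▸ hd))]
    exact hpA
  have hsn : (A.subgroupOf (P : Subgroup G)).IsSubnormal :=
    Subgroup.Normal.isSubnormal ((normal_subgroupOf_iff_le_normalizer hA.1).2 hA.2.1)
  obtain ⟨-, -, hmax, -⟩ := Cfsg.Agent.S1395.result hG A hT q Fact.out hqA (P : Subgroup G)
    (ne_top_of_pGroup hG P.isPGroup') hPπ hA.1 hsn htr
  have hKD : Cfsg.piCoreOf (Cfsg.primesNotDvd (Nat.card A)) (centralizer (A : Set G)) ≤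
      O' p (centralizer (A : Set G)) := by
    refine TransHyp.le_piCoreOf (TransHyp.piCoreOf_le _) (le_normalizer_core' _) fun r hr hd e => ?_
    subst e
    exact (TransHyp.piCoreOf_primes (π := Cfsg.primesNotDvd (Nat.card A)) (X := centralizer (A : Set G)) hr hd).2 hpA
  exact ⟨fun Q₁ h₁ Q₂ h₂ => let ⟨k, hk, e⟩ := htr Q₁ h₁ Q₂ h₂; ⟨k, hKD hk, e⟩, hmax⟩

/-- Invariant `q`-subgroups of a self-centralising normal subgroup of rank three are controlled by the
invariant subgroups of the Sylow subgroup. -/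
theorem scn_inv_le (P : Sylow p G) {A : Subgroup G} (hA : Cfsg.IsSCN (P : Subgroup G) A)
    (h3 : ¬ Cfsg.PRankLE p 2 A) {W : Subgroup G}
    (hD : O' p (centralizer (A : Set G)) ≤ W) {q : ℕ} [Fact q.Prime] (hqp : q ≠ p)
    (hPW : ∀ Y : Subgroup G, IsPGroup q Y → (P : Subgroup G) ≤ normalizer (Y : Set G) → Y ≤ W)
    {Y : Subgroup G} (hY : IsPGroup q Y) (hAY : A ≤ normalizer (Y : Set G)) : Y ≤ W := by
  obtain ⟨htr, hmax⟩ := scn_conj hG P hA h3 hqp
  obtain ⟨Q₀, hQ₀, -⟩ := Transitivity.exists_max (E := (P : Subgroup G)) (q := q) ⊥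
    (Transitivity.mem_inv_iff.2 ⟨IsPGroup.of_bot, by rw [normalizer_eq_top]; exact le_top⟩)
  obtain ⟨Q₁, hQ₁, hle⟩ := Transitivity.exists_max Y (Transitivity.mem_inv_iff.2 ⟨hY, hAY⟩)
  obtain ⟨k, hk, e⟩ := htr Q₀ (hmax hQ₀) Q₁ hQ₁
  have hQ₀W : Q₀ ≤ W := hPW Q₀ (Transitivity.mem_inv_iff.1 hQ₀.1).1 (Transitivity.mem_inv_iff.1 hQ₀.1).2
  have hkW : k ∈ W := hD hk
  intro y hy
  have hy' : y ∈ Q₀.map (MulAut.conj k).toMonoidHom := e ▸ hle hy
  obtain ⟨z, hz, rfl⟩ := hy'
  exact W.mul_mem (W.mul_mem hkW (hQ₀W hz)) (W.inv_mem hkW)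

variable {M B : Subgroup G} (hM : IsCoatom M) (hBM : B ≤ M) (hBp : IsPGroup p B) (hB1 : B ≠ ⊥)
  (hB : ∀ Y : Subgroup G, B ≤ normalizer (Y : Set G) → (Nat.card Y).Coprime p → Y ≤ M)
include hM hBM hBp hB1 hB

/-- A maximal subgroup over a Sylow subgroup of `M` containing `B` is `M`. -/
theorem eq_of_sylow_le {P : Subgroup G} (hP : Grp.IsSylowIn p P M) (hBP : B ≤ P) {H : Subgroup G}
    (hH : IsCoatom H) (hPH : P ≤ H) : H = M := by
  haveI := solvable_of_ne_top hG hM.1
  haveI := solvable_of_ne_top hG hH.1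
  have hp2 : p ≠ 2 := by
    refine ne_two hG ?_
    obtain ⟨n, hn⟩ := IsPGroup.iff_card.1 hBp
    rcases Nat.eq_zero_or_pos n with rfl | h0
    · exact absurd (card_eq_one.1 (by simpa using hn)) hB1
    · exact ((dvd_pow_self p h0.ne').trans (dvd_of_eq hn.symm)).trans (card_subgroup_dvd_card B)
  set K := O' p M with hKdef
  have hP1 : P ≠ ⊥ := ne_bot_of_le_ne_bot hB1 hBP
  have hinvK : ∀ Y : Subgroup G, (Nat.card Y).Coprime p → P ≤ normalizer (Y : Set G) → Y ≤ K := fun Y hY hPY =>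
    le_O'_of_sylow hP (hB Y (hBP.trans hPY) hY) hY hPY
  have hNK : K ≠ ⊥ → normalizer (K : Set G) = M := fun hK =>
    normalizer_eq_of_le hG hM hK (O'_le p M) (le_normalizer_core' M)
  have hNZ : K = ⊥ → normalizer (ZJ p P : Set G) ≤ M := by
    intro hK
    have h1 : M ≤ normalizer (ZJ p P : Set G) := by
      refine (zj_factor hG.1 hP).trans (sup_le ?_ inf_le_right)
      rw [show O' p M = ⊥ from hK]; exact bot_le
    exact (normalizer_eq_of_le hG hM (ZJ_ne_bot hP.2.1 hP1) ((ZJ_le P).trans hP.1) h1).le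
  have hconjK : ∀ {g : G}, K ≠ ⊥ → MulAut.conj g • K ≤ K → g ∈ M := by
    intro g hK hle
    rw [← hNK hK, Grp.mem_normalizer_iff_smul]
    exact Subgroup.eq_of_le_of_card_ge hle (Grp.card_conj_smul _ _).ge
  have hNP : normalizer (P : Set G) ≤ M := by
    by_cases hK : K = ⊥
    · exact (normalizer_le_ZJ P).trans (hNZ hK)
    intro g hg
    refine hconjK hK (hinvK _ (by rw [Grp.card_conj_smul]; exact O'_coprime M) fun a ha => ?_)
    rw [Grp.mem_normalizer_iff_smul, Grp.conj_smul_conj_smul]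
    have ha' : g⁻¹ * a * g ∈ P := Grp.mem_conj_normalizer' hg ha
    have := Grp.mem_normalizer_iff_smul.1 (le_normalizer_core' (π := {s : ℕ | s ≠ p}) M (hP.1 ha'))
    conv_rhs => rw [show MulAut.conj g • K = MulAut.conj g • (MulAut.conj (g⁻¹ * a * g) • K) by rw [this]]
    rw [Grp.conj_smul_conj_smul]
    congr 2; group
  obtain ⟨S, hPS⟩ := hP.2.1.exists_le_sylow
  have hSP : (S : Subgroup G) = P := by
    rcases eq_or_lt_of_le hPS with e | hlt
    · exact e.symm
    exfalso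
    have h1 := exists_grow S.isPGroup' hlt
    exact h1.ne (hP.eq_of_le h1.le (inf_le_right.trans hNP) (S.isPGroup'.to_le inf_le_left))
  subst hSP
  have hW : O' p H ≤ K := hinvK _ (O'_coprime H) (hPH.trans (le_normalizer_core' H))
  refine ((hH.le_iff.1 ?_).resolve_left hM.1).symm
  by_cases hK : K = ⊥
  · refine (zj_factor hG.1 (X := H) (S := (S : Subgroup G)) ?_).trans (sup_le ?_ (inf_le_right.trans (hNZ hK)))
    · exact ⟨hPH, S.isPGroup', fun h => S.not_dvd_index (h.trans (relIndex_dvd_index_of_le hPH))⟩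
    · exact hW.trans (O'_le p M)
  set SH : Sylow p H := S.subtype hPH with hSH
  set R₀ := ((SH : Subgroup H) ⊓ Cfsg.pPrimePCore p H) with hR₀
  haveI : (Cfsg.pPrimePCore p H).Normal := by
    haveI : (Cfsg.pPrimeCore p H).Normal := pPrimeCore_isNormal
    haveI := pCore_isNormal (p := p) (G := H ⧸ Cfsg.pPrimeCore p H)
    exact Subgroup.Normal.comap inferInstance _
  haveI : (Cfsg.pPrimeCore p H).Normal := pPrimeCore_isNormal
  have hfr := frattini_core (p := p) R₀ (Cfsg.pPrimePCore p H) (Cfsg.pPrimeCore p H)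
    (SH.isPGroup'.to_le inf_le_left) pPrimeCore_coprime (sup_core_eq_pPrimePCore SH)
    (by rw [normalizer_eq_top]; exact le_top)
  intro x hx
  have hxm : (⟨x, hx⟩ : H) ∈ normalizer (R₀ : Set H) ⊔ Cfsg.pPrimeCore p H := hfr ▸ mem_top _
  have hx' := mem_map_of_mem H.subtype hxm
  rw [Subgroup.map_sup, ← O'_eq] at hx'
  refine sup_le ?_ (hW.trans (O'_le p M)) hx'
  rintro _ ⟨h, hh, rfl⟩
  have hhR : (h : G) ∈ normalizer (R₀.map H.subtype : Set G) := le_normalizer_map H.subtype (mem_map_of_mem _ hh)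
  have hSHmap : (SH : Subgroup H).map H.subtype = (S : Subgroup G) := map_subgroupOf_eq_of_le hPH
  have hR₀S : R₀.map H.subtype ≤ (S : Subgroup G) := hSHmap ▸ map_mono inf_le_left
  by_cases hr : Cfsg.PRankLE p 2 (S : Subgroup G)
  · -- the Sylow subgroup is normal modulo the core
    have hrH : Cfsg.PRankLE p 2 H := by
      intro E hEc hEp
      obtain ⟨T, hT⟩ := (show IsPGroup p (E.map H.subtype) from by
        refine IsPGroup.map ?_ _
        exact fun e => ⟨1, Subtype.ext (by rw [coe_pow, coe_one, pow_one]; exact hEp e e.2)⟩).exists_le_sylow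
      obtain ⟨g, rfl⟩ := MulAction.exists_smul_eq G S T
      let ψ : (E.map H.subtype) →* (S : Subgroup G) :=
        ((MulAut.conj g⁻¹).toMonoidHom.comp (E.map H.subtype).subtype).codRestrict _ fun e => by
          have := hT e.2
          rw [Sylow.coe_subgroup_smul, Subgroup.mem_pointwise_smul_iff_inv_smul_mem] at this
          simpa [MulAut.smul_def, mul_assoc] using this
      have hinj : Function.Injective ψ := fun a b hab => Subtype.ext ((MulAut.conj g⁻¹).injective (congrArg Subtype.val hab))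
      have := hr ψ.range (by haveI := hEc; infer_instance) (by
        rintro _ ⟨⟨_, e, he, rfl⟩, rfl⟩
        rw [← map_pow]
        refine (congrArg ψ (Subtype.ext ?_)).trans (map_one ψ)
        simpa using congrArg (fun z : H => (z : G)) (hEp e he))
      rw [Nat.card_congr (ψ.ofInjective hinj).toEquiv.symm, card_map_of_injective H.subtype_injective] at this
      exact this
    have hpH : p ∣ Nat.card H := by
      obtain ⟨n, hn⟩ := IsPGroup.iff_card.1 S.isPGroup'
      rcases Nat.eq_zero_or_pos n with rfl | h0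
      · exact absurd (card_eq_one.1 (by simpa using hn)) hP1
      · exact ((dvd_pow_self p h0.ne').trans (dvd_of_eq hn.symm)).trans (card_dvd_of_le hPH)
    obtain ⟨-, -, -, -, -, hidx⟩ := Cfsg.Agent.S1450.result (G := H) (hG.1.of_dvd_nat (card_subgroup_dvd_card H)) p hpH hrH
    have hle : (SH : Subgroup H) ≤ Cfsg.pPrimePCore p H := by
      intro s hs
      rw [← QuotientGroup.eq_one_iff]
      obtain ⟨k, hk⟩ := SH.isPGroup' ⟨s, hs⟩
      refine orderOf_eq_one_iff.1 (Nat.eq_one_of_dvd_coprimes (hidx.pow_right k) ?_ ?_)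
      · rw [Subgroup.index]; exact orderOf_dvd_natCard _
      · refine orderOf_dvd_of_pow_eq_one ?_
        rw [← QuotientGroup.mk_pow, show s ^ p ^ k = 1 from congrArg Subtype.val hk]
        rfl
    have : R₀.map H.subtype = (S : Subgroup G) := by rw [hR₀, inf_eq_left.2 hle, hSHmap]
    exact hNP (this ▸ hhR)
  obtain ⟨A, hA, hA3⟩ := exists_scn hp2 S.isPGroup' hr
  have hD : O' p (centralizer (A : Set G)) ≤ M := hB _ (hBP.trans (hA.2.1.trans
    (normalizer_le_normalizer_centralizer.trans (TransHyp.normalizer_le_piCoreOf _)))) (O'_coprime _)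
  have hAinv : ∀ Y : Subgroup G, (Nat.card Y).Coprime p → A ≤ normalizer (Y : Set G) → Y ≤ K := by
    intro Y hY hAY
    have hAp : IsPGroup p A := S.isPGroup'.to_le hA.1
    have hcop : (Nat.card A).Coprime (Nat.card Y) := by
      obtain ⟨m, hm⟩ := IsPGroup.iff_card.1 hAp
      rw [hm]; exact hY.symm.pow_left m
    have hYM : Y ≤ M := by
      have h : Y ≤ Y ⊓ M := by
        refine Grp.le_of_forall_sylow inf_le_left fun q hq => ?_
        obtain ⟨X, hX, hAX⟩ := Grp.exists_invariant_sylow A Y hAY hcop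
          (Or.inl (by haveI := hAp.isNilpotent; infer_instance)) q
        refine ⟨X, hX, le_inf hX.1 ?_⟩
        by_cases hqp : q = p
        · subst hqp
          obtain ⟨m, hm⟩ := IsPGroup.iff_card.1 hX.2.1
          rcases Nat.eq_zero_or_pos m with rfl | h0
          · rw [card_eq_one.1 (by simpa using hm : Nat.card X = 1)]; exact bot_le
          · exact absurd (Nat.eq_one_of_dvd_coprimes hY (((dvd_pow_self q h0.ne').trans
              (dvd_of_eq hm.symm)).trans (card_dvd_of_le hX.1)) dvd_rfl) hp.out.ne_one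
        · refine scn_inv_le hG S hA hA3 hD hqp (fun Z hZ hSZ => hB Z (hBP.trans hSZ) ?_) hX.2.1 hAX
          obtain ⟨m, hm⟩ := IsPGroup.iff_card.1 hZ
          rw [hm]; exact ((Nat.coprime_primes hq.out hp.out).2 hqp).pow_left m
      exact h.trans inf_le_right
    have hAM : A ≤ M := hA.1.trans hP.1
    rw [hKdef, O'_eq, ← map_subgroupOf_eq_of_le hYM]
    refine map_mono (Transitivity.le_pPrimeCore_of_invariant (Fus.TransOdd.isPConstrained_of_solvable inferInstance)
      (A.subgroupOf M) (hAp.of_equiv (subgroupOfEquivOfLe hAM).symm) (fun a ha b hb => Subtype.ext ?_)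
      (fun y hy hyp => ?_) (fun e => absurd e hp2) _ ?_ fun a ha => ?_)
    · have h := (scn_abelian hG hA).is_comm.comm ⟨(a : G), ha⟩ ⟨(b : G), hb⟩
      exact congrArg (fun z : A => (z : G)) h
    · refine Fus.TransOdd.mem_of_centralizes S hA.1 (fun s hs b hb => (Subgroup.mem_normalizer_iff.1 (hA.2.1 hs) b).1 hb)
        hA.2.2 (mem_centralizer_iff.2 fun a ha => congrArg Subtype.val (mem_centralizer_iff.1 hy ⟨a, hAM ha⟩ ha)) ?_
      have := hyp.map M.subtype
      rwa [MonoidHom.map_zpowers] at this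
    · rwa [Nat.card_congr (subgroupOfEquivOfLe hYM).toEquiv]
    · refine Subgroup.mem_normalizer_iff.2 fun y => ?_
      simpa [mem_subgroupOf] using Subgroup.mem_normalizer_iff.1 (hAY ha) (y : G)
  have hAR : A ≤ R₀.map H.subtype := by
    rw [← map_subgroupOf_eq_of_le (hA.1.trans hPH)]
    refine map_mono (le_inf (fun a ha => hA.1 ha) ?_)
    refine Cfsg.Agent.S1457.result (G := H) (hG.1.of_dvd_nat (card_subgroup_dvd_card H)) p SH _ (fun a ha => hA.1 ha)
      ⟨⟨fun a b => Subtype.ext (Subtype.ext (congrArg (fun z : A => (z : G))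
        ((scn_abelian hG hA).is_comm.comm (⟨((a : H) : G), a.2⟩ : A) ⟨((b : H) : G), b.2⟩)))⟩⟩ fun s hs => ?_
    refine Subgroup.mem_normalizer_iff.2 fun y => ?_
    have hsS : (s : G) ∈ (S : Subgroup G) := hs
    simpa [mem_subgroupOf] using Subgroup.mem_normalizer_iff.1 (hA.2.1 hsS) (y : G)
  refine hconjK hK (hAinv _ (by rw [Grp.card_conj_smul]; exact O'_coprime M) fun a ha => ?_)
  rw [Grp.mem_normalizer_iff_smul, Grp.conj_smul_conj_smul]
  have ha' : (h : G)⁻¹ * a * h ∈ R₀.map H.subtype := Grp.mem_conj_normalizer' hhR (hAR ha)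
  have := Grp.mem_normalizer_iff_smul.1 (le_normalizer_core' (π := {s : ℕ | s ≠ p}) M (hP.1 (hR₀S ha')))
  show MulAut.conj (a * (h : G)) • K = MulAut.conj (h : G) • K
  conv_rhs => rw [show MulAut.conj (h : G) • K = MulAut.conj (h : G) • (MulAut.conj ((h : G)⁻¹ * a * h) • K) by rw [this]]
  rw [Grp.conj_smul_conj_smul]
  congr 2; group

theorem inUniqueMaximal : Cfsg.InUniqueMaximal B := by
  refine ⟨M, ⟨hM, hBM⟩, fun L ⟨hL, hBL⟩ => ?_⟩
  by_contra hne
  obtain ⟨R, -, hR⟩ := (Set.toFinite {R : Subgroup G | B ≤ R ∧ IsPGroup p R ∧ R ≤ M ∧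
    ∃ L : Subgroup G, IsCoatom L ∧ L ≠ M ∧ R ≤ L}).exists_le_maximal (a := B)
    ⟨le_rfl, hBp, hBM, L, hL, hne, hBL⟩
  obtain ⟨hBR, hRp, hRM, L₁, hL₁, hne₁, hRL⟩ := hR.1
  haveI := solvable_of_ne_top hG hL₁.1
  obtain ⟨P, hP, -, hRP⟩ := Grp.exists_invariant_sylow_ge ⊥ M bot_le (by simp) (Or.inl inferInstance) hRM hRp bot_le
  rcases eq_or_lt_of_le hRP with e | hlt
  · exact hne₁ (eq_of_sylow_le hG hM hBM hBp hB1 hB hP (hBR.trans hRP) hL₁ (e ▸ hRL))
  have hgrow : ∀ T : Subgroup G, normalizer (R : Set G) ≤ T → T ≠ ⊤ → T ≤ M := by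
    intro T hRT hT
    obtain ⟨L₂, hL₂, hTL⟩ := exists_coatom hG hT
    by_contra hTM
    have hne₂ : L₂ ≠ M := fun e => hTM (e ▸ hTL)
    have h1 := exists_grow hP.2.1 hlt
    exact h1.not_ge (hR.2 ⟨hBR.trans h1.le, hP.2.1.to_le inf_le_left, inf_le_left.trans hP.1, L₂, hL₂, hne₂,
      inf_le_right.trans (hRT.trans hTL)⟩ h1.le)
  have hR1 : R ≠ ⊥ := ne_bot_of_le_ne_bot hB1 hBR
  have hNR : normalizer (R : Set G) ≤ M :=
    hgrow _ le_rfl (TransHyp.normalizer_ne_top hG hR1 (ne_top_of_pGroup hG hRp))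
  obtain ⟨S, hS, -, hRS⟩ := Grp.exists_invariant_sylow_ge ⊥ L₁ bot_le (by simp) (Or.inl inferInstance) hRL hRp bot_le
  have hRS' : R = S := by
    rcases eq_or_lt_of_le hRS with e | hlt'
    · exact e
    exfalso
    have h1 := exists_grow hS.2.1 hlt'
    exact h1.not_ge (hR.2 ⟨hBR.trans h1.le, hS.2.1.to_le inf_le_left, inf_le_right.trans hNR, L₁, hL₁, hne₁,
      inf_le_left.trans hS.1⟩ h1.le)
  subst hRS'
  have hNZ : normalizer (ZJ p R : Set G) ≤ M :=
    hgrow _ (normalizer_le_ZJ R) (TransHyp.normalizer_ne_top hG (ZJ_ne_bot hRp hR1)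
      (ne_top_of_pGroup hG (hRp.to_le (ZJ_le R))))
  have hLM : L₁ ≤ M := (zj_factor hG.1 hS).trans (sup_le
    (hB _ ((hBR.trans hRL).trans (le_normalizer_core' L₁)) (O'_coprime L₁)) (inf_le_right.trans hNZ))
  exact hne₁ ((hL₁.le_iff.1 hLM).resolve_left hM.1).symm

end MinSimple

end Cfsg.Agent.Transfer.Loc
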