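import Cfsg.Agent.Lib.Transfer.Local.Basic
import Cfsg.Agent.Lib.Grp.CoprimeAbelian
import Cfsg.Agent.S1442

/-!
Bender's arguments on a maximal local subgroup whose Fitting subgroup has two prime divisors.
-/

set_option autoImplicit false
set_option linter.style.haveILetI false
set_option linter.unusedSectionVars false

namespace Cfsg.Agent.Transfer.Loc

open Subgroup
open scoped commutatorElement
open Cfsg.Agent.Grp (pPrimeCore_isNormal pCore_isNormal pCore_isPGroup pPrimeCore_coprime)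

universe u

/-- Balance: the `p'`-core of the centraliser of a `p`-subgroup lies in the `p'`-core. -/
theorem balance {Γ : Type u} [Group Γ] [Finite Γ] [Group.IsSolvable Γ] {p : ℕ} [hp : Fact p.Prime]
    {P Y : Subgroup Γ} (hP : IsPGroup p P) (hYP : Y ≤ centralizer (P : Set Γ))
    (hN : centralizer (P : Set Γ) ≤ normalizer (Y : Set Γ)) (hY : (Nat.card Y).Coprime p) :
    Y ≤ Cfsg.pPrimeCore p Γ := by
  haveI : (Cfsg.pPrimeCore p Γ).Normal := pPrimeCore_isNormal
  set f := QuotientGroup.mk' (Cfsg.pPrimeCore p Γ)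
  set R := Cfsg.pCore p (Γ ⧸ Cfsg.pPrimeCore p Γ)
  have hRn : R.Normal := pCore_isNormal
  have hY' : (Nat.card (Y.map f)).Coprime p := hY.coprime_dvd_left (card_map_dvd _ f)
  have hdisj : R ⊓ Y.map f = ⊥ := Cfsg.Agent.Grp.inf_eq_bot_of_coprime (by
    obtain ⟨m, hm⟩ := IsPGroup.iff_card.1 (pCore_isPGroup (p := p) (G := Γ ⧸ Cfsg.pPrimeCore p Γ))
    rw [hm]; exact hY'.symm.pow_left m)
  intro y hy
  have hyY : f y ∈ Y.map f := mem_map_of_mem f hy
  have h1 : f y ∈ centralizer (R : Set (Γ ⧸ Cfsg.pPrimeCore p Γ)) := by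
    refine Grp.mem_centralizer_pCore (hP.map f) (hY'.coprime_dvd_left (orderOf_dvd_natCard _ hyY)) ?_ ?_
    · rw [← Grp.map_centralizer_pGroup hP]; exact mem_map_of_mem f (hYP hy)
    · intro z hz
      obtain ⟨hzR, hzC⟩ := hz
      rw [← Grp.map_centralizer_pGroup hP] at hzC
      obtain ⟨c, hc, rfl⟩ := hzC
      rw [mem_centralizer_singleton_iff]
      have h2 : f c * f y * (f c)⁻¹ * (f y)⁻¹ ∈ R ⊓ Y.map f := by
        refine ⟨?_, ?_⟩
        · rw [show f c * f y * (f c)⁻¹ * (f y)⁻¹ = f c * (f y * (f c)⁻¹ * (f y)⁻¹) by group]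
          exact R.mul_mem hzR (hRn.conj_mem _ (R.inv_mem hzR) _)
        · refine ⟨c * y * c⁻¹ * y⁻¹, Y.mul_mem ((Subgroup.mem_normalizer_iff.1 (hN hc) y).1 hy) (Y.inv_mem hy), ?_⟩
          simp
      rw [hdisj, mem_bot, mul_inv_eq_one, mul_inv_eq_iff_eq_mul] at h2
      first
        | exact h2
        | exact h2.symm
  haveI : Group.IsSolvable (Γ ⧸ Cfsg.pPrimeCore p Γ) :=
    Group.isSolvable_of_surjective (f := f) (QuotientGroup.mk'_surjective _)
  have h3 : f y ∈ R ⊓ Y.map f := ⟨Grp.centralizer_pCore_le Grp.pPrimeCore_quotient_bot h1, hyY⟩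
  rw [hdisj, mem_bot] at h3
  exact (QuotientGroup.eq_one_iff y).1 h3

variable {G : Type u} [Group G] [Finite G]

theorem balanceOf {L P Y : Subgroup G} [Group.IsSolvable L] {p : ℕ} [Fact p.Prime] (hP : IsPGroup p P) (hPL : P ≤ L)
    (hYL : Y ≤ L ⊓ centralizer (P : Set G)) (hN : L ⊓ centralizer (P : Set G) ≤ normalizer (Y : Set G))
    (hY : (Nat.card Y).Coprime p) : Y ≤ O' p L := by
  have h := balance (Γ := L) (P := P.subgroupOf L) (Y := Y.subgroupOf L) (p := p)
    (hP.of_equiv (subgroupOfEquivOfLe hPL).symm)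
    (fun y hy => mem_centralizer_iff.2 fun x hx => Subtype.ext (mem_centralizer_iff.1 (hYL hy).2 x hx))
    (fun c hc => by
      refine Subgroup.mem_normalizer_iff.2 fun y => ?_
      have := Subgroup.mem_normalizer_iff.1 (hN (x := (c : G)) ⟨c.2, mem_centralizer_iff.2 fun x hx =>
        congrArg Subtype.val (mem_centralizer_iff.1 hc ⟨x, hPL hx⟩ hx)⟩) (y : G)
      simpa [mem_subgroupOf] using this)
    (by rwa [Nat.card_congr (subgroupOfEquivOfLe (hYL.trans inf_le_left)).toEquiv])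
  rw [O'_eq, ← map_subgroupOf_eq_of_le (hYL.trans inf_le_left)]
  exact map_mono h

omit [Finite G] in
theorem normalizer_le_normalizer_centralizer {X : Subgroup G} :
    normalizer (X : Set G) ≤ normalizer (centralizer (X : Set G) : Set G) := by
  have key : ∀ y ∈ normalizer (X : Set G), ∀ c ∈ centralizer (X : Set G), y * c * y⁻¹ ∈ centralizer (X : Set G) := by
    intro y hy c hc
    refine mem_centralizer_iff.2 fun w hw => ?_
    have h1 := mem_centralizer_iff.1 hc _ ((Subgroup.mem_normalizer_iff.1 (inv_mem hy) w).1 hw)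
    calc w * (y * c * y⁻¹) = y * ((y⁻¹ * w * y⁻¹⁻¹) * c) * y⁻¹ := by group
      _ = y * (c * (y⁻¹ * w * y⁻¹⁻¹)) * y⁻¹ := by rw [h1]
      _ = y * c * y⁻¹ * w := by group
  intro x hx
  rw [Subgroup.mem_normalizer_iff]
  refine fun c => ⟨key x hx c, fun h => ?_⟩
  have := key x⁻¹ (inv_mem hx) _ h
  simpa [mul_assoc] using this

/-- `O_{(π - q)'}(L)`. -/
abbrev N (π : Set ℕ) (q : ℕ) (L : Subgroup G) : Subgroup G :=
  Cfsg.piCoreOf {s : ℕ | s ∈ π → s = q} L

theorem step {H L : Subgroup G} [Group.IsSolvable L] (π : Set ℕ) (hπp : ∀ q ∈ π, q.Prime)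
    (h2 : ∀ q : ℕ, ∃ p ∈ π, p ≠ q)
    (hcore : ∀ Y : Subgroup G, Y ≤ L → L ≤ normalizer (Y : Set G) →
      (∀ r : ℕ, r.Prime → r ∣ Nat.card Y → r ∉ π) → Y = ⊥)
    (hne : ∀ q ∈ π, O q H ≠ ⊥) (hZL : ∀ q ∈ π, Z q H ≤ L)
    (hC : ∀ q ∈ π, centralizer (Z q H : Set G) ≤ H) :
    (∀ r : ℕ, r.Prime → O r L ≤ H) ∧ ∀ q ∈ π, Z q H ≤ O q L ∧ O q L ≠ ⊥ := by
  have hZN : ∀ q ∈ π, Z q H ≤ N π q L := by
    intro q hq
    haveI := Fact.mk (hπp q hq)
    let K : Subgroup L := normalClosure (((Z q H).subgroupOf L : Subgroup L) : Set L)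
    have hle : (Z q H).subgroupOf L ≤ K := subset_normalClosure
    have hK : ∀ p ∈ π, p ≠ q → ¬ p ∣ Nat.card K := by
      intro p hp hpq hd
      haveI := Fact.mk (hπp p hp)
      have h : Z q H ≤ O' p L := by
        refine balanceOf ((O_isPGroup p H).to_le (inf_le_left : Z p H ≤ O p H)) (hZL p hp) (le_inf (hZL q hq)
          ((inf_le_left.trans (O_commute (Ne.symm hpq) H)).trans (centralizer_le inf_le_left))) ?_ ?_
        · exact inf_le_right.trans ((hC p hp).trans (le_normalizer_Z H))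
        · obtain ⟨n, hn⟩ := IsPGroup.iff_card.1 ((O_isPGroup q H).to_le (inf_le_left : Z q H ≤ O q H))
          rw [hn]
          exact ((Nat.coprime_primes (Fact.out : q.Prime) (Fact.out : p.Prime)).2 (Ne.symm hpq)).pow_left n
      rw [O'_eq] at h
      haveI := pPrimeCore_isNormal (p := p) (G := L)
      have h' : K ≤ Cfsg.pPrimeCore p L := by
        refine normalClosure_le_normal ?_
        intro z hz
        obtain ⟨w, hw, e⟩ := h (mem_subgroupOf.1 hz)
        rwa [← Subtype.ext (e : (w : G) = z)]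
      exact (hπp p hp).ne_one (Nat.eq_one_of_dvd_coprimes pPrimeCore_coprime
        (hd.trans (card_dvd_of_le h')) dvd_rfl)
    have : K.map L.subtype ≤ N π q L := by
      refine TransHyp.le_piCoreOf (map_subtype_le _) (map_normal_le_normalizer _) fun r hr hd hrπ => ?_
      rw [card_map_of_injective L.subtype_injective] at hd
      by_contra hrq
      exact hK r hrπ hrq hd
    refine le_trans ?_ this
    rw [← map_subgroupOf_eq_of_le (hZL q hq)]
    exact map_mono hle
  have hcomm : ∀ q ∈ π, ∀ p ∈ π, p ≠ q → N π q L ≤ centralizer (N π p L : Set G) := by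
    intro q hq p hp hpq
    have hbot : N π q L ⊓ N π p L = ⊥ := hcore _ (inf_le_left.trans (TransHyp.piCoreOf_le L))
      (Grp.le_normalizer_inf' (le_normalizer_core' L) (le_normalizer_core' L)) fun r hr hd hrπ => hpq (by
        have h1 := TransHyp.piCoreOf_primes (π := {s : ℕ | s ∈ π → s = q}) (X := L) hr
          (hd.trans (card_dvd_of_le inf_le_left)) hrπ
        have h2 := TransHyp.piCoreOf_primes (π := {s : ℕ | s ∈ π → s = p}) (X := L) hr
          (hd.trans (card_dvd_of_le inf_le_right)) hrπ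
        rw [← h2, h1])
    intro a ha
    refine mem_centralizer_iff.2 fun b hb => ?_
    have h1 : a * b * a⁻¹ * b⁻¹ ∈ N π q L ⊓ N π p L := by
      refine ⟨?_, Subgroup.mul_mem _ ((Subgroup.mem_normalizer_iff.1 (le_normalizer_core' L (TransHyp.piCoreOf_le L ha)) b).1 hb)
        (Subgroup.inv_mem _ hb)⟩
      rw [show a * b * a⁻¹ * b⁻¹ = a * (b * a⁻¹ * b⁻¹) by group]
      exact Subgroup.mul_mem _ ha ((Subgroup.mem_normalizer_iff.1 (le_normalizer_core' L (TransHyp.piCoreOf_le L hb)) a⁻¹).1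
        (Subgroup.inv_mem _ ha))
    rw [hbot, mem_bot, mul_inv_eq_one, mul_inv_eq_iff_eq_mul] at h1
    exact h1.symm
  have hNH : ∀ q ∈ π, N π q L ≤ H := by
    intro q hq
    obtain ⟨p, hp, hpq⟩ := h2 q
    exact ((hcomm q hq p hp hpq).trans (centralizer_le (hZN p hp))).trans (hC p hp)
  have hZO : ∀ q ∈ π, Z q H ≤ O q L := by
    intro q hq
    haveI := Fact.mk (hπp q hq)
    have h1 : Z q H ≤ O q (N π q L) :=
      le_O (hZN q hq) ((hNH q hq).trans (le_normalizer_Z H)) ((O_isPGroup q H).to_le inf_le_left)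
    refine h1.trans (le_O ((O_le q _).trans (TransHyp.piCoreOf_le L)) ?_ (O_isPGroup q _))
    exact (le_normalizer_core' L).trans (TransHyp.normalizer_le_piCoreOf _)
  refine ⟨fun r hr => ?_, fun q hq => ⟨hZO q hq, ?_⟩⟩
  · haveI := Fact.mk hr
    obtain ⟨q, hq, hqr⟩ := h2 r
    by_cases hrπ : r ∈ π
    · refine le_trans ?_ (hC q hq)
      refine le_trans ?_ (centralizer_le (hZN q hq))
      refine commute_of_coprime ((O_le r L).trans (le_normalizer_core' L))
        ((TransHyp.piCoreOf_le L).trans (le_normalizer_core' L)) (Nat.coprime_of_dvd fun s hs h1 h2 => ?_)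
      have e : s = r := TransHyp.piCoreOf_primes (π := ({r} : Set ℕ)) (X := L) hs h1
      subst e
      exact hqr (TransHyp.piCoreOf_primes (π := {s : ℕ | s ∈ π → s = q}) (X := L) hs h2 hrπ).symm
    · rw [hcore (O r L) (O_le r L) (le_normalizer_core' L) fun s hs hd => ?_]
      · exact bot_le
      · rw [show s = r from TransHyp.piCoreOf_primes (π := ({r} : Set ℕ)) (X := L) hs hd]; exact hrπ
  · haveI := Fact.mk (hπp q hq)
    exact ne_bot_of_le_ne_bot (Z_ne_bot (hne q hq)) (hZO q hq)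

theorem core_eq_bot_of_solvable {H : Subgroup G} [Group.IsSolvable H] {π : Set ℕ}
    (hπ : ∀ r : ℕ, r.Prime → O r H ≠ ⊥ → r ∈ π) {Y : Subgroup G} (hY : Y ≤ H) (hn : H ≤ normalizer (Y : Set G))
    (hp : ∀ r : ℕ, r.Prime → r ∣ Nat.card Y → r ∉ π) : Y = ⊥ := by
  by_contra hne
  haveI := isSolvable_of_le hY
  obtain ⟨x, hx⟩ : ∃ r : ℕ, r.Prime ∧ O r Y ≠ ⊥ := by
    by_contra hc
    push Not at hc
    refine fittingOf_ne_bot hne ?_
    rw [fittingOf_eq]
    exact iSup_eq_bot.2 fun r => hc r r.2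
  obtain ⟨hr, hO⟩ := hx
  haveI := Fact.mk hr
  have h1 : O x Y ≤ O x H := le_O ((O_le x Y).trans hY) (le_normalizer_core hn) (O_isPGroup x Y)
  refine hp x hr ?_ (hπ x hr (ne_bot_of_le_ne_bot hO h1))
  exact (dvd_of_O_ne_bot hO).trans (card_dvd_of_le (fittingOf_le Y))

/-- Bender: two maximal subgroups linked by the centres of their cores coincide. -/
theorem eq_of_linked {H L : Subgroup G} [Group.IsSolvable H] [Group.IsSolvable L] (π : Set ℕ)
    (hπp : ∀ q ∈ π, q.Prime) (h2 : ∀ q : ℕ, ∃ p ∈ π, p ≠ q) (hπH : ∀ r : ℕ, r.Prime → (O r H ≠ ⊥ ↔ r ∈ π))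
    (hcore : ∀ Y : Subgroup G, Y ≤ L → L ≤ normalizer (Y : Set G) →
      (∀ r : ℕ, r.Prime → r ∣ Nat.card Y → r ∉ π) → Y = ⊥)
    (hZL : ∀ q ∈ π, Z q H ≤ L) (hCH : ∀ q ∈ π, centralizer (Z q H : Set G) ≤ H)
    (hCL : ∀ q : ℕ, q.Prime → O q L ≠ ⊥ → centralizer (Z q L : Set G) ≤ L)
    (hmax : ∀ K : Subgroup G, K ≠ ⊥ → K ≤ H → H ≤ normalizer (K : Set G) → L ≤ normalizer (K : Set G) → H = L) :
    H = L := by
  obtain ⟨hLH, hZ⟩ := step π hπp h2 hcore (fun q hq => (hπH q (hπp q hq)).2 hq) hZL hCH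
  have hcoreH : ∀ Y : Subgroup G, Y ≤ H → H ≤ normalizer (Y : Set G) →
      (∀ r : ℕ, r.Prime → r ∣ Nat.card Y → r ∉ π) → Y = ⊥ :=
    fun Y h1 h2 h3 => core_eq_bot_of_solvable (fun r hr h => (hπH r hr).1 h) h1 h2 h3
  obtain ⟨hHL, hZ'⟩ := step (H := L) (L := H) π hπp h2 hcoreH (fun q hq => (hZ q hq).2)
    (fun q hq => inf_le_left.trans (hLH q (hπp q hq))) (fun q hq => hCL q (hπp q hq) (hZ q hq).2)
  have key : ∀ {A B : Subgroup G}, (∀ r : ℕ, r.Prime → O r A ≤ B) → (∀ r : ℕ, r.Prime → O r B ≤ A) →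
      (∀ q ∈ π, centralizer (Z q A : Set G) ≤ A) → (∀ q ∈ π, Z q A ≤ O q B) →
      ∀ p : ℕ, p.Prime → O p A ≤ O p B := by
    intro A B hAB hBA hCA hZA p hp
    haveI := Fact.mk hp
    obtain ⟨q, hq, hqp⟩ := h2 p
    haveI := Fact.mk (hπp q hq)
    set E := B ⊓ centralizer (O q B : Set G) with hE
    have hpE : O p A ≤ E := le_inf (hAB p hp) (commute_of_coprime ((hAB p hp).trans (le_normalizer_core' B))
      ((hBA q (hπp q hq)).trans (le_normalizer_core' A)) (coprime_O (Ne.symm hqp) (O_isPGroup p A) (O_isPGroup q B)))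
    have hEA : E ≤ A := inf_le_right.trans ((centralizer_le (hZA q hq)).trans (hCA q hq))
    have hBE : B ≤ normalizer (E : Set G) := by
      refine Grp.le_normalizer_inf' le_normalizer ?_
      exact (le_normalizer_core' B).trans normalizer_le_normalizer_centralizer
    refine (le_O hpE (hEA.trans (le_normalizer_core' A)) (O_isPGroup p A)).trans ?_
    exact le_O ((O_le p E).trans inf_le_left) (le_normalizer_core hBE) (O_isPGroup p E)
  obtain ⟨q, hq, -⟩ := h2 0
  have he : O q H = O q L := le_antisymm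
    (key hHL hLH hCH (fun q hq => (hZ q hq).1) q (hπp q hq))
    (key hLH hHL (fun q hq => hCL q (hπp q hq) (hZ q hq).2) (fun q hq => (hZ' q hq).1) q (hπp q hq))
  exact hmax (O q H) ((hπH q (hπp q hq)).2 hq) (O_le q H) (le_normalizer_core' H) (he ▸ le_normalizer_core' L)

end Cfsg.Agent.Transfer.Loc
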