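import Mathlib
import Cfsg.Prelude.Def_OddOrderLocal
import Cfsg.Agent.Lib.Transfer.TransHyp
import Cfsg.Agent.Lib.Transfer.Elements
import Cfsg.Agent.Lib.Grp.Solvable
import Cfsg.Agent.Lib.Grp.LocalFitting
import Cfsg.Agent.Lib.Grp.Cores

/-!
The cores `O_p(X)`, `O_{p'}(X)` of a subgroup `X` as subgroups of the ambient group.
-/

set_option autoImplicit false
set_option linter.style.haveILetI false
set_option linter.unusedSectionVars false

namespace Cfsg.Agent.Transfer.Loc

open Subgroup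
open scoped commutatorElement

universe u

variable {G : Type u} [Group G] [Finite G]

/-- `O_r(X)` as a subgroup of the ambient group. -/
abbrev O (r : ℕ) (X : Subgroup G) : Subgroup G := Cfsg.piCoreOf ({r} : Set ℕ) X

/-- `O_{r'}(X)` as a subgroup of the ambient group. -/
abbrev O' (r : ℕ) (X : Subgroup G) : Subgroup G := Cfsg.piCoreOf {s : ℕ | s ≠ r} X

theorem O_le (r : ℕ) (X : Subgroup G) : O r X ≤ X := TransHyp.piCoreOf_le X

theorem O'_le (r : ℕ) (X : Subgroup G) : O' r X ≤ X := TransHyp.piCoreOf_le X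

theorem le_normalizer_core {π : Set ℕ} {Y X : Subgroup G} (h : Y ≤ normalizer (X : Set G)) :
    Y ≤ normalizer (Cfsg.piCoreOf π X : Set G) := h.trans (TransHyp.normalizer_le_piCoreOf X)

theorem le_normalizer_core' {π : Set ℕ} (X : Subgroup G) : X ≤ normalizer (Cfsg.piCoreOf π X : Set G) :=
  TransHyp.le_normalizer_piCoreOf X

theorem isPGroup_of_primes {r : ℕ} {Y : Subgroup G}
    (h : ∀ q : ℕ, q.Prime → q ∣ Nat.card Y → q = r) : IsPGroup r Y :=
  IsPGroup.of_card (n := (Nat.card Y).primeFactorsList.length)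
    (Nat.eq_prime_pow_of_unique_prime_dvd Nat.card_pos.ne' fun {d} hd hdY => h d hd hdY)

theorem O_isPGroup (r : ℕ) (X : Subgroup G) : IsPGroup r (O r X) :=
  isPGroup_of_primes fun _ hq hd => TransHyp.piCoreOf_primes (π := {r}) (X := X) hq hd

theorem O'_coprime {r : ℕ} [hr : Fact r.Prime] (X : Subgroup G) : (Nat.card (O' r X)).Coprime r :=
  (hr.out.coprime_iff_not_dvd.2 fun hd => TransHyp.piCoreOf_primes (π := {s : ℕ | s ≠ r}) (X := X) hr.out hd rfl).symm

theorem le_O {r : ℕ} [hr : Fact r.Prime] {L X : Subgroup G} (hL : L ≤ X) (hX : X ≤ normalizer (L : Set G))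
    (hp : IsPGroup r L) : L ≤ O r X := by
  refine TransHyp.le_piCoreOf hL hX fun q hq hd => ?_
  obtain ⟨n, hn⟩ := IsPGroup.iff_card.1 hp
  exact (Nat.prime_dvd_prime_iff_eq hq hr.out).1 (hq.dvd_of_dvd_pow (hn ▸ hd))

theorem le_O' {r : ℕ} [hr : Fact r.Prime] {L X : Subgroup G} (hL : L ≤ X) (hX : X ≤ normalizer (L : Set G))
    (hp : (Nat.card L).Coprime r) : L ≤ O' r X :=
  TransHyp.le_piCoreOf hL hX fun q hq hd e => hq.ne_one (Nat.eq_one_of_dvd_coprimes hp hd (e ▸ dvd_rfl))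

theorem map_normal_le_normalizer {X : Subgroup G} (N : Subgroup X) [N.Normal] :
    X ≤ normalizer (N.map X.subtype : Set G) := by
  refine le_trans ?_ (le_normalizer_map X.subtype)
  rw [normalizer_eq_top_iff.2 (inferInstance : N.Normal), ← MonoidHom.range_eq_map, range_subtype]

theorem O_eq {r : ℕ} [hr : Fact r.Prime] (X : Subgroup G) : O r X = (Cfsg.pCore r X).map X.subtype := by
  refine le_antisymm ?_ ?_
  · refine map_mono (Grp.le_pCore (Cfsg.piCore_normal _ _) ?_)
    exact IsPGroup.of_card (n := (Nat.card (Cfsg.piCore ({r} : Set ℕ) X)).primeFactorsList.length)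
      (Nat.eq_prime_pow_of_unique_prime_dvd Nat.card_pos.ne' fun {d} hd hdY =>
        TransHyp.piCore_primes (π := ({r} : Set ℕ)) hd hdY)
  · haveI := Grp.pCore_isNormal (p := r) (G := X)
    exact le_O (map_subtype_le _) (map_normal_le_normalizer _) (Grp.pCore_isPGroup.map _)

theorem O'_eq {r : ℕ} [hr : Fact r.Prime] (X : Subgroup G) :
    O' r X = (Cfsg.pPrimeCore r X).map X.subtype := by
  refine le_antisymm ?_ ?_
  · refine map_mono (Grp.le_pPrimeCore (Cfsg.piCore_normal _ _) ?_)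
    exact (hr.out.coprime_iff_not_dvd.2 fun hd =>
      TransHyp.piCore_primes (π := {s : ℕ | s ≠ r}) hr.out hd rfl).symm
  · haveI := Grp.pPrimeCore_isNormal (p := r) (G := X)
    refine le_O' (map_subtype_le _) (map_normal_le_normalizer _) ?_
    rw [card_map_of_injective X.subtype_injective]
    exact Grp.pPrimeCore_coprime

theorem fittingOf_eq (X : Subgroup G) : Cfsg.fittingOf X = ⨆ r : Nat.Primes, O (r : ℕ) X := by
  rw [Cfsg.fittingOf, Grp.fittingSubgroup_eq_iSup_pCore, Subgroup.map_iSup]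
  exact iSup_congr fun r => by haveI := Fact.mk r.2; exact (O_eq X).symm

theorem O_le_fittingOf {r : ℕ} [hr : Fact r.Prime] (X : Subgroup G) : O r X ≤ Cfsg.fittingOf X := by
  rw [fittingOf_eq]; exact le_iSup_of_le ⟨r, hr.out⟩ le_rfl

theorem fittingOf_le (X : Subgroup G) : Cfsg.fittingOf X ≤ X := map_subtype_le _

theorem le_normalizer_fittingOf (X : Subgroup G) : X ≤ normalizer (Cfsg.fittingOf X : Set G) := by
  haveI := Grp.fittingSubgroup_isNormal (G := X)
  exact map_normal_le_normalizer _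

theorem fittingOf_isNilpotent (X : Subgroup G) : Group.IsNilpotent (Cfsg.fittingOf X) :=
  Grp.isNilpotent_map Grp.fittingSubgroup_isNilpotent _

/-- An element of `F(X)` of prime-power order lies in the corresponding core. -/
theorem mem_O_of_mem_fittingOf {r : ℕ} [hr : Fact r.Prime] {X : Subgroup G} {x : G}
    (hx : x ∈ Cfsg.fittingOf X) {k : ℕ} (hk : x ^ r ^ k = 1) : x ∈ O r X := by
  obtain ⟨y, hy, rfl⟩ := hx
  rw [O_eq]
  refine mem_map_of_mem _ ?_
  haveI := Grp.fittingSubgroup_isNilpotent (G := X)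
  haveI := Grp.fittingSubgroup_isNormal (G := X)
  obtain ⟨P⟩ : Nonempty (Sylow r (Cfsg.fittingSubgroup X)) := inferInstance
  haveI : (P : Subgroup (Cfsg.fittingSubgroup X)).Characteristic := P.characteristic_of_normal inferInstance
  have hn : ((P : Subgroup (Cfsg.fittingSubgroup X)).map (Cfsg.fittingSubgroup X).subtype).Normal :=
    inferInstance
  refine Grp.le_pCore hn (P.isPGroup'.map _) ⟨⟨y, hy⟩, ?_, rfl⟩
  have hp : IsPGroup r (zpowers (⟨y, hy⟩ : Cfsg.fittingSubgroup X)) := by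
    have h1 : (⟨y, hy⟩ : Cfsg.fittingSubgroup X) ^ r ^ k = 1 :=
      Subtype.ext (Subtype.ext (by simpa using hk))
    obtain ⟨j, -, hj⟩ := (Nat.dvd_prime_pow hr.out).1 (orderOf_dvd_of_pow_eq_one h1)
    exact IsPGroup.of_card (n := j) (by rw [Nat.card_zpowers, hj])
  obtain ⟨Q, hQ⟩ := hp.exists_le_sylow
  haveI : Unique (Sylow r (Cfsg.fittingSubgroup X)) := Sylow.unique_of_normal P inferInstance
  rw [Subsingleton.elim P Q]
  exact hQ (mem_zpowers _)

theorem O_ne_bot_of_dvd {r : ℕ} [hr : Fact r.Prime] {X : Subgroup G}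
    (h : r ∣ Nat.card (Cfsg.fittingOf X)) : O r X ≠ ⊥ := by
  obtain ⟨x, hx⟩ := exists_prime_orderOf_dvd_card' r h
  intro e
  have h1 : (x : G) ^ r ^ 1 = 1 := by rw [pow_one, ← coe_pow, ← hx, pow_orderOf_eq_one, coe_one]
  have := mem_O_of_mem_fittingOf x.2 h1
  rw [e, mem_bot] at this
  rw [orderOf_eq_one_iff.2 (Subtype.ext this : x = 1)] at hx
  exact hr.out.ne_one hx.symm

theorem dvd_of_O_ne_bot {r : ℕ} [hr : Fact r.Prime] {X : Subgroup G} (h : O r X ≠ ⊥) :
    r ∣ Nat.card (Cfsg.fittingOf X) := by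
  obtain ⟨n, hn⟩ := IsPGroup.iff_card.1 (O_isPGroup r X)
  rcases Nat.eq_zero_or_pos n with rfl | hn0
  · exact absurd (card_eq_one.1 (by simpa using hn)) h
  · exact ((dvd_pow_self r hn0.ne').trans (dvd_of_eq hn.symm)).trans (card_dvd_of_le (O_le_fittingOf X))

/-- Mutually normalising subgroups of coprime order commute. -/
theorem commute_of_coprime {A B : Subgroup G} (hA : A ≤ normalizer (B : Set G))
    (hB : B ≤ normalizer (A : Set G)) (h : (Nat.card A).Coprime (Nat.card B)) :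
    A ≤ centralizer (B : Set G) := by
  intro a ha
  refine mem_centralizer_iff.2 fun b hb => ?_
  have h1 : a * b * a⁻¹ * b⁻¹ ∈ A ⊓ B := by
    refine ⟨?_, B.mul_mem ((Subgroup.mem_normalizer_iff.1 (hA ha) b).1 hb) (B.inv_mem hb)⟩
    rw [show a * b * a⁻¹ * b⁻¹ = a * (b * a⁻¹ * b⁻¹) by group]
    exact A.mul_mem ha ((Subgroup.mem_normalizer_iff.1 (hB hb) a⁻¹).1 (A.inv_mem ha))
  rw [Cfsg.Agent.Grp.inf_eq_bot_of_coprime h, mem_bot, mul_inv_eq_one, mul_inv_eq_iff_eq_mul] at h1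
  exact h1.symm

theorem coprime_O {r s : ℕ} [hr : Fact r.Prime] [hs : Fact s.Prime] (h : r ≠ s) {A B : Subgroup G}
    (hA : IsPGroup r A) (hB : IsPGroup s B) : (Nat.card A).Coprime (Nat.card B) := by
  obtain ⟨n, hn⟩ := IsPGroup.iff_card.1 hA
  obtain ⟨m, hm⟩ := IsPGroup.iff_card.1 hB
  rw [hn, hm]
  exact ((Nat.coprime_primes hr.out hs.out).2 h).pow _ _

theorem O_commute {r s : ℕ} [Fact r.Prime] [Fact s.Prime] (h : r ≠ s) (X : Subgroup G) :
    O r X ≤ centralizer (O s X : Set G) :=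
  commute_of_coprime ((O_le r X).trans (le_normalizer_core' X)) ((O_le s X).trans (le_normalizer_core' X))
    (coprime_O h (O_isPGroup r X) (O_isPGroup s X))

/-- The centre of `O_r(X)`. -/
abbrev Z (r : ℕ) (X : Subgroup G) : Subgroup G := O r X ⊓ centralizer (O r X : Set G)

theorem Z_ne_bot {r : ℕ} [Fact r.Prime] {X : Subgroup G} (h : O r X ≠ ⊥) : Z r X ≠ ⊥ := by
  haveI : Nontrivial (O r X) := (nontrivial_iff_ne_bot _).2 h
  haveI := (O_isPGroup r X).center_nontrivial
  obtain ⟨z, hz⟩ := exists_ne (1 : center (O r X))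
  intro e
  refine hz (Subtype.ext (Subtype.ext ?_))
  have : ((z : O r X) : G) ∈ Z r X := ⟨(z : O r X).2, mem_centralizer_iff.2 fun y hy =>
    congrArg Subtype.val (mem_center_iff.1 z.2 ⟨y, hy⟩)⟩
  rwa [e, mem_bot] at this

theorem le_normalizer_Z {r : ℕ} (X : Subgroup G) : X ≤ normalizer (Z r X : Set G) := by
  intro x hx
  rw [Subgroup.mem_normalizer_iff]
  have key : ∀ y ∈ normalizer (O r X : Set G), ∀ z ∈ Z r X, y * z * y⁻¹ ∈ Z r X := by
    intro y hy z hz
    refine ⟨(Subgroup.mem_normalizer_iff.1 hy z).1 hz.1, mem_centralizer_iff.2 fun w hw => ?_⟩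
    have h1 := mem_centralizer_iff.1 hz.2 _ ((Subgroup.mem_normalizer_iff.1 (inv_mem hy) w).1 hw)
    calc w * (y * z * y⁻¹) = y * ((y⁻¹ * w * y⁻¹⁻¹) * z) * y⁻¹ := by group
      _ = y * (z * (y⁻¹ * w * y⁻¹⁻¹)) * y⁻¹ := by rw [h1]
      _ = y * z * y⁻¹ * w := by group
  have hxO := le_normalizer_core' (π := ({r} : Set ℕ)) X hx
  refine fun z => ⟨key x hxO z, fun h => ?_⟩
  have := key x⁻¹ (inv_mem hxO) _ h
  simpa [mul_assoc] using this

theorem Z_centralizes_fittingOf {r : ℕ} [hr : Fact r.Prime] (X : Subgroup G) :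
    Z r X ≤ centralizer (Cfsg.fittingOf X : Set G) := by
  rw [le_centralizer_iff, fittingOf_eq]
  refine iSup_le fun s => ?_
  haveI := Fact.mk s.2
  by_cases h : (s : ℕ) = r
  · rw [h, le_centralizer_iff]; exact inf_le_right
  · exact (O_commute h X).trans (centralizer_le inf_le_left)

theorem isSolvable_of_le {A B : Subgroup G} (h : A ≤ B) [Group.IsSolvable B] : Group.IsSolvable A :=
  Grp.isSolvable_of_le h inferInstance

/-- In a solvable subgroup the Fitting subgroup contains its centraliser. -/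
theorem centralizer_fittingOf_le (X : Subgroup G) [Group.IsSolvable X] :
    X ⊓ centralizer (Cfsg.fittingOf X : Set G) ≤ Cfsg.fittingOf X := by
  rintro x ⟨hx, hxC⟩
  refine ⟨⟨x, hx⟩, Grp.centralizer_fittingSubgroup_le (mem_centralizer_iff.2 fun y hy => ?_), rfl⟩
  exact Subtype.ext (mem_centralizer_iff.1 hxC y ⟨y, hy, rfl⟩)

theorem fittingOf_ne_bot {X : Subgroup G} [Group.IsSolvable X] (h : X ≠ ⊥) : Cfsg.fittingOf X ≠ ⊥ := by
  intro e
  refine h (eq_bot_iff.2 fun x hx => ?_)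
  have := centralizer_fittingOf_le X (x := x) ⟨hx, mem_centralizer_iff.2 fun y hy => by
    rw [e] at hy; rw [mem_bot.1 hy, one_mul, mul_one]⟩
  rwa [e] at this

end Cfsg.Agent.Transfer.Loc
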