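import Cfsg.Agent.Lib.Transfer.Local.KappaPrivate
import Cfsg.Agent.Lib.Grp.CoprimeHall

/-!
A lower bound for the elements whose `σ(M)`-part lies in a conjugate of `M_σ`.
-/

set_option autoImplicit false
set_option linter.style.haveILetI false
set_option linter.unusedSectionVars false
set_option maxHeartbeats 1000000

namespace Cfsg.Agent.Transfer.Loc

open Subgroup
open scoped commutatorElement Pointwise

universe u

variable {G : Type u} [Group G] [Finite G]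

/-- All primes of the order of `g` lie in `π`. -/
def IsPiElt (π : Set ℕ) (g : G) : Prop := ∀ p : ℕ, p.Prime → p ∣ orderOf g → p ∈ π

/-- The `π`-part and the `π'`-part of an element. -/
theorem exists_pi_parts (π : Set ℕ) (g : G) : ∃ x v : G, x ∈ zpowers g ∧ v ∈ zpowers g ∧ x * v = g ∧
    IsPiElt π x ∧ IsPiElt πᶜ v := by
  obtain ⟨m, n, e, hm, hn⟩ : ∃ m n : ℕ, orderOf g = m * n ∧ (∀ p, p.Prime → p ∣ m → p ∈ π) ∧
      ∀ p, p.Prime → p ∣ n → p ∉ π := by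
    obtain ⟨H, hH⟩ := Grp.PiHall.exists_piHall π (zpowers g)
    refine ⟨Nat.card H, H.relIndex (zpowers g), ?_, hH.2.1, fun p hp hd hπ => hH.2.2 p hp hπ hd⟩
    rw [Grp.card_mul_relIndex hH.1, Nat.card_zpowers]
  have hcop : m.Coprime n := Nat.coprime_of_dvd fun p hp h1 h2 => hn p hp h2 (hm p hp h1)
  obtain ⟨i, hi1, hi2⟩ := Nat.chineseRemainder hcop 1 0
  obtain ⟨j, hj1, hj2⟩ := Nat.chineseRemainder hcop 0 1
  refine ⟨g ^ i, g ^ j, npow_mem_zpowers g i, npow_mem_zpowers g j, ?_, fun p hp hd => hm p hp (hd.trans ?_),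
    fun p hp hd => hn p hp (hd.trans ?_)⟩
  · have h : i + j ≡ 1 [MOD orderOf g] := by
      rw [e, ← Nat.modEq_and_modEq_iff_modEq_mul hcop]
      exact ⟨by simpa using hi1.add hj1, by simpa using hi2.add hj2⟩
    rw [← pow_add]
    exact (pow_eq_pow_iff_modEq.2 h).trans (pow_one g)
  · refine orderOf_dvd_of_pow_eq_one ?_
    rw [← pow_mul, ← orderOf_dvd_iff_pow_eq_one, e, mul_comm i m]
    exact Nat.mul_dvd_mul_left m (Nat.modEq_zero_iff_dvd.1 hi2)
  · refine orderOf_dvd_of_pow_eq_one ?_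
    rw [← pow_mul, ← orderOf_dvd_iff_pow_eq_one, e]
    exact Nat.mul_dvd_mul_right (Nat.modEq_zero_iff_dvd.1 hj1) n

/-- The `π`-part is a power and hence unique. -/
theorem pi_part_mem_zpowers {π : Set ℕ} {x v : G} (hc : Commute x v) (hx : IsPiElt π x) (hv : IsPiElt πᶜ v) :
    x ∈ zpowers (x * v) ∧ v ∈ zpowers (x * v) := by
  have hcop : (orderOf x).Coprime (orderOf v) := Nat.coprime_of_dvd fun p hp h1 h2 => hv p hp h2 (hx p hp h1)
  constructor
  · obtain ⟨i, hi1, hi2⟩ := Nat.chineseRemainder hcop 1 0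
    refine mem_zpowers_iff.2 ⟨(i : ℤ), ?_⟩
    rw [zpow_natCast, hc.mul_pow, (pow_eq_pow_iff_modEq.2 hi1).trans (pow_one x),
      (pow_eq_pow_iff_modEq.2 hi2).trans (pow_zero v), mul_one]
  · obtain ⟨i, hi1, hi2⟩ := Nat.chineseRemainder hcop 0 1
    refine mem_zpowers_iff.2 ⟨(i : ℤ), ?_⟩
    rw [zpow_natCast, hc.mul_pow, (pow_eq_pow_iff_modEq.2 hi1).trans (pow_zero x),
      (pow_eq_pow_iff_modEq.2 hi2).trans (pow_one v), one_mul]

/-- Uniqueness of the `π`-part. -/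
theorem pi_part_unique {π : Set ℕ} {x v y w : G} (hc : Commute x v) (hx : IsPiElt π x) (hv : IsPiElt πᶜ v)
    (hc' : Commute y w) (hy : IsPiElt π y) (hw : IsPiElt πᶜ w) (e : x * v = y * w) : x = y := by
  obtain ⟨h1, h2⟩ := pi_part_mem_zpowers hc hx hv
  obtain ⟨h3, h4⟩ := pi_part_mem_zpowers hc' hy hw
  rw [← e] at h3 h4
  have hcm : ∀ a ∈ zpowers (x * v), ∀ b ∈ zpowers (x * v), Commute a b := fun a ha b hb => by
    obtain ⟨i, rfl⟩ := ha; obtain ⟨j, rfl⟩ := hb; exact Commute.zpow_zpow (Commute.refl _) i j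
  have h5 : y⁻¹ * x = w * v⁻¹ := by
    rw [inv_mul_eq_iff_eq_mul, ← mul_assoc, eq_mul_inv_iff_mul_eq]
    exact e
  have hπ : IsPiElt π (y⁻¹ * x) := fun p hp hd => by
    rcases hp.dvd_mul.1 (hd.trans ((hcm _ h3 _ h1).inv_left.orderOf_mul_dvd_mul_orderOf)) with h | h
    · exact hy p hp (by rwa [orderOf_inv] at h)
    · exact hx p hp h
  have hπ' : IsPiElt πᶜ (w * v⁻¹) := fun p hp hd => by
    rcases hp.dvd_mul.1 (hd.trans ((hcm _ h4 _ h2).inv_right.orderOf_mul_dvd_mul_orderOf)) with h | h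
    · exact hw p hp h
    · exact hv p hp (by rwa [orderOf_inv] at h)
  have h6 : y⁻¹ * x = 1 := orderOf_eq_one_iff.1 (by
    by_contra hne
    obtain ⟨p, hp, hd⟩ := Nat.exists_prime_and_dvd hne
    exact hπ' p hp (h5 ▸ hd) (hπ p hp hd))
  exact (inv_mul_eq_one.1 h6).symm

/-- Congruent `π`-elements over a `π'`-group are conjugate by it. -/
theorem exists_conj_of_congr {π : Set ℕ} {D : Subgroup G} {x y : G} (hsol : Group.IsSolvable ↥(D ⊔ zpowers x))
    (hD : ∀ p : ℕ, p.Prime → p ∣ Nat.card D → p ∉ π) (hxD : x ∈ normalizer (D : Set G)) (hx : IsPiElt π x)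
    (hy : IsPiElt π y) (hxy : x⁻¹ * y ∈ D) : ∃ d ∈ D, d * x * d⁻¹ = y := by
  set W := D ⊔ zpowers x
  have hN : zpowers x ≤ normalizer (D : Set G) := zpowers_le.2 hxD
  have hbot : ∀ a : G, IsPiElt π a → D ⊓ zpowers a = ⊥ := fun a ha =>
    Grp.inf_eq_bot_of_coprime (Nat.coprime_of_dvd fun p hp h1 h2 => hD p hp h1 (ha p hp (Nat.card_zpowers a ▸ h2)))
  have hdec : ∀ w ∈ W, ∃ d ∈ D, ∃ u ∈ zpowers x, w = d * u := fun w hw => by
    rw [← SetLike.mem_coe, Subgroup.coe_mul_of_right_le_normalizer_left D _ hN] at hw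
    obtain ⟨d, hd, u, hu, e⟩ := hw
    exact ⟨d, hd, u, hu, e.symm⟩
  have hyW : y ∈ W := by
    have := W.mul_mem (mem_sup_right (mem_zpowers x) : x ∈ W) (mem_sup_left hxy : x⁻¹ * y ∈ W)
    rwa [mul_inv_cancel_left] at this
  have hW' : W = D ⊔ zpowers y := by
    refine le_antisymm (sup_le le_sup_left (zpowers_le.2 ?_)) (sup_le le_sup_left (zpowers_le.2 hyW))
    have h2 := (D ⊔ zpowers y).mul_mem (mem_sup_right (mem_zpowers y) : y ∈ D ⊔ zpowers y)
      ((D ⊔ zpowers y).inv_mem (mem_sup_left hxy : x⁻¹ * y ∈ D ⊔ zpowers y))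
    rwa [show y * (x⁻¹ * y)⁻¹ = x by group] at h2
  have hcW : Nat.card W = Nat.card D * orderOf x := by
    rw [← Nat.card_zpowers x]
    refine le_antisymm (Nat.le_of_dvd (Nat.mul_pos Nat.card_pos Nat.card_pos)
      (by rw [show W = zpowers x ⊔ D from sup_comm _ _, mul_comm]; exact Grp.card_sup_dvd_mul hN)) ?_
    exact Nat.le_of_dvd Nat.card_pos (Nat.Coprime.mul_dvd_of_dvd_of_dvd
      (Nat.coprime_of_dvd fun p hp h1 h2 => hD p hp h1 (hx p hp (Nat.card_zpowers x ▸ h2)))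
      (card_dvd_of_le le_sup_left) (card_dvd_of_le le_sup_right))
  have hHall : ∀ a : G, IsPiElt π a → a ∈ W → W = D ⊔ zpowers a →
      Cfsg.IsPiHallOf π (zpowers a) W := fun a ha haW hWa => by
    refine ⟨zpowers_le.2 haW, fun p hp hd => ha p hp (Nat.card_zpowers a ▸ hd), fun p hp hπ hd => hD p hp ?_ hπ⟩
    refine hd.trans (Nat.dvd_of_mul_dvd_mul_left (k := Nat.card (zpowers a)) Nat.card_pos ?_)
    rw [Grp.card_mul_relIndex (zpowers_le.2 haW), hWa, sup_comm]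
    have haN : zpowers a ≤ normalizer (D : Set G) :=
      (zpowers_le.2 haW).trans (sup_le le_normalizer hN)
    exact Grp.card_sup_dvd_mul haN
  haveI := hsol
  obtain ⟨w, hw, hwx⟩ := Grp.PiHall.conj_eq (hHall x hx (mem_sup_right (mem_zpowers x)) rfl) (hHall y hy hyW hW')
  obtain ⟨d, hd, u, hu, rfl⟩ := hdec w hw
  refine ⟨d, hd, ?_⟩
  rw [← Grp.conj_smul_conj_smul, Grp.conj_smul_eq_self_of_mem hu] at hwx
  have h1 : d * x * d⁻¹ ∈ zpowers y := hwx ▸ Subgroup.smul_mem_pointwise_smul x (MulAut.conj d) _ (mem_zpowers x)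
  have h2 : (d * x * d⁻¹) * y⁻¹ ∈ D := by
    have h3 : d * (x * d⁻¹ * x⁻¹) * (x * (x⁻¹ * y)⁻¹ * x⁻¹) ∈ D := D.mul_mem
      (D.mul_mem hd (Grp.mem_conj_normalizer hxD (D.inv_mem hd))) (Grp.mem_conj_normalizer hxD (D.inv_mem hxy))
    rwa [show d * (x * d⁻¹ * x⁻¹) * (x * (x⁻¹ * y)⁻¹ * x⁻¹) = d * x * d⁻¹ * y⁻¹ by group] at h3
  have h4 : (d * x * d⁻¹) * y⁻¹ ∈ D ⊓ zpowers y := ⟨h2, (zpowers y).mul_mem h1 ((zpowers y).inv_mem (mem_zpowers y))⟩
  rw [hbot y hy, mem_bot, mul_inv_eq_one] at h4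
  exact h4

/-- The elements `x v` counted at `M`. -/
def InSigmaCover (M : Subgroup G) (g : G) : Prop :=
  ∃ (h x v : G), x ∈ MulAut.conj h • Cfsg.sigmaCore M ∧ x ≠ 1 ∧ g = x * v ∧ Commute x v ∧
    IsPiElt (Cfsg.sigma M)ᶜ v ∧ (v = 1 ∨ ∃ (q : ℕ) (z : G) (L : Subgroup G), q.Prime ∧ q ∈ Cfsg.sigma M ∧
      z ∈ zpowers x ∧ orderOf z = q ∧ IsCoatom L ∧ normalizer (zpowers z : Set G) ≤ L ∧
      (∀ a : G, L ≠ MulAut.conj a • M) ∧ IsPiElt (Cfsg.sigma L) v)

theorem isPiElt_sigmaCore {M : Subgroup G} {h x : G} (hx : x ∈ MulAut.conj h • Cfsg.sigmaCore M) :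
    IsPiElt (Cfsg.sigma M) x := fun p hp hd => TransHyp.piCoreOf_primes (π := Cfsg.sigma M) (X := M) hp (by
  have h1 := hd.trans (Subgroup.orderOf_dvd_natCard _ hx)
  rwa [Grp.card_conj_smul] at h1)

variable (hG : Cfsg.IsMinSimpleOddOrder G) {M : Subgroup G} (hM : IsCoatom M)
include hG hM

/-- The conjugates of `M_σ` containing `x` are given by `σ(M)'`-elements centralising `x`. -/
theorem sigma_fibre {x : G} (hx : x ∈ Cfsg.sigmaCore M) (hx1 : x ≠ 1) :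
    ∀ h : G, x ∈ MulAut.conj h • Cfsg.sigmaCore M → ∃ v : G, MulAut.conj v • M = MulAut.conj h • M ∧
      InSigmaCover M (x * v) ∧ Commute x v ∧ IsPiElt (Cfsg.sigma M)ᶜ v := by
  intro h hxh
  have hxπ : IsPiElt (Cfsg.sigma M) x := isPiElt_sigmaCore (h := 1) (by rwa [map_one, one_smul])
  have hxM : x ∈ M := TransHyp.piCoreOf_le M hx
  have hxM' : x ∈ MulAut.conj h • M := smul_mono_right (MulAut.conj h) (TransHyp.piCoreOf_le M) hxh
  obtain ⟨q, hq, hqd⟩ := Nat.exists_prime_and_dvd (fun e => hx1 (orderOf_eq_one_iff.1 e))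
  haveI := Fact.mk hq
  obtain ⟨z₀, hz₀⟩ := exists_prime_orderOf_dvd_card' (G := zpowers x) q ((Nat.card_zpowers x).symm ▸ hqd)
  set z : G := (z₀ : G) with hz
  have hzo : orderOf z = q := by rw [hz, Subgroup.orderOf_coe, hz₀]
  set Z := zpowers z with hZ
  have hZc : Nat.card Z = q := by rw [hZ, Nat.card_zpowers, hzo]
  have hZx : Z ≤ zpowers x := zpowers_le.2 z₀.2
  have hqσ : q ∈ Cfsg.sigma M := hxπ q hq hqd
  have hZp : IsPGroup q Z := IsPGroup.of_card (n := 1) (hZc.trans (pow_one q).symm)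
  have hZ1 : Z ≠ ⊥ := fun e => hq.ne_one (by rw [← hZc, e, Subgroup.card_bot])
  have hZM : Z ≤ M := hZx.trans (zpowers_le.2 hxM)
  by_cases hC : centralizer (Z : Set G) ≤ M
  · have hhM := mem_of_sigma_le_conj hG hM hqσ hZp hZ1 hZM hC (hZx.trans (zpowers_le.2 hxM'))
    refine ⟨1, ?_, ⟨1, x, 1, by rwa [map_one, one_smul], hx1, rfl, Commute.one_right x,
      fun p hp hd => ?_, Or.inl rfl⟩, Commute.one_right x, fun p hp hd => ?_⟩
    · rw [map_one, one_smul, Grp.mem_normalizer_iff_smul.1 (le_normalizer hhM)]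
    all_goals rw [orderOf_one, Nat.dvd_one] at hd; exact absurd hd hp.ne_one
  haveI := solvable_of_ne_top hG hM.1
  obtain ⟨L, hL, hNL⟩ := exists_coatom_normalizer hG hZ1 fun e => hM.1 (top_le_iff.1 (e ▸ hZM))
  have hCL : centralizer (Z : Set G) ≤ L := (centralizer_le_normalizer _).trans hNL
  have hne : L ≠ M := fun e => hC (e ▸ hCL)
  haveI := solvable_of_ne_top hG hL.1
  haveI := isSolvable_of_le (inf_le_left : M ⊓ L ≤ M)
  obtain ⟨S, hS, hZS⟩ := exists_sylowIn_ge (le_inf hZM (le_normalizer.trans hNL) : Z ≤ M ⊓ L) hZp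
  obtain ⟨T, hT⟩ := Grp.isSylowIn_iff.1 hS
  obtain ⟨hnc, -, -⟩ := Cfsg.Agent.S1424.result hG M hM q hqσ Z hZp hZ1 hZM L hL hne hNL T (hT ▸ hZS)
  obtain ⟨N, hNle, hLN, hNσ, hLdec, hNL'⟩ := exists_cover hG hM hqσ hZp hZ1 hZM hL hne hNL
  obtain ⟨c, hc, hcM⟩ := sigma_trans hG hM hqσ hZp (g := 1) (h := h) (by rwa [map_one, one_smul])
    (hZx.trans (zpowers_le.2 hxM'))
  rw [map_one, one_smul] at hcM
  have hcL := hLdec (hCL hc)
  rw [← SetLike.mem_coe, Subgroup.coe_mul_of_right_le_normalizer_left N _ (inf_le_right.trans hLN)] at hcL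
  obtain ⟨n, hn, m, hm, rfl⟩ := hcL
  rw [← Grp.conj_smul_conj_smul, Grp.mem_normalizer_iff_smul.1 (le_normalizer hm.1)] at hcM
  have hxC : ∀ a : G, Commute x a → a ∈ L := fun a ha => hCL (mem_centralizer_iff.2 fun w hw => by
    obtain ⟨i, rfl⟩ := hZx hw
    exact (ha.zpow_left i).eq)
  have hxL : x ∈ L := hxC x (Commute.refl x)
  have hxN : x ∈ normalizer (N : Set G) := hLN hxL
  set y := n⁻¹ * x * n with hy
  have hyM : y ∈ M := by
    obtain ⟨b, hb, e⟩ : x ∈ MulAut.conj n • M := hcM.symm ▸ hxM'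
    have e' : n * b * n⁻¹ = x := e
    rwa [hy, ← e', show n⁻¹ * (n * b * n⁻¹) * n = b by group]
  have hxy : x⁻¹ * y ∈ N ⊓ M := ⟨by
    rw [hy, show x⁻¹ * (n⁻¹ * x * n) = (x⁻¹ * n⁻¹ * x) * n by group]
    exact N.mul_mem (Grp.mem_conj_normalizer' hxN (N.inv_mem hn)) hn, M.mul_mem (M.inv_mem hxM) hyM⟩
  haveI : Group.IsSolvable ↥((N ⊓ M) ⊔ zpowers x) := isSolvable_of_le (sup_le inf_le_right (zpowers_le.2 hxM))
  obtain ⟨d, hd, hdx⟩ := exists_conj_of_congr (π := Cfsg.sigma M) (D := N ⊓ M) (x := x) (y := y) ‹_›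
    (fun p hp hd => hNσ p hp (hd.trans (card_dvd_of_le inf_le_left)))
    ((Grp.le_normalizer_inf' (zpowers_le.2 hxN) ((zpowers_le.2 hxM).trans le_normalizer)) (mem_zpowers x))
    hxπ (fun p hp hd => hxπ p hp (by
      have e : y = MulAut.conj n⁻¹ x := by rw [MulAut.conj_apply, hy]; group
      rw [e, MulEquiv.orderOf_eq] at hd
      exact hd)) hxy
  set v := n * d with hv
  have hvN : v ∈ N := N.mul_mem hn hd.1
  have hcomm : Commute x v := by
    have h5 : v * x * v⁻¹ = x := by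
      rw [hv, show n * d * x * (n * d)⁻¹ = n * (d * x * d⁻¹) * n⁻¹ by group, hdx, hy]; group
    exact (mul_inv_eq_iff_eq_mul.1 h5).symm
  have hvπ : IsPiElt (Cfsg.sigma M)ᶜ v := fun p hp hd' => hNσ p hp (hd'.trans (Subgroup.orderOf_dvd_natCard _ hvN))
  refine ⟨v, ?_, ⟨1, x, v, by rwa [map_one, one_smul], hx1, rfl, hcomm, hvπ, Or.inr
    ⟨q, z, L, hq, hqσ, z₀.2, hzo, hL, hNL, hnc, fun p hp hd' => (hNL' p hp (hd'.trans (Subgroup.orderOf_dvd_natCard _ hvN))).1⟩⟩,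
    hcomm, hvπ⟩
  rw [hv, ← Grp.conj_smul_conj_smul, Grp.mem_normalizer_iff_smul.1 (le_normalizer hd.2), hcM]

omit hM in
/-- The cover is closed under conjugation. -/
theorem inSigmaCover_conj {g : G} (hg : InSigmaCover M g) (c : G) : InSigmaCover M (c * g * c⁻¹) := by
  obtain ⟨h, x, v, hx, hx1, rfl, hc, hv, hor⟩ := hg
  refine ⟨c * h, c * x * c⁻¹, c * v * c⁻¹, ?_, fun e => hx1 (conj_eq_one_iff.1 e), conj_mul.symm, ?_,
    fun p hp hd => hv p hp ?_, hor.imp (fun e => by rw [e, mul_one, mul_inv_cancel]) ?_⟩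
  · rw [← Grp.conj_smul_conj_smul]
    exact ⟨x, hx, rfl⟩
  · exact hc.map (MulAut.conj c).toMonoidHom
  · rwa [show c * v * c⁻¹ = MulAut.conj c v from rfl, MulEquiv.orderOf_eq] at hd
  · rintro ⟨q, z, L, hq, hqσ, hz, hzo, hL, hNL, hnc, hvL⟩
    refine ⟨q, MulAut.conj c z, MulAut.conj c • L, hq, hqσ, ?_, by rw [MulEquiv.orderOf_eq, hzo],
      isCoatom_conj hG hL c, ?_, fun a e => hnc (c⁻¹ * a) ?_, fun p hp hd => ?_⟩
    · obtain ⟨i, rfl⟩ := hz
      exact ⟨i, (map_zpow (MulAut.conj c) x i).symm⟩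
    · rw [show zpowers (MulAut.conj c z) = MulAut.conj c • zpowers z from
        (MonoidHom.map_zpowers (MulAut.conj c).toMonoidHom z).symm]
      intro w hw
      refine ⟨c⁻¹ * w * c, hNL ?_, by show MulAut.conj c (c⁻¹ * w * c) = w; rw [MulAut.conj_apply]; group⟩
      show c⁻¹ * w * c ∈ normalizer (zpowers z : Set G)
      rw [Grp.mem_normalizer_iff_smul]
      have hw' : MulAut.conj w • (MulAut.conj c • zpowers z) = MulAut.conj c • zpowers z :=
        Grp.mem_normalizer_iff_smul.1 hw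
      rw [mul_assoc, ← Grp.conj_smul_conj_smul, ← Grp.conj_smul_conj_smul, hw', Grp.conj_smul_conj_smul,
        inv_mul_cancel, map_one, one_smul]
    · rw [← Grp.conj_smul_conj_smul, ← e, Grp.conj_smul_conj_smul, inv_mul_cancel, map_one, one_smul]
    · rw [show c * v * c⁻¹ = MulAut.conj c v from rfl, MulEquiv.orderOf_eq] at hd
      exact sigma_smul hG hL (hvL p hp hd) c

/-- Fibres over any element of a conjugate of `M_σ`. -/
theorem sigma_fibre' {x : G} (hx1 : x ≠ 1) (hex : ∃ h₀ : G, x ∈ MulAut.conj h₀ • Cfsg.sigmaCore M) :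
    ∃ h₀ : G, ∀ h : G, x ∈ MulAut.conj h • Cfsg.sigmaCore M → ∃ v : G,
      MulAut.conj v • (MulAut.conj h₀ • M) = MulAut.conj h • M ∧ InSigmaCover M (x * v) ∧ Commute x v ∧
        IsPiElt (Cfsg.sigma M)ᶜ v := by
  obtain ⟨h₀, y, hy, rfl⟩ := hex
  refine ⟨h₀, fun h hh => ?_⟩
  replace hh : h₀ * y * h₀⁻¹ ∈ MulAut.conj h • Cfsg.sigmaCore M := hh
  have hy1 : y ≠ 1 := fun e => hx1 (by rw [e]; exact map_one _)
  have hyh : y ∈ MulAut.conj (h₀⁻¹ * h) • Cfsg.sigmaCore M := by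
    obtain ⟨b, hb, e⟩ := hh
    have e' : h * b * h⁻¹ = h₀ * y * h₀⁻¹ := e
    refine ⟨b, hb, ?_⟩
    show MulAut.conj (h₀⁻¹ * h) b = y
    rw [MulAut.conj_apply, show h₀⁻¹ * h * b * (h₀⁻¹ * h)⁻¹ = h₀⁻¹ * (h * b * h⁻¹) * h₀ by group, e']
    group
  obtain ⟨v, hv, hcov, hc, hπ⟩ := sigma_fibre hG hM hy hy1 (h₀⁻¹ * h) hyh
  refine ⟨h₀ * v * h₀⁻¹, ?_, ?_, hc.map (MulAut.conj h₀).toMonoidHom, fun p hp hd => hπ p hp ?_⟩
  · rw [Grp.conj_smul_conj_smul, inv_mul_cancel_right, ← Grp.conj_smul_conj_smul, hv, Grp.conj_smul_conj_smul,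
      mul_inv_cancel_left]
  · show InSigmaCover M (MulAut.conj h₀ y * MulAut.conj h₀ v)
    rw [← map_mul]
    exact inSigmaCover_conj hG hcov h₀
  · rwa [show h₀ * v * h₀⁻¹ = MulAut.conj h₀ v from rfl, MulEquiv.orderOf_eq] at hd

/-- The lower bound. -/
theorem sigma_count : (Nat.card (Cfsg.sigmaCore M) - 1) * M.index ≤ Nat.card {g : G // InSigmaCover M g} := by
  classical
  letI : Fintype (Cfsg.sigmaCore M) := Fintype.ofFinite _
  let D := (G ⧸ M) × {y : Cfsg.sigmaCore M // y ≠ 1}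
  have hD : Nat.card D = (Nat.card (Cfsg.sigmaCore M) - 1) * M.index := by
    rw [show D = ((G ⧸ M) × {y : Cfsg.sigmaCore M // y ≠ 1}) from rfl, Nat.card_prod, Subgroup.index_eq_card,
      mul_comm]
    congr 1
    simp [Nat.card_eq_fintype_card, Fintype.card_subtype_compl]
  let X : D → G := fun d => MulAut.conj d.1.out (d.2.1 : G)
  have hXm : ∀ d, X d ∈ MulAut.conj d.1.out • Cfsg.sigmaCore M := fun d => ⟨_, d.2.1.2, rfl⟩
  have hX1 : ∀ d, X d ≠ 1 := fun d e =>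
    d.2.2 (Subtype.ext ((MulAut.conj d.1.out).injective (e.trans (map_one _).symm)))
  let P : G → G → Prop := fun x h₀ => ∀ h : G, x ∈ MulAut.conj h • Cfsg.sigmaCore M → ∃ v : G,
      MulAut.conj v • (MulAut.conj h₀ • M) = MulAut.conj h • M ∧ InSigmaCover M (x * v) ∧ Commute x v ∧
        IsPiElt (Cfsg.sigma M)ᶜ v
  let H₀ : G → G := fun x => if he : ∃ h₀, P x h₀ then he.choose else 1
  have hH₀ : ∀ d, P (X d) (H₀ (X d)) := fun d => by
    have he : ∃ h₀, P (X d) h₀ := sigma_fibre' hG hM (hX1 d) ⟨_, hXm d⟩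
    show P (X d) (dite _ _ _)
    rw [dif_pos he]
    exact he.choose_spec
  choose V hV1 hV2 hV3 hV4 using fun d => hH₀ d _ (hXm d)
  have hinj : Function.Injective (fun d => (⟨X d * V d, hV2 d⟩ : {g : G // InSigmaCover M g})) := by
    intro d e hde
    have h1 : X d * V d = X e * V e := congrArg Subtype.val hde
    have hx : X d = X e := pi_part_unique (hV3 d) (isPiElt_sigmaCore (hXm d)) (hV4 d) (hV3 e)
      (isPiElt_sigmaCore (hXm e)) (hV4 e) h1
    have hv : V d = V e := mul_left_cancel (h1.trans (by rw [hx]))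
    have hc : MulAut.conj d.1.out • M = MulAut.conj e.1.out • M := by rw [← hV1 d, ← hV1 e, hx, hv]
    have hm : d.1.out⁻¹ * e.1.out ∈ M := mem_of_conj_smul_eq hG hM (by
      rw [← Grp.conj_smul_conj_smul, ← hc, Grp.conj_smul_conj_smul, inv_mul_cancel, map_one, one_smul])
    have h2 : d.1 = e.1 := by
      rw [← QuotientGroup.out_eq' d.1, ← QuotientGroup.out_eq' e.1]
      exact QuotientGroup.eq.2 hm
    refine Prod.ext h2 (Subtype.ext (Subtype.ext ((MulAut.conj d.1.out).injective ?_)))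
    show X d = MulAut.conj d.1.out (e.2.1 : G)
    rw [hx, h2]
  rw [← hD]
  exact Nat.card_le_card_of_injective _ hinj

end Cfsg.Agent.Transfer.Loc

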