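import Cfsg.Agent.Lib.Transfer.Local.KappaPartner
import Cfsg.Agent.Lib.Transfer.Local.SigmaCount

/-!
Some partner of a product `Z = K × K*` has a nontrivial `κ'`-part.
-/

set_option autoImplicit false
set_option linter.style.haveILetI false
set_option linter.unusedSectionVars false
set_option maxHeartbeats 1000000

namespace Cfsg.Agent.Transfer.Loc

open Subgroup
open scoped commutatorElement Pointwise

universe u

variable {G : Type u} [Group G] [Finite G]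

/-- Every `σ(M)'`-prime of `M` is in `κ(M)`. -/
def IsKappaFull (M : Subgroup G) : Prop :=
  ∀ p : ℕ, p.Prime → p ∣ Nat.card M → p ∉ Cfsg.sigma M → p ∈ Cfsg.kappa M

/-- The mixed elements of `Z`. -/
def InT (Z : Subgroup G) (g : G) : Prop :=
  g ∈ Z ∧ ∀ H : Subgroup G, ZPartner Z H → g ∉ Cfsg.sigmaCore H

variable (hG : Cfsg.IsMinSimpleOddOrder G) {M : Subgroup G} (hM : IsCoatom M)
include hG hM

/-- A `σ(M)`-element of `M` lies in `M_σ`. -/
theorem mem_sigmaCore_of_pi {x : G} (hx : x ∈ M) (hπ : IsPiElt (Cfsg.sigma M) x) : x ∈ Cfsg.sigmaCore M := by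
  haveI := solvable_of_ne_top hG hM.1
  refine ((Grp.le_of_forall_sylow (inf_le_left : zpowers x ⊓ Cfsg.sigmaCore M ≤ zpowers x) fun q hq => ?_).trans
    inf_le_right) (mem_zpowers x)
  obtain ⟨T, hT⟩ := Grp.exists_isSylowIn q (zpowers x)
  refine ⟨T, hT, le_inf hT.1 ?_⟩
  rcases eq_or_ne T ⊥ with h0 | h0
  · rw [h0]; exact bot_le
  obtain ⟨S, hS, hTS⟩ := exists_sylowIn_ge (hT.1.trans (zpowers_le.2 hx)) hT.2.1
  exact hTS.trans (sylow_le_piCore hG hM (alpha_subset_sigma hG hM) le_rfl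
    (hπ q hq.out (Nat.card_zpowers x ▸ (dvd_card_of_pGroup hT.2.1 h0).trans (card_dvd_of_le hT.1))) hS)

/-- In a full subgroup the `σ'`-primes have rank one and the order splits. -/
theorem kappaFull_facts (hfull : IsKappaFull M) :
    (∀ p : ℕ, ∀ [Fact p.Prime], p ∉ Cfsg.sigma M → Cfsg.PRankLE p 1 M) ∧
      ∀ K : Subgroup G, Cfsg.IsPiHallOf (Cfsg.kappa M) K M →
        Nat.card K * Nat.card (Cfsg.sigmaCore M) = Nat.card M := by
  refine ⟨fun p _ hσ => ?_, fun K hK => ?_⟩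
  · by_contra h
    exact (tau2_of_not_rank_one hG hM hσ h).2.2.2
      (kappa_rank_one hG hM (hfull p Fact.out (dvd_of_not_prank h) hσ))
  obtain ⟨E, hE, hKE⟩ := kappa_compl hG hM hK
  have hKE' : E = K := by
    refine (le_antisymm hKE (Grp.le_of_forall_sylow hKE fun p hp => ?_)).symm
    by_cases hd : p ∣ Nat.card E
    · obtain ⟨T, hT⟩ := Grp.exists_isSylowIn p K
      refine ⟨T, ⟨hT.1.trans hKE, hT.2.1, fun hd' => ?_⟩, hT.1⟩
      rw [← Subgroup.relIndex_mul_relIndex T K E hT.1 hKE] at hd'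
      exact (hp.out.dvd_mul.1 hd').elim hT.2.2 fun h => (kappa_hall_compl hG hM hE hK hKE).2.2 p hp.out
        (hfull p hp.out (hd.trans (card_dvd_of_le hE.1)) (compl_prime hG hM hE hp.out hd)) h
    · exact ⟨⊥, ⟨bot_le, IsPGroup.of_bot, by rwa [Subgroup.relIndex_bot_left]⟩, bot_le⟩
  rw [← hKE']
  exact compl_card hE

omit hM in
/-- The covers of nonconjugate full subgroups are disjoint. -/
theorem cover_disjoint {M₁ M₂ : Subgroup G} (h₁ : IsCoatom M₁) (h₂ : IsCoatom M₂)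
    (hnc : ∀ a : G, M₂ ≠ MulAut.conj a • M₁) (hκ₁ : (Cfsg.kappa M₁).Nonempty) (hκ₂ : (Cfsg.kappa M₂).Nonempty)
    (hf₂ : IsKappaFull M₂) {g : G} (hg₁ : InSigmaCover M₁ g) (hg₂ : InSigmaCover M₂ g) : False := by
  obtain ⟨a, x, v, hx, hx1, rfl, hc, hv, hor⟩ := hg₁
  obtain ⟨b, y, w, hy, hy1, e, hc', hw, hor'⟩ := hg₂
  obtain ⟨hxz, hvz⟩ := pi_part_mem_zpowers hc (isPiElt_sigmaCore hx) hv
  obtain ⟨hyz, -⟩ := pi_part_mem_zpowers hc' (isPiElt_sigmaCore hy) hw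
  rw [← e] at hyz
  have hdisj : ∀ p : ℕ, p.Prime → p ∈ Cfsg.sigma M₁ → p ∉ Cfsg.sigma M₂ := fun p hp hσ => by
    haveI := Fact.mk hp
    exact kappa_sigma_disjoint hG h₁ h₂ hnc hκ₁ hσ
  obtain ⟨s, hs, hsd⟩ := Nat.exists_prime_and_dvd (fun h => hy1 (orderOf_eq_one_iff.1 h))
  haveI := Fact.mk hs
  have hsσ : s ∈ Cfsg.sigma M₂ := isPiElt_sigmaCore hy s hs hsd
  have hsg : s ∣ orderOf (x * v) := hsd.trans (orderOf_dvd_of_mem_zpowers hyz)
  have hsv : s ∣ orderOf v := ((Fact.out (p := s.Prime)).dvd_mul.1 (hsg.trans hc.orderOf_mul_dvd_mul_orderOf)).resolve_left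
    fun h => hdisj s hs (isPiElt_sigmaCore hx s hs h) hsσ
  rcases hor with rfl | ⟨q, z, L, hq, hqσ, hz, hzo, hL, hNL, hncL, hvL⟩
  · rw [orderOf_one, Nat.dvd_one] at hsv; exact hs.ne_one hsv
  haveI := Fact.mk hq
  have hsL := hvL s hs hsv
  obtain ⟨c, hcL⟩ : ∃ c : G, L = MulAut.conj c • M₂ := by
    by_contra hno
    push Not at hno
    exact kappa_sigma_disjoint hG h₂ hL hno hκ₂ hsσ hsL
  have hqL : q ∉ Cfsg.sigma L := fun h => hdisj q hq hqσ (by
    have h' := sigma_smul hG hL h c⁻¹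
    rwa [hcL, Grp.conj_smul_conj_smul, inv_mul_cancel, map_one, one_smul] at h')
  have hZc : Nat.card (zpowers z) = q := by rw [Nat.card_zpowers, hzo]
  have hZx : zpowers z ≤ zpowers x := zpowers_le.2 hz
  have hvC : v ∈ centralizer (zpowers z : Set G) := mem_centralizer_iff.2 fun u hu => by
    obtain ⟨i, rfl⟩ := hZx hu
    exact (hc.zpow_left i).eq
  have hZL : zpowers z ≤ L := le_normalizer.trans hNL
  haveI := solvable_of_ne_top hG hL.1
  obtain ⟨u, hu⟩ := exists_prime_orderOf_dvd_card' (G := zpowers v) s ((Nat.card_zpowers v).symm ▸ hsv)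
  have huo : orderOf (u : G) = s := by rw [Subgroup.orderOf_coe, hu]
  have huC : (u : G) ∈ centralizer (zpowers z : Set G) := (zpowers_le.2 hvC) u.2
  have huσ : (u : G) ∈ Cfsg.sigmaCore L := mem_sigmaCore_of_pi hG hL
    (((centralizer_le_normalizer _).trans hNL) huC)
    fun p hp hd => by rw [huo, Nat.prime_dvd_prime_iff_eq hp hs] at hd; exact hd ▸ hsL
  have hfix : Cfsg.sigmaCore L ⊓ centralizer (zpowers z : Set G) ≠ ⊥ := fun h => hs.ne_one (by
    have h1 : (u : G) ∈ Cfsg.sigmaCore L ⊓ centralizer (zpowers z : Set G) := ⟨huσ, huC⟩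
    rw [h, mem_bot] at h1
    rw [← huo, h1, orderOf_one])
  have hr1 : Cfsg.PRankLE q 1 L := by
    have hq₂ : q ∉ Cfsg.sigma M₂ := hdisj q hq hqσ
    have h1 := (kappaFull_facts hG h₂ hf₂).1 q hq₂
    rw [hcL]
    exact prankLE_equiv (M₂.equivMapOfInjective _ (MulAut.conj c).injective) h1
  exact hqL (kappa_sigma_over hG hL (kappa_of_fixed hG hL hqL hr1 hZL hZc hfix) hZL hZc hL hNL)

omit hM in
/-- The covers avoid the mixed elements. -/
theorem cover_not_T {Z H : Subgroup G} {z : G} {H₀ : Subgroup G} (hZ : ZPartner Z H₀) (hH : IsCoatom H)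
    (hz : InT Z z) (hg : InSigmaCover H z) : False := by
  obtain ⟨a, x, v, hx, hx1, rfl, hc, hv, hor⟩ := hg
  obtain ⟨hxz, -⟩ := pi_part_mem_zpowers hc (isPiElt_sigmaCore hx) hv
  have hxZ : x ∈ Z := (zpowers_le.2 hz.1) hxz
  obtain ⟨q, hq, hqd⟩ := Nat.exists_prime_and_dvd (fun h => hx1 (orderOf_eq_one_iff.1 h))
  haveI := Fact.mk hq
  obtain ⟨H₁, hH₁, hqσ₁⟩ := zpartner_cover hG hZ (hqd.trans (Subgroup.orderOf_dvd_natCard _ hxZ))
  have hH₁' := hH₁
  obtain ⟨hH₁c, K, hK, hK1, e⟩ := hH₁'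
  obtain ⟨k, hk, hk1⟩ := (bot_or_exists_ne_one K).resolve_left hK1
  obtain ⟨r, _, w, hw, -, hwc, -⟩ := exists_prime_zpowers_le hk1
  have hRK : zpowers w ≤ K := zpowers_le.2 ((zpowers_le.2 hk) hw)
  have hrκ : r ∈ Cfsg.kappa H₁ := hK.2.1 r Fact.out (hwc ▸ card_dvd_of_le hRK)
  obtain ⟨hle, -, hmeet, -, -⟩ := kStar_facts hG hH₁c hK
  obtain ⟨c, hcH⟩ : ∃ c : G, H = MulAut.conj c • H₁ := by
    by_contra hno
    push Not at hno
    exact kappa_sigma_disjoint hG hH₁c hH hno ⟨r, hrκ⟩ hqσ₁ (isPiElt_sigmaCore hx q hq hqd)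
  have hxσ : x ∈ Cfsg.sigmaCore H₁ := mem_sigmaCore_of_pi hG hH₁c (hle (e.ge hxZ)) fun p hp hd => by
    have h' := sigma_smul hG hH (isPiElt_sigmaCore hx p hp hd) c⁻¹
    rwa [hcH, Grp.conj_smul_conj_smul, inv_mul_cancel, map_one, one_smul] at h'
  rcases hor with rfl | ⟨q', z', L, hq', -, hz', hzo, hL, hNL, hncL, -⟩
  · exact hz.2 H₁ hH₁ (by rwa [mul_one])
  haveI := Fact.mk hq'
  have hxs : x ∈ kStar H₁ K := hmeet ▸ ⟨e.ge hxZ, hxσ⟩
  have hu := kappa_fixed_unique hG hH₁c hrκ (hRK.trans hK.1) hwc (Z := zpowers z') (t := q')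
    (by rw [Nat.card_zpowers, hzo])
    ((zpowers_le.2 ((zpowers_le.2 hxs) hz')).trans (inf_le_inf_left _ (centralizer_le hRK)))
  refine hncL c⁻¹ ?_
  rw [hcH, Grp.conj_smul_conj_smul, inv_mul_cancel, map_one, one_smul]
  exact hu.2 L hL ((centralizer_le_normalizer _).trans hNL)

omit hM in
/-- The mixed elements form a trivial intersection set with normaliser `Z`. -/
theorem inT_ti {Z H₀ : Subgroup G} (hZ : ZPartner Z H₀) {z c : G} (hz : InT Z z) (hcz : c * z * c⁻¹ ∈ Z) :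
    c ∈ Z := by
  have hz1 : z ≠ 1 := fun e => hz.2 H₀ hZ (e ▸ one_mem _)
  obtain ⟨p, hp, hpd⟩ := Nat.exists_prime_and_dvd (fun h => hz1 (orderOf_eq_one_iff.1 h))
  haveI := Fact.mk hp
  obtain ⟨H, hH', hpσ⟩ := zpartner_cover hG hZ (hpd.trans (Subgroup.orderOf_dvd_natCard _ hz.1))
  have hH'' := hH'
  obtain ⟨hH, K, hK, hK1, e⟩ := hH''
  obtain ⟨hle, hKc, hmeet, hcop, -⟩ := kStar_facts hG hH hK
  obtain ⟨x, w, hxz, hwz, hxw, hxπ, hwπ⟩ := exists_pi_parts (Cfsg.sigma H) z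
  have hx1 : x ≠ 1 := fun h => by
    rw [h, one_mul] at hxw
    exact hwπ p hp (hxw ▸ hpd) hpσ
  have hxZ : x ∈ Z := (zpowers_le.2 hz.1) hxz
  have hwZ : w ∈ Z := (zpowers_le.2 hz.1) hwz
  have hconjZ : ∀ u ∈ zpowers z, c * u * c⁻¹ ∈ Z := by
    rintro _ ⟨i, rfl⟩
    show c * z ^ i * c⁻¹ ∈ Z
    rw [← conj_zpow]
    exact Z.zpow_mem hcz i
  have hcord : ∀ (π : Set ℕ) (u : G), IsPiElt π u → IsPiElt π (c * u * c⁻¹) := fun π u hu q hq hd => by
    rw [show c * u * c⁻¹ = MulAut.conj c u from rfl, MulEquiv.orderOf_eq] at hd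
    exact hu q hq hd
  have hstar : ∀ u ∈ Z, IsPiElt (Cfsg.sigma H) u → u ∈ kStar H K := fun u hu hπ =>
    hmeet ▸ ⟨e.ge hu, mem_sigmaCore_of_pi hG hH (hle (e.ge hu)) hπ⟩
  have hinK : ∀ u ∈ Z, IsPiElt (Cfsg.sigma H)ᶜ u → u ∈ K := fun u hu hπ => by
    have hu' : u ∈ K ⊔ kStar H K := e.ge hu
    rw [← SetLike.mem_coe, Subgroup.coe_mul_of_left_le_normalizer_right K _
      (hKc.trans (centralizer_le_normalizer _))] at hu'
    obtain ⟨k, hk, y, hy, rfl⟩ := hu'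
    have hcy : Commute y k := mem_centralizer_iff.1 (hKc hk) y hy
    have hy1 : y = 1 := (pi_part_unique (Commute.one_left (k * y))
      (fun q hq hd => by rw [orderOf_one, Nat.dvd_one] at hd; exact absurd hd hq.ne_one) hπ hcy
      (fun q hq hd => TransHyp.piCoreOf_primes (π := Cfsg.sigma H) (X := H) hq
        (hd.trans (Subgroup.orderOf_dvd_natCard _ hy.1)))
      (fun q hq hd => (hK.2.1 q hq (hd.trans (Subgroup.orderOf_dvd_natCard _ hk))).2.2.1)
      (by rw [one_mul]; exact hcy.eq.symm)).symm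
    show k * y ∈ K
    rwa [hy1, mul_one]
  obtain ⟨t, _, u, hu, huo, huc, -⟩ := exists_prime_zpowers_le hx1
  have hxs : x ∈ kStar H K := hstar x hxZ hxπ
  obtain ⟨k, hk, hk1⟩ := (bot_or_exists_ne_one K).resolve_left hK1
  obtain ⟨r, _, v, hv, -, hvc, -⟩ := exists_prime_zpowers_le hk1
  have hRK : zpowers v ≤ K := zpowers_le.2 ((zpowers_le.2 hk) hv)
  have hUs : zpowers u ≤ kStar H K := zpowers_le.2 ((zpowers_le.2 hxs) hu)
  have hC := (kappa_fixed_unique hG hH (hK.2.1 r Fact.out (hvc ▸ card_dvd_of_le hRK)) (hRK.trans hK.1) hvc huc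
    (hUs.trans (inf_le_inf_left _ (centralizer_le hRK)))).1
  have hcH : c⁻¹ ∈ H := by
    refine mem_of_sigma_le_conj hG hH (TransHyp.piCoreOf_primes (π := Cfsg.sigma H) (X := H) Fact.out
      (huc ▸ card_dvd_of_le (hUs.trans inf_le_left))) (IsPGroup.of_card (n := 1) (huc.trans (pow_one t).symm))
      (fun e' => (Fact.out (p := t.Prime)).ne_one (by rw [← huc, e', Subgroup.card_bot]))
      (hUs.trans (inf_le_left.trans (TransHyp.piCoreOf_le H))) hC (zpowers_le.2 ?_)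
    refine ⟨c * u * c⁻¹, hle (e.ge (hconjZ u ((zpowers_le.2 hxz) hu))), ?_⟩
    show MulAut.conj c⁻¹ (c * u * c⁻¹) = u
    rw [MulAut.conj_apply]; group
  have hcH' : c ∈ H := by simpa using H.inv_mem hcH
  by_contra hc
  have hw1 : w ≠ 1 := fun h => hz.2 H hH' (by rw [← hxw, h, mul_one]; exact hxs.1)
  have h2 := (Cfsg.Agent.S1431.result hG H hH K hK hK1).2.1 c hcH' fun h => hc (e.le h)
  have h3 : c * w * c⁻¹ ∈ K ⊓ K.map (MulAut.conj c).toMonoidHom :=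
    ⟨hinK _ (hconjZ w hwz) (hcord _ w hwπ), w, hinK w hwZ hwπ, rfl⟩
  rw [h2, mem_bot, conj_eq_one_iff] at h3
  exact hw1 h3

end Cfsg.Agent.Transfer.Loc
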