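import Cfsg.Agent.Lib.Transfer.Local.Support
import Cfsg.Agent.Lib.Transfer.Local.KappaSets

/-!
The sets `tildeOf M (M_σ \ 1)`: structure, count and disjointness.
-/

set_option autoImplicit false
set_option linter.style.haveILetI false
set_option linter.unusedSectionVars false
set_option maxHeartbeats 1000000

namespace Cfsg.Agent.Transfer.Loc

open Subgroup
open scoped commutatorElement Pointwise

universe u

variable {G : Type u} [Group G] [Finite G]

/-- `r` is in `R(a)`. -/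
def InR (M : Subgroup G) (a r : G) : Prop :=
  r = 1 ∨ ∃ N : Subgroup G, Support M N a ∧ r ∈ Cfsg.sigmaCore N ⊓ centralizer ({a} : Set G)

variable (hG : Cfsg.IsMinSimpleOddOrder G) {M : Subgroup G} (hM : IsCoatom M)
include hG hM

theorem sigma_smul_iff {p : ℕ} (g : G) : p ∈ Cfsg.sigma (MulAut.conj g • M) ↔ p ∈ Cfsg.sigma M := by
  refine ⟨fun h => ?_, fun h => sigma_smul hG hM h g⟩
  have h' := sigma_smul hG (isCoatom_conj hG hM g) h g⁻¹
  rwa [Grp.conj_smul_conj_smul, inv_mul_cancel, map_one, one_smul] at h'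

theorem smul_sigmaCore (g : G) : MulAut.conj g • Cfsg.sigmaCore M = Cfsg.sigmaCore (MulAut.conj g • M) := by
  have key : ∀ (L : Subgroup G), IsCoatom L → ∀ c : G,
      MulAut.conj c • Cfsg.sigmaCore L ≤ Cfsg.sigmaCore (MulAut.conj c • L) := by
    intro L hL c
    refine TransHyp.le_piCoreOf (smul_mono_right _ (TransHyp.piCoreOf_le L)) ?_ fun p hp hd =>
      sigma_smul hG hL (TransHyp.piCoreOf_primes (π := Cfsg.sigma L) (X := L) hp (by rwa [Grp.card_conj_smul] at hd)) c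
    rintro _ ⟨m, hm, rfl⟩
    rw [Grp.mem_normalizer_iff_smul]
    show MulAut.conj (c * m * c⁻¹) • MulAut.conj c • Cfsg.sigmaCore L = MulAut.conj c • Cfsg.sigmaCore L
    rw [Grp.conj_smul_conj_smul, inv_mul_cancel_right, ← Grp.conj_smul_conj_smul,
      Grp.mem_normalizer_iff_smul.1 (show m ∈ normalizer (Cfsg.sigmaCore L : Set G) from TransHyp.le_normalizer_piCoreOf L hm)]
  refine le_antisymm (key M hM g) ?_
  have h := smul_mono_right (MulAut.conj g) (key _ (isCoatom_conj hG hM g) g⁻¹)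
  rwa [Grp.conj_smul_conj_smul g g⁻¹, mul_inv_cancel, map_one, one_smul, Grp.conj_smul_conj_smul, inv_mul_cancel, map_one, one_smul] at h

theorem Support.conj {N : Subgroup G} {x : G} (h : Support M N x) (g : G) :
    Support (MulAut.conj g • M) (MulAut.conj g • N) (g * x * g⁻¹) := by
  have hcen : ∀ c : G, c ∈ centralizer ({g * x * g⁻¹} : Set G) → g⁻¹ * c * g ∈ centralizer ({x} : Set G) := by
    intro c hc
    rw [mem_centralizer_singleton_iff] at hc ⊢
    calc g⁻¹ * c * g * x = g⁻¹ * (c * (g * x * g⁻¹)) * g := by group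
      _ = g⁻¹ * (g * x * g⁻¹ * c) * g := by rw [hc]
      _ = x * (g⁻¹ * c * g) := by group
  have hcore := smul_sigmaCore hG h.hN g
  have hnil : Group.IsNilpotent (Cfsg.sigmaCore (MulAut.conj g • N)) := by
    rw [← hcore]
    haveI := h.nil
    exact Group.nilpotent_of_mulEquiv ((Cfsg.sigmaCore N).equivMapOfInjective _ (MulAut.conj g).injective)
  refine ⟨isCoatom_conj hG h.hN g, fun e => h.ne ?_, fun a e => h.nconj (g⁻¹ * a * g) ?_, fun c hc => ?_,
    ⟨?_, ?_, ?_, fun m hm => ?_⟩, hnil, fittingHallOf_eq_sigmaCore hG (isCoatom_conj hG h.hN g) hnil, fun c hc => ?_⟩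
  · exact (Subgroup.map_injective (MulAut.conj g).injective) e
  · rw [← Grp.conj_smul_conj_smul (g⁻¹ * a) g, ← Grp.conj_smul_conj_smul g⁻¹ a, ← e,
      Grp.conj_smul_conj_smul, inv_mul_cancel, map_one, one_smul]
  · refine ⟨g⁻¹ * c * g, h.le (hcen c hc), ?_⟩
    show MulAut.conj g (g⁻¹ * c * g) = c
    rw [MulAut.conj_apply]; group
  · exact inf_le_right
  · exact TransHyp.piCoreOf_le _
  · rw [← hcore, eq_bot_iff]
    rintro u ⟨⟨⟨a, ha, rfl⟩, ⟨a', ha', e'⟩⟩, ⟨b, hb, e⟩⟩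
    have e1 : a' = a := (MulAut.conj g).injective e'
    have e2 : b = a := (MulAut.conj g).injective e
    have h1 : a ∈ (M ⊓ N) ⊓ Cfsg.sigmaCore N := ⟨⟨ha, e1 ▸ ha'⟩, e2 ▸ hb⟩
    rw [h.compl.2.2.1, mem_bot] at h1
    subst h1
    exact mem_bot.2 (map_one _)
  · obtain ⟨n, hn, rfl⟩ := hm
    obtain ⟨a, ha, b, hb, rfl⟩ := h.compl.2.2.2 n hn
    exact ⟨MulAut.conj g a, ⟨⟨a, ha.1, rfl⟩, a, ha.2, rfl⟩, MulAut.conj g b, hcore ▸ ⟨b, hb, rfl⟩, map_mul _ _ _⟩
  · have hx : x ∈ MulAut.conj (g⁻¹ * c * g) • M := by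
      rw [← Grp.conj_smul_conj_smul (g⁻¹ * c) g, ← Grp.conj_smul_conj_smul g⁻¹ c]
      refine ⟨g * x * g⁻¹, hc, ?_⟩
      show MulAut.conj g⁻¹ (g * x * g⁻¹) = x
      rw [MulAut.conj_apply]; group
    obtain ⟨r, hr, hrM⟩ := h.trans _ hx
    refine ⟨g * r * g⁻¹, ⟨hcore ▸ ⟨r, hr.1, rfl⟩, mem_centralizer_singleton_iff.2 ?_⟩, ?_⟩
    · calc g * r * g⁻¹ * (g * x * g⁻¹) = g * (r * x) * g⁻¹ := by group
        _ = g * (x * r) * g⁻¹ := by rw [mem_centralizer_singleton_iff.1 hr.2]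
        _ = g * x * g⁻¹ * (g * r * g⁻¹) := by group
    · rw [Grp.conj_smul_conj_smul, inv_mul_cancel_right, ← Grp.conj_smul_conj_smul, hrM, Grp.conj_smul_conj_smul,
        Grp.conj_smul_conj_smul, show g * (g⁻¹ * c * g) = c * g by group]

theorem InR.facts {a r : G} (h : InR M a r) (ha : a ∈ M) :
    Commute a r ∧ IsPiElt (Cfsg.sigma M)ᶜ r ∧ (r ∈ M → r = 1) := by
  rcases h with rfl | ⟨N, hN, hr⟩
  · exact ⟨Commute.one_right a, fun p hp hd => by rw [orderOf_one, Nat.dvd_one] at hd; exact absurd hd hp.ne_one,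
      fun _ => rfl⟩
  · refine ⟨(mem_centralizer_singleton_iff.1 hr.2).symm, fun p hp hd hσ => ?_, fun hrM => ?_⟩
    · haveI := Fact.mk hp
      obtain ⟨g, hg⟩ := sigma_conj_of_common hG hM hN.hN hσ (TransHyp.piCoreOf_primes (π := Cfsg.sigma N) (X := N) hp
        (hd.trans (Subgroup.orderOf_dvd_natCard _ hr.1)))
      exact hN.nconj g hg
    · have h1 : r ∈ M ⊓ Cfsg.sigmaCore N := ⟨hrM, hr.1⟩
      rwa [(hN.facts hG hM).1, mem_bot] at h1

theorem InR.conj {a r : G} (h : InR M a r) (g : G) :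
    InR (MulAut.conj g • M) (g * a * g⁻¹) (g * r * g⁻¹) := by
  rcases h with rfl | ⟨N, hN, hr⟩
  · exact Or.inl (by group)
  · refine Or.inr ⟨_, hN.conj hG hM g, smul_sigmaCore hG hN.hN g ▸ ⟨r, hr.1, rfl⟩, mem_centralizer_singleton_iff.2 ?_⟩
    calc g * r * g⁻¹ * (g * a * g⁻¹) = g * (r * a) * g⁻¹ := by group
      _ = g * (a * r) * g⁻¹ := by rw [mem_centralizer_singleton_iff.1 hr.2]
      _ = g * a * g⁻¹ * (g * r * g⁻¹) := by group

/-- `R(a)` does not depend on the conjugate of `M` over `a`. -/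
theorem InR.base_change {a r : G} (h : InR M a r) {g : G} (hg : a ∈ MulAut.conj g • M) :
    InR (MulAut.conj g • M) a r := by
  rcases h with rfl | ⟨N, hN, hr⟩
  · exact Or.inl rfl
  · obtain ⟨s, hs, hsM⟩ := hN.trans g hg
    have h' := hN.conj hG hM s
    rw [hsM, show s * a * s⁻¹ = a by rw [mem_centralizer_singleton_iff.1 hs.2, mul_inv_cancel_right],
      Grp.mem_normalizer_iff_smul.1 (le_normalizer (TransHyp.piCoreOf_le N hs.1))] at h'
    exact Or.inr ⟨N, h', hr⟩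

/-- The definition of `R(a)` agrees with `InR`. -/
theorem supportR_iff {a r : G} (ha : a ∈ Cfsg.sigmaCore M) (ha1 : a ≠ 1) :
    r ∈ Cfsg.supportR M a ↔ InR M a r := by
  have haM : a ∈ M := TransHyp.piCoreOf_le M ha
  unfold Cfsg.supportR
  by_cases hC : centralizer ({a} : Set G) ≤ M
  · rw [dif_neg (fun h => h.1 hC), mem_bot]
    refine ⟨Or.inl, fun h => ?_⟩
    rcases h with h | ⟨N, hN, hr⟩
    · exact h
    · exact (InR.facts hG hM (Or.inr ⟨N, hN, hr⟩) haM).2.2 (hC hr.2)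
  · obtain ⟨N, hN, huniq, -, -, -⟩ := support_unique hG hM ha ha1 hC
    have hex : ¬ centralizer ({a} : Set G) ≤ M ∧
        ∃! L : Subgroup G, IsCoatom L ∧ centralizer ({a} : Set G) ≤ L :=
      ⟨hC, N, ⟨hN.hN, hN.le⟩, fun L hL => huniq L hL.1 hL.2⟩
    rw [dif_pos hex]
    have e : Classical.choose hex.2.exists = N :=
      huniq _ (Classical.choose_spec hex.2.exists).1 (Classical.choose_spec hex.2.exists).2
    rw [e, hN.fhall]
    refine ⟨fun h => Or.inr ⟨N, hN, h⟩, fun h => ?_⟩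
    rcases h with rfl | ⟨N', hN', hr⟩
    · exact one_mem _
    · rwa [huniq N' hN'.hN hN'.le] at hr

/-- Membership in the set `tildeOf M (M_σ \ 1)`. -/
theorem mem_tilde_iff {g : G} : g ∈ Cfsg.tildeOf M ((Cfsg.sigmaCore M : Set G) \ {1}) ↔
    ∃ h a r : G, a ∈ MulAut.conj h • Cfsg.sigmaCore M ∧ a ≠ 1 ∧ InR (MulAut.conj h • M) a r ∧ g = a * r := by
  constructor
  · rintro ⟨a, ⟨ha, ha1⟩, r, hr, y, rfl⟩
    refine ⟨y, y * a * y⁻¹, y * r * y⁻¹, ⟨a, ha, rfl⟩, fun e => ha1 (conj_eq_one_iff.1 e),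
      ((supportR_iff hG hM ha ha1).1 hr).conj hG hM y, by group⟩
  · rintro ⟨h, a, r, ⟨b, hb, hba⟩, ha1, hr, rfl⟩
    have hba' : h * b * h⁻¹ = a := hba
    subst hba'
    have hb1 : b ≠ 1 := fun e => ha1 (by rw [e]; group)
    have h' := hr.conj hG (isCoatom_conj hG hM h) h⁻¹
    rw [Grp.conj_smul_conj_smul, inv_mul_cancel, map_one, one_smul] at h'
    rw [show h⁻¹ * (h * b * h⁻¹) * h⁻¹⁻¹ = b by group] at h'
    refine ⟨b, ⟨hb, hb1⟩, _, (supportR_iff hG hM hb hb1).2 h', h, ?_⟩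
    show h * b * h⁻¹ * r = h * (b * (h⁻¹ * r * h⁻¹⁻¹)) * h⁻¹
    group

theorem tilde_conj {g : G} (hg : g ∈ Cfsg.tildeOf M ((Cfsg.sigmaCore M : Set G) \ {1})) (c : G) :
    c * g * c⁻¹ ∈ Cfsg.tildeOf M ((Cfsg.sigmaCore M : Set G) \ {1}) := by
  obtain ⟨a, ha, r, hr, y, rfl⟩ := hg
  exact ⟨a, ha, r, hr, c * y, by group⟩

/-- The `σ(M)`-part of an element of the tilde set. -/
theorem InR.pi {h a r : G} (ha : a ∈ MulAut.conj h • Cfsg.sigmaCore M) (hr : InR (MulAut.conj h • M) a r) :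
    Commute a r ∧ IsPiElt (Cfsg.sigma M) a ∧ IsPiElt (Cfsg.sigma M)ᶜ r := by
  obtain ⟨h1, h2, -⟩ := hr.facts hG (isCoatom_conj hG hM h) (smul_mono_right _ (TransHyp.piCoreOf_le M) ha)
  exact ⟨h1, isPiElt_sigmaCore ha, fun p hp hd hσ => h2 p hp hd (sigma_smul hG hM hσ h)⟩

omit hM in
/-- Tilde sets of nonconjugate maximal subgroups are disjoint. -/
theorem tilde_disjoint {A B : Subgroup G} (hA : IsCoatom A) (hB : IsCoatom B)
    (hnc : ∀ c : G, B ≠ MulAut.conj c • A) {a r b s : G} (ha : a ∈ Cfsg.sigmaCore A) (hb : b ∈ Cfsg.sigmaCore B)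
    (ha1 : a ≠ 1) (hb1 : b ≠ 1) (hr : InR A a r) (hs : InR B b s) (e : a * r = b * s) : False := by
  have haA : a ∈ MulAut.conj (1 : G) • Cfsg.sigmaCore A := by rwa [map_one, one_smul]
  have hbB : b ∈ MulAut.conj (1 : G) • Cfsg.sigmaCore B := by rwa [map_one, one_smul]
  obtain ⟨hca, haπ, hrπ⟩ := InR.pi hG hA haA (by rwa [map_one, one_smul])
  obtain ⟨hcb, hbπ, hsπ⟩ := InR.pi hG hB hbB (by rwa [map_one, one_smul])
  have hdisj : ∀ p : ℕ, p.Prime → p ∈ Cfsg.sigma A → p ∉ Cfsg.sigma B := fun p hp h h' => by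
    haveI := Fact.mk hp
    obtain ⟨c, hc⟩ := sigma_conj_of_common hG hA hB h h'
    exact hnc c hc
  obtain ⟨p, hp, hpd⟩ := Nat.exists_prime_and_dvd (fun h => hb1 (orderOf_eq_one_iff.1 h))
  haveI := Fact.mk hp
  have hpb := hbπ p hp hpd
  have hpr : p ∣ orderOf r := by
    have h1 : p ∣ orderOf (b * s) := hpd.trans (orderOf_dvd_of_mem_zpowers (pi_part_mem_zpowers hcb hbπ hsπ).1)
    rw [← e] at h1
    exact (hp.dvd_mul.1 (h1.trans hca.orderOf_mul_dvd_mul_orderOf)).resolve_left fun h => hdisj p hp (haπ p hp h) hpb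
  rcases hr with rfl | ⟨N, hN, hr⟩
  · rw [orderOf_one, Nat.dvd_one] at hpr; exact hp.ne_one hpr
  obtain ⟨c, hc⟩ := sigma_conj_of_common hG hN.hN hB (TransHyp.piCoreOf_primes (π := Cfsg.sigma N) (X := N) hp
    (hpr.trans (Subgroup.orderOf_dvd_natCard _ hr.1))) hpb
  have hrB : IsPiElt (Cfsg.sigma B) r := fun q hq hd => hc ▸ sigma_smul hG hN.hN
    (TransHyp.piCoreOf_primes (π := Cfsg.sigma N) (X := N) hq (hd.trans (Subgroup.orderOf_dvd_natCard _ hr.1))) c
  have haB : IsPiElt (Cfsg.sigma B)ᶜ a := fun q hq hd => hdisj q hq (haπ q hq hd)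
  have hrb : r = b := pi_part_unique hca.symm hrB haB hcb hbπ hsπ (hca.eq.symm.trans e)
  have has : a = s := by
    rw [← hrb, hca.eq] at e
    exact mul_left_cancel e
  subst hrb has
  obtain ⟨-, hN'⟩ : True ∧ InR N r a := ⟨trivial, by
    have h' := hs.base_change hG hB (g := c⁻¹) (by
      rw [hc, Grp.conj_smul_conj_smul, inv_mul_cancel, map_one, one_smul]; exact TransHyp.piCoreOf_le N hr.1)
    rwa [hc, Grp.conj_smul_conj_smul, inv_mul_cancel, map_one, one_smul] at h'⟩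
  exact ha1 ((hN'.facts hG hN.hN (TransHyp.piCoreOf_le N hr.1)).2.2
    (hN.le (mem_centralizer_singleton_iff.2 rfl)))

/-- The size of the tilde set. -/
theorem tilde_card :
    Nat.card {g : G // g ∈ Cfsg.tildeOf M ((Cfsg.sigmaCore M : Set G) \ {1})} =
      (Nat.card (Cfsg.sigmaCore M) - 1) * M.index := by
  classical
  letI : Fintype (Cfsg.sigmaCore M) := Fintype.ofFinite _
  let D := (G ⧸ M) × {y : Cfsg.sigmaCore M // y ≠ 1}
  have hD : Nat.card D = (Nat.card (Cfsg.sigmaCore M) - 1) * M.index := by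
    rw [show D = ((G ⧸ M) × {y : Cfsg.sigmaCore M // y ≠ 1}) from rfl, Nat.card_prod, Subgroup.index_eq_card,
      mul_comm]
    congr 1
    simp [Nat.card_eq_fintype_card, Fintype.card_subtype_compl]
  let A : D → G := fun d => MulAut.conj d.1.out (d.2.1 : G)
  have hA : ∀ d, A d ∈ MulAut.conj d.1.out • Cfsg.sigmaCore M := fun d => ⟨_, d.2.1.2, rfl⟩
  have hA1 : ∀ d, A d ≠ 1 := fun d e =>
    d.2.2 (Subtype.ext ((MulAut.conj d.1.out).injective (e.trans (map_one _).symm)))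
  let H₀ : G → G := fun a => if he : ∃ h, a ∈ MulAut.conj h • Cfsg.sigmaCore M then he.choose else 1
  have hH₀ : ∀ a h : G, a ∈ MulAut.conj h • Cfsg.sigmaCore M → a ∈ MulAut.conj (H₀ a) • Cfsg.sigmaCore M := fun a h ha => by
    have he : ∃ h, a ∈ MulAut.conj h • Cfsg.sigmaCore M := ⟨h, ha⟩
    simp only [H₀, dif_pos he]
    exact he.choose_spec
  have hM' : ∀ a h : G, a ∈ MulAut.conj h • Cfsg.sigmaCore M → a ∈ MulAut.conj h • M := fun a h ha =>
    smul_mono_right _ (TransHyp.piCoreOf_le M) ha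
  have hex : ∀ d : D, ∃ r : G, InR (MulAut.conj (H₀ (A d)) • M) (A d) r ∧
      MulAut.conj r • MulAut.conj (H₀ (A d)) • M = MulAut.conj d.1.out • M := fun d => by
    set h := H₀ (A d)
    have hh := hH₀ _ _ (hA d)
    have hK := isCoatom_conj hG hM h
    have hcore : A d ∈ Cfsg.sigmaCore (MulAut.conj h • M) := smul_sigmaCore hG hM h ▸ hh
    have hmem : A d ∈ MulAut.conj (d.1.out * h⁻¹) • MulAut.conj h • M := by
      rw [Grp.conj_smul_conj_smul, inv_mul_cancel_right]; exact hM' _ _ (hA d)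
    rcases line_cases hG hK hcore (hA1 d) with ⟨-, hg⟩ | ⟨N, hN⟩
    · refine ⟨1, Or.inl rfl, ?_⟩
      rw [map_one, one_smul]
      conv_lhs => rw [← Grp.mem_normalizer_iff_smul.1 (le_normalizer (hg _ hmem))]
      rw [Grp.conj_smul_conj_smul, inv_mul_cancel_right]
    · obtain ⟨r, hr, hrM⟩ := hN.trans _ hmem
      exact ⟨r, Or.inr ⟨N, hN, hr⟩, hrM.trans (by rw [Grp.conj_smul_conj_smul, inv_mul_cancel_right])⟩
  choose R hR hRM using hex
  let F : D → {g : G // g ∈ Cfsg.tildeOf M ((Cfsg.sigmaCore M : Set G) \ {1})} := fun d =>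
    ⟨A d * R d, (mem_tilde_iff hG hM).2 ⟨H₀ (A d), A d, R d, hH₀ _ _ (hA d), hA1 d, hR d, rfl⟩⟩
  rw [← hD]
  refine (Nat.card_congr (Equiv.ofBijective F ⟨fun d e hde => ?_, fun ⟨g, hg⟩ => ?_⟩)).symm
  · have h1 : A d * R d = A e * R e := congrArg Subtype.val hde
    obtain ⟨c1, p1, q1⟩ := InR.pi hG hM (hH₀ _ _ (hA d)) (hR d)
    obtain ⟨c2, p2, q2⟩ := InR.pi hG hM (hH₀ _ _ (hA e)) (hR e)
    have hx : A d = A e := pi_part_unique c1 p1 q1 c2 p2 q2 h1
    have hr : R d = R e := mul_left_cancel (h1.trans (by rw [hx]))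
    have hc : MulAut.conj d.1.out • M = MulAut.conj e.1.out • M := by rw [← hRM d, ← hRM e, hx, hr]
    have h2 : d.1 = e.1 := by
      rw [← QuotientGroup.out_eq' d.1, ← QuotientGroup.out_eq' e.1]
      exact QuotientGroup.eq.2 (mem_of_conj_smul_eq hG hM (by
        rw [← Grp.conj_smul_conj_smul, ← hc, Grp.conj_smul_conj_smul, inv_mul_cancel, map_one, one_smul]))
    refine Prod.ext h2 (Subtype.ext (Subtype.ext ((MulAut.conj d.1.out).injective ?_)))
    show A d = MulAut.conj d.1.out (e.2.1 : G)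
    rw [hx, h2]
  · obtain ⟨h, a, r, ha, ha1, hr, rfl⟩ := (mem_tilde_iff hG hM).1 hg
    have hh := hH₀ _ _ ha
    have hr₀ : InR (MulAut.conj (H₀ a) • M) a r := by
      have h' := hr.base_change hG (isCoatom_conj hG hM h) (g := H₀ a * h⁻¹) (by
        rw [Grp.conj_smul_conj_smul, inv_mul_cancel_right]; exact hM' _ _ hh)
      rwa [Grp.conj_smul_conj_smul, inv_mul_cancel_right] at h'
    obtain ⟨hc, -, -⟩ := InR.pi hG hM hh hr₀
    set q : G ⧸ M := QuotientGroup.mk (r * H₀ a)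
    obtain ⟨w, hw⟩ := QuotientGroup.mk_out_eq_mul M (r * H₀ a)
    have hqM : MulAut.conj q.out • M = MulAut.conj r • MulAut.conj (H₀ a) • M := by
      rw [show q.out = r * H₀ a * w from hw, ← Grp.conj_smul_conj_smul,
        Grp.mem_normalizer_iff_smul.1 (le_normalizer w.2), Grp.conj_smul_conj_smul]
    have haq : a ∈ MulAut.conj q.out • Cfsg.sigmaCore M := by
      rw [smul_sigmaCore hG hM, hqM, ← smul_sigmaCore hG (isCoatom_conj hG hM _)]
      refine ⟨a, smul_sigmaCore hG hM (H₀ a) ▸ hh, ?_⟩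
      show r * a * r⁻¹ = a
      rw [← hc.eq, mul_inv_cancel_right]
    obtain ⟨y, hy, hya⟩ := haq
    have hy1 : (⟨y, hy⟩ : Cfsg.sigmaCore M) ≠ 1 := fun e => ha1 (by
      rw [← hya, show y = 1 from congrArg Subtype.val e]; exact map_one _)
    let d : D := (q, ⟨⟨y, hy⟩, hy1⟩)
    have hAd : A d = a := hya
    refine ⟨d, Subtype.ext ?_⟩
    show A d * R d = a * r
    have hRd := hR d
    have hRMd := hRM d
    rw [hAd] at hRd hRMd ⊢
    congr 1
    have hK := isCoatom_conj hG hM (H₀ a)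
    have h3 : r⁻¹ * R d ∈ MulAut.conj (H₀ a) • M := mem_of_conj_smul_eq hG hK (by
      rw [← Grp.conj_smul_conj_smul, hRMd]
      show MulAut.conj r⁻¹ • MulAut.conj q.out • M = _
      rw [hqM, Grp.conj_smul_conj_smul r⁻¹ r, inv_mul_cancel, map_one, one_smul])
    rcases hr₀ with rfl | ⟨N, hN, hr'⟩
    · rw [inv_one, one_mul] at h3
      exact (hRd.facts hG hK (hM' _ _ hh)).2.2 h3
    · have hRN : R d ∈ Cfsg.sigmaCore N := by
        rcases hRd with h | ⟨N', hN', h⟩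
        · rw [h]; exact one_mem _
        · by_cases hC : centralizer ({a} : Set G) ≤ MulAut.conj (H₀ a) • M
          · rw [(InR.facts hG hK (Or.inr ⟨N', hN', h⟩) (hM' _ _ hh)).2.2 (hC h.2)]; exact one_mem _
          · obtain ⟨N₁, -, hu, -⟩ := support_unique hG hK (smul_sigmaCore hG hM (H₀ a) ▸ hh) ha1 hC
            rw [hu N hN.hN hN.le, ← hu N' hN'.hN hN'.le]
            exact h.1
      have h4 : r⁻¹ * R d ∈ MulAut.conj (H₀ a) • M ⊓ Cfsg.sigmaCore N :=
        ⟨h3, mul_mem ((Cfsg.sigmaCore N).inv_mem hr'.1) hRN⟩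
      rw [(hN.facts hG hK).1, mem_bot, inv_mul_eq_one] at h4
      exact h4.symm

/-- The tilde set lies in the cover. -/
theorem tilde_subset_cover {g : G} (hg : g ∈ Cfsg.tildeOf M ((Cfsg.sigmaCore M : Set G) \ {1})) :
    InSigmaCover M g := by
  obtain ⟨h, a, r, ha, ha1, hr, rfl⟩ := (mem_tilde_iff hG hM).1 hg
  obtain ⟨hc, -, hrπ⟩ := InR.pi hG hM ha hr
  refine ⟨h, a, r, ha, ha1, rfl, hc, hrπ, or_iff_not_imp_left.2 fun hr1 => ?_⟩
  have hK := isCoatom_conj hG hM h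
  obtain ⟨N, hN, hrN⟩ := hr.resolve_left hr1
  have hcore : a ∈ Cfsg.sigmaCore (MulAut.conj h • M) := smul_sigmaCore hG hM h ▸ ha
  obtain ⟨q, _, z, hz, hzo, hzc, -⟩ := exists_prime_zpowers_le ha1
  have hC : ¬ centralizer ({a} : Set G) ≤ MulAut.conj h • M := fun hle =>
    hr1 ((InR.facts hG hK (Or.inr ⟨N, hN, hrN⟩) (TransHyp.piCoreOf_le _ hcore)).2.2 (hle hrN.2))
  have hCz : ¬ centralizer (zpowers z : Set G) ≤ MulAut.conj h • M := fun hle => hC fun c hc' =>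
    hle (mem_centralizer_iff.2 fun w hw => by
      obtain ⟨i, rfl⟩ := mem_zpowers_iff.1 ((zpowers_le.2 hz) hw)
      exact ((show Commute c a from mem_centralizer_singleton_iff.1 hc').zpow_right i).eq.symm)
  obtain ⟨N', hN', hNz, -, hqσ⟩ := support_line hG hK hcore hz hzo hCz
  obtain ⟨N₁, -, huniq, -⟩ := support_unique hG hK hcore ha1 hC
  obtain rfl : N' = N := (huniq N' hN'.hN hN'.le).trans (huniq N hN.hN hN.le).symm
  refine ⟨q, z, N', Fact.out, (sigma_smul_iff hG hM h).1 hqσ, hz, hzo, hN.hN, hNz, fun b e => hN.nconj (b * h⁻¹) ?_,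
    fun p hp hd => TransHyp.piCoreOf_primes (π := Cfsg.sigma N') (X := N') hp
      (hd.trans (Subgroup.orderOf_dvd_natCard _ hrN.1))⟩
  rw [e, Grp.conj_smul_conj_smul, inv_mul_cancel_right]

end Cfsg.Agent.Transfer.Loc
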