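import Cfsg.Agent.Lib.Transfer.Local.TauThreeMain

/-!
Basic facts about a standard factorisation `M = K U Mσ`.
-/

set_option autoImplicit false
set_option linter.style.haveILetI false
set_option linter.unusedSectionVars false
set_option maxHeartbeats 1000000

namespace Cfsg.Agent.Transfer.Loc

open Subgroup
open scoped Pointwise

universe u

variable {G : Type u} [Group G] [Finite G]

/-- In a product `A B = M` with trivial intersection the orders multiply. -/
theorem complIn_card {A B M : Subgroup G} (h : Cfsg.IsComplIn A B M) : Nat.card A * Nat.card B = Nat.card M := by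
  rw [← Nat.card_prod]
  refine Nat.card_congr (Equiv.ofBijective
    (fun x => (⟨(x.1 : G) * x.2, M.mul_mem (h.1 x.1.2) (h.2.1 x.2.2)⟩ : M)) ⟨?_, ?_⟩)
  · rintro ⟨a, b⟩ ⟨c, d⟩ e
    have e' : (a : G) * b = c * d := congrArg Subtype.val e
    have e'' : (c : G)⁻¹ * a = d * (b : G)⁻¹ := by
      rw [eq_mul_inv_iff_mul_eq, mul_assoc, e', inv_mul_cancel_left]
    have h1 : (c : G)⁻¹ * a ∈ A ⊓ B :=
      ⟨A.mul_mem (A.inv_mem c.2) a.2, e'' ▸ B.mul_mem d.2 (B.inv_mem b.2)⟩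
    rw [h.2.2.1, Subgroup.mem_bot, inv_mul_eq_one] at h1
    refine Prod.ext (Subtype.ext h1.symm) (Subtype.ext ?_)
    rw [← h1] at e'
    exact mul_left_cancel e'
  · rintro ⟨m, hm⟩
    obtain ⟨a, ha, b, hb, e⟩ := h.2.2.2 m hm
    exact ⟨(⟨a, ha⟩, ⟨b, hb⟩), Subtype.ext e.symm⟩

variable (hG : Cfsg.IsMinSimpleOddOrder G) {M K U : Subgroup G} (hM : IsCoatom M)
  (hKU : Cfsg.IsSigmaDecomposition M K U)
include hG hM hKU

/-- `U` is a `σ(M)'`-group. -/
theorem decomp_U_prime {p : ℕ} (hp : p.Prime) (hd : p ∣ Nat.card U) : p ∉ Cfsg.sigma M := fun hσ => by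
  have h1 : Cfsg.sigmaCore M ≤ K ⊔ Cfsg.sigmaCore M := le_sup_right
  obtain ⟨hle, -, hn⟩ := isPiHallOf_piCore hG hM (alpha_subset_sigma hG hM) Set.Subset.rfl
  refine hn p hp hσ ?_
  rw [← Subgroup.relIndex_mul_relIndex (Cfsg.piCoreOf (Cfsg.sigma M) M) (K ⊔ Cfsg.sigmaCore M) M h1
    hKU.compl.2.1]
  refine (hd.trans (dvd_of_eq ?_)).trans (dvd_mul_left _ _)
  refine Nat.eq_of_mul_eq_mul_right (Nat.card_pos (α := ↥(K ⊔ Cfsg.sigmaCore M))) ?_
  rw [complIn_card hKU.compl, mul_comm]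
  exact (Grp.card_mul_relIndex hKU.compl.2.1).symm

end Cfsg.Agent.Transfer.Loc
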