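import Cfsg.Agent.Lib.Transfer.Local.KappaHall

/-!
Centralisers of fixed points of `κ`-elements and the common `σ`-overgroup of the `τ₂`-primes.
-/

set_option autoImplicit false
set_option linter.style.haveILetI false
set_option linter.unusedSectionVars false
set_option maxHeartbeats 1000000

namespace Cfsg.Agent.Transfer.Loc

open Subgroup
open scoped commutatorElement Pointwise

universe u

variable {G : Type u} [Group G] [Finite G] (hG : Cfsg.IsMinSimpleOddOrder G) {M : Subgroup G} (hM : IsCoatom M)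
include hG hM

/-- A fixed point of a `κ`-element has its centraliser only in `M`. -/
theorem kappa_fixed_unique {r t : ℕ} [hr : Fact r.Prime] [ht : Fact t.Prime] (hκ : r ∈ Cfsg.kappa M)
    {R Z : Subgroup G} (hRM : R ≤ M) (hR : Nat.card R = r) (hZ : Nat.card Z = t)
    (hZR : Z ≤ Cfsg.sigmaCore M ⊓ centralizer (R : Set G)) :
    centralizer (Z : Set G) ≤ M ∧ ∀ L : Subgroup G, IsCoatom L → centralizer (Z : Set G) ≤ L → L = M := by
  by_cases hτ : r ∈ Cfsg.tau1 M
  · exact tau1_unique hG hM hτ hRM hR hZ hZR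
  have hτ3 := (tau_of_kappa hG hM hκ).resolve_left hτ
  obtain ⟨E, hE, hRE⟩ := exists_compl_ge hG hM hRM fun p hp hd => by
    rw [hR, Nat.prime_dvd_prime_iff_eq hp hr.out] at hd
    exact hd ▸ hκ.2.2.1
  obtain ⟨L, h⟩ := irregular_of_kappa hG hM hE hκ hτ3 hRE hR
  obtain ⟨r', _, T, R', hτ', -, hTE, hR'T, hR', -⟩ := h.mover
  rw [← (irregular_all hG hM h (hR'T.trans hTE) hR').2] at hZR
  exact tau1_unique hG hM hτ' ((hR'T.trans hTE).trans hE.1) hR' hZ hZR

/-- The centraliser of a fixed point of a `κ`-element lies in `M`. -/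
theorem kappa_fixed_centralizer {r : ℕ} [hr : Fact r.Prime] (hκ : r ∈ Cfsg.kappa M) {R : Subgroup G} (hRM : R ≤ M)
    (hR : Nat.card R = r) {x : G} (hx : x ∈ Cfsg.sigmaCore M ⊓ centralizer (R : Set G)) (hx1 : x ≠ 1) :
    centralizer ({x} : Set G) ≤ M := by
  obtain ⟨t, _, z, hz, -, hzc, -⟩ := exists_prime_zpowers_le hx1
  refine le_trans ?_ (kappa_fixed_unique hG hM hκ hRM hR hzc (zpowers_le.2 ((zpowers_le.2 hx) hz))).1
  intro c hc
  refine mem_centralizer_iff.2 fun w hw => ?_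
  obtain ⟨i, rfl⟩ := (zpowers_le.2 hz) hw
  exact ((show Commute x c from (mem_centralizer_singleton_iff.1 hc).symm).zpow_left i).eq

/-- The primes of a `σ'`-element with fixed points are all in `κ` or all in `τ₂`. -/
theorem fixed_primes_cases {x : G} (hxM : x ∈ M) (hx1 : x ≠ 1)
    (hσ : ∀ p : ℕ, p.Prime → p ∣ orderOf x → p ∉ Cfsg.sigma M)
    (hfix : Cfsg.sigmaCore M ⊓ centralizer ({x} : Set G) ≠ ⊥) :
    (∀ p : ℕ, p.Prime → p ∣ orderOf x → p ∈ Cfsg.kappa M) ∨ ∀ p : ℕ, p.Prime → p ∣ orderOf x → p ∈ Cfsg.tau2 M := by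
  obtain ⟨E, hE, hxE⟩ := exists_compl_ge hG hM (zpowers_le.2 hxM) fun p hp hd =>
    hσ p hp (Nat.card_zpowers x ▸ hd)
  have hsub : ∀ p : ℕ, p.Prime → p ∣ orderOf x → ∃ X : Subgroup G, X ≤ zpowers x ∧ Nat.card X = p := fun p hp hd => by
    haveI := Fact.mk hp
    obtain ⟨z, hz⟩ := exists_prime_orderOf_dvd_card' (G := zpowers x) p ((Nat.card_zpowers x).symm ▸ hd)
    exact ⟨zpowers (z : G), zpowers_le.2 z.2, by rw [Nat.card_zpowers, Subgroup.orderOf_coe, hz]⟩
  have hrank : ∀ p : ℕ, p.Prime → p ∣ orderOf x → p ∈ Cfsg.kappa M ∨ p ∈ Cfsg.tau2 M := fun p hp hd => by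
    haveI := Fact.mk hp
    by_cases h1 : Cfsg.PRankLE p 1 M
    · obtain ⟨X, hX, hXc⟩ := hsub p hp hd
      exact Or.inl (kappa_of_fixed hG hM (hσ p hp hd) h1 (hX.trans (zpowers_le.2 hxM)) hXc (ne_bot_of_le_ne_bot hfix
        (inf_le_inf_left _ (le_trans (le_of_eq (by rw [zpowers_eq_closure, centralizer_closure]))
          (centralizer_le hX)))))
    · exact Or.inr (tau2_of_not_rank_one hG hM (hσ p hp hd) h1)
  refine or_iff_not_imp_right.2 fun hno p hp hd => (hrank p hp hd).resolve_right fun hp2 => hno fun q hq hqd =>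
    (hrank q hq hqd).resolve_left fun hqκ => ?_
  haveI := Fact.mk hp
  haveI := Fact.mk hq
  rcases kappa_cases hG hM hE with ⟨r, _, P, L, h⟩ | hsub'
  · exact h.tau2_empty p hp hp2
  obtain ⟨X, hX, hXc⟩ := hsub p hp hd
  obtain ⟨R, hR, hRc⟩ := hsub q hq hqd
  have hXR : X ≤ centralizer (R : Set G) := hX.trans (le_trans (le_centralizer_iff_isMulCommutative.2
    IsCyclic.isMulCommutative) (centralizer_le hR))
  exact hp2.2.2.2 (kappa_rank_one hG hM
    (kappa_regular hG hM hE hsub' (hR.trans hxE) hRc hqκ (hX.trans hxE) hXc hXR))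

variable {E : Subgroup G} (hE : Cfsg.IsComplIn E (Cfsg.sigmaCore M) M)
include hE

/-- Elements of order `q` of an abelian Sylow subgroup lie in the plane. -/
theorem tau2_sylow_compl {q : ℕ} [hq : Fact q.Prime] (hτ : q ∈ Cfsg.tau2 M) {B : Subgroup G} (hBE : B ≤ E)
    (hB : Cfsg.IsElementaryAbelian q B) (hB2 : Nat.card B = q ^ 2) {S : Sylow q G}
    (hab : IsMulCommutative (S : Subgroup G)) (hBS : B ≤ (S : Subgroup G)) :
    (S : Subgroup G) ≤ E ∧ Grp.IsSylowIn q (S : Subgroup G) E ∧ ∀ x ∈ (S : Subgroup G), x ^ q = 1 → x ∈ B := by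
  have hSB : (S : Subgroup G) ≤ centralizer (B : Set G) :=
    (le_centralizer_iff_isMulCommutative.2 hab).trans (centralizer_le hBS)
  obtain ⟨-, ⟨hCB, hME, -⟩, -⟩ := Cfsg.Agent.S1418.result hG M hM E hE q hτ B ⟨hBE, hB, hB2⟩
  have hSE : (S : Subgroup G) ≤ E := (hSB.trans hCB).trans hME.le
  refine ⟨hSE, ⟨hSE, S.isPGroup', fun hd => Sylow.not_dvd_index S (hd.trans (relIndex_dvd_index_of_le hSE))⟩,
    fun x hx hxq => ?_⟩
  exact (IsMaxPlane.of_sigma' hG hM hτ.2.1 (hBE.trans hE.1) hB hB2).mem hxq (hSB hx)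

/-- With abelian Sylow subgroups the normalisers of two planes coincide. -/
theorem tau2_normalizer_le {p q : ℕ} [hp : Fact p.Prime] [hq : Fact q.Prime] (hτp : p ∈ Cfsg.tau2 M)
    (hτq : q ∈ Cfsg.tau2 M) {A B : Subgroup G} (hAE : A ≤ E) (hA : Cfsg.IsElementaryAbelian p A)
    (hA2 : Nat.card A = p ^ 2) (hBE : B ≤ E) (hB : Cfsg.IsElementaryAbelian q B) (hB2 : Nat.card B = q ^ 2)
    {S : Sylow q G} (hab : IsMulCommutative (S : Subgroup G)) (hBS : B ≤ (S : Subgroup G)) :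
    normalizer (A : Set G) ≤ normalizer (B : Set G) := by
  obtain ⟨hSE, hSE', hmem⟩ := tau2_sylow_compl hG hM hE hτq hBE hB hB2 hab hBS
  obtain ⟨⟨hEB, -⟩, -, -⟩ := Cfsg.Agent.S1418.result hG M hM E hE q hτq B ⟨hBE, hB, hB2⟩
  obtain ⟨-, ⟨hCA, hMEA, -⟩, -⟩ := Cfsg.Agent.S1418.result hG M hM E hE p hτp A ⟨hAE, hA, hA2⟩
  have hSA : (S : Subgroup G) ≤ centralizer (A : Set G) :=
    tau2_centralizes hG hM hE hτp hτq hAE hA hA2 hSE S.isPGroup'
  intro g hg
  have hgS : MulAut.conj g • (S : Subgroup G) ≤ E := by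
    refine le_trans ?_ (hCA.trans hMEA.le)
    have h1 := smul_centralizer_le hSA g
    rwa [Grp.mem_normalizer_iff_smul.1 hg] at h1
  have hgS' : Grp.IsSylowIn q (MulAut.conj g • (S : Subgroup G)) E := ⟨hgS, S.isPGroup'.map _, fun hd => by
    have hc := Grp.card_mul_relIndex hgS
    rw [Grp.card_conj_smul, ← Grp.card_mul_relIndex hSE] at hc
    rw [Nat.eq_of_mul_eq_mul_left Nat.card_pos hc] at hd
    exact hSE'.2.2 hd⟩
  obtain ⟨e, he, hge⟩ := hSE'.conj hgS'
  rw [Grp.mem_normalizer_iff_smul]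
  refine Subgroup.eq_of_le_of_card_ge ?_ (by rw [Grp.card_conj_smul])
  rintro _ ⟨b, hb, rfl⟩
  show MulAut.conj g b ∈ B
  have hmem' : MulAut.conj g b ∈ MulAut.conj e • (S : Subgroup G) := hge ▸ Set.mem_image_of_mem _ (hBS hb)
  obtain ⟨s, hs, hse⟩ := hmem'
  have hse' : MulAut.conj e s = MulAut.conj g b := hse
  rw [← hse']
  refine Grp.mem_conj_normalizer (hEB he) (hmem s hs ?_)
  apply (MulAut.conj e).injective
  rw [map_pow, hse', ← map_pow, hB.2 b hb, map_one, map_one]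

omit hE in
/-- Some maximal subgroup has all primes of `τ₂(M)` in its `σ`. -/
theorem tau2_sigma_common (hne : (Cfsg.tau2 M).Nonempty) :
    ∃ L : Subgroup G, IsCoatom L ∧ Cfsg.tau2 M ⊆ Cfsg.sigma L := by
  obtain ⟨p, hτ⟩ := hne
  haveI := Fact.mk hτ.1
  haveI := solvable_of_ne_top hG hM.1
  obtain ⟨E, hE, -⟩ := exists_compl_ge hG hM (bot_le : (⊥ : Subgroup G) ≤ M) fun s hs hd => by
    rw [Subgroup.card_bot, Nat.dvd_one] at hd; exact absurd hd hs.ne_one
  obtain ⟨T, hT⟩ := Grp.exists_isSylowIn p E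
  obtain ⟨A, hAT, hA, hA2⟩ := tau2_plane hG hM hE hτ hT
  have hAE := hAT.trans hT.1
  have hA1 : A ≠ ⊥ := fun e => by
    rw [e, Subgroup.card_bot] at hA2; nlinarith [(Fact.out (p := p.Prime)).two_le]
  obtain ⟨S, hAS⟩ := (Grp.elemAb_isPGroup hA).exists_le_sylow
  by_cases habel : ∀ S : Sylow p G, IsMulCommutative (S : Subgroup G)
  · obtain ⟨L, hL, hNL⟩ := exists_coatom_normalizer hG hA1 fun e => hM.1 (top_le_iff.1 (e ▸ hAE.trans hE.1))
    refine ⟨L, hL, fun q hq => ?_⟩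
    haveI := Fact.mk hq.1
    haveI := isSolvable_of_le hE.1
    obtain ⟨V, hV⟩ := Grp.exists_isSylowIn q E
    obtain ⟨B, hBV, hB, hB2⟩ := tau2_plane hG hM hE hq hV
    have hBE := hBV.trans hV.1
    obtain ⟨R, hBR⟩ := (Grp.elemAb_isPGroup hB).exists_le_sylow
    have habR : IsMulCommutative (R : Subgroup G) := by
      by_contra hna
      have hall : ∀ R' : Sylow q G, ¬ IsMulCommutative (R' : Subgroup G) := fun R' hab => hna (by
        haveI := hab
        exact ⟨⟨fun a b => (R'.equiv R).symm.injective (by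
          rw [map_mul, map_mul]; exact hab.is_comm.comm _ _)⟩⟩)
      have hpq : p = q := (Cfsg.Agent.S1419.result hG M hM E hE q hq hall B ⟨hBE, hB, hB2⟩).1.le hτ
      subst hpq
      exact hna (habel R)
    have hAB := tau2_normalizer_le hG hM hE hq hτ hBE hB hB2 hAE hA hA2 (habel S) hAS
    obtain ⟨hRE, -, hmem⟩ := tau2_sylow_compl hG hM hE hq hBE hB hB2 habR hBR
    have hNR : normalizer ((R : Subgroup G) : Set G) ≤ L := by
      refine le_trans ?_ (hAB.trans hNL)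
      intro g hg
      rw [Grp.mem_normalizer_iff_smul]
      refine Subgroup.eq_of_le_of_card_ge ?_ (by rw [Grp.card_conj_smul])
      rintro _ ⟨b, hb, rfl⟩
      show MulAut.conj g b ∈ B
      exact hmem _ (Grp.mem_conj_normalizer hg (hBR hb)) (by rw [← map_pow, hB.2 b hb, map_one])
    have hRL : (R : Subgroup G) ≤ L := le_normalizer.trans hNR
    refine ⟨hq.1, ?_, R.subtype hRL, ?_⟩
    · refine (dvd_card_of_pGroup R.isPGroup' (ne_bot_of_le_ne_bot ?_ hBR)).trans (card_dvd_of_le hRL)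
      intro e; rw [e, Subgroup.card_bot] at hB2; nlinarith [(Fact.out (p := q.Prime)).two_le]
    · rw [Sylow.coe_subtype, map_subgroupOf_eq_of_le hRL]
      exact hNR
  · push Not at habel
    obtain ⟨S₀, hS₀⟩ := habel
    have hall : ∀ R' : Sylow p G, ¬ IsMulCommutative (R' : Subgroup G) := fun R' hab => hS₀ (by
      haveI := hab
      exact ⟨⟨fun a b => (R'.equiv S₀).symm.injective (by
        rw [map_mul, map_mul]; exact hab.is_comm.comm _ _)⟩⟩)
    obtain ⟨L, -, hL, -, hσ, -⟩ := exists_sigma_coatom hG S (ne_bot_of_le_ne_bot hA1 hAS)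
    refine ⟨L, hL, ?_⟩
    rw [(Cfsg.Agent.S1419.result hG M hM E hE p hτ hall A ⟨hAE, hA, hA2⟩).1]
    intro q hq
    rw [Set.mem_singleton_iff] at hq
    rw [hq]; exact hσ

end Cfsg.Agent.Transfer.Loc
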