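import Cfsg.Agent.Lib.Transfer.Local.Normed
import Cfsg.Agent.Lib.Transfer.OddRankTwo
import Cfsg.Agent.Lib.Fus.ElemChain

/-!
Elementary abelian groups acting on groups of rank two, and small subgroups in the second centre.
-/

set_option autoImplicit false
set_option linter.style.haveILetI false
set_option linter.unusedSectionVars false

namespace Cfsg.Agent.Transfer.Loc

open Subgroup
open scoped commutatorElement Pointwise

universe u

variable {G : Type u} [Group G] [Finite G] {p r : ℕ} [hp : Fact p.Prime] [hr : Fact r.Prime]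

/-- An elementary abelian group of order `p³` fixes a small group of exponent `r` pointwise at a
nontrivial element. -/
theorem exists_centralizes_small (hpr : p ≠ r) {A K : Subgroup G} (hA : Cfsg.IsElementaryAbelian p A)
    (hA3 : p ^ 3 ≤ Nat.card A) (hKe : ∀ x ∈ K, x ^ r = 1) (hK3 : Nat.card K ≤ r ^ 3)
    (hrk : ∀ E ≤ K, Cfsg.IsElementaryAbelian r E → Nat.card E ≤ r ^ 2) (hAK : A ≤ normalizer (K : Set G)) :
    ∃ a ∈ A, a ≠ 1 ∧ a ∈ centralizer (K : Set G) := by
  classical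
  by_contra hcon
  push Not at hcon
  have hKr : IsPGroup r K := fun x => ⟨1, Subtype.ext (by rw [coe_pow, coe_one, pow_one]; exact hKe x x.2)⟩
  have hpK : ¬ p ∣ Nat.card K := fun hd => by
    obtain ⟨n, hn⟩ := IsPGroup.iff_card.1 hKr
    exact hpr ((Nat.prime_dvd_prime_iff_eq hp.out hr.out).1 (hp.out.dvd_of_dvd_pow (hn ▸ hd)))
  have hA1 : A ≠ ⊥ := Grp.ne_bot_of_card (by norm_num) hA3
  have hA2 : p ^ 2 ≤ Nat.card A := (Nat.pow_le_pow_right hp.out.pos (by norm_num)).trans hA3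
  have hcard : ∀ Y : Subgroup G, Y ≤ K → ∃ n, Nat.card Y = r ^ n := fun Y hY =>
    IsPGroup.iff_card.1 (hKr.to_le hY)
  have hinv : ∀ {D : Subgroup G}, D ≤ A → A ≤ normalizer ((K ⊓ centralizer (D : Set G) : Subgroup G) : Set G) := by
    intro D hDA a ha
    refine Subgroup.mem_normalizer_iff.2 fun y => and_congr (Subgroup.mem_normalizer_iff.1 (hAK ha) y) ?_
    exact Subgroup.mem_normalizer_iff.1 (centralizer_le_normalizer _ |>.trans normalizer_le_normalizer_centralizer
      (mem_centralizer_iff.2 fun d hd => congrArg Subtype.val (hA.1.is_comm.comm ⟨d, hDA hd⟩ ⟨a, ha⟩))) y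
  have hfix : ∀ {D : Subgroup G}, D ≤ A → D ≠ ⊥ → ¬ K ≤ centralizer (D : Set G) := by
    intro D hDA hD h
    obtain ⟨b, hb, hb1⟩ := (Subgroup.bot_or_exists_ne_one D).resolve_left hD
    exact hcon b (hDA hb) hb1 (le_centralizer_iff.1 h hb)
  -- two hyperplanes with different fixed points
  obtain ⟨D₁, hD₁, hi₁, hne₁⟩ : ∃ D₁, D₁ ≤ A ∧ D₁.relIndex A = p ∧ K ⊓ centralizer (D₁ : Set G) ≠ ⊥ := by
    by_contra h
    push Not at h
    have hK : K ≤ ⊥ := Grp.le_of_hyperplanes hA hA1 K hpK hAK fun D hD hi => (h D hD hi).le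
    refine hfix le_rfl hA1 (hK.trans bot_le)
  set C₁ := K ⊓ centralizer (D₁ : Set G) with hC₁
  have hex : ∀ Y : Subgroup G, ¬ K ≤ Y → ∃ D, D ≤ A ∧ D.relIndex A = p ∧ ¬ K ⊓ centralizer (D : Set G) ≤ Y := by
    intro Y hY
    by_contra h
    push Not at h
    exact hY (Grp.le_of_hyperplanes hA hA1 K hpK hAK h)
  obtain ⟨D₂, hD₂, hi₂, hne₂⟩ := hex C₁ fun h =>
    hfix hD₁ (Grp.ne_bot_of_relIndex hA2 hi₁) (h.trans inf_le_right)
  obtain ⟨x, ⟨hx₁, hx₂⟩, hx1⟩ := Grp.elemAb_exists_mem_inf hA hA3 hD₁ hD₂ hi₁ hi₂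
  set N := K ⊓ centralizer ({x} : Set G) with hN
  have hNK : N ≤ K := inf_le_left
  have hC₁N : C₁ < N := by
    refine lt_of_le_of_ne (inf_le_inf_left K (centralizer_le (Set.singleton_subset_iff.2 hx₁))) fun e => hne₂ ?_
    rw [e]
    exact inf_le_inf_left K (centralizer_le (Set.singleton_subset_iff.2 hx₂))
  have hNlt : N < K := by
    refine lt_of_le_of_ne hNK fun e => hcon x (hD₁ hx₁) hx1 ?_
    refine mem_centralizer_iff.2 fun k hk => ?_
    rw [SetLike.mem_coe, ← e] at hk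
    exact (mem_centralizer_iff.1 hk.2 x rfl).symm
  obtain ⟨a, ha⟩ := hcard C₁ inf_le_left
  obtain ⟨b, hb⟩ := hcard N hNK
  obtain ⟨c, hc⟩ := hcard K le_rfl
  have hr1 := hr.out.one_lt
  have hab : a < b := (Nat.pow_lt_pow_iff_right hr1).1 (ha ▸ hb ▸ Set.ncard_lt_ncard (SetLike.coe_ssubset_coe.2 hC₁N))
  have hbc : b < c := (Nat.pow_lt_pow_iff_right hr1).1 (hb ▸ hc ▸ Set.ncard_lt_ncard (SetLike.coe_ssubset_coe.2 hNlt))
  have ha0 : a ≠ 0 := fun e => hne₁ (card_eq_one.1 (by rw [ha, e, pow_zero]))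
  have hc3 : c ≤ 3 := (Nat.pow_le_pow_iff_right hr1).1 (hc ▸ hK3)
  obtain rfl : b = 2 := by omega
  obtain rfl : c = 3 := by omega
  haveI hNc : IsMulCommutative N := IsPGroup.isMulCommutative_of_card_eq_prime_sq hb
  have hNnorm : K ≤ normalizer (N : Set G) := by
    have h1 : (N.subgroupOf K).Normal := by
      haveI := hKr.isNilpotent
      refine Grp.coatom_normal_of_nilpotent ⟨fun e => hNlt.not_ge (subgroupOf_eq_top.1 e), fun Y hY => ?_⟩
      obtain ⟨m, hm⟩ := IsPGroup.iff_card.1 (hKr.to_subgroup Y)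
      have h2 : 2 < m := (Nat.pow_lt_pow_iff_right hr1).1 (by
        rw [← hm, ← hb, ← Nat.card_congr (subgroupOfEquivOfLe hNK).toEquiv]
        exact Set.ncard_lt_ncard (SetLike.coe_ssubset_coe.2 hY))
      exact eq_top_of_card_eq Y (le_antisymm (Subgroup.card_le_card_group Y)
        (by rw [hm, hc]; exact Nat.pow_le_pow_right hr.out.pos h2))
    exact (normal_subgroupOf_iff_le_normalizer hNK).1 h1
  have hxK : x ∈ normalizer (K : Set G) := hAK (hD₁ hx₁)
  by_cases hself : K ⊓ centralizer (N : Set G) ≤ N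
  · -- `x` would centralise `K`
    refine hcon x (hD₁ hx₁) hx1 ?_
    have hxN : zpowers x ≤ centralizer (N : Set G) := by
      rw [zpowers_le, mem_centralizer_iff]
      exact fun n hn => ((mem_centralizer_iff.1 hn.2) x rfl).symm
    have hcop : (Nat.card (zpowers x)).Coprime (Nat.card K) := by
      rw [Nat.card_zpowers, orderOf_eq_prime (hA.2 x (hD₁ hx₁)) hx1]
      exact hp.out.coprime_iff_not_dvd.2 hpK
    refine zpowers_le.1 (Grp.le_centralizer_of_series (zpowers x) K N (zpowers_le.2 hxK) hcop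
      (Or.inr (by haveI := hKr.isNilpotent; infer_instance)) ?_ (commutator_eq_bot_iff_le_centralizer.2
      (le_centralizer_iff.1 hxN)))
    refine le_trans (le_inf (Grp.commutator_le_left_of_le_normalizer (zpowers_le.2 hxK)) ?_) hself
    have h1 : ⁅⁅zpowers x, N⁆, K⁆ = ⊥ := by
      rw [commutator_eq_bot_iff_le_centralizer.2 hxN, commutator_bot_left]
    have h2 : ⁅⁅N, K⁆, zpowers x⁆ = ⊥ := by
      rw [commutator_eq_bot_iff_le_centralizer]
      exact (Grp.commutator_le_left_of_le_normalizer hNnorm).trans (le_centralizer_iff.1 hxN)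
    exact commutator_eq_bot_iff_le_centralizer.1
      (Subgroup.commutator_commutator_eq_bot_of_rotate h1 h2)
  · -- `K` would be elementary of order `r³`
    have hNK' : K ≤ centralizer (N : Set G) := by
      obtain ⟨m, hm⟩ := hcard (K ⊓ centralizer (N : Set G)) inf_le_left
      have h2 : N < K ⊓ centralizer (N : Set G) := lt_of_le_of_ne (le_inf hNK (le_centralizer_iff_isMulCommutative.2 hNc))
        fun e => hself e.ge
      have hm2 : 2 < m := (Nat.pow_lt_pow_iff_right hr1).1 (hm ▸ hb ▸ Set.ncard_lt_ncard (SetLike.coe_ssubset_coe.2 h2))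
      rw [← inf_eq_left]
      exact Subgroup.eq_of_le_of_card_ge inf_le_left (by rw [hm, hc]; exact Nat.pow_le_pow_right hr.out.pos hm2)
    obtain ⟨y, hyK, hyN⟩ := SetLike.exists_of_lt hNlt
    have hE := Cfsg.Agent.Fus.isElementaryAbelian_sup (A := N) (B := zpowers y) ⟨hNc, fun z hz => hKe z (hNK hz)⟩
      ⟨inferInstance, fun z hz => hKe z (zpowers_le.2 hyK hz)⟩
      fun u hu v hv => mem_centralizer_iff.1 (hNK' (zpowers_le.2 hyK hv)) u hu
    obtain ⟨m, hm⟩ := hcard (N ⊔ zpowers y) (sup_le hNK (zpowers_le.2 hyK))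
    have h2 : N < N ⊔ zpowers y := lt_of_le_of_ne le_sup_left fun e => hyN (e ▸ mem_sup_right (mem_zpowers y))
    have hm2 : 2 < m := (Nat.pow_lt_pow_iff_right hr1).1 (hm ▸ hb ▸ Set.ncard_lt_ncard (SetLike.coe_ssubset_coe.2 h2))
    have := hrk _ (sup_le hNK (zpowers_le.2 hyK)) hE
    rw [hm] at this
    exact absurd ((Nat.pow_le_pow_iff_right hr1).1 this) (not_le.2 hm2)

/-- An elementary abelian group of order `p³` acting on a group of rank two has a nontrivial element
acting trivially. -/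
theorem exists_trivial_of_rank_two (hpr : p ≠ r) (hr2 : r ≠ 2) {R : Type u} [Group R] [Finite R]
    (hR : IsPGroup r R) (hrk : Cfsg.PRankLE r 2 R) {E : Type u} [Group E] [Finite E]
    (hEc : ∀ a b : E, a * b = b * a) (hEp : ∀ a : E, a ^ p = 1) (hE3 : p ^ 3 ≤ Nat.card E)
    (φ : E →* MulAut R) : ∃ a : E, a ≠ 1 ∧ φ a = 1 := by
  classical
  obtain ⟨H, K, res, hKe, hres⟩ := OddRankTwo.exists_reduction hr2 hR
  have hKR : IsPGroup r K := (hR.to_subgroup H).to_subgroup K
  have hrkK : Cfsg.PRankLE r 2 K := RankTwo.rankLE_subgroup (RankTwo.rankLE_subgroup hrk H) K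
  set ψ := res.comp φ with hψ
  haveI : Finite (K ⋊[ψ] E) := Finite.of_equiv _ SemidirectProduct.equivProd.symm
  have hKcard : Nat.card (SemidirectProduct.inl : K →* K ⋊[ψ] E).range = Nat.card K :=
    (Nat.card_congr (MonoidHom.ofInjective SemidirectProduct.inl_injective).toEquiv).symm
  obtain ⟨a', ha', ha1, hac⟩ := exists_centralizes_small (G := K ⋊[ψ] E) (p := p) hpr
    (A := (SemidirectProduct.inr : E →* K ⋊[ψ] E).range) (K := (SemidirectProduct.inl : K →* K ⋊[ψ] E).range)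
    ⟨⟨⟨by
      rintro ⟨_, a, rfl⟩ ⟨_, b, rfl⟩
      exact Subtype.ext (by simp only [MulMemClass.coe_mul, ← map_mul, hEc a b])⟩⟩, by
      rintro _ ⟨a, rfl⟩
      rw [← map_pow, hEp, map_one]⟩
    (by rwa [← Nat.card_congr (MonoidHom.ofInjective SemidirectProduct.inr_injective).toEquiv])
    (by rintro _ ⟨x, rfl⟩; rw [← map_pow, hKe, map_one])
    (by rw [hKcard]; exact RankTwo.card_le_cube hKR hrkK hKe)
    (fun F hF hFe => by
      haveI := hFe.1
      have hc := hrkK (F.comap (SemidirectProduct.inl : K →* K ⋊[ψ] E))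
        ⟨⟨fun a b => Subtype.ext (SemidirectProduct.inl_injective (by
          rw [MulMemClass.coe_mul, MulMemClass.coe_mul, map_mul, map_mul]
          exact congrArg Subtype.val (hFe.1.is_comm.comm ⟨_, a.2⟩ ⟨_, b.2⟩)))⟩⟩
        fun a ha => SemidirectProduct.inl_injective (by rw [map_pow, map_one]; exact hFe.2 _ ha)
      rwa [← card_map_of_injective (SemidirectProduct.inl_injective (φ := ψ)), map_comap_eq_self hF] at hc)
    (fun a _ => by
      haveI : (SemidirectProduct.inl : K →* K ⋊[ψ] E).range.Normal := by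
        rw [SemidirectProduct.range_inl_eq_ker_rightHom]; infer_instance
      rw [normalizer_eq_top]; trivial)
  obtain ⟨a, rfl⟩ := ha'
  refine ⟨a, fun e => ha1 (by rw [e, map_one]), hres (φ a) ?_ ?_⟩
  · have h1 : orderOf (φ a) ∣ p := orderOf_dvd_of_pow_eq_one (by rw [← map_pow, hEp, map_one])
    exact Nat.Coprime.coprime_dvd_left h1 ((Nat.coprime_primes hp.out hr.out).2 hpr)
  · refine MulEquiv.ext fun k => ?_
    have h2 := mem_centralizer_iff.1 hac (SemidirectProduct.inl k) ⟨k, rfl⟩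
    apply SemidirectProduct.inl_injective (φ := ψ)
    show (SemidirectProduct.inl (ψ a k) : K ⋊[ψ] E) = SemidirectProduct.inl k
    rw [SemidirectProduct.inl_aut, map_inv, ← h2, mul_inv_cancel_right]

/-- The version inside a group. -/
theorem exists_centralizes (hpr : p ≠ r) (hr2 : r ≠ 2) {A R : Subgroup G} (hA : Cfsg.IsElementaryAbelian p A)
    (hA3 : p ^ 3 ≤ Nat.card A) (hR : IsPGroup r R) (hrk : Cfsg.PRankLE r 2 R)
    (hAR : A ≤ normalizer (R : Set G)) : ∃ a ∈ A, a ≠ 1 ∧ a ∈ centralizer (R : Set G) := by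
  obtain ⟨a, ha1, ha⟩ := exists_trivial_of_rank_two hpr hr2 hR hrk
    (fun a b : A => Subtype.ext (congrArg Subtype.val (hA.1.is_comm.comm a b)))
    (fun a => Subtype.ext (by rw [coe_pow, coe_one]; exact hA.2 a a.2)) hA3
    (R.normalizerMonoidHom.comp (inclusion hAR))
  have hk : inclusion hAR a ∈ R.normalizerMonoidHom.ker := ha
  rw [normalizerMonoidHom_ker] at hk
  exact ⟨a, a.2, fun e => ha1 (Subtype.ext e), hk⟩

/-- A group of exponent `q` and order more than `q` has an elementary abelian subgroup of order `q²`. -/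
theorem exists_elem_sq {q : ℕ} [hq : Fact q.Prime] {H : Subgroup G} (he : ∀ x ∈ H, x ^ q = 1)
    (hH : q < Nat.card H) : ∃ E, E ≤ H ∧ Cfsg.IsElementaryAbelian q E ∧ q ^ 2 ≤ Nat.card E := by
  have hHq : IsPGroup q H := fun x => ⟨1, Subtype.ext (by rw [coe_pow, coe_one, pow_one]; exact he x x.2)⟩
  haveI : Nontrivial H := Finite.one_lt_card_iff_nontrivial.1 (hq.out.one_lt.trans hH)
  haveI := hHq.center_nontrivial
  obtain ⟨z, hz⟩ := exists_ne (1 : center H)
  have hz1 : (((z : H) : G)) ≠ 1 := fun e => hz (Subtype.ext (Subtype.ext e))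
  have hzH : zpowers ((z : H) : G) ≤ H := zpowers_le.2 (z : H).2
  have hzc : Nat.card (zpowers ((z : H) : G)) = q := by
    rw [Nat.card_zpowers]; exact orderOf_eq_prime (he _ (z : H).2) hz1
  obtain ⟨y, hyH, hyz⟩ : ∃ y ∈ H, y ∉ zpowers ((z : H) : G) := by
    by_contra h
    push Not at h
    exact absurd (card_le_of_le h) (not_le.2 (hzc ▸ hH))
  set E := zpowers ((z : H) : G) ⊔ zpowers y with hE
  have hEH : E ≤ H := sup_le hzH (zpowers_le.2 hyH)
  refine ⟨E, hEH, Cfsg.Agent.Fus.isElementaryAbelian_sup ⟨inferInstance, fun a ha => he a (hzH ha)⟩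
    ⟨inferInstance, fun a ha => he a (zpowers_le.2 hyH ha)⟩ ?_, ?_⟩
  · rintro _ ⟨i, rfl⟩ _ ⟨j, rfl⟩
    exact (Commute.zpow_zpow (show Commute ((z : H) : G) y from
      (congrArg Subtype.val (mem_center_iff.1 z.2 ⟨y, hyH⟩)).symm) i j).eq
  · obtain ⟨n, hn⟩ := IsPGroup.iff_card.1 (hHq.to_le hEH)
    have h1 : Nat.card (zpowers ((z : H) : G)) < Nat.card E := Set.ncard_lt_ncard (SetLike.coe_ssubset_coe.2
      (lt_of_le_of_ne le_sup_left fun e => hyz (e ▸ mem_sup_right (mem_zpowers y))))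
    rw [hzc, hn] at h1
    rw [hn]
    refine Nat.pow_le_pow_right hq.out.pos ((Nat.pow_lt_pow_iff_right hq.out.one_lt).1 ?_)
    rwa [pow_one]

/-- A `q`-group of rank three has a subgroup of exponent `q` and order at least `q²`, normalised by
its normaliser, whose noncyclic subgroups centralise groups of rank three. -/
theorem exists_good_sub {q : ℕ} [hq : Fact q.Prime] (hq2 : q ≠ 2) {Q : Subgroup G} (hQ : IsPGroup q Q)
    (hrk : ¬ Cfsg.PRankLE q 2 Q) :
    ∃ T : Subgroup G, T ≤ Q ∧ normalizer (Q : Set G) ≤ normalizer (T : Set G) ∧ (∀ x ∈ T, x ^ q = 1) ∧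
      q < Nat.card T ∧ ∀ E ≤ T, Cfsg.IsElementaryAbelian q E → q ^ 2 ≤ Nat.card E →
        ∃ B, Cfsg.IsElementaryAbelian q B ∧ q ^ 3 ≤ Nat.card B ∧ B ≤ centralizer (E : Set G) := by
  classical
  have hcx : ∀ {c x : G}, c ∈ centralizer (Q : Set G) → x ∈ Q → Commute c x := fun hc hx =>
    (mem_centralizer_iff.1 hc _ hx).symm
  have hpw : ∀ {x y : G}, x ∈ Q → y ∈ Q → x ^ q = 1 → ⁅y, x⁆ ∈ centralizer (Q : Set G) → ⁅y, x⁆ ^ q = 1 := by
    intro x y hx hy hxq hc
    have h2 : y * x * y⁻¹ = ⁅y, x⁆ * x := by rw [commutatorElement_def]; group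
    have h3 : (y * x * y⁻¹) ^ q = 1 := by rw [conj_pow, hxq, mul_one, mul_inv_cancel]
    rwa [h2, (hcx hc hx).mul_pow, hxq, mul_one] at h3
  let T : Subgroup G :=
    { carrier := {x | x ∈ Q ∧ x ^ q = 1 ∧ ∀ y ∈ Q, ⁅x, y⁆ ∈ centralizer (Q : Set G)}
      one_mem' := ⟨one_mem _, one_pow q, fun y _ => by rw [commutatorElement_one_left]; exact one_mem _⟩
      mul_mem' := by
        rintro x y ⟨hx, hxq, hxc⟩ ⟨hy, hyq, hyc⟩
        refine ⟨Q.mul_mem hx hy, ?_, fun z hz => ?_⟩
        · have hc := hyc x hx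
          rw [Grp.mul_pow_class_two (x := x) (y := y) (c := ⁅y, x⁆) (by rw [commutatorElement_def]; group)
            (hcx hc hx) (hcx hc hy) q, hxq, hyq]
          obtain ⟨m, hm⟩ := hq.out.dvd_choose_self two_ne_zero (by have := hq.out.two_le; omega : 2 < q)
          rw [hm, pow_mul, hpw hx hy hxq hc, one_pow, one_mul, one_mul]
        · rw [show ⁅x * y, z⁆ = x * ⁅y, z⁆ * x⁻¹ * ⁅x, z⁆ by simp [commutatorElement_def, mul_assoc],
            show x * ⁅y, z⁆ * x⁻¹ = ⁅y, z⁆ by rw [← (hcx (hyc z hz) hx).eq, mul_inv_cancel_right]]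
          exact mul_mem (hyc z hz) (hxc z hz)
      inv_mem' := by
        rintro x ⟨hx, hxq, hxc⟩
        refine ⟨Q.inv_mem hx, by rw [inv_pow, hxq, inv_one], fun z hz => ?_⟩
        rw [show ⁅x⁻¹, z⁆ = x⁻¹ * ⁅x, z⁆⁻¹ * x by simp [commutatorElement_def, mul_assoc],
          ← (hcx (inv_mem (hxc z hz)) (Q.inv_mem hx)).eq, inv_mul_cancel_right]
        exact inv_mem (hxc z hz) }
  refine ⟨T, fun x hx => hx.1, ?_, fun x hx => hx.2.1, ?_, ?_⟩
  · have key : ∀ g ∈ normalizer (Q : Set G), ∀ x ∈ T, g * x * g⁻¹ ∈ T := by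
      rintro g hg x ⟨hx, hxq, hxc⟩
      refine ⟨(Subgroup.mem_normalizer_iff.1 hg x).1 hx, by rw [conj_pow, hxq, mul_one, mul_inv_cancel], fun y hy => ?_⟩
      rw [show ⁅g * x * g⁻¹, y⁆ = g * ⁅x, g⁻¹ * y * g⁆ * g⁻¹ by simp [commutatorElement_def, mul_assoc]]
      exact (Subgroup.mem_normalizer_iff.1 (normalizer_le_normalizer_centralizer hg) _).1
        (hxc _ (Grp.mem_conj_normalizer' hg hy))
    exact fun g hg => Subgroup.mem_normalizer_iff.2 fun x => ⟨key g hg x, fun h => by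
      simpa [mul_assoc] using key g⁻¹ (inv_mem hg) _ h⟩
  · obtain ⟨E, hEQ, hE, hE3⟩ : ∃ E : Subgroup G, E ≤ Q ∧ Cfsg.IsElementaryAbelian q E ∧ q ^ 3 ≤ Nat.card E := by
      obtain ⟨E, hEc, hEp, hE3⟩ : ∃ E : Subgroup Q, IsMulCommutative E ∧ (∀ a ∈ E, a ^ q = 1) ∧ q ^ 2 < Nat.card E := by
        unfold Cfsg.PRankLE at hrk; push Not at hrk; exact hrk
      obtain ⟨n, hn⟩ := IsPGroup.iff_card.1 (hQ.to_subgroup E)
      refine ⟨E.map Q.subtype, map_subtype_le _, ⟨by haveI := hEc; infer_instance, ?_⟩, ?_⟩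
      · rintro _ ⟨a, ha, rfl⟩; rw [← map_pow, hEp a ha, map_one]
      · rw [hn] at hE3; rw [card_map_of_injective Q.subtype_injective, hn]
        exact Nat.pow_le_pow_right hq.out.pos ((Nat.pow_lt_pow_iff_right hq.out.one_lt).1 hE3)
    obtain ⟨U, hUn, hUe, hU2⟩ := Grp.RankThree.exists_normal_sq hQ (E := E.subgroupOf Q)
      ⟨by haveI := hE.1; infer_instance, fun a ha => Subtype.ext (hE.2 _ ha)⟩
      (by rwa [Nat.card_congr (subgroupOfEquivOfLe hEQ).toEquiv])
    haveI := hUn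
    haveI := hQ.isNilpotent
    have hUz : ⁅U, (⊤ : Subgroup Q)⁆ ≤ center Q := by
      set C := ⁅U, (⊤ : Subgroup Q)⁆
      have hlt : C < U := by
        refine lt_of_le_of_ne (commutator_le_left U ⊤) fun e => ?_
        have hall : ∀ n, U ≤ (⊤ : Subgroup Q).lowerCentralSeries n := by
          intro n
          induction n with
          | zero => simp
          | succ n ih =>
            rw [Subgroup.lowerCentralSeries_succ]
            exact e.ge.trans (commutator_mono ih le_rfl)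
        obtain ⟨n, hn⟩ := (Subgroup.nilpotent_iff_lowerCentralSeries (G := ↥Q)).1 hQ.isNilpotent
        have hUb : U = ⊥ := le_bot_iff.1 ((hall n).trans hn.le)
        rw [hUb, card_bot] at hU2
        exact absurd hU2.ge (not_le.2 (Nat.one_lt_pow (by norm_num) hq.out.one_lt))
      obtain ⟨j, hj⟩ := IsPGroup.iff_card.1 (hQ.to_subgroup C)
      have hj1 : j < 2 := (Nat.pow_lt_pow_iff_right hq.out.one_lt).1 (hj ▸ hU2 ▸ Set.ncard_lt_ncard (SetLike.coe_ssubset_coe.2 hlt))
      haveI : C.Normal := inferInstanceAs (⁅U, (⊤ : Subgroup Q)⁆).Normal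
      by_cases hC : C = ⊥
      · rw [hC]; exact bot_le
      have hjne : j ≠ 0 := fun e => hC (card_eq_one.1 (by rw [hj, e, pow_zero]))
      obtain rfl : j = 1 := by omega
      have h := Grp.inf_center_ne_bot C hC
      obtain ⟨k, hk⟩ := IsPGroup.iff_card.1 (hQ.to_subgroup (C ⊓ center Q))
      have hk0 : k ≠ 0 := fun e => h (card_eq_one.1 (by rw [hk, e, pow_zero]))
      rw [← inf_eq_left]
      exact Subgroup.eq_of_le_of_card_ge inf_le_left (by rw [hj, hk]; exact Nat.pow_le_pow_right hq.out.pos (by omega))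
    calc q < q ^ 2 := by nlinarith [hq.out.two_le]
      _ = Nat.card (U.map Q.subtype) := by rw [card_map_of_injective Q.subtype_injective, hU2]
      _ ≤ Nat.card T := card_le_of_le (by
        rintro _ ⟨u, hu, rfl⟩
        refine ⟨u.2, by rw [← map_pow, hUe.2 u hu, map_one], fun y hy => mem_centralizer_iff.2 fun z hz => ?_⟩
        exact congrArg Subtype.val (mem_center_iff.1 (hUz (commutator_mem_commutator hu (mem_top (⟨y, hy⟩ : Q)))) ⟨z, hz⟩))
  · intro E hET hE hE2
    have hEQ : E ≤ Q := fun x hx => (hET hx).1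
    obtain ⟨n, hn⟩ := IsPGroup.iff_card.1 (hQ.to_le hEQ)
    have hn2 : 2 ≤ n := (Nat.pow_le_pow_iff_right hq.out.one_lt).1 (hn ▸ hE2)
    rcases lt_or_eq_of_le hn2 with h3 | rfl
    · exact ⟨E, hE, hn ▸ Nat.pow_le_pow_right hq.out.pos h3, le_centralizer_iff_isMulCommutative.2 hE.1⟩
    by_cases hz : ∃ z ∈ Q, z ∈ centralizer (Q : Set G) ∧ z ^ q = 1 ∧ z ∉ E
    · obtain ⟨z, hzQ, hzc, hzq, hzE⟩ := hz
      have hB := Cfsg.Agent.Fus.isElementaryAbelian_sup (A := E) (B := zpowers z) hE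
        ⟨inferInstance, fun a ha => by obtain ⟨i, rfl⟩ := ha; show (z ^ i) ^ q = 1
                                       rw [← zpow_natCast, ← zpow_mul, mul_comm, zpow_mul, zpow_natCast, hzq, one_zpow]⟩
        fun a ha b hb => by
          obtain ⟨i, rfl⟩ := hb
          exact ((hcx hzc (hEQ ha)).symm.zpow_right i).eq
      obtain ⟨m, hm⟩ := IsPGroup.iff_card.1 (hQ.to_le (sup_le hEQ (zpowers_le.2 hzQ)))
      have hm2 : 2 < m := (Nat.pow_lt_pow_iff_right hq.out.one_lt).1 (hm ▸ hn ▸ Set.ncard_lt_ncard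
        (SetLike.coe_ssubset_coe.2 (lt_of_le_of_ne le_sup_left fun e => hzE (e ▸ mem_sup_right (mem_zpowers z)))))
      exact ⟨_, hB, hm ▸ Nat.pow_le_pow_right hq.out.pos hm2,
        (show E ⊔ zpowers z ≤ centralizer ((E ⊔ zpowers z : Subgroup G) : Set G) from
          le_centralizer_iff_isMulCommutative.2 hB.1).trans (centralizer_le (SetLike.coe_subset_coe.2 le_sup_left))⟩
    push Not at hz
    haveI : (E.subgroupOf Q).Normal := ⟨fun e he y => by
      obtain ⟨-, hoe, hce⟩ := hET he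
      have hm : ⁅(e : G), (y : G)⁆ ∈ centralizer (Q : Set G) := hce y y.2
      have hi : ⁅(y : G), (e : G)⁆ ∈ centralizer (Q : Set G) := by
        rw [← commutatorElement_inv]; exact inv_mem hm
      have hEm := hz ⁅(y : G), (e : G)⁆ (Q.mul_mem (Q.mul_mem (Q.mul_mem y.2 e.2) (Q.inv_mem y.2)) (Q.inv_mem e.2)) hi
        (hpw e.2 y.2 hoe hi)
      show (y : G) * e * (y : G)⁻¹ ∈ E
      rw [show (y : G) * e * (y : G)⁻¹ = ⁅(y : G), (e : G)⁆ * e by rw [commutatorElement_def]; group]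
      exact E.mul_mem hEm he⟩
    obtain ⟨A, hEA, -, hAc, hA3⟩ := Cfsg.Agent.S1452.result q hq2 hQ hrk (E.subgroupOf Q)
      ⟨by haveI := hE.1; infer_instance, fun a ha => Subtype.ext (hE.2 _ ha)⟩
      (by rw [Nat.card_congr (subgroupOfEquivOfLe hEQ).toEquiv, hn])
    obtain ⟨B, hBc, hBp, hB3⟩ : ∃ B : Subgroup A, IsMulCommutative B ∧ (∀ a ∈ B, a ^ q = 1) ∧ q ^ 2 < Nat.card B := by
      unfold Cfsg.PRankLE at hA3; push Not at hA3; exact hA3
    refine ⟨(B.map A.subtype).map Q.subtype, ⟨by haveI := hBc; infer_instance, ?_⟩, ?_, ?_⟩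
    · rintro _ ⟨_, ⟨a, ha, rfl⟩, rfl⟩
      rw [← map_pow, ← map_pow, hBp a ha, map_one, map_one]
    · obtain ⟨m, hm⟩ := IsPGroup.iff_card.1 ((hQ.to_subgroup A).to_subgroup B)
      rw [card_map_of_injective Q.subtype_injective, card_map_of_injective A.subtype_injective, hm]
      rw [hm] at hB3
      exact Nat.pow_le_pow_right hq.out.pos ((Nat.pow_lt_pow_iff_right hq.out.one_lt).1 hB3)
    · rintro _ ⟨_, ⟨a, -, rfl⟩, rfl⟩
      refine mem_centralizer_iff.2 fun e he => ?_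
      have h : (a : Q) ∈ centralizer (A : Set Q) := by rw [hAc]; exact a.2
      exact congrArg Subtype.val (mem_centralizer_iff.1 h ⟨e, hEQ he⟩ (hEA he))

end Cfsg.Agent.Transfer.Loc
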