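import Cfsg.Agent.Lib.Transfer.Local.Uniqueness
import Cfsg.Agent.Lib.Transfer.Local.SmallAction
import Cfsg.Agent.Lib.Grp.CoprimeHall
import Cfsg.Agent.Lib.Transfer.CN.MinSimple
import Cfsg.Agent.S1451

/-!
A self-centralising normal subgroup of rank three of a Sylow subgroup lies in a unique maximal
subgroup.
-/

set_option autoImplicit false
set_option linter.style.haveILetI false
set_option linter.unusedSectionVars false

namespace Cfsg.Agent.Transfer.Loc

open Subgroup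
open scoped commutatorElement Pointwise

universe u

variable {G : Type u} [Group G] [Finite G]

theorem le_normalizer_inf_centralizer {A Y D : Subgroup G} (hAc : IsMulCommutative A) (hD : D ≤ A)
    (hY : A ≤ normalizer (Y : Set G)) : A ≤ normalizer ((Y ⊓ centralizer (D : Set G) : Subgroup G) : Set G) := by
  intro a ha
  refine Subgroup.mem_normalizer_iff.2 fun y => and_congr (Subgroup.mem_normalizer_iff.1 (hY ha) y) ?_
  exact Subgroup.mem_normalizer_iff.1 (normalizer_le_normalizer_centralizer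
    (centralizer_le_normalizer _ (mem_centralizer_iff.2 fun d hd =>
      congrArg Subtype.val (hAc.is_comm.comm ⟨d, hD hd⟩ ⟨a, ha⟩)))) y

/-- An invariant Hall subgroup containing a given invariant subgroup and a conjugate of a second one. -/
theorem exists_hall_pair {π : Set ℕ} {A R U₁ U₂ : Subgroup G} [Group.IsSolvable R]
    (hAR : A ≤ normalizer (R : Set G)) (hcop : (Nat.card A).Coprime (Nat.card R))
    (h₁ : U₁ ≤ R) (hA₁ : A ≤ normalizer (U₁ : Set G)) (hπ₁ : Grp.PiHall.IsPiNum π (Nat.card U₁))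
    (h₂ : U₂ ≤ R) (hA₂ : A ≤ normalizer (U₂ : Set G)) (hπ₂ : Grp.PiHall.IsPiNum π (Nat.card U₂)) :
    ∃ H, H ≤ R ∧ A ≤ normalizer (H : Set G) ∧ Grp.PiHall.IsPiNum π (Nat.card H) ∧
      ∃ d ∈ centralizer (A : Set G), U₁ ≤ H ∧ MulAut.conj d • U₂ ≤ H := by
  obtain ⟨H₁, hH₁, hAH₁, hU₁⟩ := Grp.PiHall.exists_ge (π := π) _ G A R U₁ rfl hAR hcop inferInstance h₁ hA₁ hπ₁
  obtain ⟨H₂, hH₂, hAH₂, hU₂⟩ := Grp.PiHall.exists_ge (π := π) _ G A R U₂ rfl hAR hcop inferInstance h₂ hA₂ hπ₂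
  obtain ⟨c, hc, e⟩ := Grp.PiHall.centralizer_conj hAR hcop hH₂ hAH₂ hH₁ hAH₁
  exact ⟨H₁, hH₁.1, hAH₁, hH₁.2.1, c, hc.2, hU₁, e ▸ Subgroup.pointwise_smul_le_pointwise_smul_iff.2 hU₂⟩

theorem isPiNum_of_pGroup {π : Set ℕ} {q : ℕ} [hq : Fact q.Prime] {Y : Subgroup G} (hY : IsPGroup q Y) (h : q ∈ π) :
    Grp.PiHall.IsPiNum π (Nat.card Y) := fun r hr hd => by
  obtain ⟨n, hn⟩ := IsPGroup.iff_card.1 hY
  rw [(Nat.prime_dvd_prime_iff_eq hr hq.out).1 (hr.dvd_of_dvd_pow (hn ▸ hd))]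
  exact h

variable {p : ℕ} [hp : Fact p.Prime] (hG : Cfsg.IsMinSimpleOddOrder G)
include hG

theorem coprime_of_pGroup {q : ℕ} [hq : Fact q.Prime] (hqp : q ≠ p) {Y : Subgroup G} (hY : IsPGroup q Y) :
    (Nat.card Y).Coprime p := by
  obtain ⟨n, hn⟩ := IsPGroup.iff_card.1 hY
  rw [hn]; exact ((Nat.coprime_primes hq.out hp.out).2 hqp).pow_left n

theorem scn_le_core (P : Sylow p G) {A : Subgroup G} (hA : Cfsg.IsSCN (P : Subgroup G) A) (hp2 : p ≠ 2)
    {X Y : Subgroup G} (hX : X ≠ ⊤) (hAX : A ≤ X) (hYX : Y ≤ X) (hY : (Nat.card Y).Coprime p)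
    (hAY : A ≤ normalizer (Y : Set G)) : Y ≤ O' p X := by
  haveI := solvable_of_ne_top hG hX
  have hAp : IsPGroup p A := P.isPGroup'.to_le hA.1
  rw [O'_eq, ← map_subgroupOf_eq_of_le hYX]
  refine map_mono (Transitivity.le_pPrimeCore_of_invariant (Fus.TransOdd.isPConstrained_of_solvable inferInstance)
    (A.subgroupOf X) (hAp.of_equiv (subgroupOfEquivOfLe hAX).symm) (fun a ha b hb => Subtype.ext ?_)
    (fun y hy hyp => ?_) (fun e => absurd e hp2) _ ?_ fun a ha => ?_)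
  · have h := (scn_abelian hG hA).is_comm.comm ⟨(a : G), ha⟩ ⟨(b : G), hb⟩
    exact congrArg (fun z : A => (z : G)) h
  · refine Fus.TransOdd.mem_of_centralizes P hA.1 (fun s hs b hb => (Subgroup.mem_normalizer_iff.1 (hA.2.1 hs) b).1 hb)
      hA.2.2 (mem_centralizer_iff.2 fun a ha => congrArg Subtype.val (mem_centralizer_iff.1 hy ⟨a, hAX ha⟩ ha)) ?_
    have := hyp.map X.subtype
    rwa [MonoidHom.map_zpowers] at this
  · rwa [Nat.card_congr (subgroupOfEquivOfLe hYX).toEquiv]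
  · refine Subgroup.mem_normalizer_iff.2 fun y => ?_
    simpa [mem_subgroupOf] using Subgroup.mem_normalizer_iff.1 (hAY ha) (y : G)

omit hG in
theorem rankLE_fittingSubgroup {M : Subgroup G} (h : Cfsg.RankLE 2 (Cfsg.fittingOf M)) :
    Cfsg.RankLE 2 (Cfsg.fittingSubgroup M) := fun r hr B hBc hBe => by
  let e : Cfsg.fittingSubgroup M ≃* Cfsg.fittingOf M :=
    (Cfsg.fittingSubgroup M).equivMapOfInjective M.subtype M.subtype_injective
  have h1 := h r hr (B.map e.toMonoidHom) (by haveI := hBc; infer_instance) (by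
    rintro _ ⟨b, hb, rfl⟩
    rw [← map_pow, hBe b hb, map_one])
  rwa [card_map_of_injective e.injective] at h1

omit hG in
/-- A maximal subgroup over `A` with a `q`-subgroup all whose noncyclic subgroups lie in no other one. -/
structure High (p : ℕ) (A : Subgroup G) (q : ℕ) (M T : Subgroup G) : Prop where
  prime : q.Prime
  ne : q ≠ p
  coatom : IsCoatom M
  le : A ≤ M
  isPG : IsPGroup q T
  expo : ∀ x ∈ T, x ^ q = 1
  leM : T ≤ M
  norm : M ≤ normalizer (T : Set G)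
  big : q < Nat.card T
  uniq : ∀ H ≤ T, q < Nat.card H → ∀ L, IsCoatom L → H ≤ L → L = M

variable (P : Sylow p G) {A A₀ : Subgroup G} (hA : Cfsg.IsSCN (P : Subgroup G) A) (hp2 : p ≠ 2)
  (h3 : ¬ Cfsg.PRankLE p 2 A) (hA₀ : A₀ ≤ A) (hA₀e : Cfsg.IsElementaryAbelian p A₀) (hA₀3 : p ^ 3 ≤ Nat.card A₀)

include hA in
theorem le_centralizer_singleton {x : G} (hx : x ∈ A) : A ≤ centralizer ({x} : Set G) :=
  (le_centralizer_iff_isMulCommutative.2 (scn_abelian hG hA)).trans (centralizer_le (Set.singleton_subset_iff.2 hx))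

include hA hA₀ hA₀e hA₀3 in
theorem High.good {q : ℕ} {M T : Subgroup G} (h : High p A q M T) :
    ∃ x ∈ A₀, x ≠ 1 ∧ centralizer ({x} : Set G) ≤ M := by
  haveI := Fact.mk h.prime
  suffices hs : ∃ x ∈ A₀, x ≠ 1 ∧ q < Nat.card ↥(T ⊓ centralizer ({x} : Set G)) by
    obtain ⟨x, hx, hx1, hq⟩ := hs
    obtain ⟨L, hL, hxL⟩ := exists_coatom hG (TransHyp.centralizer_ne_top hG hx1)
    exact ⟨x, hx, hx1, h.uniq _ inf_le_left hq L hL (inf_le_right.trans hxL) ▸ hxL⟩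
  by_contra hcon
  push Not at hcon
  have hA1 : A₀ ≠ ⊥ := Grp.ne_bot_of_card (by norm_num) hA₀3
  have hpT : ¬ p ∣ Nat.card T := fun hd =>
    hp.out.ne_one (Nat.eq_one_of_dvd_coprimes (coprime_of_pGroup hG h.ne h.isPG) hd dvd_rfl)
  have hAT : A₀ ≤ normalizer (T : Set G) := hA₀.trans (h.le.trans h.norm)
  have hT : ¬ T ≤ ⊥ := fun e => h.big.not_ge (by rw [le_bot_iff.1 e, card_bot]; exact h.prime.one_lt.le)
  obtain ⟨D₁, hD₁, hi₁, hne₁⟩ : ∃ D, D ≤ A₀ ∧ D.relIndex A₀ = p ∧ ¬ T ⊓ centralizer (D : Set G) ≤ ⊥ := by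
    by_contra hc
    push Not at hc
    exact hT (Grp.le_of_hyperplanes hA₀e hA1 T hpT hAT hc)
  set C₁ := T ⊓ centralizer (D₁ : Set G) with hC₁
  have hq₁ : q ≤ Nat.card C₁ := by
    obtain ⟨n, hn⟩ := IsPGroup.iff_card.1 (h.isPG.to_le (inf_le_left : C₁ ≤ T))
    have hn0 : n ≠ 0 := fun e => hne₁ (card_eq_one.1 (by rw [hn, e, pow_zero])).le
    rw [hn]; exact Nat.le_self_pow hn0 q
  obtain ⟨b, hb, hb1⟩ := (Subgroup.bot_or_exists_ne_one D₁).resolve_left
    (Grp.ne_bot_of_relIndex ((Nat.pow_le_pow_right hp.out.pos (by norm_num)).trans hA₀3) hi₁)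
  have hC₁b : C₁ = T ⊓ centralizer ({b} : Set G) := Subgroup.eq_of_le_of_card_ge
    (inf_le_inf_left T (centralizer_le (Set.singleton_subset_iff.2 hb))) ((hcon b (hD₁ hb) hb1).trans hq₁)
  obtain ⟨D₂, hD₂, hi₂, hne₂⟩ : ∃ D, D ≤ A₀ ∧ D.relIndex A₀ = p ∧ ¬ T ⊓ centralizer (D : Set G) ≤ C₁ := by
    by_contra hc
    push Not at hc
    have h1 : T ≤ C₁ := Grp.le_of_hyperplanes hA₀e hA1 T hpT hAT hc
    exact h.big.not_ge ((card_le_of_le h1).trans (hC₁b ▸ hcon b (hD₁ hb) hb1))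
  obtain ⟨x, ⟨hx₁, hx₂⟩, hx1⟩ := Grp.elemAb_exists_mem_inf hA₀e hA₀3 hD₁ hD₂ hi₁ hi₂
  have hC₁x : C₁ = T ⊓ centralizer ({x} : Set G) := Subgroup.eq_of_le_of_card_ge
    (inf_le_inf_left T (centralizer_le (Set.singleton_subset_iff.2 hx₁))) ((hcon x (hD₁ hx₁) hx1).trans hq₁)
  exact hne₂ (hC₁x ▸ inf_le_inf_left T (centralizer_le (Set.singleton_subset_iff.2 hx₂)))

include hA hA₀ hA₀e hA₀3 in
theorem High.centralizer_le {q : ℕ} {M T : Subgroup G} (h : High p A q M T) :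
    centralizer (A : Set G) ≤ M := by
  obtain ⟨x, hx, -, hxM⟩ := h.good hG P hA hA₀ hA₀e hA₀3
  exact (Subgroup.centralizer_le (Set.singleton_subset_iff.2 (hA₀ hx))).trans hxM

include hA h3 hA₀ hA₀e hA₀3 in
theorem High.inv_le {q : ℕ} {M T : Subgroup G} (h : High p A q M T) {Y : Subgroup G} (hY : IsPGroup q Y)
    (hAY : A ≤ normalizer (Y : Set G)) : Y ≤ M := by
  haveI := Fact.mk h.prime
  obtain ⟨htr, -⟩ := scn_conj hG P hA h3 (q := q) h.ne
  obtain ⟨Q₁, hQ₁, hT₁⟩ := Transitivity.exists_max (E := A) (q := q) T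
    (Transitivity.mem_inv_iff.2 ⟨h.isPG, h.le.trans h.norm⟩)
  obtain ⟨Q₂, hQ₂, hY₂⟩ := Transitivity.exists_max (E := A) (q := q) Y (Transitivity.mem_inv_iff.2 ⟨hY, hAY⟩)
  obtain ⟨k, hk, e⟩ := htr Q₁ hQ₁ Q₂ hQ₂
  obtain ⟨L, hL, hQL⟩ := exists_coatom hG (ne_top_of_pGroup hG (Transitivity.mem_inv_iff.1 hQ₁.1).1)
  have hQM : Q₁ ≤ M := h.uniq T le_rfl h.big L hL (hT₁.trans hQL) ▸ hQL
  have hkM : k ∈ M := h.centralizer_le hG P hA hA₀ hA₀e hA₀3 (O'_le _ _ hk)
  intro y hy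
  obtain ⟨z, hz, rfl⟩ : y ∈ Q₁.map (MulAut.conj k).toMonoidHom := e ▸ hY₂ hy
  exact M.mul_mem (M.mul_mem hkM (hQM hz)) (M.inv_mem hkM)

include hA hA₀ hA₀e in
theorem High.key {q : ℕ} {M T : Subgroup G} (h : High p A q M T) {x : G} (hx : x ∈ A₀) (hx1 : x ≠ 1)
    (hxM : ¬ centralizer ({x} : Set G) ≤ M) {S : Subgroup G} (hS : IsPGroup q S) (hS1 : S ≠ ⊥)
    (hSx : S ≤ centralizer ({x} : Set G)) (hSM : S ≤ M) {w : G} (hwT : w ∈ T) (hw1 : w ≠ 1)
    (hwx : w ∈ centralizer ({x} : Set G)) (hwS : w ∈ normalizer (S : Set G)) :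
    normalizer (S : Set G) ≤ M := by
  haveI := Fact.mk h.prime
  obtain ⟨t, ⟨htT, htS⟩, htx⟩ : ∃ t ∈ T ⊓ centralizer (S : Set G), t ∉ centralizer ({x} : Set G) := by
    by_contra hc
    push Not at hc
    have hcop : (Nat.card (zpowers x)).Coprime q := by
      rw [Nat.card_zpowers, orderOf_eq_prime (hA₀e.2 x hx) hx1]
      exact (Nat.coprime_primes hp.out h.prime).2 h.ne.symm
    have hsing : centralizer ({x} : Set G) = centralizer (zpowers x : Set G) := Cfsg.Agent.Grp.centralizer_singleton_eq_zpowers x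
    have hxT := Grp.thompson_PQ S (zpowers x) hS hcop (hsing ▸ hSx) T h.isPG (hSM.trans h.norm)
      (zpowers_le.2 (h.norm (h.le (hA₀ hx)))) (le_centralizer_iff.1 ?_)
    · obtain ⟨L, hL, hxL⟩ := exists_coatom hG (TransHyp.centralizer_ne_top hG hx1)
      have hTL : T ≤ L := le_trans (hsing ▸ le_centralizer_iff.1 hxT) hxL
      exact hxM (h.uniq T le_rfl h.big L hL hTL ▸ hxL)
    · rw [le_centralizer_iff, ← hsing]; exact fun t ht => hc t ht
  obtain ⟨L, hL, hNL⟩ := exists_coatom_normalizer hG hS1 (ne_top_of_pGroup hG hS)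
  refine h.uniq (zpowers w ⊔ zpowers t) (sup_le (zpowers_le.2 hwT) (zpowers_le.2 htT)) ?_ L hL
    ((sup_le (zpowers_le.2 hwS) (zpowers_le.2 (centralizer_le_normalizer _ htS))).trans hNL) ▸ hNL
  by_contra hle
  have e : zpowers w = zpowers w ⊔ zpowers t := Subgroup.eq_of_le_of_card_ge le_sup_left
    ((not_lt.1 hle).trans (by rw [Nat.card_zpowers, orderOf_eq_prime (h.expo w hwT) hw1]))
  exact htx (zpowers_le.2 hwx (e.symm ▸ mem_sup_right (mem_zpowers t)))

include hA h3 hA₀ hA₀e hA₀3 in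
/-- An invariant subgroup of `C(x)` outside `M` meeting `T` has trivial `q`-core. -/
theorem High.core_eq_bot {q : ℕ} {M T : Subgroup G} (h : High p A q M T) {x : G} (hx : x ∈ A₀) (hx1 : x ≠ 1)
    (hxM : ¬ centralizer ({x} : Set G) ≤ M) {H : Subgroup G} (hHx : H ≤ centralizer ({x} : Set G))
    (hAH : A ≤ normalizer (H : Set G)) (hHM : ¬ H ≤ M) {w : G} (hwT : w ∈ T) (hwH : w ∈ H) (hw1 : w ≠ 1) :
    O q H = ⊥ := by
  haveI := Fact.mk h.prime
  by_contra hne
  have hSM : O q H ≤ M := h.inv_le hG P hA h3 hA₀ hA₀e hA₀3 (O_isPGroup q H) (le_normalizer_core hAH)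
  exact hHM ((le_normalizer_core' H).trans (h.key hG P hA hA₀ hA₀e hx hx1 hxM (O_isPGroup q H) hne
    ((O_le q H).trans hHx) hSM hwT hw1 (hHx hwH) (le_normalizer_core' H hwH)))

include hA hp2 h3 hA₀ hA₀e hA₀3 in
theorem High.eq {q s : ℕ} {M T L T' : Subgroup G} (h : High p A q M T) (h' : High p A s L T') : M = L := by
  haveI := Fact.mk h.prime
  haveI := Fact.mk h'.prime
  by_contra hne
  have hAc := scn_abelian hG hA
  have hAp : IsPGroup p A := P.isPGroup'.to_le hA.1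
  by_cases hqs : q = s
  · subst hqs
    exact hne (h'.uniq T' le_rfl h'.big M h.coatom (h.inv_le hG P hA h3 hA₀ hA₀e hA₀3 h'.isPG (h'.le.trans h'.norm)))
  have hA1 : A₀ ≠ ⊥ := Grp.ne_bot_of_card (by norm_num) hA₀3
  have out : ∀ {q : ℕ} {M T : Subgroup G}, High p A q M T → ∀ L', IsCoatom L' → L' ≠ M →
      ∃ D, D ≤ A₀ ∧ D.relIndex A₀ = p ∧ ¬ T ⊓ centralizer (D : Set G) ≤ L' := by
    intro q M T h L' hL' hne'
    haveI := Fact.mk h.prime
    by_contra hc
    push Not at hc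
    refine hne' (h.uniq T le_rfl h.big L' hL' (Grp.le_of_hyperplanes hA₀e hA1 T ?_ (hA₀.trans (h.le.trans h.norm)) hc))
    exact fun hd => hp.out.ne_one (Nat.eq_one_of_dvd_coprimes (coprime_of_pGroup hG h.ne h.isPG) hd dvd_rfl)
  obtain ⟨D, hD, hi, hDL⟩ := out h L h'.coatom (Ne.symm hne)
  obtain ⟨D', hD', hi', hDM⟩ := out h' M h.coatom hne
  obtain ⟨x, ⟨hxD, hxD'⟩, hx1⟩ := Grp.elemAb_exists_mem_inf hA₀e hA₀3 hD hD' hi hi'
  set U₁ := T ⊓ centralizer (D : Set G) with hU₁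
  set U₂ := T' ⊓ centralizer (D' : Set G) with hU₂
  set X := centralizer ({x} : Set G) with hX
  have hx : x ∈ A₀ := hD hxD
  have hU₁X : U₁ ≤ X := inf_le_right.trans (Subgroup.centralizer_le (Set.singleton_subset_iff.2 hxD))
  have hU₂X : U₂ ≤ X := inf_le_right.trans (Subgroup.centralizer_le (Set.singleton_subset_iff.2 hxD'))
  have hXM : ¬ X ≤ M := fun e => hDM (hU₂X.trans e)
  have hXL : ¬ X ≤ L := fun e => hDL (hU₁X.trans e)
  have hXt : X ≠ ⊤ := TransHyp.centralizer_ne_top hG hx1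
  have hAX : A ≤ X := le_centralizer_singleton hG P hA (hA₀ hx)
  set R := O' p X with hR
  haveI := solvable_of_ne_top hG hXt
  haveI : Group.IsSolvable R := isSolvable_of_le (O'_le p X)
  have hcop : (Nat.card A).Coprime (Nat.card R) := by
    obtain ⟨n, hn⟩ := IsPGroup.iff_card.1 hAp
    rw [hn]; exact (O'_coprime X).symm.pow_left n
  have hA₁ : A ≤ normalizer (U₁ : Set G) := le_normalizer_inf_centralizer hAc (hD.trans hA₀) (h.le.trans h.norm)
  have hA₂ : A ≤ normalizer (U₂ : Set G) := le_normalizer_inf_centralizer hAc (hD'.trans hA₀) (h'.le.trans h'.norm)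
  obtain ⟨H, hHR, hAH, hHπ, d, hd, h1H, h2H⟩ := exists_hall_pair (π := ({q, s} : Set ℕ))
    (le_normalizer_core (hAX.trans le_normalizer)) hcop
    (scn_le_core hG P hA hp2 hXt hAX hU₁X (coprime_of_pGroup hG h.ne (h.isPG.to_le inf_le_left)) hA₁) hA₁
    (isPiNum_of_pGroup (h.isPG.to_le inf_le_left) (Or.inl rfl))
    (scn_le_core hG P hA hp2 hXt hAX hU₂X (coprime_of_pGroup hG h'.ne (h'.isPG.to_le inf_le_left)) hA₂) hA₂
    (isPiNum_of_pGroup (h'.isPG.to_le inf_le_left) (Or.inr rfl))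
  have hdM : d ∈ M := h.centralizer_le hG P hA hA₀ hA₀e hA₀3 hd
  have hdx : d ∈ X := Subgroup.centralizer_le (Set.singleton_subset_iff.2 (hA₀ hx)) hd
  obtain ⟨u, hu, huL⟩ := SetLike.not_le_iff_exists.1 hDL
  obtain ⟨v, hv, hvM⟩ := SetLike.not_le_iff_exists.1 hDM
  have hv' : d * v * d⁻¹ ∈ H := h2H (Subgroup.smul_mem_pointwise_smul v (MulAut.conj d) _ hv)
  have hHX : H ≤ X := hHR.trans (O'_le p X)
  have hHM : ¬ H ≤ M := fun e => hvM (by
    have := M.mul_mem (M.mul_mem (M.inv_mem hdM) (e hv')) hdM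
    simpa [mul_assoc] using this)
  have hHL : ¬ H ≤ L := fun e => huL (e (h1H hu))
  haveI : Group.IsSolvable H := isSolvable_of_le hHX
  have hH1 : H ≠ ⊥ := fun e => hHM (e ▸ bot_le)
  obtain ⟨r, hr, hrF⟩ := Nat.exists_prime_and_dvd (fun e => fittingOf_ne_bot hH1 (card_eq_one.1 e))
  haveI := Fact.mk hr
  have hO := O_ne_bot_of_dvd hrF
  rcases hHπ r hr (hrF.trans (card_dvd_of_le (fittingOf_le H))) with rfl | rfl
  · exact hO (h.core_eq_bot hG P hA h3 hA₀ hA₀e hA₀3 hx hx1 hXM hHX hAH hHM hu.1 (h1H hu)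
      fun e => huL (e ▸ L.one_mem))
  · refine hO (h'.core_eq_bot hG P hA h3 hA₀ hA₀e hA₀3 hx hx1 hXL hHX hAH hHL ?_ hv' fun e => hvM ?_)
    · have hdL : d ∈ L := h'.centralizer_le hG P hA hA₀ hA₀e hA₀3 hd
      exact (Subgroup.mem_normalizer_iff.1 (h'.norm hdL) v).1 hv.1
    · rw [conj_eq_one_iff.1 e]; exact M.one_mem

/-- A maximal subgroup with a Fitting subgroup of rank three gives such data. -/
theorem exists_high {q : ℕ} [hq : Fact q.Prime] (hqp : q ≠ p) {A M : Subgroup G} (hM : IsCoatom M) (hAM : A ≤ M)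
    (hF : ¬ Cfsg.PRankLE q 2 (Cfsg.fittingOf M)) : ∃ T, High p A q M T := by
  obtain ⟨E, hEF, hE, hE3⟩ := exists_elem_of_not_prank hF
  have hEO : E ≤ O q M := fun x hx => mem_O_of_mem_fittingOf (hEF hx) (k := 1) (by rw [pow_one]; exact hE.2 x hx)
  have hO : ¬ Cfsg.PRankLE q 2 (O q M) := not_prank_of_elem hEO hE hE3
  have hq2 : q ≠ 2 := by
    refine ne_two hG ((?_ : q ∣ Nat.card E).trans (card_subgroup_dvd_card E))
    obtain ⟨n, hn⟩ := IsPGroup.iff_card.1 (Grp.elemAb_isPGroup hE)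
    rcases Nat.eq_zero_or_pos n with rfl | h0
    · rw [hn, pow_zero] at hE3
      exact absurd hE3 (not_le.2 (Nat.one_lt_pow (by norm_num) hq.out.one_lt))
    · rw [hn]; exact dvd_pow_self q h0.ne'
  obtain ⟨T, hTQ, hTn, hTe, hTc, hTB⟩ := exists_good_sub hq2 (O_isPGroup q M) hO
  have hMT : M ≤ normalizer (T : Set G) := (le_normalizer_core' M).trans hTn
  refine ⟨T, hq.out, hqp, hM, hAM, (O_isPGroup q M).to_le hTQ, hTe, hTQ.trans (O_le q M), hMT, hTc,
    fun H hHT hH L hL hHL => ?_⟩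
  obtain ⟨E', hE'H, hE', hE'2⟩ := exists_elem_sq (fun x hx => hTe x (hHT hx)) hH
  obtain ⟨B, hB, hB3, hBc⟩ := hTB E' (hE'H.trans hHT) hE' hE'2
  have hU := u_elem_of_centralizes hG (u_of_fitting_rank hG hM hF hB hB3) (le_centralizer_iff.1 hBc) hE' hE'2
  exact hU.unique ⟨hL, hE'H.trans hHL⟩ ⟨hM, (hE'H.trans hHT).trans (hTQ.trans (O_le q M))⟩

include hA h3 hA₀ hA₀e hA₀3 in
theorem exists_nonlow : ∃ M, IsCoatom M ∧ A ≤ M ∧ ¬ Cfsg.RankLE 2 (Cfsg.fittingOf M) := by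
  have hpA : p ∣ Nat.card A := by
    obtain ⟨n, hn⟩ := IsPGroup.iff_card.1 (Grp.elemAb_isPGroup hA₀e)
    refine dvd_trans ?_ (card_dvd_of_le hA₀)
    rcases Nat.eq_zero_or_pos n with rfl | h0
    · rw [hn, pow_zero] at hA₀3
      exact absurd hA₀3 (not_le.2 (Nat.one_lt_pow (by norm_num) hp.out.one_lt))
    · rw [hn]; exact dvd_pow_self p h0.ne'
  have hpG : p ∣ Nat.card G := hpA.trans (card_subgroup_dvd_card A)
  have hW := Invol.isZJFunctor_centerEl.{u} (p := p)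
  obtain ⟨hp2, hfree⟩ := CN.MinSimple.qdFree hG hpG (⊤ : Subgroup G)
  have hfree' : ¬ Cfsg.Involves ↥(Cfsg.qd p) G := fun h => hfree
    ((Invol.isSectionOf_of_involves h).trans (Invol.IsSectionOf.of_surjective (Subgroup.topEquiv (G := G)).toMonoidHom
      (Subgroup.topEquiv (G := G)).surjective)).involves
  set V := ZJ p (P : Subgroup G) with hV
  set N := normalizer (V : Set G) with hN
  have hPN : (P : Subgroup G) ≤ N := le_normalizer.trans (normalizer_le_ZJ _)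
  have hV1 : V ≠ ⊥ := ZJ_ne_bot P.isPGroup' (P.ne_bot_of_dvd_card hpG)
  obtain ⟨M, hM, hNM⟩ := exists_coatom_normalizer hG hV1 (ne_top_of_pGroup hG (P.isPGroup'.to_le (ZJ_le _)))
  have hPM : (P : Subgroup G) ≤ M := hPN.trans hNM
  refine ⟨M, hM, hA.1.trans hPM, fun hlow => ?_⟩
  have hPK : (P : Subgroup G) ≤ ⁅M, M⁆ := by
    refine le_trans ?_ (commutator_mono hNM hNM)
    intro x hx
    refine Transfer.commutator_inf_sylow_le P ?_ ⟨CN.MinSimple.perfect hG ▸ Subgroup.mem_top x, hx⟩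
    intro z hz u hu
    obtain ⟨y, hy, hy'⟩ := Invol.zj_control_of_free hp2 hW hfree' P (D := (P : Subgroup G))
      ⟨le_rfl, fun _ _ _ h => h⟩ (A := {z}) (Set.singleton_subset_iff.2 hz) (g := u)
      (fun a ha => by rw [Set.mem_singleton_iff.1 ha]; exact hu)
    rw [← hy' z rfl, show z⁻¹ * (y * z * y⁻¹) = ⁅z⁻¹, y⁆ by rw [commutatorElement_def]; group]
    exact Subgroup.commutator_mem_commutator (hPN (inv_mem hz)) hy
  haveI := solvable_of_ne_top hG hM.1
  have hlow' := rankLE_fittingSubgroup hlow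
  obtain ⟨hnil, -, -⟩ := Cfsg.Agent.S1451.result (G := M) (hG.1.of_dvd_nat (card_subgroup_dvd_card M)) (Or.inr hlow')
  have hPF : A₀ ≤ Cfsg.fittingOf M := by
    refine hA₀.trans (hA.1.trans (hPK.trans ?_))
    rw [show ⁅M, M⁆ = (commutator M).map M.subtype by
      rw [_root_.commutator_def, Subgroup.map_commutator, ← MonoidHom.range_eq_map, Subgroup.range_subtype]]
    exact map_mono (Grp.le_fittingSubgroup inferInstance hnil)
  exact not_prank_of_elem hPF hA₀e hA₀3 (hlow p hp.out)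

include hA hp2 h3 hA₀ hA₀e hA₀3 in
/-- In a high maximal subgroup lie the invariant subgroups of the Sylow subgroup. -/
theorem High.sylow_inv_le {q : ℕ} {M T : Subgroup G} (h : High p A q M T)
    (hlow : ∀ L, IsCoatom L → A ≤ L → L ≠ M → Cfsg.RankLE 2 (Cfsg.fittingOf L))
    {r : ℕ} [hr : Fact r.Prime] (hrp : r ≠ p) {Y : Subgroup G} (hY : IsPGroup r Y)
    (hPY : (P : Subgroup G) ≤ normalizer (Y : Set G)) : Y ≤ M := by
  haveI := Fact.mk h.prime
  have hAc := scn_abelian hG hA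
  have hAp : IsPGroup p A := P.isPGroup'.to_le hA.1
  have hA1 : A₀ ≠ ⊥ := Grp.ne_bot_of_card (by norm_num) hA₀3
  by_cases hrq : r = q
  · subst hrq
    exact h.inv_le hG P hA h3 hA₀ hA₀e hA₀3 hY (hA.1.trans hPY)
  obtain ⟨htr, hmax⟩ := scn_conj hG P hA h3 (q := r) hrp
  obtain ⟨Q, hQ, hYQ⟩ := Transitivity.exists_max Y (Transitivity.mem_inv_iff.2 ⟨hY, hPY⟩)
  refine hYQ.trans ?_
  obtain ⟨hQr, hPQ⟩ := Transitivity.mem_inv_iff.1 hQ.1
  rcases eq_or_ne Q ⊥ with rfl | hQ1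
  · exact bot_le
  obtain ⟨L, hL, hNL⟩ := exists_coatom_normalizer hG hQ1 (ne_top_of_pGroup hG hQr)
  by_cases hLM : L = M
  · exact hLM ▸ le_normalizer.trans hNL
  have hAL : A ≤ L := hA.1.trans (hPQ.trans hNL)
  have hQL : Q ≤ L := le_normalizer.trans hNL
  have hL2 := hlow L hL hAL hLM
  haveI := solvable_of_ne_top hG hL.1
  have hr2 : r ≠ 2 := by
    refine ne_two hG ?_
    obtain ⟨n, hn⟩ := IsPGroup.iff_card.1 hQr
    rcases Nat.eq_zero_or_pos n with rfl | h0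
    · exact absurd (card_eq_one.1 (by simpa using hn)) hQ1
    · exact ((dvd_pow_self r h0.ne').trans (dvd_of_eq hn.symm)).trans (card_subgroup_dvd_card Q)
  have hRrk : Cfsg.PRankLE r 2 (O r L) := by
    by_contra hc
    obtain ⟨E, hE, hEe, hE3⟩ := exists_elem_of_not_prank hc
    exact not_prank_of_elem (hE.trans (O_le_fittingOf L)) hEe hE3 (hL2 r hr.out)
  have hAR : A ≤ normalizer (O r L : Set G) := hAL.trans (le_normalizer_core' L)
  obtain ⟨a, ha, ha1, haR⟩ := exists_centralizes (Ne.symm hrp) hr2 hA₀e hA₀3 (O_isPGroup r L) hRrk (hA₀.trans hAR)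
  have hQA : ⁅Q, A⁆ ≤ O r L := by
    have hlow' := rankLE_fittingSubgroup hL2
    obtain ⟨hnil, -, -⟩ := Cfsg.Agent.S1451.result (G := L) (hG.1.of_dvd_nat (card_subgroup_dvd_card L)) (Or.inr hlow')
    have hF : ⁅L, L⁆ ≤ Cfsg.fittingOf L := by
      rw [show ⁅L, L⁆ = (commutator L).map L.subtype by
        rw [_root_.commutator_def, Subgroup.map_commutator, ← MonoidHom.range_eq_map, Subgroup.range_subtype]]
      exact map_mono (Grp.le_fittingSubgroup inferInstance hnil)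
    intro z hz
    have hzQ : z ∈ Q := Grp.commutator_le_left_of_le_normalizer (hA.1.trans hPQ) hz
    obtain ⟨k, hk⟩ := hQr ⟨z, hzQ⟩
    exact mem_O_of_mem_fittingOf (hF (commutator_mono hQL hAL hz)) (congrArg Subtype.val hk)
  have haQ : a ∈ centralizer (Q : Set G) := by
    refine zpowers_le.1 (Grp.le_centralizer_of_series (zpowers a) Q (O r L)
      (zpowers_le.2 (hA.1.trans hPQ (hA₀ ha))) ?_ (Or.inr (by haveI := hQr.isNilpotent; infer_instance))
      ((commutator_mono le_rfl (zpowers_le.2 (hA₀ ha))).trans hQA)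
      (commutator_eq_bot_iff_le_centralizer.2 (le_centralizer_iff.1 (zpowers_le.2 haR))))
    rw [Nat.card_zpowers, orderOf_eq_prime (hA₀e.2 a ha) ha1]
    exact (coprime_of_pGroup hG hrp hQr).symm
  have haS : ∀ S : Subgroup G, IsPGroup r S → A ≤ normalizer (S : Set G) → a ∈ centralizer (S : Set G) := by
    intro S hS hAS
    obtain ⟨Q', hQ', hSQ'⟩ := Transitivity.exists_max S (Transitivity.mem_inv_iff.2 ⟨hS, hAS⟩)
    obtain ⟨k, hk, e⟩ := htr Q (hmax hQ) Q' hQ'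
    refine mem_centralizer_iff.2 fun s hs => ?_
    obtain ⟨z, hz, rfl⟩ : s ∈ Q.map (MulAut.conj k).toMonoidHom := e ▸ hSQ' hs
    have hka : Commute k a := (mem_centralizer_iff.1 (O'_le _ _ hk) a (hA₀ ha)).symm
    exact ((hka.mul_left (mem_centralizer_iff.1 haQ z hz)).mul_left hka.inv_left).eq
  by_cases haM : centralizer ({a} : Set G) ≤ M
  · exact le_trans (fun z hz => mem_centralizer_iff.2 fun b hb => by
      rw [Set.mem_singleton_iff.1 hb]; exact (mem_centralizer_iff.1 haQ z hz).symm) haM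
  have hpQ : ¬ p ∣ Nat.card Q := fun hd =>
    hp.out.ne_one (Nat.eq_one_of_dvd_coprimes (coprime_of_pGroup hG hrp hQr) hd dvd_rfl)
  have hpT : ¬ p ∣ Nat.card T := fun hd =>
    hp.out.ne_one (Nat.eq_one_of_dvd_coprimes (coprime_of_pGroup hG h.ne h.isPG) hd dvd_rfl)
  obtain ⟨Dj, hDj, hij, haDj, w, hw, hwA⟩ : ∃ D, D ≤ A₀ ∧ D.relIndex A₀ = p ∧ a ∉ D ∧
      ∃ w ∈ T ⊓ centralizer (D : Set G), w ∉ centralizer (A₀ : Set G) := by
    by_contra hc
    push Not at hc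
    have hTa : T ≤ centralizer ({a} : Set G) := Grp.le_of_hyperplanes hA₀e hA1 T hpT
      (hA₀.trans (h.le.trans h.norm)) fun D hD hi w hw => by
        by_cases haD : a ∈ D
        · exact Subgroup.centralizer_le (Set.singleton_subset_iff.2 haD) hw.2
        · exact Subgroup.centralizer_le (Set.singleton_subset_iff.2 ha) (hc D hD hi haD w hw)
    obtain ⟨L', hL', haL'⟩ := exists_coatom hG (TransHyp.centralizer_ne_top hG ha1)
    exact haM (h.uniq T le_rfl h.big L' hL' (hTa.trans haL') ▸ haL')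
  refine Grp.le_of_hyperplanes hA₀e hA1 Q hpQ (hA₀.trans (hA.1.trans hPQ)) fun D hD hi => ?_
  obtain ⟨x, ⟨hxD, hxj⟩, hx1⟩ := Grp.elemAb_exists_mem_inf hA₀e hA₀3 hD hDj hi hij
  set X := centralizer ({x} : Set G) with hX
  set U₁ := T ⊓ centralizer (Dj : Set G) with hU₁
  set U₂ := Q ⊓ centralizer (D : Set G) with hU₂
  have hU₁X : U₁ ≤ X := inf_le_right.trans (Subgroup.centralizer_le (Set.singleton_subset_iff.2 hxj))
  have hU₂X : U₂ ≤ X := inf_le_right.trans (Subgroup.centralizer_le (Set.singleton_subset_iff.2 hxD))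
  by_cases hXM : X ≤ M
  · exact hU₂X.trans hXM
  have hx : x ∈ A₀ := hD hxD
  have hXt : X ≠ ⊤ := TransHyp.centralizer_ne_top hG hx1
  have hAX : A ≤ X := le_centralizer_singleton hG P hA (hA₀ hx)
  haveI := solvable_of_ne_top hG hXt
  haveI : Group.IsSolvable (O' p X) := isSolvable_of_le (O'_le p X)
  have hcop : (Nat.card A).Coprime (Nat.card (O' p X)) := by
    obtain ⟨n, hn⟩ := IsPGroup.iff_card.1 hAp
    rw [hn]; exact (O'_coprime X).symm.pow_left n
  have hA₁ : A ≤ normalizer (U₁ : Set G) := le_normalizer_inf_centralizer hAc (hDj.trans hA₀) (h.le.trans h.norm)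
  have hA₂ : A ≤ normalizer (U₂ : Set G) := le_normalizer_inf_centralizer hAc (hD.trans hA₀) (hA.1.trans hPQ)
  obtain ⟨H, hHR, hAH, hHπ, d, hd, h1H, h2H⟩ := exists_hall_pair (π := ({q, r} : Set ℕ))
    (le_normalizer_core (hAX.trans le_normalizer)) hcop
    (scn_le_core hG P hA hp2 hXt hAX hU₁X (coprime_of_pGroup hG h.ne (h.isPG.to_le inf_le_left)) hA₁) hA₁
    (isPiNum_of_pGroup (h.isPG.to_le inf_le_left) (Or.inl rfl))
    (scn_le_core hG P hA hp2 hXt hAX hU₂X (coprime_of_pGroup hG hrp (hQr.to_le inf_le_left)) hA₂) hA₂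
    (isPiNum_of_pGroup (hQr.to_le inf_le_left) (Or.inr rfl))
  have hdM : d ∈ M := h.centralizer_le hG P hA hA₀ hA₀e hA₀3 hd
  by_cases hHM : H ≤ M
  · intro v hv
    have := M.mul_mem (M.mul_mem (M.inv_mem hdM) (hHM (h2H (Subgroup.smul_mem_pointwise_smul v (MulAut.conj d) _ hv)))) hdM
    simpa [mul_assoc] using this
  exfalso
  have hHX : H ≤ X := hHR.trans (O'_le p X)
  have hw1 : w ≠ 1 := fun e => hwA (e ▸ one_mem _)
  have hwH : w ∈ H := h1H hw
  have hOq : O q H = ⊥ := h.core_eq_bot hG P hA h3 hA₀ hA₀e hA₀3 hx hx1 hXM hHX hAH hHM hw.1 hwH hw1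
  haveI : Group.IsSolvable H := isSolvable_of_le hHX
  have hFO : Cfsg.fittingOf H ≤ O r H := by
    rw [fittingOf_eq]
    refine iSup_le fun t => ?_
    haveI := Fact.mk t.2
    by_cases ht : O (t : ℕ) H = ⊥
    · rw [ht]; exact bot_le
    rcases hHπ t t.2 ((dvd_of_O_ne_bot ht).trans (card_dvd_of_le (fittingOf_le H))) with e | e
    · exact absurd (e ▸ hOq) ht
    · exact (Set.mem_singleton_iff.1 e).symm ▸ le_rfl
  have haH : a ∈ normalizer (H : Set G) := hAH (hA₀ ha)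
  have haF : a ∈ centralizer (Cfsg.fittingOf H : Set G) :=
    Subgroup.centralizer_le hFO (haS (O r H) (O_isPGroup r H) (le_normalizer_core hAH))
  have hcH : a * w * a⁻¹ * w⁻¹ ∈ H := H.mul_mem ((Subgroup.mem_normalizer_iff.1 haH w).1 hwH) (H.inv_mem hwH)
  have hcT : a * w * a⁻¹ * w⁻¹ ∈ T :=
    T.mul_mem ((Subgroup.mem_normalizer_iff.1 (h.norm (h.le (hA₀ ha))) w).1 hw.1) (T.inv_mem hw.1)
  have hcF : a * w * a⁻¹ * w⁻¹ ∈ centralizer (Cfsg.fittingOf H : Set G) := by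
    refine mem_centralizer_iff.2 fun f hf => ?_
    have hf' : w⁻¹ * f * w ∈ Cfsg.fittingOf H := Grp.mem_conj_normalizer' (le_normalizer_fittingOf H hwH) hf
    have h1 : Commute f a := mem_centralizer_iff.1 haF f hf
    have h2 : Commute f (w * a * w⁻¹) := by
      have h3 : (w⁻¹ * f * w) * a = a * (w⁻¹ * f * w) := mem_centralizer_iff.1 haF _ hf'
      show f * (w * a * w⁻¹) = w * a * w⁻¹ * f
      calc f * (w * a * w⁻¹) = w * ((w⁻¹ * f * w) * a) * w⁻¹ := by group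
        _ = w * (a * (w⁻¹ * f * w)) * w⁻¹ := by rw [h3]
        _ = w * a * w⁻¹ * f := by group
    rw [show a * w * a⁻¹ * w⁻¹ = a * (w * a * w⁻¹)⁻¹ by group]
    exact (h1.mul_right h2.inv_right).eq
  have hcr := hFO (centralizer_fittingOf_le H ⟨hcH, hcF⟩)
  have hc1 : a * w * a⁻¹ * w⁻¹ = 1 := by
    obtain ⟨k, hk⟩ := O_isPGroup r H ⟨_, hcr⟩
    exact Cfsg.Agent.S1451.eq_one_of_primary (fun e : q = r => hrq e.symm) (i := 1)
      (by rw [pow_one]; exact h.expo _ hcT) (congrArg Subtype.val hk)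
  refine hwA (mem_centralizer_iff.2 fun b hb => ?_)
  have haw : a * w = w * a := by
    calc a * w = a * w * a⁻¹ * w⁻¹ * (w * a) := by group
      _ = w * a := by rw [hc1, one_mul]
  have hA₀sub : A₀ ≤ Dj ⊔ zpowers a := by
    have hle : Dj ⊔ zpowers a ≤ A₀ := sup_le hDj (zpowers_le.2 ha)
    have hmul := relIndex_mul_relIndex Dj (Dj ⊔ zpowers a) A₀ le_sup_left hle
    rw [hij] at hmul
    rcases (Nat.dvd_prime hp.out).1 (Dvd.intro _ hmul) with e | e
    · exact absurd (relIndex_eq_one.1 e (mem_sup_right (mem_zpowers a))) haDj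
    · rw [e] at hmul
      exact relIndex_eq_one.1 (Nat.eq_of_mul_eq_mul_left hp.out.pos (hmul.trans (mul_one p).symm))
  have hle2 : Dj ⊔ zpowers a ≤ centralizer ({w} : Set G) := by
    refine sup_le (fun b hb => mem_centralizer_iff.2 fun v hv => ?_) (zpowers_le.2 (mem_centralizer_iff.2 fun v hv => ?_))
    · rw [Set.mem_singleton_iff.1 hv]; exact (mem_centralizer_iff.1 hw.2 b hb).symm
    · rw [Set.mem_singleton_iff.1 hv]; exact haw.symm
  exact (mem_centralizer_iff.1 (hle2 (hA₀sub hb)) w rfl).symm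

include hA h3 in
/-- A self-centralising normal subgroup of rank three lies in a unique maximal subgroup. -/
theorem scn_unique : Cfsg.InUniqueMaximal A := by
  have hAc := scn_abelian hG hA
  have hAp : IsPGroup p A := P.isPGroup'.to_le hA.1
  obtain ⟨A₀, hA₀, hA₀e, hA₀3⟩ := exists_elem_of_not_prank h3
  have hA₀3' : p ^ 3 ≤ Nat.card A₀ := hA₀3
  have hA1 : A ≠ ⊥ := ne_bot_of_le_ne_bot (Grp.ne_bot_of_card (by norm_num) hA₀3') hA₀
  by_contra hU
  have hrank : ∀ M, IsCoatom M → Cfsg.PRankLE p 2 (Cfsg.fittingOf M) := fun M hM => by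
    by_contra hc
    exact hU (u_mono hG (u_of_fitting_rank hG hM hc hA₀e hA₀3') hA₀ (ne_top_of_pGroup hG hAp))
  have hhigh : ∀ M, IsCoatom M → A ≤ M → ¬ Cfsg.RankLE 2 (Cfsg.fittingOf M) → ∃ q T, High p A q M T := by
    intro M hM hAM hF
    unfold Cfsg.RankLE at hF
    push Not at hF
    obtain ⟨q, hq, hqF⟩ := hF
    haveI := Fact.mk hq
    obtain ⟨T, hT⟩ := exists_high hG (p := p) (q := q) (fun e => hqF (e ▸ hrank M hM)) hM hAM hqF
    exact ⟨q, T, hT⟩
  obtain ⟨M, hM, hAM, hF⟩ := exists_nonlow hG P hA h3 hA₀ hA₀e hA₀3'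
  have hp2 : p ≠ 2 := by
    refine ne_two hG ?_
    obtain ⟨n, hn⟩ := IsPGroup.iff_card.1 hAp
    rcases Nat.eq_zero_or_pos n with rfl | h0
    · exact absurd (card_eq_one.1 (by simpa using hn)) hA1
    · exact ((dvd_pow_self p h0.ne').trans (dvd_of_eq hn.symm)).trans (card_subgroup_dvd_card A)
  obtain ⟨q, T, h⟩ := hhigh M hM hAM hF
  have hlow : ∀ L, IsCoatom L → A ≤ L → L ≠ M → Cfsg.RankLE 2 (Cfsg.fittingOf L) := fun L hL hAL hne => by
    by_contra hc
    obtain ⟨s, T', h'⟩ := hhigh L hL hAL hc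
    exact hne (h.eq hG P hA hp2 h3 hA₀ hA₀e hA₀3' h').symm
  refine hU (inUniqueMaximal hG hM hAM hAp hA1 fun Y hAY hY => ?_)
  have hcop : (Nat.card A).Coprime (Nat.card Y) := by
    obtain ⟨m, hm⟩ := IsPGroup.iff_card.1 hAp
    rw [hm]; exact hY.symm.pow_left m
  have hYM : Y ≤ Y ⊓ M := by
    refine Grp.le_of_forall_sylow inf_le_left fun r hr => ?_
    obtain ⟨S, hS, hAS⟩ := Grp.exists_invariant_sylow A Y hAY hcop
      (Or.inl (by haveI := hAp.isNilpotent; infer_instance)) r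
    refine ⟨S, hS, le_inf hS.1 ?_⟩
    by_cases hrp : r = p
    · subst hrp
      obtain ⟨m, hm⟩ := IsPGroup.iff_card.1 hS.2.1
      rcases Nat.eq_zero_or_pos m with rfl | h0
      · rw [card_eq_one.1 (by simpa using hm : Nat.card S = 1)]; exact bot_le
      · exact absurd (Nat.eq_one_of_dvd_coprimes hY (((dvd_pow_self r h0.ne').trans
          (dvd_of_eq hm.symm)).trans (card_dvd_of_le hS.1)) dvd_rfl) hp.out.ne_one
    · exact scn_inv_le hG P hA h3 ((O'_le _ _).trans (h.centralizer_le hG P hA hA₀ hA₀e hA₀3')) hrp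
        (fun Z hZ hPZ => h.sylow_inv_le hG P hA hp2 h3 hA₀ hA₀e hA₀3' hlow hrp hZ hPZ) hS.2.1 hAS
  exact hYM.trans inf_le_right

end Cfsg.Agent.Transfer.Loc

namespace Cfsg.Agent.Transfer.Loc

open Subgroup

universe u

/-- Every elementary abelian subgroup of order at least `q³` is a uniqueness subgroup. -/
theorem u_elem_three {G : Type u} [Group G] [Finite G] (hG : Cfsg.IsMinSimpleOddOrder G) {q : ℕ} [hq : Fact q.Prime]
    {E : Subgroup G} (hE : Cfsg.IsElementaryAbelian q E) (hE3 : q ^ 3 ≤ Nat.card E) : Cfsg.InUniqueMaximal E := by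
  obtain ⟨P, hEP⟩ := (Grp.elemAb_isPGroup hE).exists_le_sylow
  have hqG : q ∣ Nat.card G := by
    obtain ⟨n, hn⟩ := IsPGroup.iff_card.1 (Grp.elemAb_isPGroup hE)
    refine dvd_trans ?_ (card_subgroup_dvd_card E)
    rcases Nat.eq_zero_or_pos n with rfl | h0
    · rw [hn, pow_zero] at hE3
      exact absurd hE3 (not_le.2 (Nat.one_lt_pow (by norm_num) hq.out.one_lt))
    · rw [hn]; exact dvd_pow_self q h0.ne'
  obtain ⟨A, hA, h3⟩ := exists_scn (ne_two hG hqG) P.isPGroup' (not_prank_of_elem hEP hE hE3)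
  obtain ⟨A₀, hA₀, hA₀e, hA₀3⟩ := exists_elem_of_not_prank h3
  exact u_rank_three hG (u_elem_of_centralizes hG (scn_unique hG P hA h3)
    (hA₀.trans (le_centralizer_iff_isMulCommutative.2 (scn_abelian hG hA))) hA₀e
    ((Nat.pow_le_pow_right hq.out.pos (by norm_num)).trans hA₀3)) hA₀e hA₀3 hE hE3

end Cfsg.Agent.Transfer.Loc
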