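import Cfsg.Agent.Lib.Transfer.Local.SigmaSignal
import Cfsg.Agent.S1403

/-!
The centraliser of an elementary plane of a maximal subgroup lies in it.
-/

set_option autoImplicit false
set_option linter.style.haveILetI false
set_option linter.unusedSectionVars false
set_option maxHeartbeats 1000000

namespace Cfsg.Agent.Transfer.Loc

open Subgroup
open scoped commutatorElement Pointwise

universe u

variable {G : Type u} [Group G] [Finite G] {p q : ℕ} [hp : Fact p.Prime] [hq : Fact q.Prime]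

omit hp in
theorem exists_elem_sylow {n : ℕ} {M Q : Subgroup G} [Group.IsSolvable M] (hr : ¬ Cfsg.PRankLE q n M)
    (hQ : Grp.IsSylowIn q Q M) :
    ∃ E : Subgroup G, E ≤ Q ∧ Cfsg.IsElementaryAbelian q E ∧ q ^ (n + 1) ≤ Nat.card E := by
  obtain ⟨E, hEM, hE, hEc⟩ := exists_elem_of_not_prank hr
  obtain ⟨S, hS, hES⟩ := exists_sylowIn_ge hEM (Grp.elemAb_isPGroup hE)
  obtain ⟨k, -, hk⟩ := hS.conj hQ
  refine ⟨MulAut.conj k • E, hk ▸ Subgroup.pointwise_smul_le_pointwise_smul_iff.2 hES, ⟨?_, ?_⟩,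
    by rw [Grp.card_conj_smul]; exact hEc⟩
  · haveI := hE.1
    exact Subgroup.map_isMulCommutative _ _
  · rintro _ ⟨b, hb, rfl⟩
    show (MulAut.conj k b) ^ q = 1
    rw [← map_pow, hE.2 b hb, map_one]

omit hp in
theorem sigmaCore_sylow {M Q : Subgroup G} (hG : Cfsg.IsMinSimpleOddOrder G) (hM : IsCoatom M)
    (hσ : q ∈ Cfsg.sigma M) (hQ : Grp.IsSylowIn q Q M) : Grp.IsSylowIn q Q (Cfsg.sigmaCore M) := by
  have hQS : Q ≤ Cfsg.sigmaCore M := sylow_le_piCore hG hM (alpha_subset_sigma hG hM) le_rfl hσ hQ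
  refine ⟨hQS, hQ.2.1, fun hd => hQ.2.2 ?_⟩
  rw [← Subgroup.relIndex_mul_relIndex Q _ M hQS (TransHyp.piCoreOf_le M)]
  exact hd.mul_right _

omit hp in
/-- A `σ`-Sylow subgroup of `M` with nilpotent `M_σ` lies in no other maximal subgroup having the same prime in `σ`. -/
theorem sigma_sylow_unique {M H Q : Subgroup G} (hG : Cfsg.IsMinSimpleOddOrder G) (hM : IsCoatom M) (hH : IsCoatom H)
    (hnil : Group.IsNilpotent (Cfsg.sigmaCore M)) (hσ : q ∈ Cfsg.sigma M) (hσH : q ∈ Cfsg.sigma H)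
    (hQ : Grp.IsSylowIn q Q M) (hQH : Q ≤ H) : H = M := by
  have hQH' : Grp.IsSylowIn q Q H := ⟨hQH, hQ.2.1, fun hd =>
    (sigma_sylow hG hM hσ hQ).2 (hd.trans (Subgroup.relIndex_dvd_index_of_le hQH))⟩
  have h := (TransHyp.le_normalizer_piCoreOf M).trans (normalizer_le_sylow hnil (sigmaCore_sylow hG hM hσ hQ))
  exact (hM.le_iff.1 (h.trans (sigma_sylow hG hH hσH hQH').1)).resolve_left hH.1

omit hq in
theorem exists_line {A : Subgroup G} (hA : IsMaxPlane p A) : ∃ L : Subgroup G, L ≤ A ∧ Nat.card L = p := by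
  obtain ⟨x, hx, hx1⟩ := (Subgroup.bot_or_exists_ne_one A).resolve_left hA.ne_bot
  exact ⟨zpowers x, zpowers_le.2 hx, by rw [Nat.card_zpowers, orderOf_eq_prime (hA.elem.2 x hx) hx1]⟩

omit hq in
/-- A line normalised by a uniqueness subgroup of `M` has `M` as the only maximal subgroup over its normaliser. -/
theorem good_of_unique (hG : Cfsg.IsMinSimpleOddOrder G) {M X L : Subgroup G} (hM : IsCoatom M)
    (hU : Cfsg.InUniqueMaximal X) (hXM : X ≤ M) (hL : Nat.card L = p) (hX : X ≤ normalizer (L : Set G)) :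
    normalizer (L : Set G) ≤ M ∧ ∀ H : Subgroup G, IsCoatom H → normalizer (L : Set G) ≤ H → H = M := by
  have h : ∀ H : Subgroup G, IsCoatom H → normalizer (L : Set G) ≤ H → H = M := fun H hH hNH =>
    hU.unique ⟨hH, hX.trans hNH⟩ ⟨hM, hXM⟩
  obtain ⟨H, hH, hNH⟩ := exists_coatom_normalizer hG
    (fun e => hp.out.ne_one (by rw [← hL, e, Subgroup.card_bot]) : L ≠ ⊥)
    (ne_top_of_pGroup hG (IsPGroup.of_card (n := 1) (by rw [hL, pow_one]) : IsPGroup p L))
  exact ⟨h H hH hNH ▸ hNH, h⟩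

/-- An invariant `q`-subgroup of a maximal subgroup `H` with `q ∉ σ(H)` is centralised by the plane. -/
theorem inv_centralized (hG : Cfsg.IsMinSimpleOddOrder G) {A H R : Subgroup G} (hA : IsMaxPlane p A)
    (hH : IsCoatom H) (hAH : A ≤ H) (hqp : q ≠ p) (hqσ : q ∉ Cfsg.sigma H) (hR : IsPGroup q R) (hRH : R ≤ H)
    (hAR : A ≤ normalizer (R : Set G)) (hcase : p ∈ Cfsg.sigma H ∨ ∃ D, Exc H p A D) :
    R ≤ centralizer (A : Set G) := by
  haveI := solvable_of_ne_top hG hH.1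
  have hD : ⁅R, A⁆ ≤ R := Grp.commutator_le_left_of_le_normalizer hAR
  obtain ⟨n, hn⟩ := IsPGroup.iff_card.1 hR
  suffices h : ∀ K : Subgroup G, ⁅R, A⁆ ≤ K → ¬ q ∣ Nat.card K → R ≤ centralizer (A : Set G) by
    rcases hcase with hpσ | ⟨D, hexc⟩
    · obtain ⟨P, hP, hAP⟩ := exists_sylowIn_ge hAH (Grp.elemAb_isPGroup hA.elem)
      refine h _ ((Subgroup.commutator_mono le_rfl (hAP.trans
        (sylow_le_piCore hG hH (alpha_subset_sigma hG hH) le_rfl hpσ hP))).trans ?_) (not_dvd_sigmaCore hqσ)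
      rw [Subgroup.commutator_comm]
      exact Grp.commutator_le_left_of_le_normalizer (hRH.trans (TransHyp.le_normalizer_piCoreOf H))
    · refine h (Cfsg.sigmaCore H ⊔ A) ((Subgroup.commutator_mono le_rfl (le_sup_right : A ≤ Cfsg.sigmaCore H ⊔ A)).trans ?_) fun hd => ?_
      · rw [Subgroup.commutator_comm]
        exact Grp.commutator_le_left_of_le_normalizer (hRH.trans hexc.normalizes_sup)
      · rw [sup_comm] at hd
        have h1 := hd.trans (Grp.card_sup_dvd_mul (hAH.trans (TransHyp.le_normalizer_piCoreOf H) :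
          A ≤ normalizer (Cfsg.sigmaCore H : Set G)))
        rcases hq.out.dvd_mul.1 h1 with h2 | h2
        · exact hA.not_dvd hqp h2
        · exact not_dvd_sigmaCore hqσ h2
  intro K hK hqK
  refine commutator_eq_bot_iff_le_centralizer.1 (le_bot_iff.1 ((le_inf hD hK).trans
    (Grp.inf_eq_bot_of_coprime ?_).le))
  rw [hn]
  exact (hq.out.coprime_iff_not_dvd.2 hqK).pow_left n

/-- If no line is good, the plane centralises an invariant Sylow `q`-subgroup. -/
theorem bad_sylow_le (hG : Cfsg.IsMinSimpleOddOrder G) {M A : Subgroup G} (hM : IsCoatom M) (hA : IsMaxPlane p A)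
    (hAM : A ≤ M) (hσ : q ∈ Cfsg.sigma M) (hqp : q ≠ p)
    (hbad : ∀ L : Subgroup G, L ≤ A → Nat.card L = p → ∃ H : Subgroup G, IsCoatom H ∧ H ≠ M ∧ normalizer (L : Set G) ≤ H)
    (hno : ∀ H Q : Subgroup G, IsCoatom H → H ≠ M → q ∈ Cfsg.sigma H → Grp.IsSylowIn q Q M → Q ≤ H → False) :
    ∃ Q : Subgroup G, Grp.IsSylowIn q Q M ∧ Q ≤ centralizer (A : Set G) := by
  obtain ⟨Q, hQ, hAQ, -, hQm⟩ := hA.inv_sylow hG hM hAM hσ hqp
    (IsPGroup.of_bot (p := q)) bot_le (fun a _ => mem_normalizer_iff.2 fun x => by simp)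
  refine ⟨Q, hQ, Grp.le_of_hyperplanes hA.elem hA.ne_bot Q ?_ hAQ fun D hD hi => ?_⟩
  · intro hd
    obtain ⟨n, hn⟩ := IsPGroup.iff_card.1 hQ.2.1
    exact hqp ((Nat.prime_dvd_prime_iff_eq hp.out hq.out).1 (hp.out.dvd_of_dvd_pow (hn ▸ hd))).symm
  have hDc := card_of_hyperplane hA.card hD hi
  obtain ⟨H, hH, hHM, hNH⟩ := hbad D hD hDc
  have hAH : A ≤ H := ((hA.le_centralizer.trans (centralizer_le hD)).trans (centralizer_le_normalizer _)).trans hNH
  have hCH : centralizer (A : Set G) ≤ H := ((centralizer_le hD).trans (centralizer_le_normalizer _)).trans hNH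
  refine le_trans (le_inf inf_le_left (inf_le_right.trans ((centralizer_le_normalizer _).trans hNH)) :
    Q ⊓ centralizer (D : Set G) ≤ Q ⊓ H) ?_
  rcases eq_or_ne (Q ⊓ H) ⊥ with h0 | h0
  · rw [h0]; exact bot_le
  have hRp : IsPGroup q ↥(Q ⊓ H) := hQ.2.1.to_le inf_le_left
  have hAR : A ≤ normalizer ((Q ⊓ H : Subgroup G) : Set G) := Grp.le_normalizer_inf' hAQ (hAH.trans le_normalizer)
  by_cases hqH : q ∈ Cfsg.sigma H
  · exfalso
    obtain ⟨Q', hQ', -, hRQ', hQ'm⟩ := hA.inv_sylow hG hH hAH hqH hqp hRp inf_le_right hAR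
    obtain ⟨k, hk, e⟩ := hA.conj_meet hG hqp hQ'm hQm hH.1 hAH (ne_bot_of_le_ne_bot h0 (le_inf inf_le_right hRQ'))
      (ne_bot_of_le_ne_bot h0 (le_inf inf_le_right inf_le_left))
    refine hno H Q hH hHM hqH hQ ?_
    rw [e, ← Grp.conj_smul_eq_self_of_mem (hCH hk)]
    exact Subgroup.pointwise_smul_le_pointwise_smul_iff.2 hQ'.1
  · refine inv_centralized hG hA hH hAH hqp hqH hRp inf_le_right hAR ?_
    by_cases hpH : p ∈ Cfsg.sigma H
    · exact Or.inl hpH
    · exact Or.inr ⟨D, hG, hH, hpH, hAH, hA, hD, hDc, hNH⟩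

variable (hG : Cfsg.IsMinSimpleOddOrder G) {M A : Subgroup G} (hM : IsCoatom M) (hAM : A ≤ M)
  (hA : Cfsg.IsElementaryAbelian p A) (hA2 : Nat.card A = p ^ 2)
include hG hM hAM hA hA2

omit hq in
/-- The centraliser of a plane lies in `M`, and if no line is good then `p ∈ σ(M)` and `M_α = 1`. -/
theorem plane_main : centralizer (A : Set G) ≤ M ∧
    ((∀ L : Subgroup G, L ≤ A → Nat.card L = p →
        ¬ (normalizer (L : Set G) ≤ M ∧ ∀ H : Subgroup G, IsCoatom H → normalizer (L : Set G) ≤ H → H = M)) →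
      p ∈ Cfsg.sigma M ∧ Cfsg.alphaCore M = ⊥ ∧ Group.IsNilpotent (Cfsg.sigmaCore M)) := by
  haveI := solvable_of_ne_top hG hM.1
  have hA1 : A ≠ ⊥ := fun e => by
    rw [e, Subgroup.card_bot] at hA2
    exact absurd hA2 (Nat.one_lt_pow two_ne_zero hp.out.one_lt).ne
  have hAt : A ≠ ⊤ := fun e => hM.1 (top_le_iff.1 (e ▸ hAM))
  have hnr1 : ¬ Cfsg.RankLE 1 A := fun h => not_prank_of_elem (K := A) le_rfl hA hA2.ge (h p hp.out)
  have hAC : A ≤ centralizer (A : Set G) := le_centralizer_iff_isMulCommutative.2 hA.1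
  have hUnique : Cfsg.InUniqueMaximal A →
      centralizer (A : Set G) ≤ M ∧ ∀ L : Subgroup G, L ≤ A → Nat.card L = p →
        normalizer (L : Set G) ≤ M ∧ ∀ H : Subgroup G, IsCoatom H → normalizer (L : Set G) ≤ H → H = M := by
    intro hU
    refine ⟨?_, fun L hL hLc => good_of_unique hG hM hU hAM hLc
      ((hAC.trans (centralizer_le hL)).trans (centralizer_le_normalizer _))⟩
    obtain ⟨H, hH, hle⟩ := exists_coatom hG (centralizer_ne_top' hG hA1)
    exact hU.unique ⟨hH, hAC.trans hle⟩ ⟨hM, hAM⟩ ▸ hle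
  by_cases hmax : ∀ B : Subgroup G, Cfsg.IsElementaryAbelian p B → A ≤ B → B = A
  swap
  · push Not at hmax
    obtain ⟨B, hB, hAB, hne⟩ := hmax
    have hB3 : p ^ 3 ≤ Nat.card B := by
      obtain ⟨n, hn⟩ := IsPGroup.iff_card.1 (Grp.elemAb_isPGroup hB)
      have hlt : p ^ 2 < Nat.card B := hA2 ▸
        Set.ncard_lt_ncard (SetLike.coe_ssubset_coe.2 (lt_of_le_of_ne hAB hne.symm))
      rw [hn] at hlt ⊢
      exact Nat.pow_le_pow_right hp.out.pos ((Nat.pow_lt_pow_iff_right hp.out.one_lt).1 hlt)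
    obtain ⟨hC, hgood⟩ := hUnique (Cfsg.Agent.S1403.result hG A hAt hnr1 (Or.inr fun h =>
      not_prank_of_elem (K := centralizer (A : Set G)) (fun b hb => centralizer_le hAB (le_centralizer_iff_isMulCommutative.2 hB.1 hb)) hB hB3 (h p hp.out)))
    obtain ⟨L, hL, hLc⟩ : ∃ L : Subgroup G, L ≤ A ∧ Nat.card L = p := by
      obtain ⟨x, hx, hx1⟩ := (Subgroup.bot_or_exists_ne_one A).resolve_left hA1
      exact ⟨zpowers x, zpowers_le.2 hx, by rw [Nat.card_zpowers, orderOf_eq_prime (hA.2 x hx) hx1]⟩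
    exact ⟨hC, fun hbad => absurd (hgood L hL hLc) (hbad L hL hLc)⟩
  have hAm : IsMaxPlane p A := ⟨hA, hA2, hmax⟩
  by_cases hex : ∃ L : Subgroup G, L ≤ A ∧ Nat.card L = p ∧
      (normalizer (L : Set G) ≤ M ∧ ∀ H : Subgroup G, IsCoatom H → normalizer (L : Set G) ≤ H → H = M)
  · obtain ⟨L, hL, hLc, hgood⟩ := hex
    exact ⟨((centralizer_le hL).trans (centralizer_le_normalizer _)).trans hgood.1,
      fun hbad => absurd hgood (hbad L hL hLc)⟩
  push Not at hex
  have hbad : ∀ L : Subgroup G, L ≤ A → Nat.card L = p →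
      ∃ H : Subgroup G, IsCoatom H ∧ H ≠ M ∧ normalizer (L : Set G) ≤ H := by
    intro L hL hLc
    by_cases hNM : normalizer (L : Set G) ≤ M
    · obtain ⟨H, hH, hNH, hne⟩ := hex L hL hLc hNM
      exact ⟨H, hH, hne, hNH⟩
    · obtain ⟨H, hH, hNH⟩ := exists_coatom_normalizer hG
        (fun e => hp.out.ne_one (by rw [← hLc, e, Subgroup.card_bot]) : L ≠ ⊥)
        (ne_top_of_pGroup hG (IsPGroup.of_card (n := 1) (by rw [hLc, pow_one]) : IsPGroup p L))
      exact ⟨H, hH, fun e => hNM (e ▸ hNH), hNH⟩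
  have hnot : ∀ L : Subgroup G, L ≤ A → Nat.card L = p →
      ¬ (normalizer (L : Set G) ≤ M ∧ ∀ H : Subgroup G, IsCoatom H → normalizer (L : Set G) ≤ H → H = M) := by
    rintro L hL hLc ⟨h1, h2⟩
    obtain ⟨H, hH, hne, hNH⟩ := hbad L hL hLc
    exact hne (h2 H hH hNH)
  obtain ⟨L₀, hL₀, hL₀c⟩ := exists_line hAm
  -- `p ∉ α(M)`
  have hpα : p ∉ Cfsg.alpha M := by
    rintro ⟨-, hr⟩
    obtain ⟨P, hP, hAP⟩ := exists_sylowIn_ge hAM (Grp.elemAb_isPGroup hA)
    obtain ⟨E, hEP, hE, hE3⟩ := exists_elem_sylow hr hP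
    have hU : Cfsg.InUniqueMaximal P := u_mono hG (u_elem_three hG hE hE3) hEP (ne_top_of_pGroup hG hP.2.1)
    obtain ⟨z, hz, hz1⟩ := (Subgroup.bot_or_exists_ne_one (omZ p P)).resolve_left
      (omZ_ne_bot hP.2.1 (ne_bot_of_le_ne_bot hA1 hAP))
    have hzA : zpowers z ≤ A := zpowers_le.2 (hAm.omZ_le_self hAP hz)
    have hzc : Nat.card (zpowers z) = p := by rw [Nat.card_zpowers, orderOf_eq_prime hz.2.2 hz1]
    exact hnot _ hzA hzc (good_of_unique hG hM hU hP.1 hzc (le_trans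
      (le_centralizer_iff.1 (zpowers_le.2 hz.2.1)) (centralizer_le_normalizer _)))
  -- `M_α = 1`
  have hα : ∀ s, s ∉ Cfsg.alpha M := by
    rintro s ⟨hs, hr⟩
    haveI := Fact.mk hs
    have hsp : s ≠ p := fun e => hpα (e ▸ ⟨hs, hr⟩)
    obtain ⟨Q, hQ, hQC⟩ := bad_sylow_le hG hM hAm hAM (alpha_subset_sigma hG hM ⟨hs, hr⟩) hsp hbad
      fun H Q hH hne _ hQ hQH => by
        obtain ⟨E, hEQ, hE, hE3⟩ := exists_elem_sylow hr hQ
        exact hne ((u_elem_three hG hE hE3).unique ⟨hH, hEQ.trans hQH⟩ ⟨hM, hEQ.trans hQ.1⟩)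
    obtain ⟨E, hEQ, hE, hE3⟩ := exists_elem_sylow hr hQ
    obtain ⟨-, hgood⟩ := hUnique (Cfsg.Agent.S1403.result hG A hAt hnr1 (Or.inr fun h =>
      not_prank_of_elem (K := centralizer (A : Set G)) (hEQ.trans hQC) hE hE3 (h s hs)))
    exact hnot L₀ hL₀ hL₀c (hgood L₀ hL₀ hL₀c)
  have hα1 : Cfsg.alphaCore M = ⊥ := card_eq_one.1 (Nat.eq_one_iff_not_exists_prime_dvd.2 fun s hs hd =>
    hα s (TransHyp.piCoreOf_primes (π := Cfsg.alpha M) (X := M) hs hd))
  have hnil : Group.IsNilpotent (Cfsg.sigmaCore M) := Grp.isNilpotent_of_le (sigmaCore_le_derived hG hM)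
    (beta_nilpotent hG hM le_rfl fun s _ _ hb => hα s (beta_subset hb))
  by_cases hpσ : p ∈ Cfsg.sigma M
  · refine ⟨?_, fun _ => ⟨hpσ, hα1, hnil⟩⟩
    obtain ⟨P, hP, hAP⟩ := exists_sylowIn_ge hAM (Grp.elemAb_isPGroup hA)
    have hMP : M ≤ normalizer (P : Set G) :=
      (TransHyp.le_normalizer_piCoreOf M).trans (normalizer_le_sylow hnil (sigmaCore_sylow hG hM hpσ hP))
    have hZ1 : omZ p P ≠ ⊥ := omZ_ne_bot hP.2.1 (ne_bot_of_le_ne_bot hA1 hAP)
    have hN := normalizer_eq_of_le hG hM hZ1 ((omZ_le P).trans hP.1) (hMP.trans (normalizer_le_omZ P))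
    exact hN ▸ (centralizer_le (hAm.omZ_le_self hAP)).trans (centralizer_le_normalizer _)
  -- otherwise the plane would centralise `M_σ`
  exfalso
  have hAS : A ≤ centralizer (Cfsg.sigmaCore M : Set G) := by
    refine le_centralizer_iff.1 ((Grp.le_of_forall_sylow
      (inf_le_left : Cfsg.sigmaCore M ⊓ centralizer (A : Set G) ≤ Cfsg.sigmaCore M) fun s hs => ?_).trans inf_le_right)
    by_cases hd : s ∣ Nat.card (Cfsg.sigmaCore M)
    · have hσ : s ∈ Cfsg.sigma M := TransHyp.piCoreOf_primes (π := Cfsg.sigma M) (X := M) hs.out hd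
      obtain ⟨Q, hQ, hQC⟩ := bad_sylow_le hG hM hAm hAM hσ (fun e => hpσ (e ▸ hσ)) hbad
        fun H Q hH hne hσH hQ hQH => hne (sigma_sylow_unique hG hM hH hnil hσ hσH hQ hQH)
      exact ⟨Q, sigmaCore_sylow hG hM hσ hQ, le_inf (sigmaCore_sylow hG hM hσ hQ).1 hQC⟩
    · exact ⟨⊥, ⟨bot_le, IsPGroup.of_bot, by rwa [relIndex_bot_left]⟩, bot_le⟩
  obtain ⟨E, hE, hAE⟩ := exists_compl_ge hG hM hAM fun s hs hd => by
    rw [(Nat.prime_dvd_prime_iff_eq hs hp.out).1 (hs.dvd_of_dvd_pow (hA2 ▸ hd))]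
    exact hpσ
  have hEN : E ≤ normalizer (Cfsg.sigmaCore M : Set G) := hE.1.trans (sigma_le_normalizer hE)
  have hT : O' p E ≤ centralizer (A : Set G) := core_le_centralizer hG hM hAm hE hAE fun s _ _ R hR _ => by
    refine (Subgroup.commutator_mono le_rfl hAS).trans ?_
    rw [Subgroup.commutator_comm]
    exact Grp.commutator_le_left_of_le_normalizer
      (((hR.1.trans (O'_le p E)).trans hEN).trans (normalizer_le_normalizer_cent _))
  haveI := isSolvable_of_le hE.1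
  obtain ⟨P, hP, hAP⟩ := exists_sylowIn_ge hAE (Grp.elemAb_isPGroup hA)
  have hPM := compl_sylow hG hM hE (hAm.dvd_card.trans (card_dvd_of_le hAE)) hP
  set P₀ := P ⊓ centralizer (O' p E : Set G) with hP₀
  have hEP₀ : E ≤ normalizer (P₀ : Set G) := by
    refine (pPrimeCore_sup_normalizer hG (fun e => hM.1 (top_le_iff.1 (e ▸ hE.1))) hP).trans (sup_le ?_ ?_)
    · exact (le_centralizer_iff.1 inf_le_right).trans (centralizer_le_normalizer _)
    · exact Grp.le_normalizer_inf' inf_le_right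
        (inf_le_left.trans ((le_normalizer_core' E).trans (normalizer_le_normalizer_cent _)))
  set U := P₀ ⊓ centralizer (Cfsg.sigmaCore M : Set G) with hU
  have hAU : A ≤ U := le_inf (le_inf hAP (le_centralizer_iff.1 hT)) hAS
  have hMU : M ≤ normalizer (U : Set G) := by
    rw [← compl_sup hE]
    exact sup_le (Grp.le_normalizer_inf' hEP₀ (hEN.trans (normalizer_le_normalizer_cent _)))
      ((le_centralizer_iff.1 inf_le_right).trans (centralizer_le_normalizer _))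
  obtain ⟨B, B₀, hexc, hBP⟩ := exc_of_normal_centralizing hG hM hpσ (hP.2.1.to_le (inf_le_left.trans inf_le_left))
    (ne_bot_of_le_ne_bot hA1 hAU) ((inf_le_left.trans inf_le_left).trans hPM.1) inf_le_right hMU hPM
  have hAB : A ≤ B := fun a ha => hexc.mem_of_pow hPM hBP (hAP ha) (hA.2 a ha)
  have heq : A = B := Subgroup.eq_of_le_of_card_ge hAB (by rw [hexc.hA.card, hA2])
  exact plane_not_fixing hG hM hexc.hA hexc.hAM hpσ hexc.centralizer_le_M (heq ▸ hAS)

omit hq in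
/-- For `p ∉ σ(M)` some line of a plane has its normaliser in `M`. -/
theorem exists_exc (hpσ : p ∉ Cfsg.sigma M) : ∃ A₀, Exc M p A A₀ := by
  by_contra hno
  push Not at hno
  refine hpσ ((plane_main hG hM hAM hA hA2).2 fun L hL hLc h => hno L ?_).1
  exact ⟨hG, hM, hpσ, hAM, IsMaxPlane.of_sigma' hG hM hpσ hAM hA hA2, hL, hLc, h.1⟩

end Cfsg.Agent.Transfer.Loc
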