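import Cfsg.Agent.Lib.Transfer.Local.NonabelianUnique
import Cfsg.Agent.S1418

/-!
The `τ₂`-part of a complement of `M_σ` is abelian.
-/

set_option autoImplicit false
set_option linter.style.haveILetI false
set_option linter.unusedSectionVars false
set_option maxHeartbeats 1000000

namespace Cfsg.Agent.Transfer.Loc

open Subgroup
open scoped commutatorElement Pointwise

universe u

variable {G : Type u} [Group G] [Finite G] (hG : Cfsg.IsMinSimpleOddOrder G) {M : Subgroup G} (hM : IsCoatom M)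
  {E : Subgroup G} (hE : Cfsg.IsComplIn E (Cfsg.sigmaCore M) M)
include hG hM hE

omit hG hM in
theorem dvd_compl_of_dvd {p : ℕ} [hp : Fact p.Prime] (hσ : p ∉ Cfsg.sigma M) (hd : p ∣ Nat.card M) :
    p ∣ Nat.card E := by
  rw [← compl_card hE] at hd
  exact (hp.out.dvd_mul.1 hd).resolve_right (not_dvd_sigmaCore hσ)

omit hG hM hE in
theorem dvd_of_not_prank {p : ℕ} [hp : Fact p.Prime] {K : Subgroup G} (h : ¬ Cfsg.PRankLE p 1 K) :
    p ∣ Nat.card K := by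
  obtain ⟨D, hD, hDe, hD2⟩ := exists_elem_of_not_prank h
  refine (dvd_card_of_pGroup (Grp.elemAb_isPGroup hDe) fun e => ?_).trans (card_dvd_of_le hD)
  rw [e, Subgroup.card_bot] at hD2
  exact absurd hD2 (not_le.2 (Nat.one_lt_pow (by norm_num) hp.out.one_lt))

/-- A plane in a given Sylow subgroup of `E` for a `τ₂`-prime. -/
theorem tau2_plane {p : ℕ} [hp : Fact p.Prime] (hτ : p ∈ Cfsg.tau2 M) {T : Subgroup G} (hT : Grp.IsSylowIn p T E) :
    ∃ A : Subgroup G, A ≤ T ∧ Cfsg.IsElementaryAbelian p A ∧ Nat.card A = p ^ 2 := by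
  haveI := solvable_of_ne_top hG hM.1
  have hpE := dvd_compl_of_dvd hE hτ.2.1 (dvd_of_not_prank hτ.2.2.2)
  obtain ⟨B, hBT, hB, hB2⟩ := exists_elem_sylow hτ.2.2.2 (compl_sylow hG hM hE hpE hT)
  refine ⟨B, hBT, hB, le_antisymm ?_ hB2⟩
  by_contra hlt
  obtain ⟨n, hn⟩ := IsPGroup.iff_card.1 (Grp.elemAb_isPGroup hB)
  refine not_prank_of_elem (hBT.trans (hT.1.trans hE.1)) hB ?_ hτ.2.2.1
  rw [hn] at hlt ⊢
  exact Nat.pow_le_pow_right hp.out.pos ((Nat.pow_lt_pow_iff_right hp.out.one_lt).1 (not_le.1 hlt))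

/-- A plane for a `τ₂`-prime is centralised by the `τ₂`-elements of `E` of prime-power order. -/
theorem tau2_centralizes {p r : ℕ} [hp : Fact p.Prime] [hr : Fact r.Prime] (hτp : p ∈ Cfsg.tau2 M)
    (hτr : r ∈ Cfsg.tau2 M) {A : Subgroup G} (hAE : A ≤ E) (hA : Cfsg.IsElementaryAbelian p A)
    (hA2 : Nat.card A = p ^ 2) {U : Subgroup G} (hUE : U ≤ E) (hU : IsPGroup r U) :
    U ≤ centralizer (A : Set G) := by
  haveI := solvable_of_ne_top hG hM.1
  haveI := isSolvable_of_le hE.1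
  obtain ⟨T, hT, hUT⟩ := exists_sylowIn_ge hUE hU
  obtain ⟨A₀, h⟩ := exists_exc hG hM (hAE.trans hE.1) hA hA2 hτp.2.1
  have hEA := h.compl_normalizes hE hAE
  by_cases hrp : r = p
  · subst hrp
    have hAT : A ≤ T := by
      have h1 : IsPGroup r ↥(A ⊔ T) := (Grp.elemAb_isPGroup hA).to_sup_of_normal_left' hT.2.1 (hT.1.trans hEA)
      rw [hT.eq_of_le le_sup_right (sup_le hAE hT.1) h1]
      exact le_sup_left
    exact hUT.trans (h.central (compl_sylow hG hM hE (h.hA.dvd_card.trans (card_dvd_of_le hAE)) hT) hAT)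
  · obtain ⟨B, hBT, hB, hB2⟩ := tau2_plane hG hM hE hτr hT
    have hBE : B ≤ E := hBT.trans hT.1
    obtain ⟨B₀, h'⟩ := exists_exc hG hM (hBE.trans hE.1) hB hB2 hτr.2.1
    have hEB := h'.compl_normalizes hE hBE
    have hAB : A ≤ centralizer (B : Set G) := commute_of_coprime (hAE.trans hEB) (hBE.trans hEA)
      (coprime_O (Ne.symm hrp) (Grp.elemAb_isPGroup hA) (Grp.elemAb_isPGroup hB))
    obtain ⟨S, hTS⟩ := hT.2.1.exists_le_sylow
    obtain ⟨k, hk, hSk⟩ := h'.hA.key_sylow hG h.hA (Ne.symm hrp) (hBE.trans hEA)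
      (by rw [inf_eq_left.2 hAB]; exact h.hA.ne_bot) S (hBT.trans hTS)
    obtain ⟨-, ⟨-, hME, -⟩, -⟩ := Cfsg.Agent.S1418.result hG M hM E hE r hτr B ⟨hBE, hB, hB2⟩
    have hkE : k ∈ E := hME.le ⟨h'.centralizer_le_M hk, centralizer_le_normalizer _ hk⟩
    rw [Grp.mem_normalizer_iff_smul.1 (hEA hkE)] at hSk
    exact hUT.trans (hTS.trans hSk)

/-- A nontrivial `τ₂`-element of `E` centralises a plane of `E`. -/
theorem tau2_plane_centralizing {x : G} (hx : x ∈ E) (hx1 : x ≠ 1)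
    (hτ : ∀ p : ℕ, p.Prime → p ∣ orderOf x → p ∈ Cfsg.tau2 M) :
    ∃ p, ∃ _ : Fact p.Prime, p ∈ Cfsg.tau2 M ∧ ∃ A : Subgroup G, A ≤ E ∧ Cfsg.IsElementaryAbelian p A ∧
      Nat.card A = p ^ 2 ∧ x ∈ centralizer (A : Set G) := by
  obtain ⟨p, hp, hpx⟩ := Nat.exists_prime_and_dvd (fun e => hx1 (orderOf_eq_one_iff.1 e))
  haveI := Fact.mk hp
  obtain ⟨T, hT⟩ := Grp.exists_isSylowIn p E
  obtain ⟨A, hAT, hA, hA2⟩ := tau2_plane hG hM hE (hτ p hp hpx) hT
  refine ⟨p, ‹_›, hτ p hp hpx, A, hAT.trans hT.1, hA, hA2, ?_⟩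
  have h : zpowers x ≤ zpowers x ⊓ centralizer (A : Set G) := Grp.le_of_forall_sylow inf_le_left fun s hs => by
    obtain ⟨X, hX⟩ := Grp.exists_isSylowIn s (zpowers x)
    refine ⟨X, hX, le_inf hX.1 ?_⟩
    rcases eq_or_ne X ⊥ with h0 | h0
    · rw [h0]; exact bot_le
    refine tau2_centralizes hG hM hE (hτ p hp hpx) (hτ s hs.out ?_) (hAT.trans hT.1) hA hA2
      (hX.1.trans (zpowers_le.2 hx)) hX.2.1
    exact ((dvd_card_of_pGroup hX.2.1 h0).trans (card_dvd_of_le hX.1)).trans (dvd_of_eq (Nat.card_zpowers x))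
  exact (h (mem_zpowers x)).2

end Cfsg.Agent.Transfer.Loc
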