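import Cfsg.Agent.Lib.Transfer.Local.SigmaPrimeOrder
import Cfsg.Agent.S1420
import Cfsg.Agent.S1424

/-!
Overgroups of `σ(M)`-subgroups.
-/

set_option autoImplicit false
set_option linter.style.haveILetI false
set_option linter.unusedSectionVars false
set_option maxHeartbeats 1000000

namespace Cfsg.Agent.Transfer.Loc

open Subgroup
open scoped commutatorElement Pointwise

universe u

variable {G : Type u} [Group G] [Finite G] (hG : Cfsg.IsMinSimpleOddOrder G) {M : Subgroup G} (hM : IsCoatom M)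
include hG hM

/-- Nonconjugate maximal subgroups share no `σ`-prime if one core is nilpotent. -/
theorem sigma_disjoint {L : Subgroup G} (hL : IsCoatom L) (hnc : ∀ g : G, L ≠ MulAut.conj g • M)
    (hnil : Group.IsNilpotent (Cfsg.sigmaCore L)) {r : ℕ} [hr : Fact r.Prime] (hrM : r ∈ Cfsg.sigma M) :
    r ∉ Cfsg.sigma L := by
  intro hrL
  haveI := solvable_of_ne_top hG hL.1
  obtain ⟨R, hR⟩ := Grp.exists_isSylowIn r L
  have hLN : L ≤ normalizer (R : Set G) := by
    refine (TransHyp.le_normalizer_piCoreOf L).trans (normalizer_le_sylow (q := r) hnil ?_)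
    have hRS : R ≤ Cfsg.sigmaCore L := sylow_le_piCore hG hL (alpha_subset_sigma hG hL) le_rfl hrL hR
    refine ⟨hRS, hR.2.1, fun hd => hR.2.2 ?_⟩
    rw [← Subgroup.relIndex_mul_relIndex R _ L hRS (TransHyp.piCoreOf_le L)]
    exact hd.mul_right _
  obtain ⟨g, hg⟩ := exists_conj_le hG hM hrM hR.2.1
  have hidx := (sigma_sylow hG hL hrL hR).2
  have h1 : MulAut.conj g⁻¹ • R ≤ M := by
    have := Subgroup.pointwise_smul_le_pointwise_smul_iff (a := MulAut.conj g⁻¹) |>.2 hg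
    rwa [Grp.conj_smul_conj_smul, inv_mul_cancel, map_one, one_smul] at this
  have hS : Grp.IsSylowIn r (MulAut.conj g⁻¹ • R) M := ⟨h1, hR.2.1.map _, fun hd => by
    refine hidx ?_
    have h2 := hd.trans (Subgroup.relIndex_dvd_index_of_le h1)
    rwa [show MulAut.conj g⁻¹ • R = R.map (MulAut.conj g⁻¹).toMonoidHom from rfl,
      Subgroup.index_map_of_bijective (MulAut.conj g⁻¹).bijective] at h2⟩
  have hLM : L ≤ MulAut.conj g • M := by
    intro x hx
    have h3 : g⁻¹ * x * g ∈ normalizer ((MulAut.conj g⁻¹ • R : Subgroup G) : Set G) := by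
      rw [Grp.mem_normalizer_iff_smul, Grp.conj_smul_conj_smul, show g⁻¹ * x * g * g⁻¹ = g⁻¹ * x by group,
        ← Grp.conj_smul_conj_smul, Grp.mem_normalizer_iff_smul.1 (hLN hx)]
    have h4 := Subgroup.smul_mem_pointwise_smul _ (MulAut.conj g) M ((sigma_sylow hG hM hrM hS).1 h3)
    rw [MulAut.smul_def, MulAut.conj_apply] at h4
    rwa [show g * (g⁻¹ * x * g) * g⁻¹ = x by group] at h4
  exact hnc g ((hL.le_iff.1 hLM).resolve_left (isCoatom_conj hG hM g).1).symm

/-- Outside `σ(L)` the overgroup of `N(X)` has a complement in `M` containing a plane for `q`. -/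
theorem cover_plane {q : ℕ} [hq : Fact q.Prime] (hqσ : q ∈ Cfsg.sigma M) {X : Subgroup G} (hX : IsPGroup q X)
    (hX1 : X ≠ ⊥) (hXM : X ≤ M) {L : Subgroup G} (hL : IsCoatom L) (hne : L ≠ M)
    (hNX : normalizer (X : Set G) ≤ L) (hqL : q ∉ Cfsg.sigma L) :
    ∃ A A₀ E : Subgroup G, Exc L q A A₀ ∧ Cfsg.IsComplIn E (Cfsg.sigmaCore L) L ∧ A ≤ E ∧ E ≤ M := by
  haveI := solvable_of_ne_top hG hM.1
  haveI := solvable_of_ne_top hG hL.1
  haveI := isSolvable_of_le (inf_le_left : M ⊓ L ≤ M)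
  obtain ⟨S, hS, hXS⟩ := exists_sylowIn_ge (le_inf hXM (le_normalizer.trans hNX) : X ≤ M ⊓ L) hX
  obtain ⟨T, hT⟩ := Grp.isSylowIn_iff.1 hS
  obtain ⟨-, -, hidx⟩ := Cfsg.Agent.S1424.result hG M hM q hqσ X hX hX1 hXM L hL hne hNX T (hT ▸ hXS)
  rw [hT] at hidx
  have hSL : Grp.IsSylowIn q S L := ⟨hS.1.trans inf_le_right, hS.2.1, hidx⟩
  have hS1 : S ≠ ⊥ := ne_bot_of_le_ne_bot hX1 hXS
  have hqLd : q ∣ Nat.card L := (dvd_card_of_pGroup hS.2.1 hS1).trans (card_dvd_of_le hSL.1)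
  have hq2 : q ≠ 2 := ne_two hG (hqσ.2.1.trans (card_subgroup_dvd_card M))
  by_cases hc : IsCyclic S
  · exfalso
    haveI := hc
    have hNSX : normalizer (S : Set G) ≤ normalizer (X : Set G) := by
      intro g hg
      rw [Grp.mem_normalizer_iff_smul]
      have hgS := Grp.mem_normalizer_iff_smul.1 hg
      have h1 : MulAut.conj g • X ≤ S := hgS ▸ Subgroup.pointwise_smul_le_pointwise_smul_iff.2 hXS
      have h2 := cyclic_unique (H := (MulAut.conj g • X).subgroupOf S) (H' := X.subgroupOf S)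
        (by rw [Nat.card_congr (subgroupOfEquivOfLe h1).toEquiv, Nat.card_congr (subgroupOfEquivOfLe hXS).toEquiv,
          Grp.card_conj_smul])
      rw [← map_subgroupOf_eq_of_le h1, h2, map_subgroupOf_eq_of_le hXS]
    exact not_normalizer_le hqLd hqL hSL (hNSX.trans hNX)
  obtain ⟨A, hAS, hA, hA2⟩ := exists_elem_of_not_prank (not_prank_one_of_not_cyclic hG hq2 hS.2.1 hc)
  have hA2' : Nat.card A = q ^ 2 := by
    refine le_antisymm ?_ hA2
    by_contra hlt
    obtain ⟨n, hn⟩ := IsPGroup.iff_card.1 (Grp.elemAb_isPGroup hA)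
    refine hqL (alpha_subset_sigma hG hL ⟨hq.out, not_prank_of_elem (hAS.trans hSL.1) hA ?_⟩)
    rw [hn] at hlt ⊢
    exact Nat.pow_le_pow_right hq.out.pos ((Nat.pow_lt_pow_iff_right hq.out.one_lt).1 (not_le.1 hlt))
  obtain ⟨A₀, h⟩ := exists_exc hG hL (hAS.trans hSL.1) hA hA2' hqL
  obtain ⟨E, hE, hAE⟩ := exists_compl_ge hG hL (hAS.trans hSL.1) fun s hs hd => by
    rw [(Nat.prime_dvd_prime_iff_eq hs hq.out).1 (hs.dvd_of_dvd_pow (hA2' ▸ hd))]; exact hqL
  obtain ⟨E', hE', -⟩ := exists_compl_ge hG hM (U := ⊥) bot_le fun s hs hd => by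
    rw [Subgroup.card_bot] at hd; exact absurd hd hs.not_dvd_one
  have hAnc : ¬ IsCyclic A := h.hA.not_cyclic
  have hNA := (Cfsg.Agent.S1420.result hG M hM E' hE').2.2.1 q A hqσ (Grp.elemAb_isPGroup hA)
    (hAS.trans (hS.1.trans inf_le_left)) hAnc
  exact ⟨A, A₀, E, h, hE, hAE, ((h.compl_normalizes hE hAE).trans hNA)⟩

/-- A maximal overgroup of the normaliser of a `σ(M)`-subgroup is covered by `M` and a normal `σ(M)'`-subgroup. -/
theorem exists_cover {q : ℕ} [hq : Fact q.Prime] (hqσ : q ∈ Cfsg.sigma M) {X : Subgroup G} (hX : IsPGroup q X)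
    (hX1 : X ≠ ⊥) (hXM : X ≤ M) {L : Subgroup G} (hL : IsCoatom L) (hne : L ≠ M)
    (hNX : normalizer (X : Set G) ≤ L) :
    ∃ N : Subgroup G, N ≤ L ∧ L ≤ normalizer (N : Set G) ∧
      (∀ r : ℕ, r.Prime → r ∣ Nat.card N → r ∉ Cfsg.sigma M) ∧ L ≤ N ⊔ (M ⊓ L) ∧
      (∀ r : ℕ, r.Prime → r ∣ Nat.card N → r ∈ Cfsg.sigma L ∧ (q ∈ Cfsg.sigma L → r ∈ Cfsg.beta L)) := by
  haveI := solvable_of_ne_top hG hM.1
  haveI := solvable_of_ne_top hG hL.1
  haveI := isSolvable_of_le (inf_le_left : M ⊓ L ≤ M)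
  obtain ⟨S, hS, hXS⟩ := exists_sylowIn_ge (le_inf hXM (le_normalizer.trans hNX) : X ≤ M ⊓ L) hX
  obtain ⟨T, hT⟩ := Grp.isSylowIn_iff.1 hS
  obtain ⟨hnc, hNS, hidx⟩ := Cfsg.Agent.S1424.result hG M hM q hqσ X hX hX1 hXM L hL hne hNX T (hT ▸ hXS)
  rw [hT] at hNS hidx
  have hnc' : ∀ g : G, L ≠ MulAut.conj g • M := hnc
  have hSL : Grp.IsSylowIn q S L := ⟨hS.1.trans inf_le_right, hS.2.1, hidx⟩
  by_cases hqL : q ∈ Cfsg.sigma L
  · set K := Cfsg.piCoreOf (Cfsg.beta L) L with hK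
    have hKL : K ≤ L := TransHyp.piCoreOf_le L
    have hLK : L ≤ normalizer (K : Set G) := TransHyp.le_normalizer_piCoreOf L
    refine ⟨K, hKL, hLK, fun r hr hd hrM => ?_, ?_, fun r hr hd => ?_⟩
    · haveI := Fact.mk hr
      have hrβ : r ∈ Cfsg.beta L := TransHyp.piCoreOf_primes (π := Cfsg.beta L) (X := L) hr hd
      obtain ⟨R, hR⟩ := Grp.exists_isSylowIn r L
      obtain ⟨g, hg⟩ := exists_conj_le hG hM hrM hR.2.1
      exact hnc' g ((u_of_rank hG hL (beta_subset hrβ) hR).unique ⟨hL, hR.1⟩ ⟨isCoatom_conj hG hM g, hg⟩)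
    · have hqβ : q ∉ Cfsg.beta L := fun hb =>
        hne ((u_of_rank hG hL (beta_subset hb) hSL).unique ⟨hL, hSL.1⟩ ⟨hM, hS.1.trans inf_le_left⟩)
      obtain ⟨-, -, ⟨H, hH, hHnil⟩, -⟩ := Cfsg.Agent.S1414.result hG L hL
      set D := ⁅L, L⁆
      have hDL : D ≤ L := L.commutator_le_self
      have hKD : D ≤ (K ⊓ D) ⊔ H := Grp.le_of_forall_sylow (sup_le inf_le_right hH.1) fun r hr => by
        obtain ⟨R, hR⟩ := Grp.exists_isSylowIn r H
        by_cases hrβ : r ∈ Cfsg.beta L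
        · obtain ⟨R', hR'⟩ := Grp.exists_isSylowIn r D
          obtain ⟨U, hU, hle⟩ := exists_sylowIn_ge (hR'.1.trans hDL) hR'.2.1
          exact ⟨R', hR', (le_inf (hle.trans (sylow_le_beta hG hL hrβ hU)) hR'.1).trans le_sup_left⟩
        · refine ⟨R, ⟨hR.1.trans hH.1, hR.2.1, fun hd => ?_⟩, hR.1.trans le_sup_right⟩
          rw [← Subgroup.relIndex_mul_relIndex R H D hR.1 hH.1] at hd
          exact (hr.out.dvd_mul.1 hd).elim hR.2.2 (hH.2.2 r hr.out ⟨hr.out, hrβ⟩)
      have hSD : S ≤ D := sylow_le_derived hG hL hqL hSL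
      obtain ⟨S', hS'⟩ := Grp.exists_isSylowIn q H
      have hS'D : Grp.IsSylowIn q S' D := ⟨hS'.1.trans hH.1, hS'.2.1, fun hd => by
        rw [← Subgroup.relIndex_mul_relIndex S' H D hS'.1 hH.1] at hd
        exact (hq.out.dvd_mul.1 hd).elim hS'.2.2 (hH.2.2 q hq.out ⟨hq.out, hqβ⟩)⟩
      have hSD' : Grp.IsSylowIn q S D := ⟨hSD, hS.2.1, fun hd => hidx (by
        rw [← Subgroup.relIndex_mul_relIndex S D L hSD hDL]
        exact hd.mul_right _)⟩
      set W := K ⊔ S' with hW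
      have hDW : D ≤ normalizer (W : Set G) := by
        refine hKD.trans (sup_le (inf_le_left.trans (le_sup_left.trans le_normalizer)) ?_)
        exact Grp.le_normalizer_sup' ((hH.1.trans hDL).trans hLK) (le_normalizer.trans (normalizer_le_sylow hHnil hS'))
      have hLW : L ≤ normalizer (W : Set G) := by
        intro m hm
        rw [Grp.mem_normalizer_iff_smul, hW, Subgroup.smul_sup, Grp.mem_normalizer_iff_smul.1 (hLK hm)]
        obtain ⟨d, hd, e⟩ := hS'D.conj (hS'D.smul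
          (Grp.mem_normalizer_iff_smul.1 (Grp.left_le_normalizer_commutator L L hm)))
        have h5 := Grp.mem_normalizer_iff_smul.1 (hDW hd)
        rw [hW, Subgroup.smul_sup, Grp.mem_normalizer_iff_smul.1 (hLK (hDL hd))] at h5
        rw [← e, h5]
      have hWL : W ≤ L := sup_le hKL (hS'D.1.trans hDL)
      have hSW : S ≤ W := by
        obtain ⟨d, hd, e⟩ := hS'D.conj hSD'
        rw [← e]
        exact (Subgroup.pointwise_smul_le_pointwise_smul_iff.2 le_sup_right).trans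
          (Grp.mem_normalizer_iff_smul.1 (hDW hd)).le
      have hSW' : Grp.IsSylowIn q S W := ⟨hSW, hS.2.1, fun hd => hidx (by
        rw [← Subgroup.relIndex_mul_relIndex S W L hSW hWL]
        exact hd.mul_right _)⟩
      have hfr : L ≤ W ⊔ (L ⊓ normalizer (S : Set G)) := by
        intro m hm
        obtain ⟨w, hw, e⟩ := hSW'.conj (hSW'.smul (Grp.mem_normalizer_iff_smul.1 (hLW hm)))
        have h6 : w⁻¹ * m ∈ L ⊓ normalizer (S : Set G) := by
          refine ⟨L.mul_mem (L.inv_mem (hWL hw)) hm, ?_⟩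
          show w⁻¹ * m ∈ normalizer (S : Set G)
          rw [Grp.mem_normalizer_iff_smul, ← Grp.conj_smul_conj_smul, ← e, Grp.conj_smul_conj_smul,
            inv_mul_cancel, map_one, one_smul]
        have := Subgroup.mul_mem_sup hw h6
        rwa [mul_inv_cancel_left] at this
      refine hfr.trans (sup_le ?_ ?_)
      · -- `W = K S`
        have hWS : W ≤ K ⊔ S := by
          obtain ⟨d, hd, e⟩ := hS'D.conj hSD'
          calc W = MulAut.conj d • W := (Grp.mem_normalizer_iff_smul.1 (hDW hd)).symm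
            _ = K ⊔ S := by rw [hW, Subgroup.smul_sup, Grp.mem_normalizer_iff_smul.1 (hLK (hDL hd)), e]
            _ ≤ K ⊔ S := le_rfl
        exact hWS.trans (sup_le le_sup_left (hS.1.trans le_sup_right))
      · exact (le_inf (inf_le_right.trans hNS) inf_le_left).trans le_sup_right
    · have hrβ : r ∈ Cfsg.beta L := TransHyp.piCoreOf_primes (π := Cfsg.beta L) (X := L) hr hd
      exact ⟨alpha_subset_sigma hG hL (beta_subset hrβ), fun _ => hrβ⟩
  · obtain ⟨A, A₀, E, h, hE, -, hEM⟩ := cover_plane hG hM hqσ hX hX1 hXM hL hne hNX hqL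
    refine ⟨Cfsg.sigmaCore L, TransHyp.piCoreOf_le L, TransHyp.le_normalizer_piCoreOf L, fun r hr hd hrM => ?_, ?_,
      fun r hr hd => ⟨TransHyp.piCoreOf_primes (π := Cfsg.sigma L) (X := L) hr hd, fun h => absurd h hqL⟩⟩
    · haveI := Fact.mk hr
      exact sigma_disjoint hG hM hL hnc' h.nilpotent hrM (TransHyp.piCoreOf_primes (π := Cfsg.sigma L) (X := L) hr hd)
    · refine (compl_sup hE).ge.trans (sup_le ?_ le_sup_left)
      exact (le_inf hEM hE.1).trans le_sup_right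

end Cfsg.Agent.Transfer.Loc
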