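import Cfsg.Agent.Lib.Transfer.Local.FittingHall
import Cfsg.Agent.Lib.Transfer.Local.SigmaConj
import Cfsg.Agent.Lib.Transfer.Local.KappaFixed
import Cfsg.Agent.S1420

/-!
The support `N` of an element of `M_σ` with centraliser outside `M`.
-/

set_option autoImplicit false
set_option linter.style.haveILetI false
set_option linter.unusedSectionVars false
set_option maxHeartbeats 1000000

namespace Cfsg.Agent.Transfer.Loc

open Subgroup
open scoped commutatorElement Pointwise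

universe u

variable {G : Type u} [Group G] [Finite G]

/-- Properties of the maximal subgroup over `C(x)`. -/
structure Support (M N : Subgroup G) (x : G) : Prop where
  hN : IsCoatom N
  ne : N ≠ M
  nconj : ∀ g : G, N ≠ MulAut.conj g • M
  le : centralizer ({x} : Set G) ≤ N
  compl : Cfsg.IsComplIn (M ⊓ N) (Cfsg.sigmaCore N) N
  nil : Group.IsNilpotent (Cfsg.sigmaCore N)
  fhall : Cfsg.fittingHallOf N = Cfsg.sigmaCore N
  trans : ∀ g : G, x ∈ MulAut.conj g • M →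
    ∃ r ∈ Cfsg.sigmaCore N ⊓ centralizer ({x} : Set G), MulAut.conj r • M = MulAut.conj g • M

variable (hG : Cfsg.IsMinSimpleOddOrder G) {M : Subgroup G} (hM : IsCoatom M)
include hG hM

/-- The support attached to a power `y` of prime order with centraliser outside `M`. -/
theorem support_line {x y : G} (hx : x ∈ Cfsg.sigmaCore M) {q : ℕ} [hq : Fact q.Prime] (hy : y ∈ zpowers x)
    (hyo : orderOf y = q) (hC : ¬ centralizer (zpowers y : Set G) ≤ M) :
    ∃ N : Subgroup G, Support M N x ∧ normalizer (zpowers y : Set G) ≤ N ∧ q ∈ Cfsg.tau2 N ∧ q ∈ Cfsg.sigma M := by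
  haveI := solvable_of_ne_top hG hM.1
  have hxM : x ∈ M := TransHyp.piCoreOf_le M hx
  have hyM : zpowers y ≤ M := zpowers_le.2 ((zpowers_le.2 hxM) hy)
  have hYc : Nat.card (zpowers y) = q := by rw [Nat.card_zpowers, hyo]
  have hY1 : zpowers y ≠ ⊥ := fun e => hq.out.ne_one (by rw [← hYc, e, Subgroup.card_bot])
  have hYp : IsPGroup q (zpowers y) := IsPGroup.of_card (n := 1) (hYc.trans (pow_one q).symm)
  have hqσ : q ∈ Cfsg.sigma M := TransHyp.piCoreOf_primes (π := Cfsg.sigma M) (X := M) hq.out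
    (hYc ▸ card_dvd_of_le ((zpowers_le.2 ((zpowers_le.2 hx) hy)) : zpowers y ≤ Cfsg.sigmaCore M))
  obtain ⟨N, hN, hNY⟩ := exists_coatom_normalizer hG hY1 fun e => hM.1 (top_le_iff.1 (e ▸ hyM))
  have hCN : centralizer (zpowers y : Set G) ≤ N := (centralizer_le_normalizer _).trans hNY
  have hne : N ≠ M := fun e => hC (e ▸ hCN)
  haveI := solvable_of_ne_top hG hN.1
  haveI := isSolvable_of_le (inf_le_left : M ⊓ N ≤ M)
  obtain ⟨S, hS, hYS⟩ := exists_sylowIn_ge (le_inf hyM (le_normalizer.trans hNY) : zpowers y ≤ M ⊓ N) hYp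
  obtain ⟨T, hT⟩ := Grp.isSylowIn_iff.1 hS
  obtain ⟨hnc, -, -⟩ := Cfsg.Agent.S1424.result hG M hM q hqσ (zpowers y) hYp hY1 hyM N hN hne hNY T (hT ▸ hYS)
  have hqN : q ∉ Cfsg.sigma N := fun h => by
    obtain ⟨g, hg⟩ := sigma_conj_of_common hG hM hN hqσ h
    exact hnc g hg
  obtain ⟨A, A₀, E, hexc, hE, hAE, hEM⟩ := cover_plane hG hM hqσ hYp hY1 hyM hN hne hNY hqN
  have hτ : q ∈ Cfsg.tau2 N := tau2_of_not_rank_one hG hN hqN
    (not_prank_of_elem hexc.hAM hexc.hA.1 (by rw [hexc.hA.2.1]))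
  obtain ⟨hnil, -, -, -, hmeet, -⟩ := Cfsg.Agent.S1417.result hG N hN q hτ A ⟨hexc.hAM, hexc.hA.1, hexc.hA.2.1⟩
  have hbot : Cfsg.sigmaCore N ⊓ M = ⊥ := hmeet M hM hne.symm (hAE.trans hEM)
  have hsup : M ⊓ N = E := by
    refine le_antisymm (fun m hm => ?_) (le_inf hEM hE.1)
    obtain ⟨e, he, s, hs, rfl⟩ := hE.2.2.2 m hm.2
    have h1 : s ∈ Cfsg.sigmaCore N ⊓ M := ⟨hs, by
      have := M.mul_mem (M.inv_mem (hEM he)) hm.1
      rwa [inv_mul_cancel_left] at this⟩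
    rw [hbot, mem_bot] at h1
    rwa [h1, mul_one]
  have hxC : centralizer ({x} : Set G) ≤ centralizer (zpowers y : Set G) := fun c hc => by
    refine mem_centralizer_iff.2 fun w hw => ?_
    obtain ⟨i, rfl⟩ := mem_zpowers_iff.1 ((zpowers_le.2 hy) hw)
    exact ((show Commute c x from mem_centralizer_singleton_iff.1 hc).zpow_right i).eq.symm
  have hxN : x ∈ N := hCN (hxC (mem_centralizer_singleton_iff.2 rfl))
  refine ⟨N, ⟨hN, hne, hnc, hxC.trans hCN, hsup.symm ▸ hE, hnil, fittingHallOf_eq_sigmaCore hG hN hnil,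
    fun g hg => ?_⟩, hNY, hτ, hqσ⟩
  have hYg : zpowers y ≤ MulAut.conj g • M := zpowers_le.2 ((zpowers_le.2 hg) hy)
  obtain ⟨c, hc, hcM⟩ := sigma_trans hG hM hqσ hYp (g := 1) (h := g) (by rwa [map_one, one_smul]) hYg
  rw [map_one, one_smul] at hcM
  obtain ⟨e, he, s, hs, hes⟩ := hE.2.2.2 c⁻¹ (N.inv_mem (hCN hc))
  have hr : MulAut.conj s⁻¹ • M = MulAut.conj g • M := by
    rw [← hcM, show c = s⁻¹ * e⁻¹ by rw [← mul_inv_rev, ← hes, inv_inv], ← Grp.conj_smul_conj_smul,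
      Grp.mem_normalizer_iff_smul.1 (le_normalizer (M.inv_mem (hEM he)))]
  refine ⟨s⁻¹, ⟨(Cfsg.sigmaCore N).inv_mem hs, mem_centralizer_singleton_iff.2 ?_⟩, hr⟩
  rw [← hr] at hg
  obtain ⟨b, hb, hb'⟩ := hg
  have hb'' : s⁻¹ * b * s⁻¹⁻¹ = x := hb'
  have hbx : b = s * x * s⁻¹ := by rw [← hb'']; group
  have h1 : s * x * s⁻¹ * x⁻¹ ∈ Cfsg.sigmaCore N ⊓ M := ⟨by
    rw [show s * x * s⁻¹ * x⁻¹ = s * (x * s⁻¹ * x⁻¹) by group]
    exact mul_mem hs (Grp.mem_conj_normalizer (TransHyp.le_normalizer_piCoreOf N hxN)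
      ((Cfsg.sigmaCore N).inv_mem hs)), M.mul_mem (hbx ▸ hb) (M.inv_mem hxM)⟩
  rw [hbot, mem_bot, mul_inv_eq_one, mul_inv_eq_iff_eq_mul] at h1
  rw [inv_mul_eq_iff_eq_mul, ← mul_assoc, eq_mul_inv_iff_mul_eq]
  exact h1.symm

omit hM in
/-- Facts about the support. -/
theorem Support.facts {N : Subgroup G} {x : G} (h : Support M N x) (hM : IsCoatom M) :
    M ⊓ Cfsg.sigmaCore N = ⊥ ∧
      centralizer ({x} : Set G) ≤
        normalizer ((Cfsg.sigmaCore N ⊓ centralizer ({x} : Set G) : Subgroup G) : Set G) ∧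
      (x ∈ M → Cfsg.IsComplIn (M ⊓ centralizer ({x} : Set G)) (Cfsg.sigmaCore N ⊓ centralizer ({x} : Set G))
        (centralizer ({x} : Set G))) ∧
      (∀ p : ℕ, p.Prime → p ∣ Nat.card ↥(M ⊓ N) → p ∉ Cfsg.sigma N) := by
  have hbot : M ⊓ Cfsg.sigmaCore N = ⊥ := by
    rw [← h.compl.2.2.1, inf_assoc, inf_eq_right.2 (show Cfsg.sigmaCore N ≤ N from TransHyp.piCoreOf_le N)]
  have hN : centralizer ({x} : Set G) ≤
      normalizer ((Cfsg.sigmaCore N ⊓ centralizer ({x} : Set G) : Subgroup G) : Set G) :=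
    Grp.le_normalizer_inf' (h.le.trans (TransHyp.le_normalizer_piCoreOf N)) le_normalizer
  refine ⟨hbot, hN, fun hxM => ⟨inf_le_right, inf_le_right, ?_, fun c hc => ?_⟩,
    fun p hp hd => compl_prime hG h.hN h.compl hp hd⟩
  · exact le_bot_iff.1 ((inf_le_inf inf_le_left inf_le_left).trans hbot.le)
  · obtain ⟨e, he, s, hs, rfl⟩ := h.compl.2.2.2 c (h.le hc)
    have hxN : x ∈ N := h.le (mem_centralizer_singleton_iff.2 rfl)
    have hc' : e * s * x = x * (e * s) := mem_centralizer_singleton_iff.1 hc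
    have key : e * x = x * e := by
      have h1 : (x * e * x⁻¹)⁻¹ * e ∈ Cfsg.sigmaCore N := by
        have h2 : (x * e * x⁻¹)⁻¹ * e = x * s * x⁻¹ * s⁻¹ := by
          have h3 : x * (e * s) * x⁻¹ = e * s := by rw [← hc']; group
          rw [inv_mul_eq_iff_eq_mul, show x * e * x⁻¹ * (x * s * x⁻¹ * s⁻¹) = x * (e * s) * x⁻¹ * s⁻¹ by group, h3]
          group
        rw [h2]
        exact mul_mem (Grp.mem_conj_normalizer (TransHyp.le_normalizer_piCoreOf N hxN) hs)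
          ((Cfsg.sigmaCore N).inv_mem hs)
      have h4 : (x * e * x⁻¹)⁻¹ * e ∈ M ⊓ Cfsg.sigmaCore N := ⟨M.mul_mem (M.inv_mem
        (M.mul_mem (M.mul_mem hxM he.1) (M.inv_mem hxM))) he.1, h1⟩
      rw [hbot, mem_bot, inv_mul_eq_one, mul_inv_eq_iff_eq_mul] at h4
      exact h4.symm
    have hsx : s * x = x * s := by
      have h5 : e * (s * x) = e * (x * s) := by rw [← mul_assoc, hc', ← mul_assoc, ← mul_assoc, key]
      exact mul_left_cancel h5
    exact ⟨e, ⟨he.1, mem_centralizer_singleton_iff.2 key⟩, s, ⟨hs, mem_centralizer_singleton_iff.2 hsx⟩, rfl⟩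

/-- Every conjugate of `M` over `x` equals `M` or `C(y)` leaves `M`. -/
theorem line_cases {x : G} (hx : x ∈ Cfsg.sigmaCore M) (hx1 : x ≠ 1) :
    (centralizer ({x} : Set G) ≤ M ∧ ∀ g : G, x ∈ MulAut.conj g • M → g ∈ M) ∨ ∃ N, Support M N x := by
  have hxM : x ∈ M := TransHyp.piCoreOf_le M hx
  obtain ⟨q, _, y, hy, hyo, hyc, hqd⟩ := exists_prime_zpowers_le hx1
  by_cases hC : centralizer (zpowers y : Set G) ≤ M
  · refine Or.inl ⟨fun c hc => hC (mem_centralizer_iff.2 fun w hw => ?_), fun g hg => ?_⟩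
    · obtain ⟨i, rfl⟩ := mem_zpowers_iff.1 ((zpowers_le.2 hy) hw)
      exact ((show Commute c x from mem_centralizer_singleton_iff.1 hc).zpow_right i).eq.symm
    · have hqσ : q ∈ Cfsg.sigma M := TransHyp.piCoreOf_primes (π := Cfsg.sigma M) (X := M) Fact.out
        (hyc ▸ card_dvd_of_le ((zpowers_le.2 ((zpowers_le.2 hx) hy)) : zpowers y ≤ Cfsg.sigmaCore M))
      exact mem_of_sigma_le_conj hG hM hqσ (IsPGroup.of_card (n := 1) (hyc.trans (pow_one q).symm))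
        (fun e => (Fact.out (p := q.Prime)).ne_one (by rw [← hyc, e, Subgroup.card_bot]))
        (zpowers_le.2 ((zpowers_le.2 hxM) hy)) hC (zpowers_le.2 ((zpowers_le.2 hg) hy))
  · exact Or.inr (by
      obtain ⟨N, hN, -⟩ := support_line hG hM hx hy hyo hC
      exact ⟨N, hN⟩)

/-- The unique maximal subgroup over a centraliser outside `M`. -/
theorem support_unique {x : G} (hx : x ∈ Cfsg.sigmaCore M) (hx1 : x ≠ 1)
    (hxM : ¬ centralizer ({x} : Set G) ≤ M) : ∃ N, Support M N x ∧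
      (∀ L : Subgroup G, IsCoatom L → centralizer ({x} : Set G) ≤ L → L = N) ∧
      Cfsg.sigmaCore N ⊓ centralizer ({x} : Set G) ≠ ⊥ ∧ x ∈ Cfsg.sigmaHat N ∧
      (∀ p : ℕ, p.Prime → p ∣ orderOf x → p ∈ Cfsg.tau2 N) := by
  have hxM' : x ∈ M := TransHyp.piCoreOf_le M hx
  obtain ⟨q, _, y, hy, hyo, hyc, hqd⟩ := exists_prime_zpowers_le hx1
  have hC : ¬ centralizer (zpowers y : Set G) ≤ M := fun h => hxM fun c hc => h (mem_centralizer_iff.2 fun w hw => by
    obtain ⟨i, rfl⟩ := mem_zpowers_iff.1 ((zpowers_le.2 hy) hw)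
    exact ((show Commute c x from mem_centralizer_singleton_iff.1 hc).zpow_right i).eq.symm)
  obtain ⟨N, hN, -, hqτ, -⟩ := support_line hG hM hx hy hyo hC
  obtain ⟨-, -, hcomp, hE⟩ := hN.facts hG hM
  obtain ⟨-, -, -, hdec⟩ := hcomp hxM'
  have hR : Cfsg.sigmaCore N ⊓ centralizer ({x} : Set G) ≠ ⊥ := fun e => hxM fun c hc => by
    obtain ⟨a, ha, b, hb, rfl⟩ := hdec c hc
    rw [e, mem_bot] at hb
    rw [hb, mul_one]
    exact ha.1
  have hxE : x ∈ M ⊓ N := ⟨hxM', hN.le (mem_centralizer_singleton_iff.2 rfl)⟩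
  have hσ : ∀ p : ℕ, p.Prime → p ∣ orderOf x → p ∉ Cfsg.sigma N := fun p hp hd =>
    hE p hp (hd.trans (Subgroup.orderOf_dvd_natCard _ hxE))
  have hτ : ∀ p : ℕ, p.Prime → p ∣ orderOf x → p ∈ Cfsg.tau2 N :=
    (fixed_primes_cases hG hN.hN hxE.2 hx1 hσ hR).resolve_left fun h =>
      hqτ.2.2.2 (kappa_rank_one hG hN.hN (h q Fact.out hqd))
  have hhat : x ∈ Cfsg.sigmaHat N := by
    obtain ⟨r, hr, hr1⟩ := (bot_or_exists_ne_one _).resolve_left hR
    exact ⟨hxE.2, r, hr.1, hr1, (mem_centralizer_singleton_iff.1 hr.2).symm⟩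
  exact ⟨N, hN, ((Cfsg.Agent.S1420.result hG N hN.hN (M ⊓ N) hN.compl).2.2.2 x hxE.2 hx1 hτ hhat).2, hR, hhat, hτ⟩

end Cfsg.Agent.Transfer.Loc
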