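import Cfsg.Agent.Lib.Transfer.Local.KappaSigma

/-!
Normalisers in `M` of the lines of a Hall `κ(M)`-subgroup.
-/

set_option autoImplicit false
set_option linter.style.haveILetI false
set_option linter.unusedSectionVars false
set_option maxHeartbeats 1000000

namespace Cfsg.Agent.Transfer.Loc

open Subgroup
open scoped commutatorElement Pointwise

universe u

variable {G : Type u} [Group G] [Finite G]

/-- In the irregular case a `τ₁`-line is central in `E`. -/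
theorem Irregular.tau1_central {M E L P : Subgroup G} {p : ℕ} [hp : Fact p.Prime] (h : Irregular M E L p P)
    {r : ℕ} [hr : Fact r.Prime] (hτ : r ∈ Cfsg.tau1 M) {R : Subgroup G} (hRE : R ≤ E) (hR : Nat.card R = r) :
    E ≤ centralizer (R : Set G) := by
  haveI := solvable_of_ne_top h.hG h.hM.1
  have hnd : ¬ r ∣ Nat.card ↥⁅E, E⁆ := fun hd => hτ.2.2.2.1 (hd.trans (card_dvd_of_le (commutator_mono h.hE.1 h.hE.1)))
  refine (compl_cover h.hG h.hM h.hE hRE hR hnd).trans (sup_le ?_ inf_le_right)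
  haveI hab : IsMulCommutative ↥⁅E, E⁆ := (Cfsg.Agent.S1420.result h.hG M h.hM E h.hE).2.1
  haveI := isSolvable_of_le h.hE.1
  refine (Grp.le_of_forall_sylow (inf_le_left : ⁅E, E⁆ ⊓ _ ≤ ⁅E, E⁆) fun q hq => ?_).trans inf_le_right
  obtain ⟨T, hT⟩ := Grp.exists_isSylowIn q ⁅E, E⁆
  refine ⟨T, hT, le_inf hT.1 ?_⟩
  rcases eq_or_ne T ⊥ with h0 | h0
  · rw [h0]; exact bot_le
  have hdE : q ∣ Nat.card ↥⁅E, E⁆ := (dvd_card_of_pGroup hT.2.1 h0).trans (card_dvd_of_le hT.1)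
  have hdM : q ∣ Nat.card ↥⁅M, M⁆ := hdE.trans (card_dvd_of_le (commutator_mono h.hE.1 h.hE.1))
  have hqσ : q ∉ Cfsg.sigma M := compl_prime h.hG h.hM h.hE hq.out (hdE.trans (card_dvd_of_le E.commutator_le_self))
  have hq1 := h.rank_one hqσ
  have hTE : T ≤ E := hT.1.trans E.commutator_le_self
  obtain ⟨z, hz⟩ := exists_prime_orderOf_dvd_card' (G := T) q (dvd_card_of_pGroup hT.2.1 h0)
  have hzc : Nat.card (zpowers (z : G)) = q := by rw [Nat.card_zpowers, Subgroup.orderOf_coe, hz]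
  obtain ⟨L', hL'⟩ := irregular_of_kappa h.hG h.hM h.hE (irregular_all h.hG h.hM h (q := q)
    (zpowers_le.2 (hTE z.2)) hzc).1 ⟨hq.out, hqσ, hdM, hq1⟩ (zpowers_le.2 (hTE z.2)) hzc
  have hRz : R ≤ centralizer (zpowers (z : G) : Set G) := hL'.prime_centralizes hτ hRE hR
  haveI := cyclic_of_rank_one h.hG hT.2.1 (hTE.trans h.hE.1) hq1
  haveI : IsMulCommutative T := IsCyclic.isMulCommutative
  have hRT : R ≤ normalizer (T : Set G) := fun x hx => by
    have hxD : x ∈ normalizer ((⁅E, E⁆ : Subgroup G) : Set G) :=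
      le_normalizer_commutator' le_normalizer le_normalizer (hRE hx)
    rw [Grp.mem_normalizer_iff_smul]
    have h1 : IsPGroup q ↥(T ⊔ MulAut.conj x • T) := hT.2.1.to_sup_of_normal_left' (hT.2.1.map _) (by
      refine le_trans ?_ ((le_centralizer_iff_isMulCommutative.2 hab).trans ((centralizer_le hT.1).trans
        (centralizer_le_normalizer _)))
      rintro _ ⟨b, hb, rfl⟩
      exact Grp.mem_conj_normalizer hxD (hT.1 hb))
    have h2 : T = T ⊔ MulAut.conj x • T := (hT.eq_of_le le_sup_left (sup_le hT.1 (by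
      rintro _ ⟨b, hb, rfl⟩
      exact Grp.mem_conj_normalizer hxD (hT.1 hb))) h1)
    exact Subgroup.eq_of_le_of_card_ge (le_sup_right.trans h2.ge) (by rw [Grp.card_conj_smul])
  refine le_centralizer_iff.1 (centralizes_of_omZ hT.2.1 hRT ?_ ?_)
  · obtain ⟨n, hn⟩ := IsPGroup.iff_card.1 hT.2.1
    rw [hR, hn]
    exact ((Nat.coprime_primes hr.out hq.out).2 fun e : r = q => hτ.2.2.2.1 (e ▸ hdM)).pow_right n
  · refine hRz.trans (centralizer_le fun x hx => ?_)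
    rcases eq_or_ne x 1 with rfl | hx1
    · exact one_mem _
    have hxc : Nat.card (zpowers x) = q := by rw [Nat.card_zpowers, orderOf_eq_prime hx.2.2 hx1]
    exact (eq_of_card_cyclic ‹IsCyclic T› (zpowers_le.2 hx.1) (zpowers_le.2 z.2) (hxc.trans hzc.symm)).le
      (mem_zpowers x)

variable (hG : Cfsg.IsMinSimpleOddOrder G) {M : Subgroup G} (hM : IsCoatom M) {E : Subgroup G}
  (hE : Cfsg.IsComplIn E (Cfsg.sigmaCore M) M)
include hG hM hE

/-- The Hall `κ`-subgroup normalises each of its subgroups of prime order. -/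
theorem kappa_line_normal {K : Subgroup G} (hK : Cfsg.IsPiHallOf (Cfsg.kappa M) K M) (hKE : K ≤ E) (hK1 : K ≠ ⊥)
    {X : Subgroup G} {q : ℕ} [hq : Fact q.Prime] (hXK : X ≤ K) (hX : Nat.card X = q) :
    K ≤ normalizer (X : Set G) := by
  rcases kappa_cases hG hM hE with ⟨p, _, P, L, h⟩ | hsub
  · by_cases hd : q ∣ Nat.card ↥⁅M, M⁆
    · have hqσ : q ∉ Cfsg.sigma M := compl_prime hG hM hE hq.out (hX ▸ card_dvd_of_le (hXK.trans hKE))
      exact hKE.trans (tau3_normal hG hM hE hqσ (h.rank_one hqσ) hd (hXK.trans hKE) hX).2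
    · exact (hKE.trans (h.tau1_central ⟨hq.out, compl_prime hG hM hE hq.out (hX ▸ card_dvd_of_le (hXK.trans hKE)),
        hX ▸ card_dvd_of_le (hXK.trans (hKE.trans hE.1)), hd,
        h.rank_one (compl_prime hG hM hE hq.out (hX ▸ card_dvd_of_le (hXK.trans hKE)))⟩
        (hXK.trans hKE) hX)).trans (centralizer_le_normalizer _)
  · have hcyc : IsCyclic K := (Cfsg.Agent.S1415.result hG M hM E hE).2.1 K (by
      have hq' : q ∈ Cfsg.kappa M := hK.2.1 q hq.out (hX ▸ card_dvd_of_le hXK)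
      rw [← kappa_eq_tau1 hG hM hE hsub ⟨q, hq'⟩]
      exact kappa_hall_compl hG hM hE hK hKE)
    exact (le_centralizer_iff_isMulCommutative.2 IsCyclic.isMulCommutative).trans
      ((centralizer_le hXK).trans (centralizer_le_normalizer _))

/-- An abelian Hall subgroup for the primes outside `κ(M) ∪ σ(M)` on which `K` acts regularly. -/
theorem kappa'_exists {K : Subgroup G} (hK : Cfsg.IsPiHallOf (Cfsg.kappa M) K M) (hKE : K ≤ E) (hK1 : K ≠ ⊥) :
    ∃ U : Subgroup G, IsMulCommutative U ∧ U ≤ E ∧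
      Cfsg.IsPiHallOf {q | q.Prime ∧ q ∉ Cfsg.kappa M ∧ q ∉ Cfsg.sigma M} U M ∧
      K ≤ normalizer (U : Set G) ∧ ∀ k ∈ K, k ≠ 1 → U ⊓ centralizer ({k} : Set G) = ⊥ := by
  haveI := solvable_of_ne_top hG hM.1
  haveI := isSolvable_of_le hE.1
  rcases kappa_cases hG hM hE with ⟨p, _, P, L, h⟩ | hsub
  · refine ⟨⊥, inferInstance, bot_le, ⟨bot_le, fun q hq hd => ?_, fun q hq hπ hd => ?_⟩,
      (by rw [Subgroup.normalizer_eq_top]; exact le_top), fun k _ _ => bot_inf_eq _⟩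
    · rw [Subgroup.card_bot, Nat.dvd_one] at hd; exact absurd hd hq.ne_one
    · haveI := Fact.mk hq
      rw [Subgroup.relIndex_bot_left] at hd
      obtain ⟨z, hz⟩ := exists_prime_orderOf_dvd_card' (G := E) q (dvd_compl_of_dvd hE hπ.2.2 hd)
      exact hπ.2.1 (irregular_all hG hM h (q := q) (zpowers_le.2 z.2)
        (by rw [Nat.card_zpowers, Subgroup.orderOf_coe, hz])).1
  · set π := {q | q.Prime ∧ q ∉ Cfsg.kappa M ∧ q ∉ Cfsg.sigma M}
    obtain ⟨U, hU⟩ := Grp.PiHall.exists_piHall π E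
    have hU' : ∀ q : ℕ, q.Prime → q ∣ Nat.card U → q ∉ Cfsg.kappa M := fun q hq hd => (hU.2.1 q hq hd).2.1
    have hKU : K ≤ normalizer (U : Set G) := hKE.trans (kappa'_normal hG hM hE hsub hU)
    refine ⟨U, kappa'_abelian hG hM hE hsub hK hKE hK1 hU.1 hU' hKU, hU.1, ⟨hU.1.trans hE.1, hU.2.1,
      fun q hq hπ hd => ?_⟩, hKU, fun k hk hk1 => kappa'_regular hG hM hE hsub hK hKE hU.1 hU' hk hk1⟩
    haveI := Fact.mk hq
    rw [← Subgroup.relIndex_mul_relIndex U E M hU.1 hE.1] at hd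
    refine (hq.dvd_mul.1 hd).elim (hU.2.2 q hq hπ) fun h' => ?_
    rw [show E.relIndex M = Nat.card (Cfsg.sigmaCore M) from Nat.eq_of_mul_eq_mul_left (Nat.card_pos (α := E))
      ((Grp.card_mul_relIndex hE.1).trans (compl_card hE).symm)] at h'
    exact hπ.2.2 (TransHyp.piCoreOf_primes (π := Cfsg.sigma M) (X := M) hq h')

/-- The normaliser in `M` of a subgroup of `K` with no larger normaliser in `E`. -/
theorem normalizer_meet {K X : Subgroup G} (hKE : K ≤ E) (hXE : X ≤ E) (hKX : K ≤ normalizer (X : Set G))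
    (hEX : E ⊓ normalizer (X : Set G) ≤ K)
    (hfix : Cfsg.sigmaCore M ⊓ centralizer (X : Set G) = Cfsg.sigmaCore M ⊓ centralizer (K : Set G)) :
    M ⊓ normalizer (X : Set G) = K ⊔ (Cfsg.sigmaCore M ⊓ centralizer (K : Set G)) := by
  refine le_antisymm (fun m hm => ?_) (sup_le (le_inf (hKE.trans hE.1) hKX) (le_inf (inf_le_left.trans hE.2.1) ?_))
  swap
  · exact hfix.ge.trans (inf_le_right.trans (centralizer_le_normalizer _))
  have hMN : M ≤ normalizer (Cfsg.sigmaCore M : Set G) := TransHyp.le_normalizer_piCoreOf M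
  obtain ⟨e, he, y, hy, rfl⟩ := hE.2.2.2 m hm.1
  have key : ∀ b ∈ X, e * b * e⁻¹ = e * y * b * (e * y)⁻¹ := by
    intro b hb
    have hmb : e * y * b * (e * y)⁻¹ ∈ E := hXE ((Subgroup.mem_normalizer_iff.1 hm.2 b).1 hb)
    have hbe : e * b * e⁻¹ ∈ E := E.mul_mem (E.mul_mem he (hXE hb)) (E.inv_mem he)
    have hc : y * b * y⁻¹ * b⁻¹ ∈ Cfsg.sigmaCore M := by
      have h1 := (Cfsg.sigmaCore M).mul_mem hy
        (Grp.mem_conj_normalizer (hMN (hE.1 (hXE hb))) ((Cfsg.sigmaCore M).inv_mem hy))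
      rwa [show y * (b * y⁻¹ * b⁻¹) = y * b * y⁻¹ * b⁻¹ by group] at h1
    have hq : (e * y * b * (e * y)⁻¹) * (e * b * e⁻¹)⁻¹ ∈ E ⊓ Cfsg.sigmaCore M := by
      refine ⟨E.mul_mem hmb (E.inv_mem hbe), ?_⟩
      rw [show (e * y * b * (e * y)⁻¹) * (e * b * e⁻¹)⁻¹ = e * (y * b * y⁻¹ * b⁻¹) * e⁻¹ by group]
      exact Grp.mem_conj_normalizer (hMN (hE.1 he)) hc
    rw [hE.2.2.1, mem_bot, mul_inv_eq_one] at hq
    exact hq.symm
  have hyC : y ∈ Cfsg.sigmaCore M ⊓ centralizer (K : Set G) := by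
    rw [← hfix]
    refine ⟨hy, mem_centralizer_iff.2 fun b hb => ?_⟩
    have h1 := key b hb
    rw [show e * y * b * (e * y)⁻¹ = e * (y * b * y⁻¹) * e⁻¹ by group, mul_left_inj, mul_right_inj] at h1
    calc b * y = y * b * y⁻¹ * y := by rw [← h1]
      _ = y * b := inv_mul_cancel_right _ _
  refine Subgroup.mul_mem_sup (hEX ⟨he, ?_⟩) hyC
  show e ∈ normalizer (X : Set G)
  rw [Grp.mem_normalizer_iff_smul]
  refine Subgroup.eq_of_le_of_card_ge ?_ (by rw [Grp.card_conj_smul])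
  rintro _ ⟨b, hb, rfl⟩
  show MulAut.conj e b ∈ X
  rw [MulAut.conj_apply, key b hb]
  exact (Subgroup.mem_normalizer_iff.1 hm.2 b).1 hb

/-- `E ∩ N(X) = K` for the lines and for `K` itself. -/
theorem compl_normalizer_le {K U X : Subgroup G} (hK : Cfsg.IsPiHallOf (Cfsg.kappa M) K M) (hKE : K ≤ E)
    (hU : Cfsg.IsPiHallOf {q | q.Prime ∧ q ∉ Cfsg.kappa M ∧ q ∉ Cfsg.sigma M} U M) (hUE : U ≤ E)
    (hKU : K ≤ normalizer (U : Set G)) (hreg : ∀ k ∈ K, k ≠ 1 → U ⊓ centralizer ({k} : Set G) = ⊥)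
    (hXK : X ≤ K) (hX1 : X ≠ ⊥) (hKX : K ≤ normalizer (X : Set G)) :
    E ⊓ normalizer (X : Set G) ≤ K := by
  haveI := solvable_of_ne_top hG hM.1
  haveI := isSolvable_of_le hE.1
  set π := {q | q.Prime ∧ q ∉ Cfsg.kappa M ∧ q ∉ Cfsg.sigma M}
  have hE' : E ≤ U ⊔ K := by
    refine Grp.le_of_forall_sylow (sup_le hUE hKE) fun p hp => ?_
    by_cases hd : p ∣ Nat.card E
    · by_cases hκ : p ∈ Cfsg.kappa M
      · obtain ⟨T, hT⟩ := Grp.exists_isSylowIn p K
        refine ⟨T, ⟨hT.1.trans hKE, hT.2.1, fun hd' => ?_⟩, hT.1.trans le_sup_right⟩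
        rw [← Subgroup.relIndex_mul_relIndex T K E hT.1 hKE] at hd'
        exact (hp.out.dvd_mul.1 hd').elim hT.2.2 fun h' =>
          (kappa_hall_compl hG hM hE hK hKE).2.2 p hp.out hκ h'
      · obtain ⟨T, hT⟩ := Grp.exists_isSylowIn p U
        refine ⟨T, ⟨hT.1.trans hUE, hT.2.1, fun hd' => ?_⟩, hT.1.trans le_sup_left⟩
        rw [← Subgroup.relIndex_mul_relIndex T U E hT.1 hUE] at hd'
        refine (hp.out.dvd_mul.1 hd').elim hT.2.2 fun h' => hU.2.2 p hp.out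
          ⟨hp.out, hκ, compl_prime hG hM hE hp.out hd⟩ (h'.trans (Dvd.intro _
            (Subgroup.relIndex_mul_relIndex U E M hUE hE.1)))
    · exact ⟨⊥, ⟨bot_le, IsPGroup.of_bot, by rwa [Subgroup.relIndex_bot_left]⟩, bot_le⟩
  intro g hg
  have hgE := hE' hg.1
  rw [← SetLike.mem_coe, Subgroup.coe_mul_of_right_le_normalizer_left U K hKU] at hgE
  obtain ⟨u, hu, k, hk, rfl⟩ := hgE
  have huX : u ∈ normalizer (X : Set G) := by
    have h1 := (normalizer (X : Set G)).mul_mem hg.2 ((normalizer (X : Set G)).inv_mem (hKX hk))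
    rwa [mul_inv_cancel_right] at h1
  have hUK : U ⊓ K = ⊥ := Grp.inf_eq_bot_of_coprime (Nat.coprime_of_dvd fun p hp h1 h2 =>
    (hU.2.1 p hp h1).2.1 (hK.2.1 p hp h2))
  obtain ⟨x, hx, hx1⟩ := (bot_or_exists_ne_one X).resolve_left hX1
  have h2 : u * x * u⁻¹ * x⁻¹ ∈ U ⊓ K := by
    refine ⟨?_, K.mul_mem (hXK ((Subgroup.mem_normalizer_iff.1 huX x).1 hx)) (K.inv_mem (hXK hx))⟩
    rw [show u * x * u⁻¹ * x⁻¹ = u * (x * u⁻¹ * x⁻¹) by group]
    exact U.mul_mem hu (Grp.mem_conj_normalizer (hKU (hXK hx)) (U.inv_mem hu))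
  rw [hUK, mem_bot, mul_inv_eq_one, mul_inv_eq_iff_eq_mul] at h2
  have h3 : u ∈ U ⊓ centralizer ({x} : Set G) := ⟨hu, mem_centralizer_singleton_iff.2 h2⟩
  rw [hreg x (hXK hx) hx1, mem_bot] at h3
  show u * k ∈ K
  rw [h3, one_mul]; exact hk

end Cfsg.Agent.Transfer.Loc
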