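import Cfsg.Agent.Lib.Transfer.Local.ScnUnique
import Cfsg.Agent.Lib.Transfer.OddRankTwoStructure

/-!
The primes `σ(M)` and `α(M)` of a maximal subgroup and the corresponding cores.
-/

set_option autoImplicit false
set_option linter.style.haveILetI false
set_option linter.unusedSectionVars false

namespace Cfsg.Agent.Transfer.Loc

open Subgroup
open scoped commutatorElement Pointwise

universe u

variable {G : Type u} [Group G] [Finite G] (hG : Cfsg.IsMinSimpleOddOrder G) {M : Subgroup G} (hM : IsCoatom M)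
include hG hM

theorem normalizer_coatom : normalizer (M : Set G) = M :=
  normalizer_eq_of_coatom hG hM (coatom_ne_bot hG hM) hM.1 le_normalizer

theorem mem_of_conj_smul_eq {g : G} (h : MulAut.conj g • M = M) : g ∈ M := by
  have : g ∈ normalizer (M : Set G) := Grp.mem_normalizer_iff_smul.2 h
  rwa [normalizer_coatom hG hM] at this

variable {p : ℕ} [hp : Fact p.Prime]

theorem sigma_sylow (hσ : p ∈ Cfsg.sigma M) {S : Subgroup G} (hS : Grp.IsSylowIn p S M) :
    normalizer (S : Set G) ≤ M ∧ ¬ p ∣ S.index := by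
  obtain ⟨-, hpM, P, hP⟩ := hσ
  obtain ⟨k, hk, hkS⟩ := hS.conj (Grp.isSylowIn_iff.2 ⟨P, rfl⟩)
  have hN : normalizer (S : Set G) ≤ M := by
    intro n hn
    have h1 : k * n * k⁻¹ ∈ normalizer ((P : Subgroup M).map M.subtype : Set G) := by
      rw [Grp.mem_normalizer_iff_smul, ← hkS, Grp.conj_smul_conj_smul,
        show k * n * k⁻¹ * k = k * n by group, ← Grp.conj_smul_conj_smul, Grp.mem_normalizer_iff_smul.1 hn]
    have h2 := M.mul_mem (M.mul_mem (M.inv_mem hk) (hP h1)) hk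
    simpa [mul_assoc] using h2
  refine ⟨hN, ?_⟩
  obtain ⟨T, hST⟩ := hS.2.1.exists_le_sylow
  have hTS : (T : Subgroup G) = S := by
    rcases eq_or_lt_of_le hST with e | hlt
    · exact e.symm
    exfalso
    have h1 := exists_grow T.isPGroup' hlt
    exact h1.ne (hS.eq_of_le h1.le (inf_le_right.trans hN) (T.isPGroup'.to_le inf_le_left))
  exact hTS ▸ T.not_dvd_index

theorem sigma_sylow_trans (hσ : p ∈ Cfsg.sigma M) {S : Subgroup G} (hS : Grp.IsSylowIn p S M) {g : G}
    (h : MulAut.conj g • S ≤ M) : g ∈ M := by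
  haveI := solvable_of_ne_top hG hM.1
  obtain ⟨X, hX, -, hle⟩ := Grp.exists_invariant_sylow_ge ⊥ M bot_le (by simp) (Or.inl inferInstance) h
    (hS.2.1.map _) bot_le
  have e : MulAut.conj g • S = X :=
    Subgroup.eq_of_le_of_card_ge hle (by rw [Grp.card_conj_smul, hX.card, hS.card])
  obtain ⟨k, hk, hkS⟩ := hS.conj hX
  have h1 : k⁻¹ * g ∈ normalizer (S : Set G) := by
    rw [Grp.mem_normalizer_iff_smul, ← Grp.conj_smul_conj_smul, e, ← hkS, Grp.conj_smul_conj_smul, inv_mul_cancel,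
      map_one, one_smul]
  have := M.mul_mem hk ((sigma_sylow hG hM hσ hS).1 h1)
  simpa using this

/-- Every `p`-subgroup lies in a conjugate of `M` for `p ∈ σ(M)`. -/
theorem exists_conj_le (hσ : p ∈ Cfsg.sigma M) {Y : Subgroup G} (hY : IsPGroup p Y) :
    ∃ g : G, Y ≤ MulAut.conj g • M := by
  obtain ⟨S, hS⟩ := Grp.exists_isSylowIn p M
  have hidx := (sigma_sylow hG hM hσ hS).2
  obtain ⟨T, hYT⟩ := hY.exists_le_sylow
  obtain ⟨g, hg⟩ := MulAction.exists_smul_eq G (hS.2.1.toSylow hidx) T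
  refine ⟨g, hYT.trans ?_⟩
  rw [← hg, Sylow.coe_subgroup_smul]
  exact Subgroup.pointwise_smul_le_pointwise_smul_iff.2 hS.1

/-- The centraliser of a `p`-subgroup is transitive on the conjugates of `M` containing it. -/
theorem sigma_trans (hσ : p ∈ Cfsg.sigma M) {X : Subgroup G} (hX : IsPGroup p X) {g h : G}
    (hgX : X ≤ MulAut.conj g • M) (hhX : X ≤ MulAut.conj h • M) :
    ∃ c ∈ centralizer (X : Set G), MulAut.conj c • (MulAut.conj g • M) = MulAut.conj h • M := by
  induction hn : Nat.card G - Nat.card X using Nat.strong_induction_on generalizing X g h with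
  | _ n ih =>
  subst hn
  have IH : ∀ {Y : Subgroup G}, X < Y → IsPGroup p Y → ∀ {g h : G}, Y ≤ MulAut.conj g • M → Y ≤ MulAut.conj h • M →
      ∃ c ∈ centralizer (X : Set G), MulAut.conj c • (MulAut.conj g • M) = MulAut.conj h • M := by
    intro Y hXY hY g h hg hh
    have hlt : Nat.card X < Nat.card Y := Set.ncard_lt_ncard (SetLike.coe_ssubset_coe.2 hXY)
    have hle : Nat.card Y ≤ Nat.card G := Subgroup.card_le_card_group Y
    obtain ⟨c, hc, e⟩ := ih _ (by omega) hY hg hh rfl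
    exact ⟨c, centralizer_le hXY.le hc, e⟩
  rcases eq_or_ne X ⊥ with rfl | hX1
  · refine ⟨h * g⁻¹, mem_centralizer_iff.2 fun x hx => ?_, ?_⟩
    · rw [SetLike.mem_coe, mem_bot] at hx
      rw [hx, one_mul, mul_one]
    · rw [Grp.conj_smul_conj_smul, inv_mul_cancel_right]
  have hinv : ∀ {g : G} {Y : Subgroup G}, Y ≤ MulAut.conj g • M → MulAut.conj g⁻¹ • Y ≤ M := by
    intro g Y hY
    have := Subgroup.pointwise_smul_le_pointwise_smul_iff (a := MulAut.conj g⁻¹) |>.2 hY
    rwa [Grp.conj_smul_conj_smul, inv_mul_cancel, map_one, one_smul] at this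
  by_cases hsyl : ∃ g : G, X ≤ MulAut.conj g • M ∧ Grp.IsSylowIn p (MulAut.conj g⁻¹ • X) M
  · obtain ⟨a, -, haS⟩ := hsyl
    have huniq : ∀ b : G, X ≤ MulAut.conj b • M → MulAut.conj b • M = MulAut.conj a • M := by
      intro b hb
      have h1 : MulAut.conj (b⁻¹ * a) • (MulAut.conj a⁻¹ • X) ≤ M := by
        rw [Grp.conj_smul_conj_smul, mul_inv_cancel_right]; exact hinv hb
      have h2 : a⁻¹ * b ∈ M := by simpa using M.inv_mem (sigma_sylow_trans hG hM hσ haS h1)
      rw [show b = a * (a⁻¹ * b) by group, ← Grp.conj_smul_conj_smul, Grp.conj_smul_eq_self_of_mem h2]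
    refine ⟨1, one_mem _, ?_⟩
    rw [map_one, one_smul, huniq g hgX, huniq h hhX]
  push Not at hsyl
  set L := normalizer (X : Set G) with hL
  have hLt : L ≠ ⊤ := TransHyp.normalizer_ne_top hG hX1 (ne_top_of_pGroup hG hX)
  haveI := solvable_of_ne_top hG hLt
  haveI := solvable_of_ne_top hG hM.1
  -- each conjugate over `X` is conjugate to one over a Sylow subgroup of the normaliser
  have step : ∀ a : G, X ≤ MulAut.conj a • M → ∃ P, Grp.IsSylowIn p P L ∧ X < P ∧ ∃ b : G, P ≤ MulAut.conj b • M ∧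
      ∃ c ∈ centralizer (X : Set G), MulAut.conj c • (MulAut.conj a • M) = MulAut.conj b • M := by
    intro a ha
    obtain ⟨T, hT, -, hXT⟩ := Grp.exists_invariant_sylow_ge ⊥ M bot_le (by simp) (Or.inl inferInstance)
      (hinv ha) (hX.map _) bot_le
    have hlt : MulAut.conj a⁻¹ • X < T := lt_of_le_of_ne hXT fun e => hsyl a ha (e ▸ hT)
    have hlt' : X < MulAut.conj a • T := by
      refine lt_of_le_of_ne ?_ fun e => hlt.ne ?_
      · have := Subgroup.pointwise_smul_le_pointwise_smul_iff (a := MulAut.conj a) |>.2 hXT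
        rwa [Grp.conj_smul_conj_smul, mul_inv_cancel, map_one, one_smul] at this
      · rw [e, Grp.conj_smul_conj_smul, inv_mul_cancel, map_one, one_smul]
    have hTp : IsPGroup p (MulAut.conj a • T : Subgroup G) := hT.2.1.map _
    have h1 := exists_grow hTp hlt'
    obtain ⟨P, hP, -, hYP⟩ := Grp.exists_invariant_sylow_ge ⊥ L bot_le (by simp) (Or.inl inferInstance)
      (U := MulAut.conj a • T ⊓ L) inf_le_right (hTp.to_le inf_le_left) bot_le
    obtain ⟨b, hb⟩ := exists_conj_le hG hM hσ hP.2.1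
    exact ⟨P, hP, h1.trans_le hYP, b, hb,
      IH h1 (hTp.to_le inf_le_left) (inf_le_left.trans (Subgroup.pointwise_smul_le_pointwise_smul_iff.2 hT.1))
        (hYP.trans hb)⟩
  obtain ⟨P, hP, hXP, b, hb, c, hc, hcb⟩ := step g hgX
  obtain ⟨P', hP', hXP', b', hb', c', hc', hcb'⟩ := step h hhX
  suffices key : ∃ d ∈ centralizer (X : Set G), MulAut.conj d • (MulAut.conj b • M) = MulAut.conj b' • M by
    obtain ⟨d, hd, hdb⟩ := key
    refine ⟨c'⁻¹ * d * c, mul_mem (mul_mem (inv_mem hc') hd) hc, ?_⟩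
    rw [← Grp.conj_smul_conj_smul, hcb, ← Grp.conj_smul_conj_smul, hdb, ← hcb', Grp.conj_smul_conj_smul,
      inv_mul_cancel, map_one, one_smul]
  by_cases hr : Cfsg.PRankLE p 2 L
  · have hpL : p ∣ Nat.card L := by
      obtain ⟨n, hn⟩ := IsPGroup.iff_card.1 hX
      rcases Nat.eq_zero_or_pos n with rfl | h0
      · exact absurd (card_eq_one.1 (by simpa using hn)) hX1
      · exact ((dvd_pow_self p h0.ne').trans (dvd_of_eq hn.symm)).trans (card_dvd_of_le le_normalizer)
    obtain ⟨-, -, -, -, -, hidx⟩ := Cfsg.Agent.S1450.result (G := L) (hG.1.of_dvd_nat (card_subgroup_dvd_card L)) p hpL hr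
    obtain ⟨Q, hQ⟩ := Grp.isSylowIn_iff.1 hP
    haveI : (Cfsg.pPrimeCore p L).Normal := Grp.pPrimeCore_isNormal
    haveI : (Cfsg.pPrimePCore p L).Normal := by
      haveI := Grp.pCore_isNormal (p := p) (G := L ⧸ Cfsg.pPrimeCore p L)
      exact Subgroup.Normal.comap inferInstance _
    have hle : (Q : Subgroup L) ≤ Cfsg.pPrimePCore p L := by
      intro s hs
      rw [← QuotientGroup.eq_one_iff]
      obtain ⟨k, hk⟩ := Q.isPGroup' ⟨s, hs⟩
      refine orderOf_eq_one_iff.1 (Nat.eq_one_of_dvd_coprimes (hidx.pow_right k) ?_ ?_)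
      · rw [Subgroup.index]; exact orderOf_dvd_natCard _
      · refine orderOf_dvd_of_pow_eq_one ?_
        rw [← QuotientGroup.mk_pow, show s ^ p ^ k = 1 from congrArg Subtype.val hk]
        rfl
    have hsup := sup_core_eq_pPrimePCore Q
    rw [inf_eq_left.2 hle] at hsup
    have hfr := frattini_core (p := p) (Q : Subgroup L) (Cfsg.pPrimePCore p L) (Cfsg.pPrimeCore p L)
      Q.isPGroup' Grp.pPrimeCore_coprime hsup (by rw [normalizer_eq_top]; exact le_top)
    obtain ⟨l, hl, hlP⟩ := hP.conj hP'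
    obtain ⟨u, hu, k, hk, e⟩ := Subgroup.mem_sup_of_normal_right.1 (hfr ▸ mem_top (⟨l, hl⟩ : L))
    set k' : G := (u : G) * k * (u : G)⁻¹ with hk'
    have hk'C : k' ∈ centralizer (X : Set G) := by
      have hkO : k' ∈ O' p L := by
        rw [O'_eq]
        exact ⟨u * k * u⁻¹, (inferInstance : (Cfsg.pPrimeCore p L).Normal).conj_mem k hk u, rfl⟩
      refine commute_of_coprime ((O'_le p L).trans le_rfl) (le_normalizer.trans (le_normalizer_core' L)) ?_ hkO
      obtain ⟨n, hn⟩ := IsPGroup.iff_card.1 hX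
      rw [hn]; exact (O'_coprime L).pow_right n
    have huP : MulAut.conj (u : G) • P = P := by
      refine Grp.mem_normalizer_iff_smul.1 ?_
      rw [← hQ]
      exact le_normalizer_map L.subtype (mem_map_of_mem _ hu)
    have hkP : MulAut.conj k' • P = P' := by
      have hl' : l = k' * u := by rw [hk', inv_mul_cancel_right]; exact (congrArg Subtype.val e).symm
      rw [← hlP, hl', ← Grp.conj_smul_conj_smul k' (u : G), huP]
    have hPb : P' ≤ MulAut.conj (k' * b) • M := by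
      rw [← Grp.conj_smul_conj_smul, ← hkP]; exact Subgroup.pointwise_smul_le_pointwise_smul_iff.2 hb
    obtain ⟨d, hd, hdb⟩ := IH hXP' hP'.2.1 hPb hb'
    exact ⟨d * k', mul_mem hd hk'C, by rw [← Grp.conj_smul_conj_smul, Grp.conj_smul_conj_smul k', hdb]⟩
  · obtain ⟨E, hEL, hE, hE3⟩ := exists_elem_of_not_prank hr
    obtain ⟨M₁, hM₁, hLM₁⟩ := exists_coatom hG hLt
    have hall : ∀ {P : Subgroup G} {b : G}, Grp.IsSylowIn p P L → P ≤ MulAut.conj b • M → MulAut.conj b • M = M₁ := by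
      intro P b hP hb
      obtain ⟨T, hT, -, hET⟩ := Grp.exists_invariant_sylow_ge ⊥ L bot_le (by simp) (Or.inl inferInstance) hEL
        (Grp.elemAb_isPGroup hE) bot_le
      obtain ⟨l, hl, hlP⟩ := hT.conj hP
      have hU : Cfsg.InUniqueMaximal (MulAut.conj l • E) := u_conj hG (u_elem_three hG hE hE3) l
      have hEP : MulAut.conj l • E ≤ P := hlP ▸ Subgroup.pointwise_smul_le_pointwise_smul_iff.2 hET
      exact hU.unique ⟨isCoatom_conj hG hM b, hEP.trans hb⟩ ⟨hM₁, hEP.trans (hP.1.trans hLM₁)⟩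
    exact ⟨1, one_mem _, by rw [map_one, one_smul, hall hP hb, hall hP' hb']⟩

theorem sigma_conj_factor (hσ : p ∈ Cfsg.sigma M) {X : Subgroup G} (hX : IsPGroup p X) (hXM : X ≤ M) {g : G}
    (hgX : MulAut.conj g • X ≤ M) : ∃ m ∈ M, ∃ c ∈ centralizer (X : Set G), g = m * c := by
  have h1 : X ≤ MulAut.conj g⁻¹ • M := by
    have := Subgroup.pointwise_smul_le_pointwise_smul_iff (a := MulAut.conj g⁻¹) |>.2 hgX
    rwa [Grp.conj_smul_conj_smul, inv_mul_cancel, map_one, one_smul] at this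
  obtain ⟨c, hc, e⟩ := sigma_trans hG hM hσ hX (g := 1) (by rwa [map_one, one_smul]) h1
  refine ⟨g * c, mem_of_conj_smul_eq hG hM ?_, c⁻¹, inv_mem hc, by group⟩
  rw [map_one, one_smul] at e
  rw [← Grp.conj_smul_conj_smul, e, Grp.conj_smul_conj_smul, mul_inv_cancel, map_one, one_smul]

theorem sylow_le_derived (hσ : p ∈ Cfsg.sigma M) {S : Subgroup G} (hS : Grp.IsSylowIn p S M) : S ≤ ⁅M, M⁆ := by
  intro x hx
  let T : Sylow p G := hS.2.1.toSylow (sigma_sylow hG hM hσ hS).2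
  refine Transfer.commutator_inf_sylow_le T ?_ ⟨CN.MinSimple.perfect hG ▸ Subgroup.mem_top x, hx⟩
  intro z hz u hu
  have hzS : z ∈ S := hz
  have huS : u * z * u⁻¹ ∈ S := hu
  obtain ⟨m, hm, c, hc, rfl⟩ := sigma_conj_factor hG hM hσ (X := zpowers z) (hS.2.1.to_le (zpowers_le.2 hzS))
    (zpowers_le.2 (hS.1 hzS)) (g := u) (by
      rintro _ ⟨y, ⟨i, rfl⟩, rfl⟩
      show (MulAut.conj u) (z ^ i) ∈ M
      rw [map_zpow]
      exact M.zpow_mem (hS.1 huS) i)
  have hcz : c * z = z * c := (mem_centralizer_iff.1 hc z (mem_zpowers z)).symm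
  rw [show z⁻¹ * (m * c * z * (m * c)⁻¹) = ⁅z⁻¹, m⁆ by
    rw [mul_assoc m c z, hcz, commutatorElement_def]; group]
  exact Subgroup.commutator_mem_commutator (M.inv_mem (hS.1 hzS)) hm

omit hp in
theorem alpha_subset_sigma : Cfsg.alpha M ⊆ Cfsg.sigma M := by
  rintro q ⟨hq, hqr⟩
  haveI := Fact.mk hq
  haveI := solvable_of_ne_top hG hM.1
  obtain ⟨E, hEM, hE, hE3⟩ := exists_elem_of_not_prank hqr
  obtain ⟨S, hS, -, hES⟩ := Grp.exists_invariant_sylow_ge ⊥ M bot_le (by simp) (Or.inl inferInstance) hEM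
    (Grp.elemAb_isPGroup hE) bot_le
  obtain ⟨T, rfl⟩ := Grp.isSylowIn_iff.1 hS
  have hqE : q ∣ Nat.card E := by
    obtain ⟨n, hn⟩ := IsPGroup.iff_card.1 (Grp.elemAb_isPGroup hE)
    rcases Nat.eq_zero_or_pos n with rfl | h0
    · rw [hn, pow_zero] at hE3
      exact absurd hE3 (not_le.2 (Nat.one_lt_pow (by norm_num) hq.one_lt))
    · rw [hn]; exact dvd_pow_self q h0.ne'
  have hE1 : E ≠ ⊥ := fun e => hq.not_dvd_one (by rwa [e, card_bot] at hqE)
  refine ⟨hq, hqE.trans (card_dvd_of_le hEM), T, ?_⟩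
  obtain ⟨L, hL, hNL⟩ := exists_coatom_normalizer hG (ne_bot_of_le_ne_bot hE1 hES) (ne_top_of_pGroup hG hS.2.1)
  exact (u_elem_three hG hE hE3).unique ⟨hL, hES.trans (le_normalizer.trans hNL)⟩ ⟨hM, hEM⟩ ▸ hNL

section Core

variable {π : Set ℕ} (hα : Cfsg.alpha M ⊆ π) (hπ : π ⊆ Cfsg.sigma M)
include hα

omit hp in
/-- The quotient by the core has Fitting subgroup of rank two and nilpotent derived subgroup. -/
theorem derived_quotient_nilpotent : Group.IsNilpotent (commutator (M ⧸ Cfsg.piCore π M)) := by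
  haveI := solvable_of_ne_top hG hM.1
  haveI : Group.IsSolvable (M ⧸ Cfsg.piCore π M) := Group.isSolvable_of_surjective (QuotientGroup.mk'_surjective _)
  set K := Cfsg.piCore π M with hK
  refine (Cfsg.Agent.S1451.result (G := M ⧸ K) ((hG.1.of_dvd_nat (card_subgroup_dvd_card M)).of_dvd_nat
    (Subgroup.card_quotient_dvd_card K)) (Or.inr ?_)).1
  intro q hq B hBc hBe
  haveI := Fact.mk hq
  by_cases hqπ : q ∈ π
  · have hcore : Cfsg.pCore q (M ⧸ K) = ⊥ := by
      haveI := Grp.pCore_isNormal (p := q) (G := M ⧸ K)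
      refine le_bot_iff.1 fun y hy => ?_
      obtain ⟨x, rfl⟩ := QuotientGroup.mk'_surjective K y
      rw [mem_bot]
      suffices hmem : (Cfsg.pCore q (M ⧸ K)).comap (QuotientGroup.mk' K) ∈
          {N : Subgroup M | N.Normal ∧ ∀ r : ℕ, r.Prime → r ∣ Nat.card N → r ∈ π} from
        (QuotientGroup.eq_one_iff x).2 (le_sSup hmem hy)
      refine ⟨inferInstance, ?_⟩
      intro r hr hd
      set C := (Cfsg.pCore q (M ⧸ K)).comap (QuotientGroup.mk' K) with hC
      have hKC : K ≤ C := fun k hk => by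
        show QuotientGroup.mk' K k ∈ Cfsg.pCore q (M ⧸ K)
        rw [show QuotientGroup.mk' K k = 1 from (QuotientGroup.eq_one_iff k).2 hk]; exact one_mem _
      have hcard := Subgroup.relIndex_comap ⊥ (QuotientGroup.mk' K) C
      rw [MonoidHom.comap_bot, QuotientGroup.ker_mk', relIndex_bot_left, hC,
        map_comap_eq_self_of_surjective (QuotientGroup.mk'_surjective K), ← hC] at hcard
      rw [← Grp.card_mul_relIndex hKC, hcard] at hd
      rcases hr.dvd_mul.1 hd with h | h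
      · exact TransHyp.piCore_primes hr h
      · obtain ⟨n, hn⟩ := IsPGroup.iff_card.1 (Grp.pCore_isPGroup (p := q) (G := M ⧸ K))
        rwa [(Nat.prime_dvd_prime_iff_eq hr hq).1 (hr.dvd_of_dvd_pow (hn ▸ h))]
    rw [card_eq_one.2 (le_bot_iff.1 fun y hy => ?_ : B = ⊥)]
    · exact Nat.one_le_pow _ _ hq.pos
    · have hy1 : ((y : Cfsg.fittingSubgroup (M ⧸ K)) : M ⧸ K) ∈ Cfsg.pCore q (M ⧸ K) :=
        Cfsg.Agent.S1451.mem_pCore_of_mem_fitting y.2 (j := 1) (by
          rw [pow_one]; exact congrArg Subtype.val (hBe y hy))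
      rw [hcore, mem_bot] at hy1
      exact mem_bot.2 (Subtype.ext hy1)
  · have hM2 : Cfsg.PRankLE q 2 M := by
      by_contra h
      exact hqπ (hα ⟨hq, h⟩)
    have hKq : (Nat.card K).Coprime q :=
      (hq.coprime_iff_not_dvd.2 fun hd => hqπ (TransHyp.piCore_primes hq hd)).symm
    exact RankTwo.rankLE_subgroup (OddRankTwo.prankLE_quotient K hKq hM2) _ B hBc hBe

include hπ

/-- Sylow subgroups for the primes of `π` lie in the core. -/
theorem sylow_le_piCore (hpπ : p ∈ π) {S : Subgroup G} (hS : Grp.IsSylowIn p S M) :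
    S ≤ Cfsg.piCoreOf π M := by
  obtain ⟨T, rfl⟩ := Grp.isSylowIn_iff.1 hS
  refine map_mono ?_
  set K := Cfsg.piCore π M with hK
  haveI := derived_quotient_nilpotent hG hM hα
  have hTd : (T : Subgroup M) ≤ commutator M := by
    intro x hx
    have h1 := sylow_le_derived hG hM (hπ hpπ) hS (mem_map_of_mem M.subtype hx)
    rw [show ⁅M, M⁆ = (commutator M).map M.subtype by
      rw [_root_.commutator_def, Subgroup.map_commutator, ← MonoidHom.range_eq_map, Subgroup.range_subtype]] at h1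
    obtain ⟨y, hy, e⟩ := h1
    rwa [← M.subtype_injective e]
  intro x hx
  have hxF : QuotientGroup.mk' K x ∈ Cfsg.fittingSubgroup (M ⧸ K) := by
    refine Grp.le_fittingSubgroup (N := commutator (M ⧸ K)) inferInstance inferInstance ?_
    have h2 : (commutator M).map (QuotientGroup.mk' K) ≤ commutator (M ⧸ K) := by
      rw [_root_.commutator_def, _root_.commutator_def, Subgroup.map_commutator]
      exact Subgroup.commutator_mono le_top le_top
    exact h2 (mem_map_of_mem _ (hTd hx))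
  obtain ⟨k, hk⟩ := T.isPGroup' ⟨x, hx⟩
  have hxc : QuotientGroup.mk' K x ∈ Cfsg.pCore p (M ⧸ K) :=
    Cfsg.Agent.S1451.mem_pCore_of_mem_fitting hxF (j := k) (by
      rw [← map_pow, show x ^ p ^ k = 1 from congrArg Subtype.val hk, map_one])
  haveI := Grp.pCore_isNormal (p := p) (G := M ⧸ K)
  set C := (Cfsg.pCore p (M ⧸ K)).comap (QuotientGroup.mk' K) with hC
  suffices hmem : C ∈ {N : Subgroup M | N.Normal ∧ ∀ r : ℕ, r.Prime → r ∣ Nat.card N → r ∈ π} from
    le_sSup hmem hxc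
  refine ⟨inferInstance, ?_⟩
  intro r hr hd
  have hKC : K ≤ C := fun k hk => by
    show QuotientGroup.mk' K k ∈ Cfsg.pCore p (M ⧸ K)
    rw [show QuotientGroup.mk' K k = 1 from (QuotientGroup.eq_one_iff k).2 hk]; exact one_mem _
  have hcard := Subgroup.relIndex_comap ⊥ (QuotientGroup.mk' K) C
  rw [MonoidHom.comap_bot, QuotientGroup.ker_mk', relIndex_bot_left, hC,
    map_comap_eq_self_of_surjective (QuotientGroup.mk'_surjective K), ← hC] at hcard
  rw [← Grp.card_mul_relIndex hKC, hcard] at hd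
  rcases hr.dvd_mul.1 hd with h | h
  · exact TransHyp.piCore_primes hr h
  · obtain ⟨n, hn⟩ := IsPGroup.iff_card.1 (Grp.pCore_isPGroup (p := p) (G := M ⧸ K))
    rwa [(Nat.prime_dvd_prime_iff_eq hr hp.out).1 (hr.dvd_of_dvd_pow (hn ▸ h))]

omit hp in
theorem isPiHallOf_piCore : Cfsg.IsPiHallOf π (Cfsg.piCoreOf π M) M := by
  refine ⟨TransHyp.piCoreOf_le M, fun r hr hd => TransHyp.piCoreOf_primes hr hd, fun r hr hrπ hd => ?_⟩
  haveI := Fact.mk hr
  obtain ⟨S, hS⟩ := Grp.exists_isSylowIn r M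
  exact hS.2.2 (hd.trans (relIndex_dvd_of_le_left M (sylow_le_piCore hG hM hα hπ hrπ hS)))

omit hp in
theorem isPiHall_piCore : Cfsg.IsPiHall π (Cfsg.piCoreOf π M) := by
  refine ⟨fun r hr hd => TransHyp.piCoreOf_primes hr hd, fun r hr hrπ hd => ?_⟩
  haveI := Fact.mk hr
  obtain ⟨S, hS⟩ := Grp.exists_isSylowIn r M
  exact (sigma_sylow hG hM (hπ hrπ) hS).2 (hd.trans (index_dvd_of_le (sylow_le_piCore hG hM hα hπ hrπ hS)))

omit hp in
theorem rankLE_quotient_piCore : Cfsg.RankLE 2 (M ⧸ Cfsg.piCore π M) := by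
  intro q hq
  haveI := Fact.mk hq
  by_cases hqπ : q ∈ π
  · intro B _ hBe
    have hH := (isPiHallOf_piCore hG hM hα hπ).2.2 q hq hqπ
    rw [show Cfsg.piCoreOf π M = (Cfsg.piCore π M).map M.subtype from rfl, Subgroup.relIndex, Subgroup.subgroupOf,
      comap_map_eq_self_of_injective M.subtype_injective] at hH
    have hB : IsPGroup q B := fun b => ⟨1, Subtype.ext (by rw [coe_pow, coe_one, pow_one]; exact hBe b b.2)⟩
    obtain ⟨n, hn⟩ := IsPGroup.iff_card.1 hB
    rcases Nat.eq_zero_or_pos n with rfl | h0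
    · rw [hn, pow_zero]; exact Nat.one_le_pow _ _ hq.pos
    · refine absurd (((dvd_pow_self q h0.ne').trans (dvd_of_eq hn.symm)).trans (card_subgroup_dvd_card B)) ?_
      exact hH
  · have hM2 : Cfsg.PRankLE q 2 M := by
      by_contra h
      exact hqπ (hα ⟨hq, h⟩)
    exact OddRankTwo.prankLE_quotient _
      (hq.coprime_iff_not_dvd.2 fun hd => hqπ (TransHyp.piCore_primes hq hd)).symm hM2

end Core

omit hp in
theorem sigmaCore_le_derived : Cfsg.sigmaCore M ≤ ⁅M, M⁆ := by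
  haveI := solvable_of_ne_top hG hM.1
  have h : Cfsg.piCoreOf (Cfsg.sigma M) M ≤ Cfsg.piCoreOf (Cfsg.sigma M) M ⊓ ⁅M, M⁆ := by
    refine Grp.le_of_forall_sylow inf_le_left fun q hq => ?_
    obtain ⟨X, hX⟩ := Grp.exists_isSylowIn q (Cfsg.piCoreOf (Cfsg.sigma M) M)
    refine ⟨X, hX, le_inf hX.1 ?_⟩
    rcases eq_or_ne X ⊥ with rfl | hX1
    · exact bot_le
    have hqσ : q ∈ Cfsg.sigma M := by
      obtain ⟨n, hn⟩ := IsPGroup.iff_card.1 hX.2.1
      rcases Nat.eq_zero_or_pos n with rfl | h0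
      · exact absurd (card_eq_one.1 (by simpa using hn)) hX1
      · exact TransHyp.piCoreOf_primes hq.out (((dvd_pow_self q h0.ne').trans (dvd_of_eq hn.symm)).trans (card_dvd_of_le hX.1))
    obtain ⟨S, hS, -, hXS⟩ := Grp.exists_invariant_sylow_ge ⊥ M bot_le (by simp) (Or.inl inferInstance)
      (hX.1.trans (TransHyp.piCoreOf_le M)) hX.2.1 bot_le
    exact hXS.trans (sylow_le_derived hG hM hqσ hS)
  exact h.trans inf_le_right

omit hp in
theorem alphaCore_le_sigmaCore : Cfsg.alphaCore M ≤ Cfsg.sigmaCore M :=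
  TransHyp.le_piCoreOf (TransHyp.piCoreOf_le M) (TransHyp.le_normalizer_piCoreOf M)
    fun r hr hd => alpha_subset_sigma hG hM (TransHyp.piCoreOf_primes (π := Cfsg.alpha M) (X := M) hr hd)

omit hp in
/-- `M_σ` is nontrivial. -/
theorem sigmaCore_ne_bot : Cfsg.sigmaCore M ≠ ⊥ := by
  haveI := solvable_of_ne_top hG hM.1
  intro e
  by_cases hα : ∃ q, q ∈ Cfsg.alpha M
  · obtain ⟨q, hq, hqr⟩ := hα
    haveI := Fact.mk hq
    obtain ⟨S, hS⟩ := Grp.exists_isSylowIn q M
    have hSb : S ≤ ⊥ := e ▸ (sylow_le_piCore hG hM (π := Cfsg.sigma M) (alpha_subset_sigma hG hM) le_rfl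
      (alpha_subset_sigma hG hM ⟨hq, hqr⟩) hS)
    refine hS.2.2 ?_
    rw [le_bot_iff.1 hSb, relIndex_bot_left]
    exact (alpha_subset_sigma hG hM ⟨hq, hqr⟩).2.1
  push Not at hα
  have hr : Cfsg.RankLE 2 M := fun q hq => by by_contra h; exact hα q ⟨hq, h⟩
  have hM1 : Nat.card M ≠ 1 := fun h => coatom_ne_bot hG hM (card_eq_one.1 h)
  have hne : (Nat.card M).primeFactors.Nonempty := Nat.nonempty_primeFactors.2 (by
    have := Nat.card_pos (α := M); omega)
  set q := (Nat.card M).primeFactors.max' hne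
  have hq : q ∈ (Nat.card M).primeFactors := Finset.max'_mem _ _
  have hqp := Nat.prime_of_mem_primeFactors hq
  haveI := Fact.mk hqp
  obtain ⟨-, -, htower⟩ := Cfsg.Agent.S1451.result (G := M) (hG.1.of_dvd_nat (card_subgroup_dvd_card M)) (Or.inl hr)
  obtain ⟨N, hNc, hNπ, hNidx⟩ := htower (q - 1)
  have hNq : IsPGroup q N := isPGroup_of_primes fun r hr hd => by
    have h1 := (hNπ r hr hd).2
    have h2 : r ≤ q := Finset.le_max' _ r (Nat.mem_primeFactors.2
      ⟨hr, hd.trans (card_subgroup_dvd_card N), Nat.card_pos.ne'⟩)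
    omega
  have hNi : ¬ q ∣ N.index := hNidx q hqp ⟨hqp, by have := hqp.one_lt; omega⟩
  let T : Sylow q M := hNq.toSylow hNi
  set S := N.map M.subtype with hSdef
  have hS : Grp.IsSylowIn q S M := Grp.isSylowIn_iff.2 ⟨T, rfl⟩
  have hS1 : S ≠ ⊥ := fun e' => hS.2.2 (by
    rw [e', relIndex_bot_left]; exact (Nat.mem_primeFactors.1 hq).2.1)
  haveI := hNc
  have hMS : M ≤ normalizer (S : Set G) := map_normal_le_normalizer N
  have hσ : q ∈ Cfsg.sigma M := ⟨hqp, (Nat.mem_primeFactors.1 hq).2.1, T,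
    (normalizer_eq_of_le hG hM hS1 hS.1 hMS).le⟩
  exact hS1 (le_bot_iff.1 (e ▸ TransHyp.le_piCoreOf (π := Cfsg.sigma M) hS.1 hMS fun r hr hd => by
    obtain ⟨n, hn⟩ := IsPGroup.iff_card.1 hS.2.1
    rwa [(Nat.prime_dvd_prime_iff_eq hr hqp).1 (hr.dvd_of_dvd_pow (hn ▸ hd))]))

end Cfsg.Agent.Transfer.Loc
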