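import Cfsg.Agent.Lib.Transfer.Local.SigmaPrimeOrder
import Cfsg.Agent.S1404
import Cfsg.Agent.S1420
import Cfsg.Agent.S1423

/-!
Intersections of `M_σ` with conjugates of `M`, and the action of a complement on `M_σ`.
-/

set_option autoImplicit false
set_option linter.style.haveILetI false
set_option linter.unusedSectionVars false
set_option maxHeartbeats 1000000

namespace Cfsg.Agent.Transfer.Loc

open Subgroup
open scoped commutatorElement Pointwise

universe u

variable {G : Type u} [Group G] [Finite G] (hG : Cfsg.IsMinSimpleOddOrder G) {M : Subgroup G} (hM : IsCoatom M)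
include hG hM

/-- A `σ(M)`-subgroup with centraliser in `M` lies in no other conjugate of `M`. -/
theorem mem_of_sigma_le_conj {p : ℕ} [Fact p.Prime] (hσ : p ∈ Cfsg.sigma M) {Z : Subgroup G} (hZ : IsPGroup p Z)
    (hZ1 : Z ≠ ⊥) (hZM : Z ≤ M) (hC : centralizer (Z : Set G) ≤ M) {g : G} (hg : Z ≤ MulAut.conj g • M) :
    g ∈ M := by
  have h : Z.map (MulAut.conj g⁻¹).toMonoidHom ≤ M := by
    have := (Subgroup.pointwise_smul_le_pointwise_smul_iff (a := MulAut.conj g⁻¹)).2 hg
    rwa [Grp.conj_smul_conj_smul, inv_mul_cancel, map_one, one_smul] at this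
  obtain ⟨m, hm, c, hc, e⟩ := (Cfsg.Agent.S1404.result hG M hM p hσ Z hZ hZ1 hZM).1 g⁻¹ h
  have := M.inv_mem (M.mul_mem hm (hC hc))
  rwa [← e, inv_inv] at this

/-- Meets of `M_σ` with other conjugates of `M`. -/
theorem sigma_inf_conj {g : G} (hg : g ∉ M) :
    IsCyclic ↥(Cfsg.sigmaCore M ⊓ MulAut.conj g • M) ∧
      (∀ p : ℕ, p.Prime → p ∣ Nat.card ↥(Cfsg.sigmaCore M ⊓ MulAut.conj g • M) → p ∉ Cfsg.beta M) ∧
      Cfsg.sigmaCore M ⊓ MulAut.conj g • M ⊓ ⁅Cfsg.sigmaCore M, Cfsg.sigmaCore M⁆ = ⊥ := by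
  haveI := solvable_of_ne_top hG hM.1
  set S := Cfsg.sigmaCore M with hS
  set X := S ⊓ MulAut.conj g • M with hX
  have hSM : S ≤ M := TransHyp.piCoreOf_le M
  have hbad : ∀ (p : ℕ) [Fact p.Prime] (Z : Subgroup G), Z ≤ X → Nat.card Z = p →
      ¬ (p ∈ Cfsg.beta M ∨ Z ≤ ⁅S, S⁆) := by
    intro p hp Z hZX hZ hor
    have hpσ : p ∈ Cfsg.sigma M := TransHyp.piCoreOf_primes (π := Cfsg.sigma M) (X := M) hp.out
      ((dvd_of_eq hZ.symm).trans (card_dvd_of_le (hZX.trans inf_le_left)))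
    obtain ⟨P⟩ : Nonempty (Sylow p ↥S) := inferInstance
    have hZ1 : Z ≠ ⊥ := fun e => hp.out.ne_one (hZ.symm.trans (by rw [e, Subgroup.card_bot]))
    exact hg (mem_of_sigma_le_conj hG hM hpσ (IsPGroup.of_card (n := 1) (by rw [hZ, pow_one])) hZ1
      ((hZX.trans inf_le_left).trans hSM)
      (Cfsg.Agent.S1423.result hG M hM p hpσ Z ((hZX.trans inf_le_left).trans hSM) hZ P hor).1.1
      (hZX.trans inf_le_right))
  have hX' : X ⊓ ⁅S, S⁆ = ⊥ := by
    by_contra h
    obtain ⟨p, hp, z, hz, hzo⟩ : ∃ p : ℕ, p.Prime ∧ ∃ z ∈ X ⊓ ⁅S, S⁆, orderOf z = p := by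
      obtain ⟨p, hp, hd⟩ := Nat.exists_prime_and_dvd fun h1 => h (Subgroup.card_eq_one.1 h1)
      haveI := Fact.mk hp
      obtain ⟨z, hz⟩ := exists_prime_orderOf_dvd_card' p hd
      exact ⟨p, hp, z, z.2, by rw [Subgroup.orderOf_coe, hz]⟩
    haveI := Fact.mk hp
    exact hbad p (zpowers z) (zpowers_le.2 hz.1) (by rw [Nat.card_zpowers, hzo]) (Or.inr (zpowers_le.2 hz.2))
  refine ⟨?_, fun p hp hd hβ => ?_, hX'⟩
  · have hcomm : IsMulCommutative X := by
      refine le_centralizer_iff_isMulCommutative.1 (commutator_eq_bot_iff_le_centralizer.1 ?_)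
      exact le_bot_iff.1 (hX' ▸ le_inf X.commutator_le_self (commutator_mono inf_le_left inf_le_left))
    haveI := hcomm
    haveI : IsZGroup X := ⟨fun p hp P => by
      haveI := Fact.mk hp
      by_contra hnc
      have hnc' : ¬ IsCyclic ↥((P : Subgroup X).map X.subtype) := fun h => hnc
        ((MulEquiv.isCyclic (((P : Subgroup X).equivMapOfInjective _ X.subtype_injective))).2 h)
      have hPne : (P : Subgroup X).map X.subtype ≠ ⊥ := fun e => hnc' (e ▸ inferInstance)
      have hPX : (P : Subgroup X).map X.subtype ≤ X := map_subtype_le _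
      have hPp : IsPGroup p ↥((P : Subgroup X).map X.subtype) := P.isPGroup'.map _
      have hpσ : p ∈ Cfsg.sigma M := TransHyp.piCoreOf_primes (π := Cfsg.sigma M) (X := M) hp
        ((dvd_card_of_pGroup hPp hPne).trans (card_dvd_of_le (hPX.trans inf_le_left)))
      obtain ⟨E, hE, -⟩ := exists_compl_ge hG hM (U := ⊥) bot_le fun s hs hd => by
        rw [Subgroup.card_bot] at hd; exact absurd hd hs.not_dvd_one
      exact hg (mem_of_sigma_le_conj hG hM hpσ hPp hPne ((hPX.trans inf_le_left).trans hSM)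
        ((centralizer_le_normalizer _).trans ((Cfsg.Agent.S1420.result hG M hM E hE).2.2.1 p _ hpσ hPp
          ((hPX.trans inf_le_left).trans hSM) hnc')) (hPX.trans inf_le_right))⟩
    haveI : Group.IsNilpotent X :=
      @CommGroup.isNilpotent _ { (inferInstance : Group X) with mul_comm := fun a b => hcomm.is_comm.comm a b }
    infer_instance
  · haveI := Fact.mk hp
    obtain ⟨z, hz⟩ := exists_prime_orderOf_dvd_card' p hd
    exact hbad p (zpowers (z : G)) (zpowers_le.2 z.2) (by rw [Nat.card_zpowers, Subgroup.orderOf_coe, hz])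
      (Or.inl hβ)

variable {E : Subgroup G} (hE : Cfsg.IsComplIn E (Cfsg.sigmaCore M) M)
include hE

/-- `[M_σ, E] = M_σ`. -/
theorem comm_compl_eq : ⁅Cfsg.sigmaCore M, E⁆ = Cfsg.sigmaCore M := by
  haveI := solvable_of_ne_top hG hM.1
  have hSM : Cfsg.sigmaCore M ≤ M := TransHyp.piCoreOf_le M
  have h := commutator_eq_of_le_derived (A := (Cfsg.sigmaCore M).subgroupOf M) (K := E.subgroupOf M)
    (Grp.PiHall.subgroupOf_le_normalizer M (hE.1.trans (TransHyp.le_normalizer_piCoreOf M)))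
    (by rw [Nat.card_congr (subgroupOfEquivOfLe hSM).toEquiv, Nat.card_congr (subgroupOfEquivOfLe hE.1).toEquiv]
        exact (compl_coprime hG hM hE).symm)
    (by
      rw [← map_le_map_iff_of_injective M.subtype_injective, map_subgroupOf_eq_of_le hSM, map_commutator,
        Subgroup.map_sup, map_subgroupOf_eq_of_le hSM, map_subgroupOf_eq_of_le hE.1, sup_comm, compl_sup hE]
      exact sigmaCore_le_derived hG hM)
  have h2 := congrArg (Subgroup.map M.subtype) h
  rwa [map_commutator, map_subgroupOf_eq_of_le hSM, map_subgroupOf_eq_of_le hE.1] at h2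

/-- `C_{M_σ}(E) ≤ M_σ'`. -/
theorem centralizer_compl_le :
    Cfsg.sigmaCore M ⊓ centralizer (E : Set G) ≤ ⁅Cfsg.sigmaCore M, Cfsg.sigmaCore M⁆ := by
  classical
  haveI : Fintype ↥E := Fintype.ofFinite _
  set S := Cfsg.sigmaCore M with hS
  have hN : ∀ e ∈ E, ∀ y ∈ S, e * y * e⁻¹ ∈ S := fun e he y hy =>
    (Subgroup.mem_normalizer_iff.1 (TransHyp.le_normalizer_piCoreOf M (hE.1 he)) y).1 hy
  let c : ↥E → ↥S → ↥S := fun e y => ⟨e * y * (e : G)⁻¹, hN _ e.2 _ y.2⟩
  let φ : ↥S →* Abelianization ↥S :=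
    { toFun := fun y => ∏ e : ↥E, Abelianization.of (c e y)
      map_one' := Finset.prod_eq_one fun e _ => by
        rw [show c e 1 = 1 from Subtype.ext (by simp [c]), map_one]
      map_mul' := fun y z => by
        rw [← Finset.prod_mul_distrib]
        exact Finset.prod_congr rfl fun e _ => by
          rw [← map_mul]; congr 1; exact Subtype.ext (by simp [c, mul_assoc]) }
  have hφc : ∀ (e : ↥E) (y : ↥S), φ (c e y) = φ y := fun e y => by
    show ∏ f : ↥E, Abelianization.of (c f (c e y)) = ∏ f : ↥E, Abelianization.of (c f y)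
    refine Fintype.prod_equiv (Equiv.mulRight e) _ _ fun f => congrArg _ (Subtype.ext ?_)
    simp [c, mul_assoc]
  have hker : ⁅S, E⁆ ≤ φ.ker.map S.subtype := commutator_le.2 fun a ha e he => by
    refine ⟨⟨a, ha⟩ * (c ⟨e, he⟩ ⟨a, ha⟩)⁻¹, ?_, by simp [c, commutatorElement_def, mul_assoc]⟩
    rw [SetLike.mem_coe, MonoidHom.mem_ker, map_mul, map_inv, hφc, mul_inv_cancel]
  rw [comm_compl_eq hG hM hE] at hker
  rintro x ⟨hx, hxc⟩
  obtain ⟨y, hy, e⟩ := hker hx
  have hy' : y = (⟨x, hx⟩ : ↥S) := Subtype.ext e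
  rw [hy'] at hy
  have hce : ∀ f : ↥E, c f ⟨x, hx⟩ = ⟨x, hx⟩ := fun f => Subtype.ext (by
    show (f : G) * x * (f : G)⁻¹ = x
    rw [mem_centralizer_iff.1 hxc f f.2, mul_inv_cancel_right])
  have h1 : (Abelianization.of (⟨x, hx⟩ : ↥S)) ^ Nat.card E = 1 := by
    have h0 : ∏ f : ↥E, Abelianization.of (c f ⟨x, hx⟩) = 1 := hy
    rwa [Finset.prod_congr rfl fun f _ => by rw [hce f], Finset.prod_const, Finset.card_univ,
      ← Nat.card_eq_fintype_card] at h0
  have h2 : Abelianization.of (⟨x, hx⟩ : ↥S) = 1 := by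
    refine orderOf_eq_one_iff.1 (Nat.eq_one_of_dvd_coprimes (compl_coprime hG hM hE) (orderOf_dvd_of_pow_eq_one h1) ?_)
    exact (orderOf_map_dvd _ _).trans (_root_.orderOf_dvd_natCard _)
  rw [← MonoidHom.mem_ker, Abelianization.ker_of] at h2
  rw [derived_eq_map S]
  exact ⟨_, h2, rfl⟩

end Cfsg.Agent.Transfer.Loc
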