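import Cfsg.Agent.Lib.Transfer.Local.FreeExponent
import Cfsg.Agent.S1374
import Cfsg.Agent.S1430
import Cfsg.Agent.S1431
import Cfsg.Agent.S1432

/-!
Centralisers and fusion of Hall subgroups of `M_σ`.
-/

set_option autoImplicit false
set_option linter.style.haveILetI false
set_option linter.unusedSectionVars false
set_option maxHeartbeats 2000000

namespace Cfsg.Agent.Transfer.Loc

open Subgroup
open scoped commutatorElement Pointwise

universe u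

variable {G : Type u} [Group G] [Finite G]

/-- Fusion in a subgroup `S` with a normal subgroup `Q` modulo which elements of coprime order commute. -/
theorem hall_fusion_frattini {S H Q : Subgroup G} [Group.IsSolvable S] (hH : H ≤ S)
    (hHall : (Nat.card H).Coprime (H.relIndex S)) (hQS : Q ≤ S) (hQ : S ≤ normalizer (Q : Set G))
    (hQH : Q ≤ H ∨ (Nat.card Q).Coprime (Nat.card H))
    (hcomm : ∀ a ∈ S, ∀ b ∈ S, (orderOf a).Coprime (orderOf b) → ⁅a, b⁆ ∈ Q) {x s : G} (hx : x ∈ H) (hs : s ∈ S)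
    (hy : s * x * s⁻¹ ∈ H) : ∃ n ∈ S ⊓ normalizer (H : Set G), n * x * n⁻¹ = s * x * s⁻¹ := by
  set L := H ⊔ Q with hL
  have hLS : L ≤ S := sup_le hH hQS
  have hnL : S ≤ normalizer (L : Set G) := by
    refine (Grp.le_of_forall_sylow (inf_le_left : S ⊓ normalizer (L : Set G) ≤ S) fun t ht => ?_).trans inf_le_right
    obtain ⟨T, hT⟩ := Grp.exists_isSylowIn t S
    by_cases htH : t ∣ Nat.card H
    · obtain ⟨R, hR⟩ := Grp.exists_isSylowIn t H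
      refine ⟨R, sylowIn_trans hR hH fun hd => ht.out.ne_one (Nat.eq_one_of_dvd_coprimes hHall htH hd), ?_⟩
      exact le_inf (hR.1.trans hH) ((hR.1.trans le_sup_left).trans le_normalizer)
    refine ⟨T, hT, le_inf hT.1 fun w hw => ?_⟩
    rw [Grp.mem_normalizer_iff_smul]
    refine Subgroup.eq_of_le_of_card_ge ?_ (by rw [Grp.card_conj_smul])
    rw [hL, Subgroup.smul_sup, Grp.mem_normalizer_iff_smul.1 (hQ (hT.1 hw))]
    refine sup_le ?_ le_sup_right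
    rintro _ ⟨a, ha, rfl⟩
    show MulAut.conj w a ∈ H ⊔ Q
    have hcop : (orderOf w).Coprime (orderOf a) := by
      obtain ⟨i, hi⟩ := IsPGroup.iff_orderOf.1 hT.2.1 ⟨w, hw⟩
      rw [← Subgroup.orderOf_coe] at hi
      rw [show orderOf w = t ^ i from hi]
      exact ((ht.out.coprime_iff_not_dvd.2 htH).coprime_dvd_right (Subgroup.orderOf_dvd_natCard _ ha)).pow_left i
    rw [MulAut.conj_apply, show w * a * w⁻¹ = ⁅w, a⁆ * a by rw [commutatorElement_def]; group]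
    exact mul_mem (mem_sup_right (hcomm w (hT.1 hw) a (hH ha) hcop)) (mem_sup_left ha)
  rcases hQH with hQH | hQH
  · have : L = H := sup_eq_left.2 hQH
    exact ⟨s, ⟨hs, this ▸ hnL hs⟩, rfl⟩
  haveI := isSolvable_of_le hLS
  set π : Set ℕ := {t | t ∣ Nat.card H}
  have hH1 : Cfsg.IsPiHallOf π H L := ⟨le_sup_left, fun t _ ht => ht, fun t ht htH hd =>
    ht.ne_one (Nat.eq_one_of_dvd_coprimes hHall htH (hd.trans (Dvd.intro _ (relIndex_mul_relIndex H L S le_sup_left hLS))))⟩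
  obtain ⟨l, hl, e⟩ := Grp.PiHall.conj_eq hH1 (Grp.PiHall.smul hH1 (Grp.mem_normalizer_iff_smul.1 (hnL hs)))
  have hn : l⁻¹ * s ∈ normalizer (H : Set G) := Grp.mem_normalizer_iff_smul.2 (by
    rw [← Grp.conj_smul_conj_smul, ← e, Grp.conj_smul_conj_smul, inv_mul_cancel, map_one, one_smul])
  rw [hL, sup_comm, ← SetLike.mem_coe, Subgroup.coe_mul_of_right_le_normalizer_left Q H (hH.trans hQ)] at hl
  obtain ⟨q, hq, a, ha, rfl⟩ := hl
  have hd : a * ((q * a)⁻¹ * s) ∈ S ⊓ normalizer (H : Set G) :=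
    ⟨S.mul_mem (hH ha) (S.mul_mem (S.inv_mem (S.mul_mem (hQS hq) (hH ha))) hs), mul_mem (le_normalizer ha) hn⟩
  rw [show a * ((q * a)⁻¹ * s) = q⁻¹ * s by group] at hd
  refine ⟨q⁻¹ * s, hd, ?_⟩
  have hz : (q⁻¹ * s) * x * (q⁻¹ * s)⁻¹ ∈ H := Grp.mem_conj_normalizer hd.2 hx
  have h1 : ⁅q, (q⁻¹ * s) * x * (q⁻¹ * s)⁻¹⁆ ∈ H := by
    rw [commutatorElement_def, show q * (q⁻¹ * s * x * (q⁻¹ * s)⁻¹) * q⁻¹ = s * x * s⁻¹ by group]
    exact H.mul_mem hy (H.inv_mem hz)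
  have h2 : ⁅q, (q⁻¹ * s) * x * (q⁻¹ * s)⁻¹⁆ ∈ Q := by
    rw [commutatorElement_def, show q * (q⁻¹ * s * x * (q⁻¹ * s)⁻¹) * q⁻¹ * (q⁻¹ * s * x * (q⁻¹ * s)⁻¹)⁻¹ =
      q * (q⁻¹ * s * x * (q⁻¹ * s)⁻¹ * q⁻¹ * (q⁻¹ * s * x * (q⁻¹ * s)⁻¹)⁻¹) by group]
    exact Q.mul_mem hq (Grp.mem_conj_normalizer (hQ (hH hz)) (Q.inv_mem hq))
  have h3 : ⁅q, (q⁻¹ * s) * x * (q⁻¹ * s)⁻¹⁆ ∈ (⊥ : Subgroup G) :=
    Grp.inf_eq_bot_of_coprime hQH ▸ ⟨h2, h1⟩
  rw [mem_bot, commutatorElement_eq_one_iff_mul_comm] at h3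
  calc (q⁻¹ * s) * x * (q⁻¹ * s)⁻¹ = (q⁻¹ * s) * x * (q⁻¹ * s)⁻¹ * q * q⁻¹ := by group
    _ = q * ((q⁻¹ * s) * x * (q⁻¹ * s)⁻¹) * q⁻¹ := by rw [← h3]
    _ = s * x * s⁻¹ := by group

variable (hG : Cfsg.IsMinSimpleOddOrder G) {M : Subgroup G} (hM : IsCoatom M)
include hG hM

/-- Elements of `M_σ` conjugate in `G` into `M` are conjugate in `M`. -/
theorem sigma_fusion {x g : G} (hx : x ∈ Cfsg.sigmaCore M) (hy : g * x * g⁻¹ ∈ M) :
    ∃ m ∈ M, m * x * m⁻¹ = g * x * g⁻¹ := by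
  rcases eq_or_ne x 1 with rfl | hx1
  · exact ⟨1, M.one_mem, by group⟩
  obtain ⟨-, R, -, hR, huniq⟩ := Cfsg.Agent.S1374.result hG M hM x hx hx1
  obtain ⟨r, ⟨hr, e⟩, -⟩ := huniq g⁻¹ ⟨g * x * g⁻¹, hy, by
    show g⁻¹ * (g * x * g⁻¹) * g⁻¹⁻¹ = x; group⟩
  rw [Grp.map_conj_eq_smul, Grp.map_conj_eq_smul] at e
  refine ⟨g * r, mem_of_conj_smul_eq hG hM ?_, ?_⟩
  · rw [← Grp.conj_smul_conj_smul, e, Grp.conj_smul_conj_smul, mul_inv_cancel, map_one, one_smul]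
  · rw [show g * r * x * (g * r)⁻¹ = g * (r * x * r⁻¹) * g⁻¹ by group,
      mem_centralizer_singleton_iff.1 (hR.2.1 hr), mul_inv_cancel_right]

/-- No `κ`-element centralises a nontrivial Hall subgroup of `M_σ`. -/
theorem kappa_not_cent_hall {H : Subgroup G} (hH : H ≤ Cfsg.sigmaCore M) (hH1 : H ≠ ⊥)
    (hHall : (Nat.card H).Coprime (H.relIndex (Cfsg.sigmaCore M))) {p : ℕ} [hp : Fact p.Prime]
    (hκ : p ∈ Cfsg.kappa M) {X : Subgroup G} (hXM : X ≤ M) (hX : Nat.card X = p)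
    (hHX : H ≤ centralizer (X : Set G)) : False := by
  haveI := solvable_of_ne_top hG hM.1
  obtain ⟨K₀, hK₀⟩ := Grp.PiHall.exists_piHall (Cfsg.kappa M) M
  obtain ⟨m, hm, hle⟩ := Grp.PiHall.dominate hK₀ hXM fun q hq hd => by
    rw [hX, Nat.prime_dvd_prime_iff_eq hq hp.out] at hd; exact hd ▸ hκ
  have hK := Grp.PiHall.smul hK₀ (Grp.conj_smul_eq_self_of_mem hm)
  set K := MulAut.conj m • K₀
  obtain ⟨k, hk, hk1, hkgen⟩ := exists_generator_line hX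
  have hK1 : K ≠ ⊥ := fun e => hk1 (by simpa [e] using hle hk)
  have hHK : H ≤ Cfsg.sigmaCore M ⊓ centralizer (K : Set G) := by
    rw [← (Cfsg.Agent.S1430.result hG M hM K hK hK1).1 k (hle hk) hk1]
    exact le_inf hH (hHX.trans (centralizer_le (Set.singleton_subset_iff.2 hk)))
  obtain ⟨r, hr, hrH⟩ := Nat.exists_prime_and_dvd fun e => hH1 (Subgroup.card_eq_one.1 e)
  haveI := Fact.mk hr
  obtain ⟨R, hR⟩ := Grp.exists_isSylowIn r H
  obtain ⟨S, hS⟩ := Grp.isSylowIn_iff.1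
    (sylowIn_trans hR hH fun hd => hr.ne_one (Nat.eq_one_of_dvd_coprimes hHall hrH hd))
  have h1 := ((Cfsg.Agent.S1431.result hG M hM K hK hK1).2.2.1 r hr (hrH.trans (card_dvd_of_le hHK)) S).2.2
  rw [hS] at h1
  exact h1 (hR.1.trans hHK)

/-- The `σ'`-elements centralising a Hall subgroup of `M_σ` are `τ₂`-elements. -/
theorem cent_hall_primes {H : Subgroup G} (hH : H ≤ Cfsg.sigmaCore M) (hH1 : H ≠ ⊥)
    (hHall : (Nat.card H).Coprime (H.relIndex (Cfsg.sigmaCore M))) {p : ℕ} [hp : Fact p.Prime]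
    (hσ : p ∉ Cfsg.sigma M) (hd : p ∣ Nat.card ↥(M ⊓ centralizer (H : Set G))) : p ∈ Cfsg.tau2 M := by
  obtain ⟨z, hz⟩ := exists_prime_orderOf_dvd_card' p hd
  obtain ⟨x, hx, hx1⟩ := (bot_or_exists_ne_one H).resolve_left hH1
  have hzo : orderOf (z : G) = p := by rw [Subgroup.orderOf_coe, hz]
  have hall : ∀ q : ℕ, q.Prime → q ∣ orderOf (z : G) → q = p := fun q hq h => by
    rw [hzo] at h; exact (Nat.prime_dvd_prime_iff_eq hq hp.out).1 h
  rcases Cfsg.Agent.S1432.result hG M hM x (hH hx) hx1 z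
    ⟨z.2.1, centralizer_le (Set.singleton_subset_iff.2 hx) z.2.2⟩
    (fun e => hp.out.ne_one (by rw [← hzo, e, orderOf_one])) (fun q hq h => hall q hq h ▸ hσ) with h | h
  · exfalso
    refine kappa_not_cent_hall hG hM hH hH1 hHall (h.1 p hp.out (dvd_of_eq hzo.symm)) (zpowers_le.2 z.2.1)
      (by rw [Nat.card_zpowers, hzo]) (le_centralizer_iff.1 (zpowers_le.2 z.2.2))
  · exact h.1 p hp.out (dvd_of_eq hzo.symm)

end Cfsg.Agent.Transfer.Loc
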