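import Cfsg.Agent.Lib.Transfer.Local.SupportBasics
import Cfsg.Agent.Lib.Transfer.Local.HallFusion

/-!
The primes of `σ(N)` for a support `N` of `M`.
-/

set_option autoImplicit false
set_option linter.style.haveILetI false
set_option linter.unusedSectionVars false
set_option maxHeartbeats 2000000

namespace Cfsg.Agent.Transfer.Loc

open Subgroup
open scoped commutatorElement Pointwise

universe u

variable {G : Type u} [Group G] [Finite G]

/-- A `κ`-element lies in a Hall `κ`-subgroup with a pair. -/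
theorem exists_pair_ge (hG : Cfsg.IsMinSimpleOddOrder G) {L : Subgroup G} (hL : IsCoatom L) {r : ℕ}
    [hr : Fact r.Prime] (hκ : r ∈ Cfsg.kappa L) {d : G} (hd : d ∈ L) (hdo : orderOf d = r) :
    ∃ K Ls : Subgroup G, KappaPair L K Ls ∧ d ∈ K ∧ d ≠ 1 := by
  haveI := solvable_of_ne_top hG hL.1
  obtain ⟨K₀, hK₀⟩ := Grp.PiHall.exists_piHall (Cfsg.kappa L) L
  obtain ⟨m, hm, hle⟩ := Grp.PiHall.dominate hK₀ (zpowers_le.2 hd) fun q hq hq' => by
    rw [Nat.card_zpowers, hdo, Nat.prime_dvd_prime_iff_eq hq hr.out] at hq'; exact hq' ▸ hκ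
  have hd1 : d ≠ 1 := fun e => hr.out.ne_one (by rw [← hdo, e, orderOf_one])
  have hdK := hle (mem_zpowers d)
  have hK := Grp.PiHall.smul hK₀ (Grp.conj_smul_eq_self_of_mem hm)
  obtain ⟨Ls, h⟩ := exists_kappaPair hG hL hK fun e => hd1 (by rw [e, mem_bot] at hdK; exact hdK)
  exact ⟨_, Ls, h, hdK, hd1⟩

/-- Primes of `σ(N)` dividing `|M|` force `κ(M) = τ₂(M) = ∅` for a support `N`. -/
theorem support_primes (hG : Cfsg.IsMinSimpleOddOrder G) {M : Subgroup G} (hM : IsCoatom M) {x : G}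
    (hx : x ∈ Cfsg.sigmaCore M) (hx1 : x ≠ 1) (hxM : ¬ centralizer ({x} : Set G) ≤ M)
    {N : Subgroup G} (hN : IsCoatom N) (hxN : centralizer ({x} : Set G) ≤ N) {p : ℕ} [hp : Fact p.Prime]
    (hpN : p ∈ Cfsg.sigma N) (hpM : p ∣ Nat.card M) : Cfsg.kappa M = ∅ ∧ Cfsg.tau2 M = ∅ := by
  haveI := solvable_of_ne_top hG hM.1
  haveI := solvable_of_ne_top hG hN.1
  obtain ⟨N', hsup, huniq, -, -, hτx⟩ := support_unique hG hM hx hx1 hxM
  obtain rfl : N = N' := huniq N hN hxN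
  obtain ⟨q, _, y, hy, hyo, hyc, hqd⟩ := exists_prime_zpowers_le hx1
  have hqτ := hτx q Fact.out hqd
  have hyS : y ∈ Cfsg.sigmaCore M := (zpowers_le.2 hx) hy
  have hy1 : y ≠ 1 := fun e => (Fact.out : q.Prime).ne_one (by rw [← hyo, e, orderOf_one])
  have hqσ : q ∈ Cfsg.sigma M := TransHyp.piCoreOf_primes (π := Cfsg.sigma M) (X := M) Fact.out
    (hyo ▸ Subgroup.orderOf_dvd_natCard _ hyS)
  have hCy : centralizer ({y} : Set G) ≤ N := by
    obtain ⟨N₁, hN₁, hNy, -⟩ := support_line hG hM hx hy hyo fun hC => hxM fun c hc => hC (by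
      refine mem_centralizer_iff.2 fun w hw => ?_
      obtain ⟨i, rfl⟩ := mem_zpowers_iff.1 ((zpowers_le.2 hy) hw)
      exact ((show Commute c x from mem_centralizer_singleton_iff.1 hc).zpow_right i).eq.symm)
    rw [huniq N₁ hN₁.hN hN₁.le] at hNy
    exact ((centralizer_zpowers_eq y).ge.trans (centralizer_le_normalizer _)).trans hNy
  haveI := isSolvable_of_le (inf_le_left : M ⊓ N ≤ M)
  obtain ⟨TA, hTA⟩ := Grp.exists_isSylowIn q (M ⊓ N)
  obtain ⟨A, hAT, hA, hA2⟩ := tau2_plane hG hN hsup.compl hqτ hTA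
  have hAN : A ≤ N := (hAT.trans hTA.1).trans inf_le_right
  have hAmax := IsMaxPlane.of_sigma' hG hN hqτ.2.1 hAN hA hA2
  have hpσ : p ∉ Cfsg.sigma M := fun h => by
    obtain ⟨g, hg⟩ := sigma_conj_of_common hG hM hN h hpN
    exact hsup.nconj g hg
  have hκ : Cfsg.kappa M = ∅ := by
    by_contra hne
    obtain ⟨K, U, hKU⟩ := exists_decomp_of_max hG hM
    have hK1 : K ≠ ⊥ := fun e => by
      obtain ⟨s, hs⟩ := Set.nonempty_iff_ne_empty.2 hne
      exact hKU.hall.2.2 s hs.1 hs (by rw [e, Subgroup.relIndex_bot_left]; exact hs.2.1)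
    have hκN : Cfsg.kappa N = ∅ := by
      by_contra h
      exact hne (kappa_empty_of_tau2 hG hN (Set.nonempty_iff_ne_empty.2 h) hqτ hM hqσ)
    obtain ⟨hE, hcard, -⟩ := decomp_compl hG hM hKU
    obtain ⟨Ms, h⟩ := exists_kappaPair hG hM hKU.hall hK1
    have hκMs : (Cfsg.kappa Ms).Nonempty := by
      obtain ⟨s, hs, hsd⟩ := Nat.exists_prime_and_dvd fun e => h.star1 (Subgroup.card_eq_one.1 e)
      exact ⟨s, h.hall.2.1 s hs hsd⟩
    have hd := dvd_compl_of_dvd hE hpσ hpM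
    rw [hcard] at hd
    rcases hp.out.dvd_mul.1 hd with hpU | hpK
    · obtain ⟨R⟩ : Nonempty (Sylow p U) := inferInstance
      have hR1 : (R : Subgroup U).map U.subtype ≠ ⊥ := sylow_ne_bot_of_dvd (Grp.isSylowIn_iff.2 ⟨R, rfl⟩) hpU
      obtain ⟨H, hH, hNH⟩ := exists_coatom_normalizer hG hR1 fun e =>
        hM.1 (top_le_iff.1 (e ▸ (map_subtype_le _).trans hKU.compl.1))
      have hU1 : U ≠ ⊥ := fun e => hp.out.ne_one (by rwa [e, Subgroup.card_bot, Nat.dvd_one] at hpU)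
      obtain ⟨-, hUH, -, -, -, hcompl⟩ :=
        Cfsg.Agent.S1435.result hG M hM K U hKU hK1 hU1 Ms h.hMs h.dual.symm h.hall p hpU R H hH hNH
      obtain ⟨g, rfl⟩ := sigma_conj_of_common hG hN hH hpN
        (TransHyp.piCoreOf_primes (π := Cfsg.sigma H) (X := H) hp.out (hpU.trans (card_dvd_of_le hUH)))
      haveI := solvable_of_ne_top hG hH.1
      obtain ⟨k, hk, hle⟩ := Grp.PiHall.dominate (compl_hall hG hH hcompl)
        (Subgroup.pointwise_smul_le_pointwise_smul_iff.2 hAN : MulAut.conj g • A ≤ MulAut.conj g • N)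
        fun s hs hd' => by
          rw [Grp.card_conj_smul, hA2] at hd'
          rw [(Nat.prime_dvd_prime_iff_eq hs Fact.out).1 (hs.dvd_of_dvd_pow hd')]
          exact fun hσ' => hqτ.2.1 ((sigma_smul_iff hG hN g).1 hσ')
      have hD : MulAut.conj k⁻¹ • MulAut.conj g • A ≤ Ms := by
        have h1 := Subgroup.pointwise_smul_le_pointwise_smul_iff (a := MulAut.conj k⁻¹) |>.2 hle
        rw [Grp.conj_smul_conj_smul k⁻¹ k, inv_mul_cancel, map_one, one_smul] at h1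
        exact h1.trans inf_le_right
      have hDm := (hAmax.smul g).smul k⁻¹
      have hqMs : q ∉ Cfsg.sigma Ms := fun hσ' => by
        obtain ⟨a, ha⟩ := sigma_conj_of_common hG hM h.hMs hqσ hσ'
        exact h.not_conj a ha
      exact hne (kappa_empty_of_tau2 hG h.hMs hκMs
        (tau2_of_not_rank_one hG h.hMs hqMs (not_prank_of_elem hD hDm.elem (by rw [hDm.card]))) hM hqσ)
    · have hpMs : p ∈ Cfsg.sigma Ms := TransHyp.piCoreOf_primes (π := Cfsg.sigma Ms) (X := Ms) hp.out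
        (hpK.trans (card_dvd_of_le h.le_sigmaCore_dual))
      obtain ⟨g, hg⟩ := sigma_conj_of_common hG hN h.hMs hpN hpMs
      rw [hg, kappa_smul hG hN, hκN] at hκMs
      exact Set.not_nonempty_empty hκMs
  refine ⟨hκ, ?_⟩
  by_contra hne
  obtain ⟨r, hrτ⟩ := Set.nonempty_iff_ne_empty.2 hne
  haveI := Fact.mk hrτ.1
  obtain ⟨E, hE, -⟩ := exists_compl_ge hG hM (bot_le : (⊥ : Subgroup G) ≤ M) fun s hs hd => by
    rw [Subgroup.card_bot, Nat.dvd_one] at hd; exact absurd hd hs.ne_one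
  haveI := isSolvable_of_le hE.1
  obtain ⟨T, hT⟩ := Grp.exists_isSylowIn r E
  obtain ⟨B, hBT, hB, hB2⟩ := tau2_plane hG hM hE hrτ hT
  have hBE := hBT.trans hT.1
  have hBmax := IsMaxPlane.of_sigma' hG hM hrτ.2.1 (hBE.trans hE.1) hB hB2
  obtain ⟨⟨hEB, -⟩, -, -⟩ := Cfsg.Agent.S1418.result hG M hM E hE r hrτ B ⟨hBE, hB, hB2⟩
  have hrq : r < q := tau2_lt hG hM hrτ hqσ hAmax
  have hrN : r ∉ Cfsg.sigma N := fun h => by have := tau2_lt hG hN hqτ h hBmax; omega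
  have hpτ : p ∉ Cfsg.tau2 M := fun h => by
    obtain ⟨P, -, hP⟩ := tau2_maxPlane hG hM h
    have h1 := tau2_lt hG hM h hqσ hAmax
    have h2 := tau2_lt hG hN hqτ hpN hP
    omega
  have hpr : p ≠ r := fun e => hpτ (e ▸ hrτ)
  obtain ⟨z₀, hz₀⟩ := exists_prime_orderOf_dvd_card' p (dvd_compl_of_dvd hE hpσ hpM)
  set z : G := (z₀ : G)
  have hzo : orderOf z = p := by rw [Subgroup.orderOf_coe, hz₀]
  have hzE : z ∈ E := z₀.2
  -- the normal Sylow `q`-subgroup of `M`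
  set Sσ := Cfsg.sigmaCore M with hSσ
  have hSM : Sσ ≤ M := TransHyp.piCoreOf_le M
  have hMS : M ≤ normalizer (Sσ : Set G) := TransHyp.le_normalizer_piCoreOf M
  have hnil := (Cfsg.Agent.S1417.result hG M hM r hrτ B ⟨hBE.trans hE.1, hB, hB2⟩).1
  obtain ⟨Q, hQ⟩ := Grp.exists_isSylowIn q Sσ
  have hMQ : M ≤ normalizer (Q : Set G) := hMS.trans (normalizer_le_sylow hnil hQ)
  have hyQ : y ∈ Q := by
    have h1 := hQ.eq_of_le (le_sup_right : Q ≤ zpowers y ⊔ Q) (sup_le (zpowers_le.2 hyS) hQ.1)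
      ((IsPGroup.of_card (n := 1) (hyc.trans (pow_one q).symm) : IsPGroup q (zpowers y)).to_sup_of_normal_right'
        hQ.2.1 ((zpowers_le.2 (hSM hyS)).trans hMQ))
    rw [h1]
    exact mem_sup_left (mem_zpowers y)
  have hQM : Grp.IsSylowIn q Q M := by
    obtain ⟨-, -, hn⟩ := isPiHallOf_piCore hG hM (alpha_subset_sigma hG hM) Set.Subset.rfl
    exact sylowIn_trans hQ hSM (hn q Fact.out hqσ)
  obtain ⟨Q₀, hQ₀⟩ := Grp.isSylowIn_iff.1 hQM
  have hqβ : q ∉ Cfsg.beta M := fun h =>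
    (Cfsg.Agent.S1408.result hG N hN q hqτ.2.1 hqτ.2.2.1 hqτ.2.2.2).1 h.2
  have hQn : Cfsg.IsNarrow q Q := by
    have h1 := narrow_equiv ((Q₀ : Subgroup M).equivMapOfInjective _ M.subtype_injective)
      (sylow_narrow hG hM (hqσ.2.1) hqβ Q₀)
    rwa [hQ₀] at h1
  have hE'Q : ⁅E, E⁆ ≤ centralizer (Q : Set G) := derived_centralizes_narrow hG.1
    (ne_two hG (hqσ.2.1.trans (card_subgroup_dvd_card M))) hQ.2.1 hQn (hE.1.trans hMQ)
    fun hd => compl_prime hG hM hE Fact.out hd hqσ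
  -- a point of `B` fixed by `z`
  haveI : IsMulCommutative B := hB.1
  have hzB : zpowers z ≤ normalizer (B : Set G) := zpowers_le.2 (hEB hzE)
  have hfixB : B ⊓ centralizer (zpowers z : Set G) ≠ ⊥ := by
    intro h0
    have h1 := Grp.commutator_sup_fixed (zpowers z) B hzB (by
      rw [Nat.card_zpowers, hzo, hB2]
      exact ((Nat.coprime_primes hp.out hrτ.1).2 hpr).pow_right 2) (Or.inl inferInstance)
    rw [h0, sup_bot_eq] at h1
    have h2 : B ≤ centralizer (Q : Set G) :=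
      (h1.ge.trans (commutator_mono hBE (zpowers_le.2 hzE))).trans hE'Q
    have h3 : y ∈ (⊥ : Subgroup G) :=
      (Cfsg.Agent.S1417.result hG M hM r hrτ B ⟨hBE.trans hE.1, hB, hB2⟩).2.2.2.1 ▸
        ⟨hyS, (le_centralizer_iff.1 h2) hyQ⟩
    exact hy1 (mem_bot.1 h3)
  obtain ⟨c, hc, hc1⟩ := (bot_or_exists_ne_one _).resolve_left hfixB
  have hco : orderOf c = r := orderOf_eq_prime (hB.2 c hc.1) hc1
  have hzc : Commute z c := mem_centralizer_iff.1 hc.2 z (mem_zpowers z)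
  -- move `z` into `N_σ`
  obtain ⟨g, hg⟩ := Cfsg.Agent.S1425.result hG N hN (zpowers z)
    (fun e => hp.out.ne_one (by rw [← hzo, ← Nat.card_zpowers, e, Subgroup.card_bot])) fun s hs hd => by
      rw [Nat.card_zpowers, hzo, Nat.prime_dvd_prime_iff_eq hs hp.out] at hd; exact hd ▸ hpN
  set u := MulAut.conj g z with hu'
  have hu : u ∈ Cfsg.sigmaCore N := hg ⟨z, mem_zpowers z, rfl⟩
  have huo : orderOf u = p := (MulEquiv.orderOf_eq (MulAut.conj g) z).trans hzo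
  have hu1 : u ≠ 1 := fun e => hp.out.ne_one (by rw [← huo, e, orderOf_one])
  have hcu : MulAut.conj g c ∈ centralizer ({u} : Set G) := mem_centralizer_singleton_iff.2 (by
    rw [hu', ← map_mul, ← map_mul, hzc.eq])
  have hcgo : orderOf (MulAut.conj g c) = r := (MulEquiv.orderOf_eq (MulAut.conj g) c).trans hco
  obtain ⟨d, hd, hdo⟩ : ∃ d ∈ N ⊓ centralizer ({u} : Set G), orderOf d = r := by
    by_cases hCu : centralizer ({u} : Set G) ≤ N
    · exact ⟨_, ⟨hCu hcu, hcu⟩, hcgo⟩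
    obtain ⟨N₂, hN₂, -, -, -, hτu⟩ := support_unique hG hN hu hu1 hCu
    have hpτ2 := hτu p hp.out (dvd_of_eq huo.symm)
    have hcomp := (hN₂.facts hG hN).2.2.1 (TransHyp.piCoreOf_le N hu)
    have hdvd : r ∣ Nat.card ↥(N ⊓ centralizer ({u} : Set G)) *
        Nat.card ↥(Cfsg.sigmaCore N₂ ⊓ centralizer ({u} : Set G)) := by
      rw [complIn_card hcomp]
      exact hcgo ▸ Subgroup.orderOf_dvd_natCard _ hcu
    rcases hrτ.1.dvd_mul.1 hdvd with h1 | h1
    · obtain ⟨d, hd⟩ := exists_prime_orderOf_dvd_card' r h1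
      exact ⟨d, d.2, by rw [Subgroup.orderOf_coe, hd]⟩
    · exfalso
      have hrσ2 : r ∈ Cfsg.sigma N₂ := TransHyp.piCoreOf_primes (π := Cfsg.sigma N₂) (X := N₂) hrτ.1
        (h1.trans (card_dvd_of_le inf_le_left))
      obtain ⟨P, -, hP⟩ := tau2_maxPlane hG hN₂.hN hpτ2
      have e1 := tau2_lt hG hN₂.hN hpτ2 hrσ2 hBmax
      have e2 := tau2_lt hG hN hqτ hpN hP
      omega
  have hκN : r ∈ Cfsg.kappa N := by
    rcases Cfsg.Agent.S1432.result hG N hN u hu hu1 d hd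
      (fun e => hrτ.1.ne_one (by rw [← hdo, e, orderOf_one]))
      (fun s hs hsd => by rw [hdo, Nat.prime_dvd_prime_iff_eq hs hrτ.1] at hsd; exact hsd ▸ hrN) with h | h
    · exact h.1 r hrτ.1 (dvd_of_eq hdo.symm)
    · exfalso
      obtain ⟨L₀, hL₀, hsub⟩ := tau2_sigma_common hG hN ⟨q, hqτ⟩
      obtain ⟨a, ha⟩ := sigma_conj_of_common hG hL₀ hM (hsub hqτ) hqσ
      exact hrτ.2.1 (ha ▸ (sigma_smul_iff hG hL₀ a).2 (hsub (h.1 r hrτ.1 (dvd_of_eq hdo.symm))))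
  obtain ⟨K, Ns, hpair, hdK, hd1⟩ := exists_pair_ge hG hN hκN hd.1 hdo
  have huK : u ∈ kStar N K := ((Cfsg.Agent.S1430.result hG N hN K hpair.hK hpair.hK1).1 d hdK hd1).le
    ⟨hu, mem_centralizer_singleton_iff.2 (mem_centralizer_singleton_iff.1 hd.2).symm⟩
  have hpκ : p ∈ Cfsg.kappa Ns := hpair.hall.2.1 p hp.out (huo ▸ Subgroup.orderOf_dvd_natCard _ huK)
  have hrNs : r ∈ Cfsg.sigma Ns := TransHyp.piCoreOf_primes (π := Cfsg.sigma Ns) (X := Ns) hrτ.1
    (hdo ▸ Subgroup.orderOf_dvd_natCard _ (hpair.le_sigmaCore_dual hdK))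
  -- a conjugate of `N*` over `N(B)`
  obtain ⟨a, ha⟩ := Cfsg.Agent.S1425.result hG Ns hpair.hMs B hBmax.ne_bot fun s hs hd' => by
    rw [hB2] at hd'
    rw [(Nat.prime_dvd_prime_iff_eq hs hrτ.1).1 (hs.dvd_of_dvd_pow hd')]; exact hrNs
  rw [Grp.map_conj_eq_smul] at ha
  haveI := solvable_of_ne_top hG hpair.hMs.1
  obtain ⟨E₀, hE₀, -⟩ := exists_compl_ge hG hpair.hMs (bot_le : (⊥ : Subgroup G) ≤ Ns) fun s hs hd => by
    rw [Subgroup.card_bot, Nat.dvd_one] at hd; exact absurd hd hs.ne_one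
  have hBc : ¬ IsCyclic (MulAut.conj a • B : Subgroup G) := fun hc => by
    haveI := hc
    obtain ⟨w, hw⟩ := IsCyclic.exists_generator (α := ↥(MulAut.conj a • B : Subgroup G))
    have h1 : orderOf w ∣ r := orderOf_dvd_of_pow_eq_one (Subtype.ext ((hBmax.smul a).elem.2 w w.2))
    rw [orderOf_eq_card_of_forall_mem_zpowers hw, (hBmax.smul a).card] at h1
    have := Nat.le_of_dvd hrτ.1.pos h1
    nlinarith [hrτ.1.two_le]
  have hNB : normalizer ((MulAut.conj a • B : Subgroup G) : Set G) ≤ Ns :=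
    (Cfsg.Agent.S1420.result hG Ns hpair.hMs E₀ hE₀).2.2.1 r _ hrNs (Grp.elemAb_isPGroup (hBmax.smul a).elem)
      (ha.trans (TransHyp.piCoreOf_le Ns)) hBc
  set L := MulAut.conj a⁻¹ • Ns with hL'
  have hL := isCoatom_conj hG hpair.hMs a⁻¹
  have hEL : E ≤ L := by
    intro e he
    refine ⟨a * e * a⁻¹, hNB ?_, by show MulAut.conj a⁻¹ (a * e * a⁻¹) = e; rw [MulAut.conj_apply]; group⟩
    exact smul_le_normalizer hEB a ⟨e, he, rfl⟩
  have hBL : B ≤ Cfsg.sigmaCore L := fun b hb => mem_sigmaCore_of_pi hG hL (hEL (hBE hb)) fun s hs hd' => by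
    rw [eq_of_dvd_pGroup (Grp.elemAb_isPGroup hB) hs (hd'.trans (Subgroup.orderOf_dvd_natCard _ hb))]
    exact (sigma_smul_iff hG hpair.hMs a⁻¹).2 hrNs
  obtain ⟨KL, LL, hpL, hzK, hz1⟩ := exists_pair_ge hG hL
    (show p ∈ Cfsg.kappa L by rw [hL', kappa_smul hG hpair.hMs]; exact hpκ) (hEL hzE) hzo
  have hnc : ¬ B ≤ centralizer ({z} : Set G) := fun hc' => by
    have h1 : B ≤ kStar L KL := (le_inf hBL hc').trans
      ((Cfsg.Agent.S1430.result hG L hL KL hpL.hK hpL.hK1).1 z hzK hz1).le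
    haveI := hpL.cycStar
    haveI : IsCyclic B := Subgroup.isCyclic_of_le h1
    obtain ⟨w, hw⟩ := IsCyclic.exists_generator (α := B)
    have h1 : orderOf w ∣ r := orderOf_dvd_of_pow_eq_one (Subtype.ext (hB.2 w w.2))
    rw [orderOf_eq_card_of_forall_mem_zpowers hw, hB2] at h1
    have := Nat.le_of_dvd hrτ.1.pos h1
    nlinarith [hrτ.1.two_le]
  obtain ⟨b₀, hb₀, hb₀z⟩ := SetLike.not_le_iff_exists.1 hnc
  set b := ⁅z, b₀⁆ with hb
  have hbB : b ∈ B := by
    rw [hb, commutatorElement_def]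
    exact B.mul_mem (Grp.mem_conj_normalizer (hEB hzE) hb₀) (B.inv_mem hb₀)
  have hb1 : b ≠ 1 := fun e => hb₀z (mem_centralizer_singleton_iff.2
    (commutatorElement_eq_one_iff_mul_comm.1 e).symm)
  have hbo : orderOf b = r := orderOf_eq_prime (hB.2 b hbB) hb1
  have hby : b * y = y * b :=
    (mem_centralizer_iff.1 (hE'Q (commutator_mem_commutator hzE (hBE hb₀))) y hyQ).symm
  have hbN : b ∈ N := hCy (mem_centralizer_singleton_iff.2 hby)
  obtain ⟨Kb, Nb, hpb, hbK, -⟩ := exists_pair_ge hG hN hκN hbN hbo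
  have hyN : y ∈ N := hCy (mem_centralizer_singleton_iff.2 rfl)
  have hyK : y ∈ Kb ⊔ kStar N Kb :=
    (hpb.inf_centralizer hbK hb1).le ⟨hyN, mem_centralizer_singleton_iff.2 hby.symm⟩
  have hqd' : q ∣ Nat.card Kb * Nat.card (kStar N Kb) :=
    ((hyo ▸ Subgroup.orderOf_dvd_natCard _ hyK).trans (Grp.card_sup_dvd_mul
      ((le_centralizer_iff.1 (inf_le_right : kStar N Kb ≤ _)).trans (centralizer_le_normalizer _))))
  rcases (Fact.out : q.Prime).dvd_mul.1 hqd' with h1 | h1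
  · exact hqτ.2.2.2 (kappa_rank_one hG hN (hpb.hK.2.1 q Fact.out h1))
  · exact hqτ.2.1 (TransHyp.piCoreOf_primes (π := Cfsg.sigma N) (X := N) Fact.out
      (h1.trans (card_dvd_of_le inf_le_left)))

/-- Conjugate supports of `M` are conjugate in `M`. -/
theorem support_conj (hG : Cfsg.IsMinSimpleOddOrder G) {M : Subgroup G} (hM : IsCoatom M) {x y g : G}
    (hx : x ∈ Cfsg.sigmaCore M) (hx1 : x ≠ 1) (hxM : ¬ centralizer ({x} : Set G) ≤ M)
    {N : Subgroup G} (hN : IsCoatom N) (hxN : centralizer ({x} : Set G) ≤ N)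
    (hy : y ∈ Cfsg.sigmaCore M) (hy1 : y ≠ 1) (hyM : ¬ centralizer ({y} : Set G) ≤ M)
    {N' : Subgroup G} (hN' : IsCoatom N') (hyN : centralizer ({y} : Set G) ≤ N')
    (hg : MulAut.conj g • N' = N) : ∃ m ∈ M, MulAut.conj m • N' = N := by
  haveI := solvable_of_ne_top hG hN.1
  haveI := solvable_of_ne_top hG hM.1
  obtain ⟨N₁, h₁, hu₁, -⟩ := support_unique hG hM hx hx1 hxM
  obtain rfl : N = N₁ := hu₁ N hN hxN
  obtain ⟨N₂, h₂, hu₂, -⟩ := support_unique hG hM hy hy1 hyM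
  obtain rfl : N' = N₂ := hu₂ N' hN' hyN
  obtain ⟨q, _, w, hw, hwo, hwc, hqd⟩ := exists_prime_zpowers_le hy1
  have hqσ : q ∈ Cfsg.sigma M := TransHyp.piCoreOf_primes (π := Cfsg.sigma M) (X := M) Fact.out
    (hwo ▸ Subgroup.orderOf_dvd_natCard _ ((zpowers_le.2 hy) hw))
  obtain ⟨N₃, h₃, hNw, -⟩ := support_line hG hM hy hw hwo fun hC => hyM fun c hc => hC (by
    refine mem_centralizer_iff.2 fun v hv => ?_
    obtain ⟨i, rfl⟩ := mem_zpowers_iff.1 ((zpowers_le.2 hw) hv)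
    exact ((show Commute c y from mem_centralizer_singleton_iff.1 hc).zpow_right i).eq.symm)
  rw [hu₂ N₃ h₃.hN h₃.le] at hNw
  have hwM : zpowers w ≤ M ⊓ N' := zpowers_le.2 ⟨TransHyp.piCoreOf_le M ((zpowers_le.2 hy) hw),
    hNw (le_normalizer (mem_zpowers w))⟩
  have hH₁ := compl_hall hG hN h₁.compl
  have hH₂ : Cfsg.IsPiHallOf {s | s ∉ Cfsg.sigma N} (MulAut.conj g • (M ⊓ N')) N := by
    have h2 := compl_hall hG hN' h₂.compl
    refine ⟨hg ▸ Subgroup.pointwise_smul_le_pointwise_smul_iff.2 h2.1, fun s hs hd h => ?_, fun s hs hsσ hd => ?_⟩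
    · rw [Grp.card_conj_smul] at hd
      exact h2.2.1 s hs hd ((sigma_smul_iff hG hN' g).1 (hg.symm ▸ h))
    · rw [← hg, Grp.relIndex_smul] at hd
      exact h2.2.2 s hs (fun h => hsσ (hg ▸ (sigma_smul_iff hG hN' g).2 h)) hd
  obtain ⟨n, hn, e⟩ := Grp.PiHall.conj_eq hH₂ hH₁
  rw [Grp.conj_smul_conj_smul] at e
  have he' : MulAut.conj (n * g) • N' = N := by
    rw [← Grp.conj_smul_conj_smul, hg, Grp.conj_smul_eq_self_of_mem hn]
  obtain ⟨m, hm, c, hc, hmc⟩ := sigma_conj_factor hG hM hqσ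
    (IsPGroup.of_card (n := 1) (hwc.trans (pow_one q).symm) : IsPGroup q (zpowers w)) (hwM.trans inf_le_left)
    (g := n * g) ((Subgroup.pointwise_smul_le_pointwise_smul_iff.2 hwM).trans (e.le.trans inf_le_left))
  refine ⟨m, hm, ?_⟩
  rwa [hmc, ← Grp.conj_smul_conj_smul, Grp.conj_smul_eq_self_of_mem
    (hNw (centralizer_le_normalizer _ hc))] at he'

end Cfsg.Agent.Transfer.Loc
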