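import Cfsg.Agent.Lib.Transfer.Local.QImg
import Cfsg.Agent.Lib.Transfer.TypeP
import Cfsg.Agent.Lib.Grp.FpfPrime

/-!
An element of prime order acting without fixed points on two groups, one acting on the other.
-/

set_option autoImplicit false
set_option linter.style.haveILetI false
set_option linter.unusedSectionVars false
set_option maxHeartbeats 1000000

namespace Cfsg.Agent.Transfer.Loc

open Subgroup
open scoped commutatorElement Pointwise

universe u

variable {G : Type u} [Group G] [Finite G]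

/-- A group acted on without fixed points acts trivially on a coprime module without fixed points. -/
theorem le_centralizer_of_fpf {p : ℕ} [Fact p.Prime] {b : G} (hb : b ^ p = 1) {V D : Subgroup G}
    (hbV : b ∈ normalizer (V : Set G)) (hbD : b ∈ normalizer (D : Set G)) (hDV : D ≤ normalizer (V : Set G))
    (hcop : (Nat.card V).Coprime (Nat.card D)) (hV : V ⊓ centralizer ({b} : Set G) = ⊥)
    (hD : D ⊓ centralizer ({b} : Set G) = ⊥) : D ≤ centralizer (V : Set G) := by
  have hbW : b ∈ normalizer ((D ⊔ V : Subgroup G) : Set G) :=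
    Grp.le_normalizer_sup' (zpowers_le.2 hbD) (zpowers_le.2 hbV) (mem_zpowers b)
  have hfix : (D ⊔ V) ⊓ centralizer ({b} : Set G) = ⊥ := by
    refine eq_bot_iff.2 fun w hw => ?_
    obtain ⟨hw, hwb⟩ := hw
    replace hw : w ∈ ((D ⊔ V : Subgroup G) : Set G) := hw
    rw [Subgroup.coe_mul_of_left_le_normalizer_right D V hDV] at hw
    obtain ⟨d, hd, v, hv, rfl⟩ := hw
    have hd' := Grp.mem_conj_normalizer hbD hd
    have hv' := Grp.mem_conj_normalizer hbV hv
    have e : b * d * b⁻¹ * (b * v * b⁻¹) = d * v := by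
      rw [show b * d * b⁻¹ * (b * v * b⁻¹) = b * (d * v) * b⁻¹ by group,
        ← mem_centralizer_singleton_iff.1 hwb, mul_inv_cancel_right]
    have h1 : d⁻¹ * (b * d * b⁻¹) ∈ D ⊓ V := ⟨D.mul_mem (D.inv_mem hd) hd', by
      rw [show d⁻¹ * (b * d * b⁻¹) = v * (b * v * b⁻¹)⁻¹ by
        rw [inv_mul_eq_iff_eq_mul, ← mul_assoc, eq_mul_inv_iff_mul_eq]; exact e]
      exact V.mul_mem hv (V.inv_mem hv')⟩
    rw [Grp.inf_eq_bot_of_coprime hcop.symm, mem_bot, inv_mul_eq_one] at h1
    have hdb : d ∈ D ⊓ centralizer ({b} : Set G) := ⟨hd, mem_centralizer_singleton_iff.2 (by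
      conv_lhs => rw [h1]
      rw [inv_mul_cancel_right])⟩
    rw [hD, mem_bot] at hdb
    subst hdb
    have hvb : v ∈ V ⊓ centralizer ({b} : Set G) := ⟨hv, by
      have h2 : (1 : G) * v ∈ centralizer ({b} : Set G) := hwb
      rwa [one_mul] at h2⟩
    rw [hV, mem_bot] at hvb
    subst hvb
    exact mem_bot.2 (one_mul 1)
  have hnil := Grp.isNilpotent_of_fpf hb hbW hfix
  intro d hd
  exact mem_centralizer_iff.2 fun v hv => TypeP.commute_of_coprime_orderOf hnil (mem_sup_right hv) (mem_sup_left hd)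
    ((hcop.coprime_dvd_left (Subgroup.orderOf_dvd_natCard _ hv)).coprime_dvd_right (Subgroup.orderOf_dvd_natCard _ hd))

/-- If all fixed points lie in `N`, the image modulo `N` is nilpotent. -/
theorem nilpotent_qimg_of_fixed {p : ℕ} [Fact p.Prime] {b : G} (hb : b ^ p = 1) {N K : Subgroup G}
    (hNK : N ≤ K) (hKN : K ≤ normalizer (N : Set G)) (hbN : b ∈ normalizer (N : Set G))
    (hbK : b ∈ normalizer (K : Set G)) (hcop : (orderOf b).Coprime (Nat.card K))
    (hfix : K ⊓ centralizer ({b} : Set G) ≤ N) : Group.IsNilpotent (qimg N K) := by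
  refine Grp.isNilpotent_of_fpf (p := p)
    (b := QuotientGroup.mk' (N.subgroupOf (normalizer (N : Set G))) ⟨b, hbN⟩) ?_ ?_ ?_
  · rw [← map_pow]
    have : (⟨b, hbN⟩ : normalizer (N : Set G)) ^ p = 1 := Subtype.ext hb
    rw [this, map_one]
  · exact qimg_normalizer (zpowers_le.2 hbK) (mem_qimg (mem_zpowers b) hbN)
  · refine eq_bot_iff.2 fun z hz => ?_
    obtain ⟨⟨⟨k, hkY⟩, hk, rfl⟩, hzc⟩ := hz
    have hk' : k ∈ K := hk
    have hbot : zpowers b ⊓ K = ⊥ := Grp.inf_eq_bot_of_coprime (by rwa [Nat.card_zpowers])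
    have hcomm : ∀ a ∈ zpowers b, a * k * a⁻¹ * k⁻¹ ∈ N := by
      rintro _ ⟨i, rfl⟩
      have h1 : Commute (QuotientGroup.mk' (N.subgroupOf (normalizer (N : Set G))) (⟨b, hbN⟩ ^ i))
          (QuotientGroup.mk' (N.subgroupOf (normalizer (N : Set G))) ⟨k, hkY⟩) := by
        rw [map_zpow]
        exact Commute.zpow_left (mem_centralizer_singleton_iff.1 hzc).symm i
      have h2 := h1.eq
      rw [← map_mul, ← map_mul] at h2
      have h4 : (⟨b, hbN⟩ ^ i * ⟨k, hkY⟩) * (⟨k, hkY⟩ * ⟨b, hbN⟩ ^ i)⁻¹ ∈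
          N.subgroupOf (normalizer (N : Set G)) := by
        rw [← QuotientGroup.eq_one_iff]
        exact (map_mul (QuotientGroup.mk' (N.subgroupOf (normalizer (N : Set G)))) _ _).trans
          (by rw [map_inv, h2, mul_inv_cancel])
      have h5 : b ^ i * k * (k * b ^ i)⁻¹ ∈ N := by simpa [Subgroup.mem_subgroupOf] using h4
      show b ^ i * k * (b ^ i)⁻¹ * k⁻¹ ∈ N
      rwa [show b ^ i * k * (b ^ i)⁻¹ * k⁻¹ = b ^ i * k * (k * b ^ i)⁻¹ by group]
    obtain ⟨c, hc, hkc⟩ := Grp.exists_fixed_rep (zpowers b) K N (zpowers_le.2 hbK) hbot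
      ((by rwa [Nat.card_zpowers] : (Nat.card (zpowers b)).Coprime (Nat.card K)).coprime_dvd_right
        (card_dvd_of_le hNK)) (Or.inl inferInstance) hNK hKN (zpowers_le.2 hbN) hk' hcomm
    have hcN : c ∈ N := hfix ⟨hc.1, mem_centralizer_singleton_iff.2
      (mem_centralizer_iff.1 hc.2 b (mem_zpowers b)).symm⟩
    have hkN : k ∈ N := by
      have h3 := N.mul_mem hcN (N.inv_mem hkc)
      rwa [show c * (k⁻¹ * c)⁻¹ = k by group] at h3
    exact mem_bot.2 ((QuotientGroup.eq_one_iff _).2 hkN)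

/-- Coprime subgroups with nilpotent image commute modulo `N`. -/
theorem commutator_le_of_nilpotent_qimg {N K A B : Subgroup G} (hKN : K ≤ normalizer (N : Set G))
    (hnil : Group.IsNilpotent (qimg N K)) (hA : A ≤ K) (hB : B ≤ K)
    (hcop : (Nat.card A).Coprime (Nat.card B)) : ⁅A, B⁆ ≤ N := by
  rw [← qimg_eq_bot (N := N) (commutator_le.2 fun a ha b hb =>
    mul_mem (mul_mem (mul_mem (hKN (hA ha)) (hKN (hB hb))) (inv_mem (hKN (hA ha)))) (inv_mem (hKN (hB hb)))),
    qimg_commutator (hA.trans hKN) (hB.trans hKN), commutator_eq_bot_iff_le_centralizer]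
  intro a ha
  refine mem_centralizer_iff.2 fun c hc => ?_
  exact TypeP.commute_of_coprime_orderOf hnil (qimg_mono hB hc) (qimg_mono hA ha)
    (((hcop.symm.coprime_dvd_left (card_qimg_dvd (hB.trans hKN))).coprime_dvd_right (card_qimg_dvd (hA.trans hKN)))
      |>.coprime_dvd_left (Subgroup.orderOf_dvd_natCard _ hc) |>.coprime_dvd_right (Subgroup.orderOf_dvd_natCard _ ha))

end Cfsg.Agent.Transfer.Loc
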