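import Cfsg.Agent.Lib.Transfer.Local.KappaHall
import Cfsg.Agent.Lib.Transfer.FrobeniusFormula

/-!
A nontrivial `κ'`-part forces the Hall `κ(M)`-subgroup to have prime order.
-/

set_option autoImplicit false
set_option linter.style.haveILetI false
set_option linter.unusedSectionVars false
set_option maxHeartbeats 1000000

namespace Cfsg.Agent.Transfer.Loc

open Subgroup
open scoped commutatorElement Pointwise

universe u

variable {G : Type u} [Group G] [Finite G] (hG : Cfsg.IsMinSimpleOddOrder G) {M : Subgroup G} (hM : IsCoatom M)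
  {K U : Subgroup G} (hKU : Cfsg.IsSigmaDecomposition M K U)
include hG hM hKU

/-- `U` contains every subgroup of `U K` of order prime to `|K|`. -/
theorem decomp_le_U {Y : Subgroup G} (hY : Y ≤ U ⊔ K) (hcop : (Nat.card Y).Coprime (Nat.card K)) : Y ≤ U := by
  obtain ⟨-, hcard, -⟩ := decomp_compl hG hM hKU
  have hN : U ⊔ K ≤ normalizer (U : Set G) := sup_le le_normalizer hKU.normal
  have h1 : U.relIndex (U ⊔ Y) ∣ Nat.card Y := by
    refine Nat.dvd_of_mul_dvd_mul_left (k := Nat.card U) Nat.card_pos ?_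
    rw [Grp.card_mul_relIndex le_sup_left, sup_comm U Y, mul_comm]
    exact Grp.card_sup_dvd_mul (hY.trans hN)
  have h2 : U.relIndex (U ⊔ K) = Nat.card K := Nat.eq_of_mul_eq_mul_left (Nat.card_pos (α := U))
    ((Grp.card_mul_relIndex le_sup_left).trans hcard)
  have h3 : U.relIndex (U ⊔ Y) ∣ U.relIndex (U ⊔ K) := Dvd.intro _
    (Subgroup.relIndex_mul_relIndex U (U ⊔ Y) (U ⊔ K) le_sup_left (sup_le le_sup_left hY))
  exact le_sup_right.trans (Subgroup.relIndex_eq_one.1 (Nat.eq_one_of_dvd_coprimes hcop h1 (h3.trans (dvd_of_eq h2))))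

/-- A nontrivial `U` does not centralise `M_σ` when `K ≠ 1`. -/
theorem decomp_U_moves (hK1 : K ≠ ⊥) (hU1 : U ≠ ⊥) : ¬ U ≤ centralizer (Cfsg.sigmaCore M : Set G) := by
  intro hc
  haveI := solvable_of_ne_top hG hM.1
  obtain ⟨hE, -, hU⟩ := decomp_compl hG hM hKU
  haveI := isSolvable_of_le hE.1
  obtain ⟨q, hq, hqU⟩ := Nat.exists_prime_and_dvd (n := Nat.card U) fun e => hU1 (card_eq_one.1 e)
  haveI := Fact.mk hq
  have hqσ := decomp_U_prime hG hM hKU hq hqU
  have hqK : ¬ q ∣ Nat.card K := fun h => hU q hq hqU (hKU.hall.2.1 q hq h)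
  by_cases hr : Cfsg.PRankLE q 1 M
  · obtain ⟨z, hz⟩ := exists_prime_orderOf_dvd_card' (G := U) q hqU
    have hZU : zpowers (z : G) ≤ U := zpowers_le.2 z.2
    have hZc : Nat.card (zpowers (z : G)) = q := by rw [Nat.card_zpowers, Subgroup.orderOf_coe, hz]
    by_cases hd : q ∣ Nat.card ↥⁅M, M⁆
    · have h1 := (tau3_normal hG hM hE hqσ hr hd (hZU.trans le_sup_left) hZc).1
      exact not_centralizes_sigma hG hM hqσ (fun hτ => hτ.2.2.2 hr)
        (h1.trans (commutator_mono hE.1 hE.1)) hZc (hZU.trans hc)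
    · obtain ⟨k, hk, hk1⟩ := (bot_or_exists_ne_one K).resolve_left hK1
      obtain ⟨p, _, w, hw, -, hwc, -⟩ := exists_prime_zpowers_le hk1
      have hp : p ∈ Cfsg.kappa M :=
        hKU.hall.2.1 p Fact.out (hwc ▸ card_dvd_of_le (zpowers_le.2 ((zpowers_le.2 hk) hw) : zpowers w ≤ K))
      have h1 := kappa_eq_tau1 hG hM hE (kappa_subset_tau1 hG hM hKU.hall hKU.cyclic) ⟨p, hp⟩
      exact hU q hq hqU (h1.ge ⟨hq, hqσ, hqU.trans (card_dvd_of_le hKU.compl.1), hd, hr⟩)
  · have hτ := tau2_of_not_rank_one hG hM hqσ hr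
    obtain ⟨T, hT⟩ := Grp.exists_isSylowIn q (U ⊔ K)
    obtain ⟨A, hAT, hA, hA2⟩ := tau2_plane hG hM hE hτ hT
    have hAU : A ≤ U := decomp_le_U hG hM hKU (hAT.trans hT.1) (by
      rw [hA2]; exact (hq.coprime_iff_not_dvd.2 hqK).pow_left 2)
    obtain ⟨A₀, h⟩ := exists_exc hG hM ((hAT.trans hT.1).trans hE.1) hA hA2 hqσ
    exact sigmaCore_ne_bot hG hM (le_bot_iff.1 ((le_inf le_rfl
      (le_centralizer_iff.1 (hAU.trans hc))).trans h.fixed_plane.le))

/-- If `K ≠ 1` and `U ≠ 1` then `K` has prime order. -/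
theorem decomp_prime_order (hK1 : K ≠ ⊥) (hU1 : U ≠ ⊥) : (Nat.card K).Prime := by
  haveI := solvable_of_ne_top hG hM.1
  obtain ⟨hE, -, hU⟩ := decomp_compl hG hM hKU
  obtain ⟨-, hreg, -⟩ := decomp_facts hG hM hKU
  obtain ⟨-, -, hprime⟩ := kappa_prime_action hG hM hE hKU.hall le_sup_right hK1
  obtain ⟨k, hk, hk1⟩ := (bot_or_exists_ne_one K).resolve_left hK1
  obtain ⟨r, _, z, hz, -, hzc, -⟩ := exists_prime_zpowers_le hk1
  set X := zpowers z
  have hXK : X ≤ K := zpowers_le.2 ((zpowers_le.2 hk) hz)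
  suffices hXK' : X = K by rw [← hXK', hzc]; exact Fact.out
  set S := Cfsg.sigmaCore M with hS
  haveI : Group.IsSolvable U := isSolvable_of_le hKU.compl.1
  haveI : Group.IsSolvable S := isSolvable_of_le hE.2.1
  have hEN : U ⊔ K ≤ normalizer (S : Set G) := hE.1.trans (TransHyp.le_normalizer_piCoreOf M)
  have hfix : S ⊓ centralizer (X : Set G) = S ⊓ centralizer (K : Set G) := by
    refine le_antisymm ?_ (inf_le_inf_left _ (centralizer_le hXK))
    obtain ⟨x, hx, hx1⟩ := (bot_or_exists_ne_one X).resolve_left fun e =>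
      (Fact.out (p := r.Prime)).ne_one (by rw [← hzc, e, Subgroup.card_bot])
    rw [← hprime x (hXK hx) hx1]
    exact inf_le_inf_left _ (centralizer_le (Set.singleton_subset_iff.2 hx))
  have hfpf : ∀ e ∈ K, e ≠ 1 → ∀ u ∈ U, e * u = u * e → u = 1 := fun e he he1 u hu h => by
    rw [← mem_bot, ← hreg e he he1]; exact ⟨hu, mem_centralizer_singleton_iff.2 h.symm⟩
  have hcop := (compl_coprime hG hM hE).symm
  have hUX : U ⊔ X ≤ U ⊔ K := sup_le_sup_left hXK U
  have f1 := FrobFix.fixed_formula U K S hEN hKU.normal hfpf inferInstance inferInstance hcop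
  have f2 := FrobFix.fixed_formula U X S (hUX.trans hEN) (hXK.trans hKU.normal)
    (fun e he => hfpf e (hXK he)) inferInstance inferInstance (hcop.coprime_dvd_right (card_dvd_of_le hUX))
  have hsame : S ⊓ centralizer ((U ⊔ X : Subgroup G) : Set G) = S ⊓ centralizer ((U ⊔ K : Subgroup G) : Set G) := by
    rw [FrobFix.centralizer_sup, FrobFix.centralizer_sup, inf_left_comm, hfix, inf_left_comm]
  rw [hsame, hfix] at f2
  set a := Nat.card ↥(S ⊓ centralizer ((U ⊔ K : Subgroup G) : Set G))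
  set b := Nat.card ↥(S ⊓ centralizer (K : Set G))
  set c := Nat.card ↥(S ⊓ centralizer (U : Set G))
  have hab : a ≠ b := fun e => by
    rw [e] at f1
    have h1 : Nat.card S = c := Nat.eq_of_mul_eq_mul_left (Nat.pos_of_ne_zero (pow_ne_zero _ Nat.card_pos.ne')) f1
    exact decomp_U_moves hG hM hKU hK1 hU1 (le_centralizer_iff.1
      ((Subgroup.eq_of_le_of_card_ge inf_le_left h1.le).ge.trans inf_le_right))
  by_contra hne
  have hlt : Nat.card X < Nat.card K := lt_of_not_ge fun h => hne (Subgroup.eq_of_le_of_card_ge hXK h)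
  obtain ⟨d, hd⟩ := Nat.exists_eq_add_of_lt hlt
  have h3 : a ^ (d + 1) * (a ^ Nat.card X * Nat.card S) = b ^ (d + 1) * (b ^ Nat.card X * c) := by
    rw [← mul_assoc, ← mul_assoc, ← pow_add, ← pow_add, show d + 1 + Nat.card X = Nat.card K by omega]
    exact f1
  rw [f2] at h3
  refine hab (Nat.pow_left_injective (Nat.succ_ne_zero d) (Nat.eq_of_mul_eq_mul_right (Nat.mul_pos
    (Nat.pos_of_ne_zero (pow_ne_zero _ Nat.card_pos.ne')) Nat.card_pos) h3))

end Cfsg.Agent.Transfer.Loc
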