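import Cfsg.Agent.Lib.Transfer.Local.KappaCount
import Cfsg.Agent.Lib.Transfer.Local.KappaPrimeOrder
import Cfsg.Agent.Lib.Transfer.Local.TauTwoHall
import Cfsg.Agent.Lib.Grp.FpfPrime
import Cfsg.Agent.S1417

/-!
Exactly two partners: the duality between `M` and `M*`.
-/

set_option autoImplicit false
set_option linter.style.haveILetI false
set_option linter.unusedSectionVars false
set_option maxHeartbeats 1000000

namespace Cfsg.Agent.Transfer.Loc

open Subgroup
open scoped commutatorElement Pointwise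

universe u

variable {G : Type u} [Group G] [Finite G] (hG : Cfsg.IsMinSimpleOddOrder G) {M : Subgroup G} (hM : IsCoatom M)
include hG hM

/-- With `U ≠ 1` the core `M_σ` is nilpotent. -/
theorem sigmaCore_nilpotent_of_decomp {K U : Subgroup G} (hKU : Cfsg.IsSigmaDecomposition M K U) (hU1 : U ≠ ⊥) :
    Group.IsNilpotent (Cfsg.sigmaCore M) := by
  haveI := solvable_of_ne_top hG hM.1
  obtain ⟨hE, -, hU⟩ := decomp_compl hG hM hKU
  obtain ⟨p, hp, hpd⟩ := Nat.exists_prime_and_dvd (fun e => hU1 ((Subgroup.card_eq_one).1 e))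
  haveI := Fact.mk hp
  have hσ := decomp_U_prime hG hM hKU hp hpd
  by_cases h1 : Cfsg.PRankLE p 1 M
  · obtain ⟨x, hx⟩ := exists_prime_orderOf_dvd_card' (G := U) p hpd
    have hxM : (x : G) ∈ M := hE.1 (mem_sup_left x.2)
    have hXc : Nat.card (zpowers (x : G)) = p := by rw [Nat.card_zpowers, Subgroup.orderOf_coe, hx]
    refine Grp.isNilpotent_of_fpf (p := p) (b := (x : G)) (by rw [← hx, ← Subgroup.orderOf_coe, pow_orderOf_eq_one])
      (TransHyp.le_normalizer_piCoreOf M hxM) ?_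
    by_contra hne
    refine hU p hp hpd (kappa_of_fixed hG hM hσ h1 (zpowers_le.2 hxM) hXc fun e => hne ?_)
    refine le_bot_iff.1 (le_trans (le_inf inf_le_left ?_) e.le)
    refine inf_le_right.trans fun y hy => mem_centralizer_iff.2 fun c hc => ?_
    obtain ⟨i, rfl⟩ := hc
    exact ((show Commute (x : G) y from (mem_centralizer_singleton_iff.1 hy).symm).zpow_left i).eq
  · have hτ := tau2_of_not_rank_one hG hM hσ h1
    obtain ⟨V, hV⟩ := Grp.exists_isSylowIn p (U ⊔ K)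
    obtain ⟨A, hAV, hA, hA2⟩ := tau2_plane hG hM hE hτ hV
    exact (Cfsg.Agent.S1417.result hG M hM p hτ A ⟨(hAV.trans hV.1).trans hE.1, hA, hA2⟩).1

/-- A subgroup that is not full has a standard factorisation with `U ≠ 1`. -/
theorem decomp_of_not_full {K : Subgroup G} (hK : Cfsg.IsPiHallOf (Cfsg.kappa M) K M) (hK1 : K ≠ ⊥)
    (hnf : ¬ IsKappaFull M) : ∃ U : Subgroup G, Cfsg.IsSigmaDecomposition M K U ∧ U ≠ ⊥ := by
  obtain ⟨E, hE, hKE⟩ := kappa_compl hG hM hK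
  obtain ⟨h, -, -⟩ := kappa_prime_action hG hM hE hK hKE hK1
  rcases h with rfl | ⟨-, hKc⟩
  · refine absurd (fun p hp hd hσ => hK.2.1 p hp ?_) hnf
    rw [← compl_card hE] at hd
    exact (hp.dvd_mul.1 hd).resolve_right fun h =>
      hσ (TransHyp.piCoreOf_primes (π := Cfsg.sigma M) (X := M) hp h)
  obtain ⟨U, hKU⟩ := exists_decomp hG hM hKc hK
  refine ⟨U, hKU, fun hU => hnf fun p hp hd hσ => hK.2.1 p hp ?_⟩
  obtain ⟨hE', hc, -⟩ := decomp_compl hG hM hKU
  rw [← compl_card hE', hc, hU, Subgroup.card_bot, one_mul] at hd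
  exact (hp.dvd_mul.1 hd).resolve_right fun h =>
    hσ (TransHyp.piCoreOf_primes (π := Cfsg.sigma M) (X := M) hp h)

/-- The `σ(M)'`-elements of `K ⊔ K*` lie in `K`. -/
theorem mem_of_compl_elt {K : Subgroup G} (hK : Cfsg.IsPiHallOf (Cfsg.kappa M) K M) {u : G}
    (hu : u ∈ K ⊔ kStar M K) (hπ : IsPiElt (Cfsg.sigma M)ᶜ u) : u ∈ K := by
  obtain ⟨-, hKc, -, -, -⟩ := kStar_facts hG hM hK
  rw [← SetLike.mem_coe, Subgroup.coe_mul_of_left_le_normalizer_right K _
    (hKc.trans (centralizer_le_normalizer _))] at hu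
  obtain ⟨k, hk, y, hy, rfl⟩ := hu
  have hcy : Commute y k := mem_centralizer_iff.1 (hKc hk) y hy
  have hy1 : y = 1 := (pi_part_unique (Commute.one_left (k * y))
    (fun q hq hd => by rw [orderOf_one, Nat.dvd_one] at hd; exact absurd hd hq.ne_one) hπ hcy
    (fun q hq hd => TransHyp.piCoreOf_primes (π := Cfsg.sigma M) (X := M) hq
      (hd.trans (Subgroup.orderOf_dvd_natCard _ hy.1)))
    (fun q hq hd => (hK.2.1 q hq (hd.trans (Subgroup.orderOf_dvd_natCard _ hk))).2.2.1)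
    (by rw [one_mul]; exact hcy.eq.symm)).symm
  show k * y ∈ K
  rwa [hy1, mul_one]

/-- The `σ(M)`-elements of `K ⊔ K*` lie in `K*`. -/
theorem mem_kStar_of_pi {K : Subgroup G} (hK : Cfsg.IsPiHallOf (Cfsg.kappa M) K M) {u : G}
    (hu : u ∈ K ⊔ kStar M K) (hπ : IsPiElt (Cfsg.sigma M) u) : u ∈ kStar M K := by
  obtain ⟨hle, -, hmeet, -, -⟩ := kStar_facts hG hM hK
  exact hmeet ▸ ⟨hu, mem_sigmaCore_of_pi hG hM (hle hu) hπ⟩

/-- `K` is determined by the product `K ⊔ K*`. -/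
theorem hall_eq_of_product {K K' : Subgroup G} (hK : Cfsg.IsPiHallOf (Cfsg.kappa M) K M)
    (hK' : Cfsg.IsPiHallOf (Cfsg.kappa M) K' M) (e : K ⊔ kStar M K = K' ⊔ kStar M K') : K = K' :=
  le_antisymm (fun u hu => mem_of_compl_elt hG hM hK' (e.le (mem_sup_left hu)) fun p hp hd =>
      (hK.2.1 p hp (hd.trans (Subgroup.orderOf_dvd_natCard _ hu))).2.2.1)
    fun u hu => mem_of_compl_elt hG hM hK (e.ge (mem_sup_left hu)) fun p hp hd =>
      (hK'.2.1 p hp (hd.trans (Subgroup.orderOf_dvd_natCard _ hu))).2.2.1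

omit hM in
/-- A nilpotent `κ`-group of `H` is cyclic. -/
theorem isCyclic_of_kappa {H Y : Subgroup G} (hYH : Y ≤ H)
    (hY : ∀ q : ℕ, q.Prime → q ∣ Nat.card Y → q ∈ Cfsg.kappa H) (hnil : Group.IsNilpotent Y) : IsCyclic Y := by
  haveI : IsZGroup Y := ⟨fun q hq P => by
    haveI := Fact.mk hq
    by_cases hd : q ∣ Nat.card Y
    · obtain ⟨Q, hQ⟩ := (P.isPGroup'.map (Subgroup.inclusion hYH)).exists_le_sylow
      haveI := ((hY q hq hd).2.2.2 Q).1
      haveI : IsCyclic ↥((P : Subgroup Y).map (Subgroup.inclusion hYH)) := Subgroup.isCyclic_of_le hQ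
      exact isCyclic_of_surjective _ ((P : Subgroup Y).equivMapOfInjective _
        (Subgroup.inclusion_injective hYH)).symm.surjective
    · have hP : (P : Subgroup Y) = ⊥ := by
        rw [← Subgroup.card_eq_one]
        obtain ⟨n, hn⟩ := P.isPGroup'.exists_card_eq
        cases n with
        | zero => rwa [pow_zero] at hn
        | succ n => exact absurd ((hn ▸ dvd_pow_self q n.succ_ne_zero).trans (Subgroup.card_subgroup_dvd_card _)) hd
      rw [hP]
      infer_instance⟩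
  infer_instance

omit hM in
/-- There are exactly two partners, one with `|K|` prime. -/
theorem two_partners {Z H₀ : Subgroup G} (hZ : ZPartner Z H₀) :
    ∃ H H' K K' : Subgroup G, IsCoatom H ∧ IsCoatom H' ∧ H ≠ H' ∧ Cfsg.IsPiHallOf (Cfsg.kappa H) K H ∧
      Cfsg.IsPiHallOf (Cfsg.kappa H') K' H' ∧ K ⊔ kStar H K = Z ∧ K' ⊔ kStar H' K' = Z ∧ kStar H K = K' ∧
      kStar H' K' = K ∧ (Nat.card K).Prime ∧ IsCyclic K' ∧ ¬ IsKappaFull H ∧
      ∀ L, ZPartner Z L → L = H ∨ L = H' := by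
  obtain ⟨H, hH, hnf⟩ := exists_not_full hG hZ
  have hH₁ := hH
  obtain ⟨hHc, K, hK, hK1, e⟩ := hH₁
  obtain ⟨U, hKU, hU1⟩ := decomp_of_not_full hG hHc hK hK1 hnf
  have hprime := decomp_prime_order hG hHc hKU hK1 hU1
  obtain ⟨-, -, hmeet, -, hcard⟩ := kStar_facts hG hHc hK
  set t := Nat.card K with ht
  haveI := Fact.mk hprime
  have htZ : t ∣ Nat.card Z := by rw [← e, hcard]; exact dvd_mul_right _ _
  have htσ : t ∉ Cfsg.sigma H := (hK.2.1 t hprime dvd_rfl).2.2.1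
  obtain ⟨H', hH', htσ'⟩ := zpartner_cover hG hZ htZ
  have hne : H ≠ H' := fun h => htσ (h ▸ htσ')
  have hprimes : ∀ p : ℕ, p.Prime → p ∣ Nat.card Z → p = t ∨ p ∈ Cfsg.sigma H := fun p hp hd => by
    rw [← e, hcard, hp.dvd_mul] at hd
    exact hd.imp (fun h => (Nat.prime_dvd_prime_iff_eq hp hprime).1 h)
      fun h => TransHyp.piCoreOf_primes (π := Cfsg.sigma H) (X := H) hp (h.trans (card_dvd_of_le inf_le_left))
  have hall : ∀ L, ZPartner Z L → L = H ∨ L = H' := fun L hL => by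
    obtain ⟨-, -, -, -, ⟨p, hp, hpZ, hpL⟩, -⟩ := hL.card_facts hG
    haveI := Fact.mk hp
    rcases hprimes p hp hpZ with rfl | h
    · exact Or.inr (zpartner_eq hG hH' hL hpZ htσ' hpL)
    · exact Or.inl (zpartner_eq hG hH hL hpZ h hpL)
  have hH'₁ := hH'
  obtain ⟨hH'c, K', hK', hK'1, e'⟩ := hH'₁
  have hσ' : ∀ p : ℕ, p.Prime → p ∣ Nat.card Z → (p ∈ Cfsg.sigma H' ↔ p ∉ Cfsg.sigma H) := fun p hp hd => by
    haveI := Fact.mk hp
    refine ⟨fun h h' => hne (zpartner_eq hG hH' hH hd h h'), fun h => ?_⟩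
    obtain ⟨L, hL, hpL⟩ := zpartner_cover hG hZ hd
    rcases hall L hL with rfl | rfl
    · exact absurd hpL h
    · exact hpL
  have hdvd : ∀ u ∈ Z, ∀ p : ℕ, p.Prime → p ∣ orderOf u → p ∣ Nat.card Z := fun u hu p _ hd =>
    hd.trans (Subgroup.orderOf_dvd_natCard _ hu)
  have hK'eq : kStar H K = K' := by
    refine le_antisymm (fun u hu => ?_) fun u hu => ?_
    · have huZ : u ∈ Z := e.le (mem_sup_right hu)
      refine mem_of_compl_elt hG hH'c hK' (e'.ge huZ) fun p hp hd h => ?_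
      exact (hσ' p hp (hdvd u huZ p hp hd)).1 h (TransHyp.piCoreOf_primes (π := Cfsg.sigma H) (X := H) hp
        (hd.trans (Subgroup.orderOf_dvd_natCard _ hu.1)))
    · have huZ : u ∈ Z := e'.le (mem_sup_left hu)
      refine mem_kStar_of_pi hG hHc hK (e.ge huZ) fun p hp hd => ?_
      by_contra h
      exact (hK'.2.1 p hp (hd.trans (Subgroup.orderOf_dvd_natCard _ hu))).2.2.1 ((hσ' p hp (hdvd u huZ p hp hd)).2 h)
  have hKeq : kStar H' K' = K := by
    refine le_antisymm (fun u hu => ?_) fun u hu => ?_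
    · have huZ : u ∈ Z := e'.le (mem_sup_right hu)
      refine mem_of_compl_elt hG hHc hK (e.ge huZ) fun p hp hd h => ?_
      exact (hσ' p hp (hdvd u huZ p hp hd)).1 (TransHyp.piCoreOf_primes (π := Cfsg.sigma H') (X := H') hp
        (hd.trans (Subgroup.orderOf_dvd_natCard _ hu.1))) h
    · have huZ : u ∈ Z := e.le (mem_sup_left hu)
      refine mem_kStar_of_pi hG hH'c hK' (e'.ge huZ) fun p hp hd => (hσ' p hp (hdvd u huZ p hp hd)).2 ?_
      exact (hK.2.1 p hp (hd.trans (Subgroup.orderOf_dvd_natCard _ hu))).2.2.1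
  refine ⟨H, H', K, K', hHc, hH'c, hne, hK, hK', e, e', hK'eq, hKeq, hprime, ?_, hnf, hall⟩
  haveI := sigmaCore_nilpotent_of_decomp hG hHc hKU hU1
  exact isCyclic_of_kappa hG hK'.1 hK'.2.1
    (hK'eq ▸ Grp.isNilpotent_of_le (inf_le_left : kStar H K ≤ Cfsg.sigmaCore H) inferInstance)

/-- The dual maximal subgroup. -/
theorem kappa_dual {K : Subgroup G} (hK : Cfsg.IsPiHallOf (Cfsg.kappa M) K M) (hK1 : K ≠ ⊥) :
    ∃ Mstar : Subgroup G, IsCoatom Mstar ∧ Mstar ≠ M ∧ Cfsg.IsPiHallOf (Cfsg.kappa Mstar) (kStar M K) Mstar ∧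
      kStar Mstar (kStar M K) = K ∧ IsCyclic K ∧ IsCyclic (kStar M K) ∧
      ((Nat.card K).Prime ∨ (Nat.card (kStar M K)).Prime) ∧
      (IsKappaFull M → (Nat.card (kStar M K)).Prime ∧ ¬ IsKappaFull Mstar) ∧
      ∀ L, ZPartner (K ⊔ kStar M K) L → L = M ∨ L = Mstar := by
  have hZ : ZPartner (K ⊔ kStar M K) M := ⟨hM, K, hK, hK1, rfl⟩
  obtain ⟨H, H', KH, KH', hHc, hH'c, hne, hKH, hKH', e, e', e1, e2, hprime, hcyc, hnf, hall⟩ :=
    two_partners hG hZ
  have hcycP : IsCyclic KH := by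
    haveI := Fact.mk hprime
    exact isCyclic_of_prime_card (p := Nat.card KH) rfl
  rcases hall M hZ with rfl | rfl
  · obtain rfl := hall_eq_of_product hG hM hK hKH e.symm
    exact ⟨H', hH'c, hne.symm, e1 ▸ hKH', by rw [e1, e2], hcycP, e1 ▸ hcyc, Or.inl hprime,
      fun h => absurd h hnf, hall⟩
  · obtain rfl := hall_eq_of_product hG hM hK hKH' e'.symm
    refine ⟨H, hHc, hne, e2.symm ▸ hKH, by rw [e2, e1], hcyc, e2.symm ▸ hcycP, Or.inr (e2.symm ▸ hprime),
      fun _ => ⟨e2.symm ▸ hprime, hnf⟩, fun L hL => (hall L hL).symm⟩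

end Cfsg.Agent.Transfer.Loc
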