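import Cfsg.Agent.Lib.Transfer.Local.PLengthReduce
import Cfsg.Agent.Lib.Transfer.Local.Sigma

/-!
Proper subgroups of a minimal simple group of odd order have `p`-length one.
-/

set_option autoImplicit false
set_option linter.style.haveILetI false
set_option linter.unusedSectionVars false

namespace Cfsg.Agent.Transfer.Loc

open Subgroup
open scoped commutatorElement Pointwise

universe u

variable {G : Type u} [Group G] [Finite G]

theorem pLengthLE_of_derived_nilpotent {p : ℕ} [hp : Fact p.Prime] (h : Group.IsNilpotent (commutator G)) :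
    Cfsg.PLengthLE p 1 G := by
  haveI := h
  haveI := Grp.pPrimeCore_isNormal (p := p) (G := G)
  set Γ := G ⧸ Cfsg.pPrimeCore p G
  haveI : Group.IsNilpotent (commutator Γ) := by
    have e : commutator Γ = (commutator G).map (QuotientGroup.mk' (Cfsg.pPrimeCore p G)) := by
      rw [_root_.commutator_def, _root_.commutator_def, Subgroup.map_commutator,
        Subgroup.map_top_of_surjective _ (QuotientGroup.mk'_surjective _)]
    rw [e]
    exact Grp.isNilpotent_map h _
  haveI := Grp.pCore_isNormal (p := p) (G := Γ)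
  have hF : Cfsg.fittingSubgroup Γ ≤ Cfsg.pCore p Γ := by
    rw [Grp.fittingSubgroup_eq_iSup_pCore]
    refine iSup_le fun q => ?_
    by_cases hq : (q : ℕ) = p
    · rw [hq]
    · haveI := Fact.mk q.2
      obtain ⟨n, hn⟩ := IsPGroup.iff_card.1 (Grp.pCore_isPGroup (p := (q : ℕ)) (G := Γ))
      have h1 : Cfsg.pCore (q : ℕ) Γ ≤ Cfsg.pPrimeCore p Γ := Grp.le_pPrimeCore Grp.pCore_isNormal
        (by rw [hn]; exact Nat.Coprime.pow_left _ ((Nat.coprime_primes q.2 hp.out).2 hq))
      rw [Grp.pPrimeCore_quotient_bot] at h1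
      exact h1.trans bot_le
  obtain ⟨S⟩ : Nonempty (Sylow p Γ) := inferInstance
  haveI : (S : Subgroup Γ).Normal := Subgroup.Normal.of_commutator_le Γ
    ((Grp.le_fittingSubgroup inferInstance inferInstance).trans (hF.trans (Grp.pCore_le_sylow S)))
  have h1 : Cfsg.PLengthLE p 1 Γ := pLengthLE_one_of_normal S.isPGroup' S.not_dvd_index
  simpa using Grp.pLengthLE_extension (Cfsg.pPrimeCore p G) (a := 0) (b := 1)
    (Grp.le_uSer_succ_even Even.zero inferInstance (S := ⊥) bot_le (by
      rw [relIndex_bot_left]; exact Grp.pPrimeCore_not_dvd)) h1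

/-- Under coprime action a solvable subgroup inside the derived subgroup of the semidirect product is a
commutator with its complement. -/
theorem commutator_eq_of_le_derived [Group.IsSolvable G] {A K : Subgroup G} (hKA : K ≤ normalizer (A : Set G))
    (hcop : (Nat.card A).Coprime (Nat.card K)) (h : A ≤ ⁅A ⊔ K, A ⊔ K⁆) : ⁅A, K⁆ = A := by
  have hDA : ⁅A, K⁆ ≤ A := Grp.commutator_le_left_of_le_normalizer hKA
  have hAD : A ≤ normalizer ((⁅A, K⁆ : Subgroup G) : Set G) := Grp.left_le_normalizer_commutator K A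
  have hKD : K ≤ normalizer ((⁅A, K⁆ : Subgroup G) : Set G) := Grp.right_le_normalizer_commutator K A
  set N := ⁅A, A⁆ ⊔ ⁅A, K⁆ with hN
  have hNA : N ≤ A := sup_le A.commutator_le_self hDA
  have hAN : A ≤ normalizer (N : Set G) := Grp.le_normalizer_sup' (Grp.left_le_normalizer_commutator A A) hAD
  have hKN : K ≤ normalizer (N : Set G) := Grp.le_normalizer_sup' (le_normalizer_commutator' hKA hKA) hKD
  have hMN : A ⊔ K ≤ normalizer (N : Set G) := sup_le hAN hKN
  have hcom : ⁅qimg N A, qimg N (A ⊔ K)⁆ = ⊥ := by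
    rw [qimg_sup hAN hKN, commutator_eq_bot_iff_le_centralizer, Transfer.FrobFix.centralizer_sup, le_inf_iff]
    constructor
    · rw [← commutator_eq_bot_iff_le_centralizer, ← qimg_commutator hAN hAN]
      exact (qimg_eq_bot (A.commutator_le_self.trans hAN)).2 le_sup_left
    · rw [← commutator_eq_bot_iff_le_centralizer, ← qimg_commutator hAN hKN]
      exact (qimg_eq_bot (hDA.trans hAN)).2 le_sup_right
  have hder : qimg N A ≤ qimg N K := by
    have h1 : qimg N A ≤ ⁅qimg N (A ⊔ K), qimg N (A ⊔ K)⁆ := (qimg_mono h).trans (qimg_commutator hMN hMN).le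
    refine h1.trans (Subgroup.commutator_le.2 fun x hx y hy => ?_)
    have hc : ∀ a ∈ qimg N A, ∀ z ∈ qimg N (A ⊔ K), a * z = z * a := fun a ha z hz =>
      (mem_centralizer_iff.1 (commutator_eq_bot_iff_le_centralizer.1 hcom ha) z hz).symm
    have hKn : qimg N K ≤ normalizer (qimg N A : Set (Qt N)) := qimg_normalizer hKA
    have hd : ∀ z ∈ qimg N (A ⊔ K), ∃ k ∈ qimg N K, ∃ a ∈ qimg N A, k * a = z := fun z hz => by
      rw [qimg_sup hAN hKN, sup_comm, ← SetLike.mem_coe,
        Subgroup.coe_mul_of_left_le_normalizer_right _ _ hKn] at hz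
      exact hz
    obtain ⟨k, hk, a, ha, rfl⟩ := hd x hx
    obtain ⟨l, hl, b, hb, rfl⟩ := hd y hy
    have e1 : ∀ z ∈ qimg N (A ⊔ K), a * z * a⁻¹ = z := fun z hz => by rw [hc a ha z hz, mul_inv_cancel_right]
    have e2 : ∀ z ∈ qimg N (A ⊔ K), b * z * b⁻¹ = z := fun z hz => by rw [hc b hb z hz, mul_inv_cancel_right]
    have hkl : ⁅k * a, l * b⁆ = ⁅k, l⁆ := by
      calc ⁅k * a, l * b⁆ = k * (a * (l * b) * a⁻¹) * k⁻¹ * (b⁻¹ * l⁻¹) := by rw [commutatorElement_def]; group
        _ = k * l * (b * k⁻¹ * b⁻¹) * l⁻¹ := by rw [e1 _ hy]; group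
        _ = ⁅k, l⁆ := by rw [e2 _ (qimg_mono le_sup_right (Subgroup.inv_mem _ hk)), commutatorElement_def]
    rw [hkl]
    exact comm_le le_rfl le_rfl (commutator_mem_commutator hk hl)
  have hbot : qimg N A = ⊥ := by
    rw [eq_bot_iff, ← Grp.inf_eq_bot_of_coprime (H := qimg N A) (K := qimg N K)
      ((hcop.coprime_dvd_left (card_qimg_dvd hAN)).coprime_dvd_right (card_qimg_dvd hKN))]
    exact le_inf le_rfl hder
  have hAeq : ⁅A, A⁆ ⊔ ⁅A, K⁆ = A := le_antisymm hNA ((qimg_eq_bot hAN).1 hbot)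
  refine le_antisymm hDA ((qimg_eq_bot hAD).1 ?_)
  by_contra hne
  refine (Grp.commutator_lt_self_of_solvable inferInstance hne).ne ?_
  have h2 := congrArg (qimg ⁅A, K⁆) hAeq
  rw [qimg_sup (A.commutator_le_self.trans hAD) le_normalizer, qimg_self, sup_bot_eq, qimg_commutator hAD hAD] at h2
  exact h2

theorem alphaCore_pLength (hG : Cfsg.IsMinSimpleOddOrder G) {M : Subgroup G} (hM : IsCoatom M) (p : ℕ) [Fact p.Prime] :
    Cfsg.PLengthLE p 1 ↥(Cfsg.alphaCore M) := by
  haveI := solvable_of_ne_top hG hM.1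
  obtain ⟨q, hq, hqM, hqσ⟩ : ∃ q : ℕ, q.Prime ∧ q ∣ Nat.card M ∧ q ∉ Cfsg.sigma M := by
    by_contra hno
    push Not at hno
    have hHall := isPiHallOf_piCore hG hM (alpha_subset_sigma hG hM) le_rfl
    have heq : Cfsg.sigmaCore M = M := by
      refine le_antisymm hHall.1 (relIndex_eq_one.1 (Nat.eq_one_iff_not_exists_prime_dvd.2 fun r hr hd => ?_))
      refine hHall.2.2 r hr (hno r hr (hd.trans ⟨_, (Grp.card_mul_relIndex hHall.1).symm.trans (mul_comm _ _)⟩)) hd
    exact (Grp.commutator_lt_self_of_solvable inferInstance (coatom_ne_bot hG hM)).not_ge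
      (heq.ge.trans (sigmaCore_le_derived hG hM))
  haveI := Fact.mk hq
  obtain ⟨P⟩ : Nonempty (Sylow q M) := inferInstance
  obtain ⟨x, hx, hxo, hxZ, -⟩ := exists_central_not_witness hG hM hqM hqσ P
  have hxM : zpowers x ≤ M := zpowers_le.2 (map_subtype_le _ hx.1)
  obtain ⟨K, hK, -, hxK⟩ := Grp.PiHall.exists_ge (π := {s : ℕ | s ∉ Cfsg.alpha M}) _ G ⊥ M (zpowers x) rfl bot_le
    (by simp) inferInstance hxM bot_le (fun s hs hd hsα => hqσ (alpha_subset_sigma hG hM (by
      rw [Nat.card_zpowers, hxo] at hd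
      rwa [(Nat.prime_dvd_prime_iff_eq hs hq).1 hd] at hsα)))
  set A := Cfsg.alphaCore M with hA
  have hHall : Cfsg.IsPiHallOf (Cfsg.alpha M) A M := isPiHallOf_piCore hG hM le_rfl (alpha_subset_sigma hG hM)
  have hKA : K ≤ normalizer (A : Set G) := hK.1.trans (TransHyp.le_normalizer_piCoreOf M)
  have hcop : (Nat.card A).Coprime (Nat.card K) := Nat.coprime_of_dvd fun s hs h1 h2 => hK.2.1 s hs h2 (hHall.2.1 s hs h1)
  have hMeq : M = A ⊔ K := by
    refine (Subgroup.eq_of_le_of_card_ge (sup_le hHall.1 hK.1) ?_).symm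
    rw [sup_comm, Grp.card_sup_coprime hKA hcop.symm, mul_comm (Nat.card K), ← Grp.card_mul_relIndex hHall.1]
    refine Nat.mul_le_mul_left _ (Nat.le_of_dvd Nat.card_pos ?_)
    refine (Nat.coprime_of_dvd fun s hs h1 h2 => ?_).dvd_of_dvd_mul_right (n := K.relIndex M) ?_
    · exact hK.2.2 s hs (fun hsα => hHall.2.2 s hs hsα h1) h2
    · rw [Grp.card_mul_relIndex hK.1]; exact ⟨_, (Grp.card_mul_relIndex hHall.1).symm.trans (mul_comm _ _)⟩
  have hsol : Group.IsSolvable M := inferInstance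
  -- pass to `M`
  set A' := A.subgroupOf M
  set K' := K.subgroupOf M
  have hA'c : Nat.card A' = Nat.card A := Nat.card_congr (subgroupOfEquivOfLe hHall.1).toEquiv
  have hK'c : Nat.card K' = Nat.card K := Nat.card_congr (subgroupOfEquivOfLe hK.1).toEquiv
  have hcomm : ⁅A', K'⁆ = A' := by
    refine commutator_eq_of_le_derived (Grp.PiHall.subgroupOf_le_normalizer M hKA) (by rw [hA'c, hK'c]; exact hcop) ?_
    have h1 : A ≤ ⁅M, M⁆ := (alphaCore_le_sigmaCore hG hM).trans (sigmaCore_le_derived hG hM)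
    rw [← subgroupOf_sup hHall.1 hK.1, ← hMeq, subgroupOf_self]
    intro y hy
    have h2 : (y : G) ∈ Subgroup.map M.subtype ⁅(⊤ : Subgroup M), (⊤ : Subgroup M)⁆ := by
      rw [Subgroup.map_commutator, ← MonoidHom.range_eq_map, range_subtype]; exact h1 hy
    obtain ⟨z, hz, hzy⟩ := h2
    rw [← M.subtype_injective hzy]; exact hz
  have hxK' : (zpowers x).subgroupOf M ≤ K' := comap_mono hxK
  have h := commutator_pLength p q _ M inferInstance (hG.1.of_dvd_nat (card_subgroup_dvd_card M)) A' K'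
    ((zpowers x).subgroupOf M) (Grp.PiHall.subgroupOf_le_normalizer M hKA) (by rw [hA'c, hK'c]; exact hcop) hxK'
    (by rw [Nat.card_congr (subgroupOfEquivOfLe hxM).toEquiv, Nat.card_zpowers, hxo])
    (by
      haveI : IsZGroup ↥(A ⊓ centralizer (zpowers x : Set G)) := by
        rw [← Cfsg.Agent.Grp.centralizer_singleton_eq_zpowers x]; exact hxZ
      have hle : (A' ⊓ centralizer ((zpowers x).subgroupOf M : Set M)).map M.subtype ≤
          A ⊓ centralizer (zpowers x : Set G) := by
        rintro _ ⟨z, hz, rfl⟩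
        exact ⟨hz.1, mem_centralizer_iff.2 fun y hy =>
          congrArg Subtype.val (mem_centralizer_iff.1 hz.2 ⟨y, hxM hy⟩ hy)⟩
      haveI := zgroup_mono hle inferInstance
      exact IsZGroup.of_injective (f := ((A' ⊓ centralizer ((zpowers x).subgroupOf M : Set M)).equivMapOfInjective _
        M.subtype_injective).toMonoidHom) (MulEquiv.injective _))
    (Nat.lt_succ_self _)
  rw [hcomm] at h
  exact Grp.pLengthLE_of_surjective (subgroupOfEquivOfLe hHall.1).toMonoidHom (subgroupOfEquivOfLe hHall.1).surjective h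

theorem coatom_pLength (hG : Cfsg.IsMinSimpleOddOrder G) {M : Subgroup G} (hM : IsCoatom M) (p : ℕ) [hp : Fact p.Prime] :
    Cfsg.PLengthLE p 1 ↥M := by
  haveI := solvable_of_ne_top hG hM.1
  set N := Cfsg.piCore (Cfsg.alpha M) M with hN
  haveI : N.Normal := Cfsg.piCore_normal _ _
  by_cases hpα : p ∈ Cfsg.alpha M
  · have hA := alphaCore_pLength hG hM p
    have e := (N.equivMapOfInjective M.subtype M.subtype_injective).symm
    have h1 : Cfsg.PLengthLE p 1 ↥N := Grp.pLengthLE_of_surjective e.toMonoidHom e.surjective hA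
    have h2 : N ≤ Grp.uSer p ↥M (2 * 1 + 1) := by
      have h3 := Grp.uSer_map_subtype_le (p := p) N (2 * 1 + 1)
      rw [show Grp.uSer p (↥N) (2 * 1 + 1) = ⊤ from h1, ← MonoidHom.range_eq_map, range_subtype] at h3
      exact h3
    have h0 : Cfsg.PLengthLE p 0 (↥M ⧸ N) := by
      show Grp.uSer p (↥M ⧸ N) (2 * 0 + 1) = ⊤
      refine top_le_iff.1 (Grp.le_uSer_succ_even Even.zero inferInstance (S := ⊥) bot_le fun hd => ?_)
      rw [relIndex_bot_left, Subgroup.card_top, ← Subgroup.index_eq_card] at hd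
      have h3 := (isPiHallOf_piCore hG hM le_rfl (alpha_subset_sigma hG hM)).2.2 p hp.out hpα
      rw [show Cfsg.piCoreOf (Cfsg.alpha M) M = N.map M.subtype from rfl, Subgroup.relIndex, Subgroup.subgroupOf,
        comap_map_eq_self_of_injective M.subtype_injective] at h3
      exact h3 hd
    simpa using Grp.pLengthLE_extension N (a := 1) (b := 0) h2 h0
  · have h1 : Cfsg.PLengthLE p 1 (↥M ⧸ N) :=
      pLengthLE_of_derived_nilpotent (derived_quotient_nilpotent hG hM le_rfl)
    simpa using Grp.pLengthLE_extension N (a := 0) (b := 1) (Grp.le_uSer_succ_even Even.zero inferInstance (S := ⊥) bot_le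
      (by rw [relIndex_bot_left]; exact fun hd => hpα (TransHyp.piCore_primes hp.out hd))) h1

theorem proper_pLength (hG : Cfsg.IsMinSimpleOddOrder G) (p : ℕ) [Fact p.Prime] {H : Subgroup G} (hH : H ≠ ⊤) :
    Cfsg.PLengthLE p 1 ↥H := by
  obtain ⟨M, hM, hHM⟩ := exists_coatom hG hH
  exact Grp.pLengthLE_of_surjective (subgroupOfEquivOfLe hHM).toMonoidHom (subgroupOfEquivOfLe hHM).surjective
    (Grp.pLengthLE_subgroup (H.subgroupOf M) (coatom_pLength hG hM p))

end Cfsg.Agent.Transfer.Loc
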