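import Cfsg.Agent.Lib.Transfer.Local.Narrow
import Cfsg.Agent.Lib.Transfer.Local.MaxPLength
import Cfsg.Agent.Lib.Transfer.NormalComplement
import Cfsg.Agent.Lib.Transfer.CN.Basic
import Cfsg.Agent.S1455

/-!
The primes of `β(M)`: the Hall subgroup `M_β` and nilpotency of the `β'`-parts of `M'`.
-/

set_option autoImplicit false
set_option linter.style.haveILetI false
set_option linter.unusedSectionVars false

namespace Cfsg.Agent.Transfer.Loc

open Subgroup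
open scoped commutatorElement Pointwise

universe u

variable {G : Type u} [Group G] [Finite G] (hG : Cfsg.IsMinSimpleOddOrder G) {M : Subgroup G} (hM : IsCoatom M)
include hG hM

omit [Finite G] hG hM in
theorem derived_eq_map (M : Subgroup G) : ⁅M, M⁆ = (commutator M).map M.subtype := by
  rw [_root_.commutator_def, Subgroup.map_commutator, ← MonoidHom.range_eq_map, Subgroup.range_subtype]

theorem derived_facts {p : ℕ} [hp : Fact p.Prime] (hpM : p ∣ Nat.card M) (hβ : p ∉ Cfsg.beta M) :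
    Cfsg.HasNormalPComplement p ↥⁅M, M⁆ ∧ ∀ q : ℕ, q.Prime → q ∣ (Cfsg.pPrimeCore p ↥M).index → q ≤ p := by
  haveI := solvable_of_ne_top hG hM.1
  obtain ⟨S⟩ : Nonempty (Sylow p M) := inferInstance
  obtain ⟨h1, -, h2, -, -⟩ := Cfsg.Agent.S1455.result (G := M) (hG.1.of_dvd_nat (card_subgroup_dvd_card M)) p hpM S
    (sylow_narrow hG hM hpM hβ S) fun _ => coatom_pLength hG hM p
  refine ⟨?_, h1⟩
  rw [derived_eq_map M]
  exact hasNormalPComplement_of_surjective ((commutator M).equivMapOfInjective M.subtype M.subtype_injective).toMonoidHom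
    (MulEquiv.surjective _) h2

/-- `O_{p'}(M')` has `p`-power index for `p ∉ β(M)`. -/
theorem index_core_derived {p : ℕ} [hp : Fact p.Prime] (hpM : p ∣ Nat.card M) (hβ : p ∉ Cfsg.beta M) :
    ∃ k, (Cfsg.pPrimeCore p ↥⁅M, M⁆).index = p ^ k := by
  obtain ⟨N, hN, hNd, k, hk⟩ := hasNormalPComplement_iff_exists.1 (derived_facts hG hM hpM hβ).1
  have hle : N ≤ Cfsg.pPrimeCore p ↥⁅M, M⁆ :=
    Grp.le_pPrimeCore hN (hp.out.coprime_iff_not_dvd.2 hNd).symm
  obtain ⟨j, -, hj⟩ := (Nat.dvd_prime_pow hp.out).1 (hk ▸ Subgroup.index_dvd_of_le hle)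
  exact ⟨j, hj⟩

/-- The intersection of the `p'`-cores of `M'`, for `p ∉ β(M)`. -/
theorem exists_beta_part :
    ∃ K : Subgroup ↥⁅M, M⁆, K ≤ Cfsg.piCore (Cfsg.beta M) ↥⁅M, M⁆ ∧
      (∀ x : ↥⁅M, M⁆, (∀ q : ℕ, q.Prime → q ∣ orderOf x → q ∈ Cfsg.beta M) → x ∈ K) ∧
      ∀ H : Subgroup ↥⁅M, M⁆, H ⊓ K = ⊥ → Group.IsNilpotent H := by
  classical
  set D := ⁅M, M⁆ with hD
  have hDM : D ≤ M := M.commutator_le_self
  let I := {p : Nat.Primes // (p : ℕ) ∣ Nat.card M ∧ (p : ℕ) ∉ Cfsg.beta M}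
  haveI : Finite I := by
    refine Finite.of_injective (fun i : I => (⟨(i.1 : ℕ), Nat.lt_succ_of_le (Nat.le_of_dvd Nat.card_pos i.2.1)⟩ :
      Fin (Nat.card M + 1))) ?_
    intro i j h
    have := congrArg Fin.val h
    exact Subtype.ext (Subtype.ext this)
  set K := ⨅ i : I, Cfsg.pPrimeCore (i.1 : ℕ) ↥D with hK
  haveI hKn : K.Normal := Subgroup.normal_iInf_normal fun i => Grp.pPrimeCore_isNormal
  refine ⟨K, ?_, ?_, ?_⟩
  · refine le_sSup ⟨hKn, fun q hq hd => ?_⟩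
    by_contra hqβ
    have hqM : q ∣ Nat.card M := hd.trans ((card_subgroup_dvd_card K).trans (card_dvd_of_le hDM))
    haveI := Fact.mk hq
    exact Grp.pPrimeCore_not_dvd (p := q) (G := ↥D)
      (hd.trans (card_dvd_of_le (iInf_le (fun i : I => Cfsg.pPrimeCore (i.1 : ℕ) ↥D) ⟨⟨q, hq⟩, hqM, hqβ⟩)))
  · intro x hx
    refine mem_iInf.2 fun i => ?_
    haveI := Fact.mk i.1.2
    haveI := Grp.pPrimeCore_isNormal (p := (i.1 : ℕ)) (G := ↥D)
    obtain ⟨k, hk⟩ := index_core_derived hG hM i.2.1 i.2.2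
    refine Grp.le_of_coprime_index ?_ (mem_zpowers x)
    rw [Nat.card_zpowers, hk]
    refine Nat.Coprime.pow_right k ((i.1.2.coprime_iff_not_dvd.2 fun hd => i.2.2 (hx _ i.1.2 hd)).symm)
  · intro H hH
    haveI : ∀ i : I, (Cfsg.pPrimeCore (i.1 : ℕ) ↥D).Normal := fun i => Grp.pPrimeCore_isNormal
    haveI : ∀ i : I, Group.IsNilpotent (↥D ⧸ Cfsg.pPrimeCore (i.1 : ℕ) ↥D) := fun i => by
      haveI := Fact.mk i.1.2
      obtain ⟨k, hk⟩ := index_core_derived hG hM i.2.1 i.2.2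
      exact (IsPGroup.of_card (n := k) (by rw [← hk, Subgroup.index_eq_card]) :
        IsPGroup (i.1 : ℕ) (↥D ⧸ Cfsg.pPrimeCore (i.1 : ℕ) ↥D)).isNilpotent
    letI := Fintype.ofFinite I
    refine Transfer.CN.isNilpotent_of_injective
      ((MonoidHom.mk' (fun y : ↥D => fun i : I => QuotientGroup.mk' (Cfsg.pPrimeCore (i.1 : ℕ) ↥D) y)
        fun a b => funext fun i => map_mul _ a b).comp H.subtype) ?_ inferInstance
    rw [injective_iff_map_eq_one]
    intro y hy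
    have h1 : (y : ↥D) ∈ H ⊓ K := ⟨y.2, mem_iInf.2 fun i => (QuotientGroup.eq_one_iff _).1 (congrFun hy i)⟩
    rw [hH, mem_bot] at h1
    exact Subtype.ext h1

omit hG hM in
theorem beta_subset : Cfsg.beta M ⊆ Cfsg.alpha M := fun _ h => h.1

/-- A subgroup of `M'` of order prime to `β(M)` is nilpotent. -/
theorem beta_nilpotent {H : Subgroup G} (hH : H ≤ ⁅M, M⁆)
    (hHβ : ∀ q : ℕ, q.Prime → q ∣ Nat.card H → q ∉ Cfsg.beta M) : Group.IsNilpotent H := by
  obtain ⟨K, hKπ, -, hnil⟩ := exists_beta_part hG hM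
  have h1 : Group.IsNilpotent (H.subgroupOf ⁅M, M⁆) := by
    refine hnil _ (Grp.inf_eq_bot_of_coprime (Nat.coprime_of_dvd fun q hq h1 h2 => ?_))
    rw [Nat.card_congr (subgroupOfEquivOfLe hH).toEquiv] at h1
    exact hHβ q hq h1 (TransHyp.piCore_primes hq (h2.trans (card_dvd_of_le hKπ)))
  exact Transfer.CN.isNilpotent_of_injective (subgroupOfEquivOfLe hH).symm.toMonoidHom (MulEquiv.injective _) h1

/-- `M_β` contains the Sylow subgroups for the primes of `β(M)`. -/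
theorem sylow_le_beta {q : ℕ} [hq : Fact q.Prime] (hqβ : q ∈ Cfsg.beta M) {S : Subgroup G} (hS : Grp.IsSylowIn q S M) :
    S ≤ Cfsg.piCoreOf (Cfsg.beta M) M := by
  have hSD := sylow_le_derived hG hM (alpha_subset_sigma hG hM hqβ.1) hS
  obtain ⟨K, hKπ, hmem, -⟩ := exists_beta_part hG hM
  have hle : S ≤ Cfsg.piCoreOf (Cfsg.beta M) ⁅M, M⁆ := by
    intro x hx
    refine ⟨⟨x, hSD hx⟩, hKπ (hmem _ fun s hs hd => ?_), rfl⟩
    obtain ⟨n, hn⟩ := IsPGroup.iff_orderOf.1 hS.2.1 ⟨x, hx⟩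
    rw [Subgroup.orderOf_mk] at hd hn
    rwa [(Nat.prime_dvd_prime_iff_eq hs hq.out).1 (hs.dvd_of_dvd_pow (hn ▸ hd))]
  refine hle.trans (TransHyp.le_piCoreOf ((TransHyp.piCoreOf_le _).trans M.commutator_le_self) ?_
    fun r hr hd => TransHyp.piCoreOf_primes (π := Cfsg.beta M) (X := ⁅M, M⁆) hr hd)
  exact le_normalizer_core (Grp.left_le_normalizer_commutator M M)

theorem isPiHallOf_beta : Cfsg.IsPiHallOf (Cfsg.beta M) (Cfsg.piCoreOf (Cfsg.beta M) M) M ∧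
    Cfsg.IsPiHall (Cfsg.beta M) (Cfsg.piCoreOf (Cfsg.beta M) M) := by
  refine ⟨⟨TransHyp.piCoreOf_le M, fun r hr hd => TransHyp.piCoreOf_primes hr hd, fun r hr hrπ hd => ?_⟩,
    fun r hr hd => TransHyp.piCoreOf_primes hr hd, fun r hr hrπ hd => ?_⟩
  · haveI := Fact.mk hr
    obtain ⟨S, hS⟩ := Grp.exists_isSylowIn r M
    exact hS.2.2 (hd.trans (relIndex_dvd_of_le_left M (sylow_le_beta hG hM hrπ hS)))
  · haveI := Fact.mk hr
    obtain ⟨S, hS⟩ := Grp.exists_isSylowIn r M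
    exact (sigma_sylow hG hM (alpha_subset_sigma hG hM hrπ.1) hS).2
      (hd.trans (index_dvd_of_le (sylow_le_beta hG hM hrπ hS)))

end Cfsg.Agent.Transfer.Loc
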