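import Cfsg.Agent.Lib.Transfer.Local.FittingHall
import Cfsg.Agent.Lib.Transfer.Local.FrobAction
import Cfsg.Agent.Lib.Transfer.Local.KappaDual
import Cfsg.Agent.S1414
import Cfsg.Agent.S1426
import Cfsg.Agent.S1445
import Cfsg.Agent.S1446

/-!
The structure of a non-nilpotent `M_σ`.
-/

set_option autoImplicit false
set_option linter.style.haveILetI false
set_option linter.unusedSectionVars false
set_option maxHeartbeats 2000000

namespace Cfsg.Agent.Transfer.Loc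

open Subgroup
open scoped commutatorElement Pointwise

universe u

variable {G : Type u} [Group G] [Finite G]

theorem le_fittingOf {X N : Subgroup G} (hN : N ≤ X) (hX : X ≤ normalizer (N : Set G)) (hnil : Group.IsNilpotent N) :
    N ≤ Cfsg.fittingOf X := by
  rw [← Subgroup.map_subgroupOf_eq_of_le hN]
  exact map_mono (Grp.le_fittingSubgroup ((normal_subgroupOf_iff_le_normalizer hN).2 hX)
    (Group.nilpotent_of_mulEquiv (subgroupOfEquivOfLe hN).symm))

theorem nilpotent_sup_of_centralize {A B : Subgroup G} (hA : Group.IsNilpotent A) (hB : Group.IsNilpotent B)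
    (h : A ≤ centralizer (B : Set G)) : Group.IsNilpotent ↥(A ⊔ B) := by
  set X := A ⊔ B
  haveI : (A.subgroupOf X).Normal := (normal_subgroupOf_iff_le_normalizer le_sup_left).2
    (sup_le le_normalizer ((le_centralizer_iff.1 h).trans (centralizer_le_normalizer _)))
  haveI : (B.subgroupOf X).Normal := (normal_subgroupOf_iff_le_normalizer le_sup_right).2
    (sup_le (h.trans (centralizer_le_normalizer _)) le_normalizer)
  have h1 := Grp.isNilpotent_sup_normal (A.subgroupOf X) (B.subgroupOf X)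
    (Group.nilpotent_of_mulEquiv (subgroupOfEquivOfLe (le_sup_left : A ≤ X)).symm)
    (Group.nilpotent_of_mulEquiv (subgroupOfEquivOfLe (le_sup_right : B ≤ X)).symm)
  rw [← Subgroup.subgroupOf_sup le_sup_left le_sup_right, Subgroup.subgroupOf_self] at h1
  exact Group.nilpotent_of_mulEquiv Subgroup.topEquiv

variable (hG : Cfsg.IsMinSimpleOddOrder G) {M : Subgroup G} (hM : IsCoatom M)
include hG hM

/-- `M' ≤ U M_σ`. -/
theorem derived_le_of_decomp {K U : Subgroup G} (hKU : Cfsg.IsSigmaDecomposition M K U) :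
    ⁅M, M⁆ ≤ U ⊔ Cfsg.sigmaCore M := by
  obtain ⟨hE', -, -⟩ := decomp_compl hG hM hKU
  set W := U ⊔ Cfsg.sigmaCore M
  have hMN : M ≤ normalizer (Cfsg.sigmaCore M : Set G) := TransHyp.le_normalizer_piCoreOf M
  have hWM : W ≤ M := sup_le hKU.compl.1 hE'.2.1
  have hMW : M ≤ normalizer (W : Set G) :=
    (compl_sup hE').ge.trans (sup_le (sup_le (le_sup_left.trans le_normalizer)
      (Grp.le_normalizer_sup' hKU.normal (hKU.hall.1.trans hMN))) (le_sup_right.trans le_normalizer))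
  have hWK : W ⊔ K = M := le_antisymm (sup_le hWM hKU.hall.1)
    ((compl_sup hE').ge.trans (sup_le (sup_le (le_sup_left.trans le_sup_left) le_sup_right)
      (le_sup_right.trans le_sup_left)))
  have hKN : K ≤ normalizer (W : Set G) := hKU.hall.1.trans hMW
  rw [← qimg_eq_bot (N := W) (commutator_le.2 fun a ha b hb =>
    hMW (mul_mem (mul_mem (mul_mem ha hb) (inv_mem ha)) (inv_mem hb))), qimg_commutator hMW hMW]
  rw [← hWK, qimg_sup le_normalizer hKN, qimg_self, bot_sup_eq, ← qimg_commutator hKN hKN]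
  haveI := hKU.cyclic
  letI : CommGroup K := IsCyclic.commGroup
  have hK : ⁅K, K⁆ = ⊥ := commutator_eq_bot_iff_le_centralizer.2 fun a ha => mem_centralizer_iff.2 fun b hb =>
    congrArg Subtype.val (mul_comm (⟨b, hb⟩ : K) ⟨a, ha⟩)
  rw [hK]
  exact (qimg_eq_bot bot_le).2 bot_le

/-- The structure when `M_σ` is not nilpotent. -/
theorem sigmaCore_structure {K U : Subgroup G} (hKU : Cfsg.IsSigmaDecomposition M K U)
    (hnil : ¬ Group.IsNilpotent (Cfsg.sigmaCore M)) :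
    U = ⊥ ∧ K ≠ ⊥ ∧ Cfsg.sigmaCore M = ⁅M, M⁆ ∧ (Nat.card K).Prime ∧ (Nat.card (kStar M K)).Prime ∧
      Nat.card (kStar M K) ∈ Cfsg.beta M ∧
      ∃ Q : Subgroup G, Grp.IsSylowIn (Nat.card (kStar M K)) Q (Cfsg.sigmaCore M) ∧ M ≤ normalizer (Q : Set G) ∧
        Q ≤ Cfsg.fittingHallOf M ∧ Nat.card (kStar M K) ∣ Nat.card Q ∧ Group.IsNilpotent (qimg Q (Cfsg.sigmaCore M)) ∧
        ∀ D : Subgroup G, Cfsg.IsComplIn Q D (Cfsg.sigmaCore M) →
          Group.IsNilpotent D ∧ M ≤ normalizer ((Q ⊓ centralizer (D : Set G) : Subgroup G) : Set G) ∧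
          Q ⊓ centralizer (D : Set G) < Q ∧
          Nat.card Q = Nat.card ↥(Q ⊓ centralizer (D : Set G)) * Nat.card (kStar M K) ^ Nat.card K ∧
          (∀ a ∈ Q, ∀ b ∈ Q, a ^ Nat.card (kStar M K) ∈ Q ⊓ centralizer (D : Set G) ∧
            a * b * a⁻¹ * b⁻¹ ∈ Q ⊓ centralizer (D : Set G)) ∧
          (∀ N : Subgroup G, Q ⊓ centralizer (D : Set G) < N → N < Q → ¬ M ≤ normalizer (N : Set G)) ∧
          ⁅D, D⁆ ≤ centralizer (Q : Set G) := by
  haveI := solvable_of_ne_top hG hM.1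
  set S := Cfsg.sigmaCore M with hSdef
  have hSM : S ≤ M := TransHyp.piCoreOf_le M
  have hMS : M ≤ normalizer (S : Set G) := TransHyp.le_normalizer_piCoreOf M
  haveI := isSolvable_of_le hSM
  -- the kappa part
  have hU : U = ⊥ := by
    by_contra hU
    exact hnil (sigmaCore_nilpotent_of_decomp hG hM hKU hU)
  have hK1 : K ≠ ⊥ := fun e => hnil (sigmaCore_nilpotent_of_kappa_empty hG hM (Set.eq_empty_iff_forall_notMem.2
    fun p hp => hKU.hall.2.2 p hp.1 hp (by rw [e, Subgroup.relIndex_bot_left]; exact hp.2.1)))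
  have hMK : S ⊔ K = M := by
    obtain ⟨hE', -, -⟩ := decomp_compl hG hM hKU
    have h := compl_sup hE'
    rwa [hU, bot_sup_eq, sup_comm] at h
  have hder : S = ⁅M, M⁆ := le_antisymm (sigmaCore_le_derived hG hM)
    ((derived_le_of_decomp hG hM hKU).trans (by rw [hU, bot_sup_eq]))
  obtain ⟨hE', hcK, -⟩ := decomp_compl hG hM hKU
  have hfull : IsKappaFull M := fun p hp hd hσ => by
    refine hKU.hall.2.1 p hp ?_
    rw [← compl_card hE', hcK, hU, Subgroup.card_bot, one_mul] at hd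
    exact (hp.dvd_mul.1 hd).resolve_right fun h =>
      hσ (TransHyp.piCoreOf_primes (π := Cfsg.sigma M) (X := M) hp h)
  obtain ⟨Ms, -, -, -, -, -, -, -, hfull', -⟩ := kappa_dual hG hM hKU.hall hK1
  have hqp := (hfull' hfull).1
  set q := Nat.card (kStar M K) with hq
  haveI := Fact.mk hqp
  set Ks := kStar M K
  have hcop : (Nat.card K).Coprime (Nat.card S) := (kStar_facts hG hM hKU.hall).2.2.2.1
  have hqσ : q ∈ Cfsg.sigma M := TransHyp.piCoreOf_primes (π := Cfsg.sigma M) (X := M) hqp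
    (card_dvd_of_le (inf_le_left : Ks ≤ S))
  obtain ⟨k, hk, hk1⟩ := (bot_or_exists_ne_one K).resolve_left hK1
  obtain ⟨p, _, b, hbk, hbo, hbc, hpd⟩ := exists_prime_zpowers_le hk1
  have hbK : b ∈ K := (zpowers_le.2 hk) hbk
  have hb1 : b ≠ 1 := fun e => (Fact.out (p := p.Prime)).ne_one (by rw [← hbo, e, orderOf_one])
  have hbp : b ^ p = 1 := by rw [← hbo, pow_orderOf_eq_one]
  have hbM : b ∈ M := hKU.hall.1 hbK
  have hbS : (orderOf b).Coprime (Nat.card S) := hcop.coprime_dvd_left (Subgroup.orderOf_dvd_natCard _ hbK)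
  have hprime := (Cfsg.Agent.S1430.result hG M hM K hKU.hall hK1).1
  have hfixb : S ⊓ centralizer ({b} : Set G) = Ks := hprime b hbK hb1
  have hKsp : IsPGroup q Ks := IsPGroup.of_card (n := 1) (by rw [pow_one])
  -- the Fitting subgroup
  set F := Cfsg.fittingOf S with hFdef
  have hFS : F ≤ S := fittingOf_le S
  have hO : ∀ r : ℕ, M ≤ normalizer (O r S : Set G) := fun r => le_normalizer_core hMS
  have hMF : M ≤ normalizer (F : Set G) := fun m hm => by
    rw [hFdef, fittingOf_eq, Grp.mem_normalizer_iff_smul, ← Grp.map_conj_eq_smul, Subgroup.map_iSup]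
    refine iSup_congr fun r => ?_
    rw [Grp.map_conj_eq_smul]
    exact Grp.mem_normalizer_iff_smul.1 (hO r hm)
  have hKsF : Ks ≤ F := by
    by_contra hle
    refine hnil ?_
    haveI : (S.subgroupOf M).Normal := (normal_subgroupOf_iff_le_normalizer hSM).2 hMS
    have hmap : (Cfsg.fittingOf (S.subgroupOf M)).map M.subtype ≤ F := by
      refine le_fittingOf ?_ ?_ (Grp.isNilpotent_map (fittingOf_isNilpotent _) _)
      · exact (map_mono (fittingOf_le _)).trans (Subgroup.map_subgroupOf_eq_of_le hSM).le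
      · intro s hs
        have h1 := le_normalizer_fittingOf (S.subgroupOf M) (show (⟨s, hSM hs⟩ : M) ∈ S.subgroupOf M from hs)
        exact Subgroup.le_normalizer_map M.subtype ⟨_, h1, rfl⟩
    have hcard : ∀ P : Subgroup G, P ≤ M → Nat.card (P.subgroupOf M) = Nat.card P :=
      fun P hP => Nat.card_congr (subgroupOfEquivOfLe hP).toEquiv
    have hcen : ∀ (x : G) (m : M), (m : G) ∈ centralizer ({x} : Set G) → ∀ hx : x ∈ M,
        m ∈ centralizer ({⟨x, hx⟩} : Set M) := fun x m h hx =>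
      mem_centralizer_singleton_iff.2 (Subtype.ext (mem_centralizer_singleton_iff.1 h))
    have hres := Cfsg.Agent.S1445.result (G := M) (Odd.of_dvd_nat hG.1 (card_subgroup_dvd_card M)) (S.subgroupOf M)
      (K.subgroupOf M) (by rw [← Subgroup.subgroupOf_sup hSM hKU.hall.1, hMK, Subgroup.subgroupOf_self])
      (by rw [hcard S hSM, hcard K hKU.hall.1]; exact hcop.symm) (fun x hx hx1 => ?_) ?_
    · have h1 := map_mono (f := M.subtype) hres
      rw [map_commutator, Subgroup.map_subgroupOf_eq_of_le hSM, Subgroup.map_subgroupOf_eq_of_le hKU.hall.1] at h1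
      have h2 : Cfsg.IsComplIn K S M := by
        have := hE'
        rwa [hU, bot_sup_eq] at this
      rw [(Cfsg.Agent.S1426.result hG M hM K h2).2.1] at h1
      haveI := fittingOf_isNilpotent S
      exact Grp.isNilpotent_of_le (h1.trans hmap) inferInstance
    · refine le_antisymm (fun m hm => ?_) (inf_le_inf_left _ (centralizer_le (Set.singleton_subset_iff.2 hx)))
      have h1 : (m : G) ∈ Ks := (hprime x hx fun e => hx1 (Subtype.ext e)).le ⟨hm.1, mem_centralizer_singleton_iff.2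
        (congrArg Subtype.val (mem_centralizer_singleton_iff.1 hm.2))⟩
      exact ⟨hm.1, mem_centralizer_iff.2 fun c hc => Subtype.ext (mem_centralizer_iff.1 h1.2 c hc)⟩
    · refine eq_bot_iff.2 fun m hm => ?_
      have h1 : (m : G) ∈ F ⊓ centralizer (K : Set G) := ⟨hmap ⟨m, hm.1, rfl⟩, mem_centralizer_iff.2 fun c hc =>
        congrArg Subtype.val (mem_centralizer_iff.1 hm.2 ⟨c, hKU.hall.1 hc⟩ hc)⟩
      have h2 : (m : G) ∈ F ⊓ Ks := ⟨h1.1, hFS h1.1, h1.2⟩
      have hbot : F ⊓ Ks = ⊥ := by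
        rcases (Nat.dvd_prime hqp).1 (hq ▸ card_dvd_of_le (inf_le_right : F ⊓ Ks ≤ Ks)) with h | h
        · exact Subgroup.card_eq_one.1 h
        · exact absurd (((Subgroup.eq_of_le_of_card_ge inf_le_right h.ge).ge.trans inf_le_left)) hle
      rw [hbot, mem_bot] at h2
      exact mem_bot.2 (Subtype.ext h2)
  -- the Sylow subgroup Q
  obtain ⟨Q, hQ, hKQ⟩ := Grp.exists_invariant_sylow K S (hKU.hall.1.trans hMS) hcop (Or.inr inferInstance) q
  have hKsO : Ks ≤ O q S := fun x hx => by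
    obtain ⟨i, hi⟩ := hKsp ⟨x, hx⟩
    exact mem_O_of_mem_fittingOf (hKsF hx) (by simpa using congrArg Subtype.val hi)
  have hOQ : O q S ≤ Q := by
    have h1 := hQ.eq_of_le le_sup_right (sup_le (O_le q S) hQ.1)
      ((O_isPGroup q S).to_sup_of_normal_left' hQ.2.1 (hQ.1.trans (le_normalizer_core' S)))
    exact le_sup_left.trans h1.ge
  have hKsQ : Ks ≤ Q := hKsO.trans hOQ
  have hQcen : ∀ r : ℕ, ∀ [Fact r.Prime], r ≠ q → Q ≤ centralizer (O r S : Set G) := by
    intro r _ hr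
    set R := O r S
    have hRS : R ≤ S := O_le r S
    set C := Q ⊓ centralizer (R : Set G)
    have hQR : Q ≤ normalizer (R : Set G) := (hQ.1.trans hSM).trans (hO r)
    have hRC : R ≤ centralizer (C : Set G) := le_centralizer_iff.1 inf_le_right
    have hCW : Q ⊔ R ≤ normalizer (C : Set G) := sup_le
      (Grp.le_normalizer_inf' le_normalizer (hQR.trans (normalizer_le_normalizer_cent _)))
      (hRC.trans (centralizer_le_normalizer _))
    have hbC : b ∈ normalizer (C : Set G) := (Grp.le_normalizer_inf' (zpowers_le.2 (hKQ hbK))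
      ((zpowers_le.2 (hO r hbM)).trans (normalizer_le_normalizer_cent _))) (mem_zpowers b)
    have hQRcop : (Nat.card Q).Coprime (Nat.card R) := by
      obtain ⟨i, hi⟩ := IsPGroup.iff_card.1 hQ.2.1
      obtain ⟨j, hj⟩ := IsPGroup.iff_card.1 (O_isPGroup r S)
      rw [hi, hj]
      exact Nat.Coprime.pow _ _ ((Nat.coprime_primes hqp Fact.out).2 (Ne.symm hr))
    have hKsR : Ks ≤ centralizer (R : Set G) := fun x hx => mem_centralizer_iff.2 fun y hy =>
      TypeP.commute_of_coprime_orderOf (fittingOf_isNilpotent S) (O_le_fittingOf S hy) (hKsF hx)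
        ((hQRcop.symm.coprime_dvd_left (Subgroup.orderOf_dvd_natCard _ hy)).coprime_dvd_right
          (Subgroup.orderOf_dvd_natCard _ (hKsQ hx)))
    have hn := nilpotent_qimg_of_fixed hbp (N := C) (K := Q ⊔ R) (inf_le_left.trans le_sup_left) hCW hbC
      ((Grp.le_normalizer_sup' (zpowers_le.2 (hKQ hbK)) (zpowers_le.2 (hO r hbM))) (mem_zpowers b))
      (hbS.coprime_dvd_right (card_dvd_of_le (sup_le hQ.1 hRS)))
      (fun x hx => ⟨hKsQ (hfixb.le ⟨(sup_le hQ.1 hRS) hx.1, hx.2⟩), hKsR (hfixb.le ⟨(sup_le hQ.1 hRS) hx.1, hx.2⟩)⟩)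
    have h1 := commutator_le_of_nilpotent_qimg hCW hn le_sup_left le_sup_right hQRcop
    refine commutator_eq_bot_iff_le_centralizer.1 (le_bot_iff.1 ?_)
    exact (le_inf (h1.trans inf_le_left) (Subgroup.le_normalizer_iff_commutator_le_right.1 hQR)).trans
      (Grp.inf_eq_bot_of_coprime hQRcop).le
  have hFQ : F ≤ normalizer (Q : Set G) := by
    rw [hFdef, fittingOf_eq]
    refine iSup_le fun r => ?_
    haveI : Fact (r : ℕ).Prime := ⟨r.2⟩
    by_cases hr : (r : ℕ) = q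
    · rw [hr]; exact hOQ.trans le_normalizer
    · exact (le_centralizer_iff.1 (hQcen r hr)).trans (centralizer_le_normalizer _)
  have hSQ : S ≤ normalizer (Q : Set G) := by
    have hSF : S ≤ normalizer (F : Set G) := hSM.trans hMF
    have hnF := nilpotent_qimg_of_fixed hbp hFS hSF (hMF hbM) (hMS hbM) hbS (hfixb.le.trans hKsF)
    have hW : F ⊔ Q ≤ S := sup_le hFS hQ.1
    have hWN : F ⊔ Q ≤ normalizer (F : Set G) := hW.trans hSF
    have hsyl : Grp.IsSylowIn q (qimg F Q) (qimg F S) := by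
      refine ⟨qimg_mono hQ.1, qimg_isPGroup (hQ.1.trans hSF) hQ.2.1, fun hd => hQ.2.2 ?_⟩
      have e1 : qimg F (F ⊔ Q) = qimg F Q := by
        rw [qimg_sup le_normalizer (hQ.1.trans hSF), qimg_self, bot_sup_eq]
      have h1 := card_qimg (le_sup_left : F ≤ F ⊔ Q) hWN
      have h2 := card_qimg hFS hSF
      rw [e1] at h1
      have e2 : (qimg F Q).relIndex (qimg F S) = (F ⊔ Q).relIndex S :=
        Nat.eq_of_mul_eq_mul_left (Nat.card_pos (α := ↥(F ⊔ Q))) (by
          rw [Grp.card_mul_relIndex hW]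
          conv_lhs => rw [← h1, mul_assoc, Grp.card_mul_relIndex (qimg_mono hQ.1)]
          exact h2)
      rw [e2] at hd
      exact hd.trans (relIndex_dvd_of_le_left _ le_sup_right)
    have hnorm : qimg F S ≤ normalizer (qimg F Q : Set (Qt F)) :=
      le_normalizer.trans (normalizer_le_sylow hnF hsyl)
    have hWn : S ≤ normalizer ((F ⊔ Q : Subgroup G) : Set G) := by
      have h1 := qpre_normalizer hSF hnorm
      have e : qpre F (qimg F Q) = F ⊔ Q := by
        refine le_antisymm (qpre_le le_sup_left (qimg_mono le_sup_right)) (sup_le (le_qpre _) ?_)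
        exact (le_qpre_iff (hQ.1.trans hSF)).2 le_rfl
      rwa [e] at h1
    intro s hs
    have hs' : MulAut.conj s • (F ⊔ Q) = F ⊔ Q := Grp.mem_normalizer_iff_smul.1 (hWn hs)
    have hQW : Grp.IsSylowIn q Q (F ⊔ Q) := ⟨le_sup_right, hQ.2.1, fun hd => hQ.2.2
      (hd.trans (Dvd.intro _ (Subgroup.relIndex_mul_relIndex Q (F ⊔ Q) S le_sup_right hW)))⟩
    obtain ⟨w, hw, e⟩ := hQW.conj (hQW.smul hs')
    have hwQ : MulAut.conj w • Q = Q :=
      Grp.mem_normalizer_iff_smul.1 ((sup_le hFQ le_normalizer : F ⊔ Q ≤ normalizer (Q : Set G)) hw)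
    rw [Grp.mem_normalizer_iff_smul, ← e, hwQ]
  have hMQ : M ≤ normalizer (Q : Set G) := hMK.ge.trans (sup_le hSQ hKQ)
  have hQM : Q ≤ M := hQ.1.trans hSM
  have hQH : Q ≤ Cfsg.fittingHallOf M := by
    refine le_fittingHallOf hQM hMQ hQ.2.1.isNilpotent ?_
    obtain ⟨i, hi⟩ := IsPGroup.iff_card.1 hQ.2.1
    rw [hi]
    refine Nat.Coprime.pow_left _ ((hqp.coprime_iff_not_dvd).2 fun hd => ?_)
    rw [← Subgroup.relIndex_mul_relIndex Q S M hQ.1 hSM] at hd
    exact (hqp.dvd_mul.1 hd).elim hQ.2.2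
      ((isPiHallOf_piCore hG hM (alpha_subset_sigma hG hM) Set.Subset.rfl).2.2 q hqp hqσ)
  have hqQ : q ∣ Nat.card Q := hq ▸ card_dvd_of_le hKsQ
  have hQnil : Group.IsNilpotent (qimg Q S) :=
    nilpotent_qimg_of_fixed hbp hQ.1 hSQ (hMQ hbM) (hMS hbM) hbS (hfixb.le.trans hKsQ)
  -- complements
  have hcompl : ∀ D : Subgroup G, Cfsg.IsComplIn Q D S → Cfsg.IsPiHallOf {q}ᶜ D S ∧ ¬ q ∣ Nat.card D := by
    intro D hD
    have hc := complIn_card hD
    have hqD : ¬ q ∣ Nat.card D := fun h => hQ.2.2 (by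
      rwa [Nat.eq_of_mul_eq_mul_left Nat.card_pos ((Grp.card_mul_relIndex hQ.1).trans hc.symm)])
    refine ⟨⟨hD.2.1, fun r hr hd => fun e => hqD ((Set.mem_singleton_iff.1 e) ▸ hd), fun r hr hπ hd => hπ ?_⟩, hqD⟩
    have e : D.relIndex S = Nat.card Q :=
      Nat.eq_of_mul_eq_mul_left Nat.card_pos ((Grp.card_mul_relIndex hD.2.1).trans (by rw [← hc, mul_comm]))
    obtain ⟨i, hi⟩ := IsPGroup.iff_card.1 hQ.2.1
    rw [e, hi] at hd
    exact (Nat.prime_dvd_prime_iff_eq hr hqp).1 (hr.dvd_of_dvd_pow hd)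
  obtain ⟨D, hDH, hKD, -⟩ := Grp.PiHall.exists_ge (π := ({q} : Set ℕ)ᶜ) _ G K S ⊥ rfl (hKU.hall.1.trans hMS) hcop
    inferInstance bot_le (fun x _ => by
      rw [Grp.mem_normalizer_iff_smul, ← Grp.map_conj_eq_smul, Subgroup.map_bot])
    (fun r hr hd => absurd (Nat.dvd_one.1 (by rwa [Subgroup.card_bot] at hd)) hr.ne_one)
  have hDS := hDH.1
  have hqD : ¬ q ∣ Nat.card D := fun h => hDH.2.1 q hqp h rfl
  have hQD : (Nat.card Q).Coprime (Nat.card D) := by
    obtain ⟨i, hi⟩ := IsPGroup.iff_card.1 hQ.2.1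
    rw [hi]
    exact Nat.Coprime.pow_left _ ((hqp.coprime_iff_not_dvd).2 hqD)
  have hbD : b ∈ normalizer (D : Set G) := hKD hbK
  have hDb : D ⊓ centralizer ({b} : Set G) = ⊥ := by
    refine le_bot_iff.1 (le_trans (le_inf ?_ inf_le_left)
      (Grp.inf_eq_bot_of_coprime hQD).le)
    exact (inf_le_inf_right _ hDS).trans (hfixb.le.trans hKsQ)
  have hDnil : Group.IsNilpotent D := Grp.isNilpotent_of_fpf hbp hbD hDb
  have hQsupD : Q ⊔ D = S := by
    refine Subgroup.eq_of_le_of_card_ge (sup_le hQ.1 hDS) ?_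
    have h1 : Nat.card Q ∣ Nat.card ↥(Q ⊔ D) := card_dvd_of_le le_sup_left
    have h2 : Nat.card D ∣ Nat.card ↥(Q ⊔ D) := card_dvd_of_le le_sup_right
    refine Nat.le_of_dvd Nat.card_pos ?_
    refine dvd_trans ?_ (hQD.mul_dvd_of_dvd_of_dvd h1 h2)
    rw [← Grp.card_mul_relIndex hQ.1]
    refine Nat.mul_dvd_mul_left _ ?_
    have h3 : Q.relIndex S ∣ Nat.card D * D.relIndex S := by
      rw [Grp.card_mul_relIndex hDS]
      exact Subgroup.relIndex_dvd_card Q S
    refine Nat.Coprime.dvd_of_dvd_mul_right (Nat.coprime_of_dvd fun r hr ha hb' => ?_) h3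
    have hrq : r = q := by
      by_contra hne
      exact hDH.2.2 r hr hne hb'
    exact hQ.2.2 (hrq ▸ ha)
  set Q₀ := Q ⊓ centralizer (D : Set G) with hQ₀
  have hDQ : D ≤ normalizer (Q : Set G) := hDS.trans hSQ
  have hQ₀ne : Q₀ ≠ Q := fun e => hnil (by
    rw [← hQsupD]
    exact nilpotent_sup_of_centralize hQ.2.1.isNilpotent hDnil (inf_eq_left.1 e))
  set Φ := (frattini Q).map Q.subtype with hΦ
  have hΦQ : Φ ≤ Q := map_subtype_le _
  have hMΦ : M ≤ normalizer (Φ : Set G) := fun m hm => by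
    rw [Grp.mem_normalizer_iff_smul, ← Grp.map_conj_eq_smul]
    exact Grp.map_char_eq (hMQ hm) (frattini Q)
  have hQcop : (orderOf b).Coprime (Nat.card Q) := hbS.coprime_dvd_right (card_dvd_of_le hQ.1)
  have hKsΦ : Φ ⊓ Ks = ⊥ := by
    rcases (Nat.dvd_prime hqp).1 (hq ▸ card_dvd_of_le (inf_le_right : Φ ⊓ Ks ≤ Ks)) with h | h
    · exact Subgroup.card_eq_one.1 h
    exfalso
    have hle : Ks ≤ Φ := ((Subgroup.eq_of_le_of_card_ge inf_le_right h.ge).ge.trans inf_le_left)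
    have hQS : Q ⊔ D ≤ normalizer (Φ : Set G) := (sup_le hQ.1 hDS).trans (hSM.trans hMΦ)
    have hn := nilpotent_qimg_of_fixed hbp (hΦQ.trans le_sup_left) hQS (hMΦ hbM)
      ((Grp.le_normalizer_sup' (zpowers_le.2 (hMQ hbM)) (zpowers_le.2 hbD)) (mem_zpowers b))
      (hbS.coprime_dvd_right (card_dvd_of_le (sup_le hQ.1 hDS)))
      ((inf_le_inf_right _ (sup_le hQ.1 hDS)).trans (hfixb.le.trans hle))
    have h1 := commutator_le_of_nilpotent_qimg hQS hn le_sup_left le_sup_right hQD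
    have h2 := Grp.commutator_sup_fixed D Q hDQ hQD.symm (Or.inl (isSolvable_of_le hDS))
    refine hQ₀ne (le_antisymm inf_le_left ?_)
    have h3 : Q₀.subgroupOf Q ⊔ frattini Q = ⊤ := by
      apply Subgroup.map_injective Q.subtype_injective
      rw [Subgroup.map_sup, Subgroup.map_subgroupOf_eq_of_le inf_le_left, ← MonoidHom.range_eq_map,
        Subgroup.range_subtype]
      refine le_antisymm (sup_le inf_le_left hΦQ) (h2.ge.trans ?_)
      exact sup_le (h1.trans le_sup_right) le_sup_left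
    exact Subgroup.subgroupOf_eq_top.1 (frattini_nongenerating h3)
  have hΦ₀ : Φ ≤ Q₀ := le_inf hΦQ (le_centralizer_iff.1 (le_centralizer_of_fpf hbp (hMΦ hbM) hbD
    (hDS.trans (hSM.trans hMΦ)) (hQD.coprime_dvd_left (card_dvd_of_le hΦQ))
    (le_bot_iff.1 ((le_inf inf_le_left ((inf_le_inf_right _ (hΦQ.trans hQ.1)).trans hfixb.le)).trans hKsΦ.le)) hDb))
  have hpow : ∀ a ∈ Q, ∀ c ∈ Q, a ^ q ∈ Q₀ ∧ a * c * a⁻¹ * c⁻¹ ∈ Q₀ := fun a ha c hc =>
    ⟨hΦ₀ ⟨_, Grp.pGroup_pow_mem_frattini hQ.2.1 (⟨a, ha⟩ : Q), rfl⟩,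
      hΦ₀ ⟨_, Grp.pGroup_commutator_le_frattini hQ.2.1
        (Subgroup.commutator_mem_commutator (mem_top (⟨a, ha⟩ : Q)) (mem_top (⟨c, hc⟩ : Q))), rfl⟩⟩
  have hQQ₀ : Q ≤ normalizer (Q₀ : Set G) := Grp.PiHall.le_normalizer_of_conj_mem fun a ha x hx => by
    have h1 := mul_mem (hpow a ha x hx.1).2 hx
    rwa [show a * x * a⁻¹ * x⁻¹ * x = a * x * a⁻¹ by group] at h1
  have hDQ₀ : D ≤ normalizer (Q₀ : Set G) :=
    Grp.le_normalizer_inf' hDQ (le_normalizer.trans (normalizer_le_normalizer_cent _))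
  have hKQ₀ : K ≤ normalizer (Q₀ : Set G) :=
    Grp.le_normalizer_inf' hKQ (hKD.trans (normalizer_le_normalizer_cent _))
  have hMQ₀ : M ≤ normalizer (Q₀ : Set G) :=
    hMK.ge.trans (sup_le (hQsupD.ge.trans (sup_le hQQ₀ hDQ₀)) hKQ₀)
  -- Q modulo Q₀
  have hDK : D ⊔ K ≤ M := sup_le (hDS.trans hSM) hKU.hall.1
  have hDN : D ≤ normalizer (Q₀ : Set G) := hDQ₀
  haveI : Group.IsSolvable Q₀ := isSolvable_of_le ((inf_le_left : Q₀ ≤ Q).trans hQM)
  have hcopQK : (Nat.card ↥(D ⊔ K)).Coprime (Nat.card Q) := by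
    have h1 : Nat.card ↥(D ⊔ K) ∣ Nat.card K * Nat.card D := by rw [sup_comm]; exact Grp.card_sup_dvd_mul hKD
    refine Nat.Coprime.coprime_dvd_left h1 ?_
    exact Nat.Coprime.mul_left (hcop.coprime_dvd_right (card_dvd_of_le hQ.1)) hQD.symm
  have hinK : ∀ x ∈ K, x ≠ 1 → x ∉ Q₀ := fun x hx hx1 hx0 => hx1 (mem_bot.1
    ((Grp.inf_eq_bot_of_coprime hcop).le ⟨hx, hQ.1 hx0.1⟩))
  set π := QuotientGroup.mk' (Q₀.subgroupOf (normalizer (Q₀ : Set G))) with hπ
  have hlift : ∀ z : Qt Q₀, ∀ A : Subgroup G, z ∈ qimg Q₀ A → ∃ (a : G) (ha : a ∈ normalizer (Q₀ : Set G)),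
      a ∈ A ∧ z = π ⟨a, ha⟩ := by
    rintro z A ⟨⟨a, ha⟩, haA, rfl⟩
    exact ⟨a, ha, haA, rfl⟩
  have hcomm : ∀ (a c : G) (ha : a ∈ normalizer (Q₀ : Set G)) (hc : c ∈ normalizer (Q₀ : Set G)),
      π ⟨a, ha⟩ * π ⟨c, hc⟩ = π ⟨c, hc⟩ * π ⟨a, ha⟩ → a * c * a⁻¹ * c⁻¹ ∈ Q₀ := by
    intro a c ha hc e
    rw [← map_mul, ← map_mul] at e
    have h4 : (⟨a, ha⟩ * ⟨c, hc⟩) * (⟨c, hc⟩ * ⟨a, ha⟩ : normalizer (Q₀ : Set G))⁻¹ ∈
        Q₀.subgroupOf (normalizer (Q₀ : Set G)) := by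
      rw [← QuotientGroup.eq_one_iff]
      exact (map_mul π _ _).trans (by rw [map_inv, e, mul_inv_cancel])
    have h5 : a * c * (c * a)⁻¹ ∈ Q₀ := by simpa [Subgroup.mem_subgroupOf] using h4
    rwa [show a * c * a⁻¹ * c⁻¹ = a * c * (c * a)⁻¹ by group]
  have hone : ∀ (a : G) (ha : a ∈ normalizer (Q₀ : Set G)), π ⟨a, ha⟩ = 1 ↔ a ∈ Q₀ := fun a ha =>
    QuotientGroup.eq_one_iff _
  have hfixQ : ∀ x ∈ K, x ≠ 1 → ∀ z ∈ qimg Q₀ Q, (∀ hx : x ∈ normalizer (Q₀ : Set G), z * π ⟨x, hx⟩ = π ⟨x, hx⟩ * z) →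
      z ∈ qimg Q₀ Ks := by
    intro x hx hx1 z hz hzx
    obtain ⟨a, ha, haQ, rfl⟩ := hlift z Q hz
    have hxN := hKQ₀ hx
    have hfix : ∀ c ∈ zpowers x, c * a * c⁻¹ * a⁻¹ ∈ Q₀ := by
      rintro _ ⟨i, rfl⟩
      refine hcomm (x ^ i) a (zpow_mem hxN i) ha ?_
      rw [show (⟨x ^ i, zpow_mem hxN i⟩ : normalizer (Q₀ : Set G)) = ⟨x, hxN⟩ ^ i from rfl, map_zpow]
      exact ((show Commute (π ⟨x, hxN⟩) (π ⟨a, ha⟩) from (hzx hxN).symm).zpow_left i).eq
    have hxcop : (Nat.card (zpowers x)).Coprime (Nat.card Q) := by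
      rw [Nat.card_zpowers]
      exact (hcop.coprime_dvd_left (Subgroup.orderOf_dvd_natCard _ hx)).coprime_dvd_right (card_dvd_of_le hQ.1)
    obtain ⟨c, hc, hac⟩ := Grp.exists_fixed_rep (zpowers x) Q Q₀ (zpowers_le.2 (hKQ hx))
      (Grp.inf_eq_bot_of_coprime hxcop) (hxcop.coprime_dvd_right (card_dvd_of_le inf_le_left)) (Or.inl inferInstance)
      inf_le_left hQQ₀ (zpowers_le.2 hxN) haQ hfix
    have hcKs : c ∈ Ks := (hprime x hx hx1).le ⟨hQ.1 hc.1, mem_centralizer_singleton_iff.2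
      (mem_centralizer_iff.1 hc.2 x (mem_zpowers x)).symm⟩
    refine ⟨⟨c, hQQ₀ hc.1⟩, hcKs, (QuotientGroup.eq.2 ?_).symm⟩
    show (⟨a, ha⟩ : normalizer (Q₀ : Set G))⁻¹ * ⟨c, hQQ₀ hc.1⟩ ∈ Q₀.subgroupOf _
    rw [Subgroup.mem_subgroupOf]
    exact hac
  have hKsN : Ks ≤ normalizer (Q₀ : Set G) := hKsQ.trans hQQ₀
  have hfixK : qimg Q₀ Q ⊓ centralizer (qimg Q₀ K : Set (Qt Q₀)) = qimg Q₀ Ks := by
    refine le_antisymm (fun z hz => hfixQ b hbK hb1 z hz.1 fun hbN =>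
      (mem_centralizer_iff.1 hz.2 _ (mem_qimg hbK hbN)).symm) (le_inf (qimg_mono hKsQ) ?_)
    intro z hz
    obtain ⟨a, ha, haKs, rfl⟩ := hlift z Ks hz
    refine mem_centralizer_iff.2 fun w hw => ?_
    obtain ⟨c, hc, hcK, rfl⟩ := hlift w K hw
    rw [← map_mul, ← map_mul]
    exact congrArg π (Subtype.ext (mem_centralizer_iff.1 haKs.2 c hcK))
  have hDne : D ≠ ⊥ := fun e => hnil (by rw [← hQsupD, e, sup_bot_eq]; exact hQ.2.1.isNilpotent)
  have hres := Cfsg.Agent.S1446.result (X := Qt Q₀) (qimg Q₀ D) (qimg Q₀ K) (qimg Q₀ Q)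
    (fun e => hDne (le_bot_iff.1 ((le_inf ((qimg_eq_bot hDQ₀).1 e |>.trans inf_le_left) le_rfl).trans
      (Grp.inf_eq_bot_of_coprime hQD).le)))
    (fun e => hinK b hbK hb1 ((qimg_eq_bot hKQ₀).1 e hbK))
    (Grp.inf_eq_bot_of_coprime (((hcop.coprime_dvd_right (card_dvd_of_le hDS)).symm.coprime_dvd_left
      (card_qimg_dvd hDQ₀)).coprime_dvd_right (card_qimg_dvd hKQ₀)))
    (qimg_normalizer hKD)
    (fun z hz hz1 => by
      refine eq_bot_iff.2 fun w hw => ?_
      obtain ⟨c, hc, hcK, rfl⟩ := hlift z K hz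
      obtain ⟨d, hd, hdD, rfl⟩ := hlift w D hw.1
      have h1 := hcomm d c hd hc (mem_centralizer_singleton_iff.1 hw.2)
      have hc1 : c ≠ 1 := fun e => hz1 ((hone c hc).2 (e ▸ one_mem _))
      have h2 : d * c * d⁻¹ * c⁻¹ ∈ Q ⊓ D := ⟨h1.1, by
        rw [show d * c * d⁻¹ * c⁻¹ = d * (c * d⁻¹ * c⁻¹) by group]
        exact D.mul_mem hdD (Grp.mem_conj_normalizer (hKD hcK) (D.inv_mem hdD))⟩
      rw [Grp.inf_eq_bot_of_coprime hQD, mem_bot, mul_inv_eq_one, mul_inv_eq_iff_eq_mul] at h2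
      have h3 : d ∈ D ⊓ Q := ⟨hdD, hKsQ ((hprime c hcK hc1).le ⟨hDS hdD, mem_centralizer_singleton_iff.2 h2⟩)⟩
      rw [Grp.inf_eq_bot_of_coprime hQD.symm, mem_bot] at h3
      exact mem_bot.2 ((hone d hd).2 (h3 ▸ one_mem _)))
    (by
      rw [← qimg_sup hDQ₀ hKQ₀]
      haveI := isSolvable_of_le hDK
      obtain ⟨φ, hφ, -⟩ := exists_qhom (N := Q₀) (sup_le hDQ₀ hKQ₀)
      exact Group.isSolvable_of_surjective hφ)
    (Odd.of_dvd_nat (odd_qt hG.1 Q₀) (card_subgroup_dvd_card _))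
    (fun e => hQ₀ne (le_antisymm inf_le_left ((qimg_eq_bot hQQ₀).1 e)))
    (qimg_isPGroup hQQ₀ hQ.2.1).isNilpotent (qimg_normalizer hDQ) (qimg_normalizer hKQ)
    (by
      rw [← qimg_sup hDQ₀ hKQ₀]
      exact (hcopQK.coprime_dvd_left (card_qimg_dvd (sup_le hDQ₀ hKQ₀))).coprime_dvd_right (card_qimg_dvd hQQ₀))
    (by
      refine eq_bot_iff.2 fun z hz => ?_
      obtain ⟨a, ha, haQ, rfl⟩ := hlift z Q hz.1
      have hfix : ∀ d ∈ D, d * a * d⁻¹ * a⁻¹ ∈ Q₀ := fun d hd => hcomm d a (hDQ₀ hd) ha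
        (mem_centralizer_iff.1 hz.2 _ (mem_qimg hd (hDQ₀ hd)))
      obtain ⟨c, hc, hac⟩ := Grp.exists_fixed_rep D Q Q₀ hDQ (Grp.inf_eq_bot_of_coprime hQD.symm)
        (hQD.symm.coprime_dvd_right (card_dvd_of_le inf_le_left)) (Or.inl (isSolvable_of_le hDS))
        inf_le_left hQQ₀ hDQ₀ haQ hfix
      refine mem_bot.2 ((hone a ha).2 ?_)
      have h3 := Q₀.mul_mem (show c ∈ Q₀ from hc) (Q₀.inv_mem hac)
      rwa [show c * (a⁻¹ * c)⁻¹ = a by group] at h3)
    (fun z hz hz1 => by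
      refine le_antisymm (fun w hw => ?_) (inf_le_inf_left _ (centralizer_le (Set.singleton_subset_iff.2 hz)))
      obtain ⟨c, hc, hcK, rfl⟩ := hlift z K hz
      exact hfixK.ge (hfixQ c hcK (fun e => hz1 ((hone c hc).2 (e ▸ one_mem _))) w hw.1
        fun hx => mem_centralizer_singleton_iff.1 hw.2))
  obtain ⟨hRp, hMc, hDD⟩ := hres
  rw [hfixK] at hMc hDD
  have hKcard : Nat.card (qimg Q₀ K) = Nat.card K := by
    have h1 := card_qimg (le_sup_left : Q₀ ≤ Q₀ ⊔ K) (sup_le le_normalizer hKQ₀)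
    rw [qimg_sup le_normalizer hKQ₀, qimg_self, bot_sup_eq] at h1
    refine Nat.eq_of_mul_eq_mul_left (Nat.card_pos (α := Q₀)) (h1.trans ?_)
    rw [sup_comm, Grp.card_sup_coprime hKQ₀ (hcop.coprime_dvd_right (card_dvd_of_le (inf_le_left.trans hQ.1))),
      mul_comm]
  have hKsQ₀ : Nat.card (qimg Q₀ Ks) = q := by
    rcases (Nat.dvd_prime hqp).1 (hq ▸ card_qimg_dvd hKsN) with h | h
    · exfalso
      rw [h, one_pow] at hMc
      exact hQ₀ne (le_antisymm inf_le_left ((qimg_eq_bot hQQ₀).1 (Subgroup.card_eq_one.1 hMc)))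
    · exact h.trans hq.symm
  rw [hKsQ₀, hKcard] at hMc
  rw [hKcard] at hRp
  have hcardQ : Nat.card Q = Nat.card Q₀ * q ^ Nat.card K := by
    rw [← hMc]; exact (card_qimg inf_le_left hQQ₀).symm
  have hDQc : ⁅D, D⁆ ≤ centralizer (Q : Set G) := by
    haveI : IsCyclic (qimg Q₀ Ks) := isCyclic_of_prime_card (p := q) hKsQ₀
    have h1 := hDD inferInstance
    have hDDN : ⁅D, D⁆ ≤ D := Subgroup.commutator_le.2 fun a ha b hb =>
      D.mul_mem (D.mul_mem (D.mul_mem ha hb) (D.inv_mem ha)) (D.inv_mem hb)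
    rw [← qimg_commutator hDQ₀ hDQ₀, le_centralizer_iff, ← commutator_eq_bot_iff_le_centralizer,
      ← qimg_commutator hQQ₀ (hDDN.trans hDQ₀), qimg_eq_bot
        ((Grp.commutator_le_left_of_le_normalizer (hDDN.trans hDQ)).trans hQQ₀)] at h1
    exact Grp.le_centralizer_of_series ⁅D, D⁆ Q Q₀ (hDDN.trans hDQ) (hQD.symm.coprime_dvd_left (card_dvd_of_le hDDN))
      (Or.inl (isSolvable_of_le (hDDN.trans hDS))) h1
      (commutator_eq_bot_iff_le_centralizer.2 (inf_le_right.trans (centralizer_le hDDN)))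
  have hmin : ∀ N : Subgroup G, Q₀ < N → N < Q → ¬ M ≤ normalizer (N : Set G) := by
    intro N hN hNQ hMN
    by_cases hKsN' : Ks ≤ N
    · have hQS : Q ⊔ D ≤ normalizer (N : Set G) := (sup_le hQ.1 hDS).trans (hSM.trans hMN)
      have hn := nilpotent_qimg_of_fixed hbp (hNQ.le.trans le_sup_left) hQS (hMN hbM)
        ((Grp.le_normalizer_sup' (zpowers_le.2 (hMQ hbM)) (zpowers_le.2 hbD)) (mem_zpowers b))
        (hbS.coprime_dvd_right (card_dvd_of_le (sup_le hQ.1 hDS)))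
        ((inf_le_inf_right _ (sup_le hQ.1 hDS)).trans (hfixb.le.trans hKsN'))
      have h1 := commutator_le_of_nilpotent_qimg hQS hn le_sup_left le_sup_right hQD
      have h2 := Grp.commutator_sup_fixed D Q hDQ hQD.symm (Or.inl (isSolvable_of_le hDS))
      exact hNQ.not_ge (h2.ge.trans (sup_le h1 hN.le))
    · have hbot : N ⊓ centralizer ({b} : Set G) = ⊥ := by
        rcases (Nat.dvd_prime hqp).1 (hq ▸ card_dvd_of_le (inf_le_right : N ⊓ Ks ≤ Ks)) with h | h
        · exact le_bot_iff.1 ((le_inf inf_le_left ((inf_le_inf_right _ (hNQ.le.trans hQ.1)).trans hfixb.le)).trans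
            (Subgroup.card_eq_one.1 h).le)
        · exact absurd (((Subgroup.eq_of_le_of_card_ge inf_le_right h.ge).ge.trans inf_le_left)) hKsN'
      exact hN.not_ge (le_inf hNQ.le (le_centralizer_iff.1 (le_centralizer_of_fpf hbp (hMN hbM) hbD
        (hDS.trans (hSM.trans hMN)) (hQD.coprime_dvd_left (card_dvd_of_le hNQ.le)) hbot hDb)))
  -- beta
  have hβ : q ∈ Cfsg.beta M := by
    by_contra hβ
    obtain ⟨P, N, hN, hNP⟩ := ((Cfsg.Agent.S1414.result hG M hM).2.2.2.2 q hqp hqσ.2.1 hβ).2.1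
    haveI := hN
    set N' := N.map S.subtype
    have hN'S : S ≤ normalizer (N' : Set G) := map_normal_le_normalizer N
    have hqN : ¬ q ∣ Nat.card N := fun h => P.not_dvd_index (hNP.index_eq_card.symm ▸ h)
    have hN'H : Cfsg.IsPiHallOf {q}ᶜ N' S := by
      refine ⟨map_subtype_le _, fun r hr hd e => hqN ?_, fun r hr hπ hd => hπ ?_⟩
      · rw [Subgroup.card_map_of_injective S.subtype_injective] at hd
        exact (Set.mem_singleton_iff.1 e) ▸ hd
      · have e : N'.relIndex S = Nat.card (P : Subgroup S) := by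
          refine Nat.eq_of_mul_eq_mul_left (Nat.card_pos (α := N')) ?_
          rw [Grp.card_mul_relIndex (map_subtype_le _), Subgroup.card_map_of_injective S.subtype_injective,
            hNP.card_mul_card]
        obtain ⟨i, hi⟩ := IsPGroup.iff_card.1 P.isPGroup'
        rw [e, hi] at hd
        exact (Nat.prime_dvd_prime_iff_eq hr hqp).1 (hr.dvd_of_dvd_pow hd)
    obtain ⟨g, hg, e⟩ := Grp.PiHall.conj_eq hN'H hDH
    rw [Grp.mem_normalizer_iff_smul.1 (hN'S hg)] at e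
    have hQD' : Q ≤ centralizer (D : Set G) := commutator_eq_bot_iff_le_centralizer.1 (le_bot_iff.1
      ((le_inf (Grp.commutator_le_left_of_le_normalizer hDQ)
        (Subgroup.le_normalizer_iff_commutator_le_right.1 (e ▸ (hQ.1.trans hN'S)))).trans
        (Grp.inf_eq_bot_of_coprime hQD).le))
    exact hQ₀ne (inf_eq_left.2 hQD')
  refine ⟨hU, hK1, hder, hRp, hqp, hβ, Q, hQ, hMQ, hQH, hqQ, hQnil, fun D' hD' => ?_⟩
  obtain ⟨g, hg, rfl⟩ := Grp.PiHall.conj_eq hDH (hcompl D' hD').1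
  have hgQ : MulAut.conj g • Q = Q := Grp.mem_normalizer_iff_smul.1 (hMQ (hSM hg))
  have hQ₀' : Q ⊓ centralizer ((MulAut.conj g • D : Subgroup G) : Set G) = Q₀ := by
    have h1 : MulAut.conj g • Q₀ = Q₀ := Grp.mem_normalizer_iff_smul.1 (hMQ₀ (hSM hg))
    rw [← h1, hQ₀, Subgroup.smul_inf, hgQ]
    congr 1
    ext x
    constructor
    · intro hx
      refine ⟨g⁻¹ * x * g, mem_centralizer_iff.2 fun d hd => ?_, ?_⟩
      · have h2 := mem_centralizer_iff.1 hx (g * d * g⁻¹) ⟨d, hd, rfl⟩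
        calc d * (g⁻¹ * x * g) = g⁻¹ * (g * d * g⁻¹ * x) * g := by group
          _ = g⁻¹ * (x * (g * d * g⁻¹)) * g := by rw [h2]
          _ = g⁻¹ * x * g * d := by group
      · show MulAut.conj g (g⁻¹ * x * g) = x
        rw [MulAut.conj_apply]; group
    · rintro ⟨c, hc, rfl⟩
      refine mem_centralizer_iff.2 fun d hd => ?_
      obtain ⟨d', hd', rfl⟩ := hd
      show MulAut.conj g d' * MulAut.conj g c = MulAut.conj g c * MulAut.conj g d'
      rw [← map_mul, ← map_mul, mem_centralizer_iff.1 hc d' hd']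
  rw [hQ₀']
  refine ⟨Grp.isNilpotent_map hDnil _, hMQ₀, lt_of_le_of_ne inf_le_left hQ₀ne, hcardQ, hpow, hmin, ?_⟩
  rw [show ⁅MulAut.conj g • D, MulAut.conj g • D⁆ = MulAut.conj g • ⁅D, D⁆ from
    (Subgroup.map_commutator D D (MulAut.conj g).toMonoidHom).symm]
  rintro _ ⟨c, hc, rfl⟩
  refine mem_centralizer_iff.2 fun y hy => ?_
  have hy' : g⁻¹ * y * g ∈ Q := Grp.mem_conj_normalizer' (hMQ (hSM hg)) hy
  show y * (g * c * g⁻¹) = g * c * g⁻¹ * y
  calc y * (g * c * g⁻¹) = g * (g⁻¹ * y * g * c) * g⁻¹ := by group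
    _ = g * (c * (g⁻¹ * y * g)) * g⁻¹ := by rw [mem_centralizer_iff.1 (hDQc hc) _ hy']
    _ = g * c * g⁻¹ * y := by group

end Cfsg.Agent.Transfer.Loc
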