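import Cfsg.Agent.Lib.Transfer.Local.SigmaConj
import Cfsg.Agent.S1417

/-!
Action of the subgroups of rank one of a complement on `M_σ`.
-/

set_option autoImplicit false
set_option linter.style.haveILetI false
set_option linter.unusedSectionVars false
set_option maxHeartbeats 1000000

namespace Cfsg.Agent.Transfer.Loc

open Subgroup
open scoped commutatorElement Pointwise

universe u

variable {G : Type u} [Group G] [Finite G]

theorem eq_of_dvd_pGroup {p r : ℕ} [hp : Fact p.Prime] {Y : Subgroup G} (hY : IsPGroup p Y) (hr : r.Prime)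
    (hd : r ∣ Nat.card Y) : r = p := by
  obtain ⟨n, hn⟩ := IsPGroup.iff_card.1 hY
  exact (Nat.prime_dvd_prime_iff_eq hr hp.out).1 (hr.dvd_of_dvd_pow (hn ▸ hd))

theorem comm_idem {p q : ℕ} [Fact p.Prime] [Fact q.Prime] (h : p ≠ q) {W Y : Subgroup G} (hW : IsPGroup q W)
    (hY : IsPGroup p Y) (hYW : Y ≤ normalizer (W : Set G)) : ⁅⁅W, Y⁆, Y⁆ = ⁅W, Y⁆ :=
  Grp.commutator_commutator_eq Y W hYW (coprime_O h hY hW) (Or.inl (by haveI := hY.isNilpotent; infer_instance))

/-- The operators normalise the commutator and it is a `q`-group. -/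
theorem comm_facts {q : ℕ} {W Y : Subgroup G} (hW : IsPGroup q W) (hYW : Y ≤ normalizer (W : Set G)) :
    IsPGroup q ↥(⁅W, Y⁆) ∧ Y ≤ normalizer ((⁅W, Y⁆ : Subgroup G) : Set G) ∧ ⁅W, Y⁆ ≤ W :=
  ⟨hW.to_le (Grp.commutator_le_left_of_le_normalizer hYW), Grp.right_le_normalizer_commutator Y W,
    Grp.commutator_le_left_of_le_normalizer hYW⟩

/-- In a cyclic subgroup two subgroups of equal order are equal. -/
theorem eq_of_card_cyclic {T X Y : Subgroup G} (hT : IsCyclic T) (hX : X ≤ T) (hY : Y ≤ T)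
    (h : Nat.card X = Nat.card Y) : X = Y := by
  haveI := hT
  have h2 := cyclic_unique (H := X.subgroupOf T) (H' := Y.subgroupOf T)
    (by rw [Nat.card_congr (subgroupOfEquivOfLe hX).toEquiv, Nat.card_congr (subgroupOfEquivOfLe hY).toEquiv, h])
  rw [← map_subgroupOf_eq_of_le hX, h2, map_subgroupOf_eq_of_le hY]

variable (hG : Cfsg.IsMinSimpleOddOrder G)
include hG

theorem cyclic_of_rank_one {p : ℕ} [hp : Fact p.Prime] {T K : Subgroup G} (hT : IsPGroup p T) (hTK : T ≤ K)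
    (hr : Cfsg.PRankLE p 1 K) : IsCyclic T := by
  by_contra hc
  have h1 : T ≠ ⊥ := fun e => hc (e ▸ inferInstance)
  exact not_prank_one_of_not_cyclic hG (ne_two hG ((dvd_card_of_pGroup hT h1).trans (card_subgroup_dvd_card T)))
    hT hc (prankLE_mono hTK hr)

/-- In rank one the subgroups of order `p` are conjugate. -/
theorem prime_sub_conj {p : ℕ} [hp : Fact p.Prime] {K : Subgroup G} [Group.IsSolvable K] (hr : Cfsg.PRankLE p 1 K)
    {X Y : Subgroup G} (hX : X ≤ K) (hY : Y ≤ K) (hXc : Nat.card X = p) (hYc : Nat.card Y = p) :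
    ∃ k ∈ K, MulAut.conj k • X = Y := by
  obtain ⟨S, hS, hXS⟩ := exists_sylowIn_ge hX (IsPGroup.of_card (n := 1) (by rw [hXc, pow_one]) : IsPGroup p X)
  obtain ⟨T, hT, hYT⟩ := exists_sylowIn_ge hY (IsPGroup.of_card (n := 1) (by rw [hYc, pow_one]) : IsPGroup p Y)
  obtain ⟨k, hk, e⟩ := hS.conj hT
  exact ⟨k, hk, eq_of_card_cyclic (cyclic_of_rank_one hG hT.2.1 hT.1 hr)
    (e ▸ Subgroup.pointwise_smul_le_pointwise_smul_iff.2 hXS) hYT (by rw [Grp.card_conj_smul, hXc, hYc])⟩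

/-- In rank one a prime dividing the derived subgroup puts every `p`-subgroup inside it. -/
theorem le_derived_of_rank_one {p : ℕ} [hp : Fact p.Prime] {K : Subgroup G} [Group.IsSolvable K]
    (hr : Cfsg.PRankLE p 1 K) (hd : p ∣ Nat.card ↥⁅K, K⁆) {X : Subgroup G} (hX : X ≤ K) (hXp : IsPGroup p X) :
    X ≤ ⁅K, K⁆ := by
  obtain ⟨T, hT, hXT⟩ := exists_sylowIn_ge hX hXp
  obtain ⟨S, hS⟩ := Grp.isSylowIn_iff.1 hT
  subst hS
  haveI : IsCyclic (S : Subgroup K) :=
    haveI := cyclic_of_rank_one hG hT.2.1 hT.1 hr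
    isCyclic_of_surjective _ ((S : Subgroup K).equivMapOfInjective K.subtype K.subtype_injective).symm.surjective
  have hne : (S : Subgroup K) ⊓ commutator K ≠ ⊥ := by
    intro e
    have h1 := Grp.card_sup_mul_card_inf_normal (H := (S : Subgroup K)) (N := commutator K)
    rw [e, Subgroup.card_bot, mul_one] at h1
    have h2 : Nat.card (S : Subgroup K) * Nat.card (commutator K) ∣ Nat.card (S : Subgroup K) * (S : Subgroup K).index := by
      rw [← h1, Subgroup.card_mul_index]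
      exact card_subgroup_dvd_card _
    refine S.not_dvd_index (dvd_trans ?_ (Nat.dvd_of_mul_dvd_mul_left Nat.card_pos h2))
    rwa [← card_map_of_injective K.subtype_injective, ← derived_eq_map K]
  refine hXT.trans ((map_mono (cyclic_sylow_le_commutator S hne)).trans ?_)
  rw [← derived_eq_map K]

variable {M : Subgroup G} (hM : IsCoatom M)
include hM

theorem not_alpha_of_sigma {H : Subgroup G} (hH : IsCoatom H) (hnc : ∀ g : G, H ≠ MulAut.conj g • M) {r : ℕ}
    [hr : Fact r.Prime] (hrM : r ∈ Cfsg.sigma M) : r ∉ Cfsg.alpha H := fun hα => by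
  obtain ⟨R, hR⟩ := Grp.exists_isSylowIn r H
  obtain ⟨g, hg⟩ := exists_conj_le hG hM hrM hR.2.1
  exact hnc g ((u_of_rank hG hH hα hR).unique ⟨hH, hR.1⟩ ⟨isCoatom_conj hG hM g, hg⟩)

omit hM in
/-- Prime power subgroups of `H'` commute if one normalises the other and the latter avoids `β(H)`. -/
theorem derived_comm {H : Subgroup G} (hH : IsCoatom H) {p s : ℕ} [hp : Fact p.Prime] [hs : Fact s.Prime]
    (hps : s ≠ p) {X Y : Subgroup G} (hX : IsPGroup p X) (hY : IsPGroup s Y) (hXD : X ≤ ⁅H, H⁆)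
    (hYD : Y ≤ ⁅H, H⁆) (hYX : Y ≤ normalizer (X : Set G)) (hpβ : p ∉ Cfsg.beta H) :
    Y ≤ centralizer (X : Set G) := by
  haveI := solvable_of_ne_top hG hH.1
  by_cases hsβ : s ∈ Cfsg.beta H
  · obtain ⟨S, hS, hYS⟩ := exists_sylowIn_ge (hYD.trans H.commutator_le_self) hY
    have hYK : Y ≤ Cfsg.piCoreOf (Cfsg.beta H) H := hYS.trans (sylow_le_beta hG hH hsβ hS)
    rw [← commutator_eq_bot_iff_le_centralizer, eq_bot_iff,
      ← Grp.inf_eq_bot_of_coprime (H := X) (K := Cfsg.piCoreOf (Cfsg.beta H) H) (Nat.coprime_of_dvd fun r hr h1 h2 => by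
        rw [eq_of_dvd_pGroup hX hr h1] at h2
        exact hpβ (TransHyp.piCoreOf_primes (π := Cfsg.beta H) (X := H) hp.out h2))]
    refine le_inf ?_ ((Subgroup.commutator_mono hYK le_rfl).trans ?_)
    · rw [commutator_comm]; exact Grp.commutator_le_left_of_le_normalizer hYX
    · exact Grp.commutator_le_left_of_le_normalizer
        ((hXD.trans H.commutator_le_self).trans (TransHyp.le_normalizer_piCoreOf H))
  · have hnil : Group.IsNilpotent ↥(Y ⊔ X) := beta_nilpotent hG hH (sup_le hYD hXD) fun r hr hd => by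
      rcases hr.dvd_mul.1 (hd.trans (Grp.card_sup_dvd_mul hYX)) with h | h
      · rw [eq_of_dvd_pGroup hY hr h]; exact hsβ
      · rw [eq_of_dvd_pGroup hX hr h]; exact hpβ
    haveI : Group.IsSolvable ↥(Y ⊔ X) := by haveI := hnil; infer_instance
    obtain ⟨T, hT, hYT⟩ := exists_sylowIn_ge (le_sup_left : Y ≤ Y ⊔ X) hY
    exact hYT.trans (commute_of_coprime (hT.1.trans (sup_le hYX le_normalizer))
      ((le_sup_right.trans le_normalizer).trans (normalizer_le_sylow hnil hT)) (coprime_O hps hT.2.1 hX))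

/-- A subgroup `W = [W, Y]` for `σ(M)` is trivial if the operators lie in `H'`. -/
theorem kills {H : Subgroup G} (hH : IsCoatom H) (hnc : ∀ g : G, H ≠ MulAut.conj g • M) {q s : ℕ}
    [hq : Fact q.Prime] [hs : Fact s.Prime] (hqσ : q ∈ Cfsg.sigma M) (hqs : s ≠ q) {W Y : Subgroup G}
    (hW : IsPGroup q W) (hY : IsPGroup s Y) (hWH : W ≤ H) (hYD : Y ≤ ⁅H, H⁆)
    (hYW : Y ≤ normalizer (W : Set G)) (hWY : ⁅W, Y⁆ = W) : W = ⊥ := by
  have hWD : W ≤ ⁅H, H⁆ := hWY.ge.trans (Subgroup.commutator_mono hWH (hYD.trans H.commutator_le_self))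
  have h := derived_comm hG hH hqs hW hY hWD hYD hYW fun hβ =>
    not_alpha_of_sigma hG hM hH hnc hqσ (beta_subset hβ)
  rw [← hWY, commutator_comm]
  exact commutator_eq_bot_iff_le_centralizer.2 h

omit hM in
/-- For `p ∈ τ₂(H)` a plane centralises the `p'`-subgroups of derived groups of `σ(H)'`-subgroups. -/
theorem tau2_comm {H : Subgroup G} (hH : IsCoatom H) {p : ℕ} [hp : Fact p.Prime] (hτ : p ∈ Cfsg.tau2 H)
    {U : Subgroup G} (hUH : U ≤ H) (hUσ : ∀ r : ℕ, r.Prime → r ∣ Nat.card U → r ∉ Cfsg.sigma H)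
    {W : Subgroup G} (hWU : W ≤ ⁅U, U⁆) (hWp : ¬ p ∣ Nat.card W) :
    ∃ A : Subgroup G, A ≤ H ∧ Cfsg.IsElementaryAbelian p A ∧ Nat.card A = p ^ 2 ∧
      A ≤ centralizer (W : Set G) ∧ ¬ Cfsg.IsIdealPrime p G := by
  obtain ⟨E, hE, hUE⟩ := exists_compl_ge hG hH hUH hUσ
  obtain ⟨T, hT⟩ := Grp.exists_isSylowIn p E
  obtain ⟨A, hAT, hA, hA2⟩ := tau2_plane hG hH hE hτ hT
  have hAH : A ≤ H := (hAT.trans hT.1).trans hE.1
  obtain ⟨A₀, h⟩ := exists_exc hG hH hAH hA hA2 hτ.2.1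
  refine ⟨A, hAH, hA, hA2, ?_, not_ideal hG hH hτ.2.1 hAH hA hA2⟩
  have hWE : W ≤ ⁅E, E⁆ := hWU.trans (Subgroup.commutator_mono hUE hUE)
  haveI hc : IsMulCommutative ↥⁅E, E⁆ := (Cfsg.Agent.S1420.result hG H hH E hE).2.1
  have h1 : W ≤ O' p ⁅E, E⁆ := le_O' hWE
    ((le_centralizer_iff_isMulCommutative.2 hc).trans ((Subgroup.centralizer_le hWE).trans (centralizer_le_normalizer _)))
    (hp.out.coprime_iff_not_dvd.2 hWp).symm
  have h2 : O' p ⁅E, E⁆ ≤ O' p E := le_O' ((O'_le p _).trans E.commutator_le_self)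
    (le_normalizer_core (Grp.left_le_normalizer_commutator E E)) (O'_coprime _)
  exact le_centralizer_iff.1 ((h1.trans h2).trans (h.core_le hE (hAT.trans hT.1)))

/-- A plane outside `M` centralising a `σ(M)`-subgroup gives an overgroup with `p` in its `σ`. -/
theorem plane_cover {q p : ℕ} [hq : Fact q.Prime] [hp : Fact p.Prime] (hqσ : q ∈ Cfsg.sigma M)
    (hpM : Cfsg.PRankLE p 1 M) {W : Subgroup G} (hW : IsPGroup q W) (hW1 : W ≠ ⊥) (hWM : W ≤ M)
    {A : Subgroup G} (hA : Cfsg.IsElementaryAbelian p A) (hA2 : Nat.card A = p ^ 2)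
    (hAC : A ≤ centralizer (W : Set G)) :
    ∃ L : Subgroup G, IsCoatom L ∧ normalizer (W : Set G) ≤ L ∧ L ≠ M ∧ p ∈ Cfsg.sigma L ∧
      (q ∈ Cfsg.sigma L → p ∈ Cfsg.beta L) := by
  have hnoM : ∀ g : G, ¬ MulAut.conj g • A ≤ M := fun g h => by
    refine not_prank_of_elem (E := (MulAut.conj g • A).subgroupOf M |>.map M.subtype) (map_subtype_le _) ?_ ?_ hpM
    · rw [map_subgroupOf_eq_of_le h]
      refine ⟨?_, ?_⟩
      · haveI := hA.1
        exact Subgroup.map_isMulCommutative _ _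
      · rintro _ ⟨a, ha, rfl⟩
        show MulAut.conj g a ^ p = 1
        rw [← map_pow, hA.2 a ha, map_one]
    · rw [map_subgroupOf_eq_of_le h, Grp.card_conj_smul, hA2]
  obtain ⟨L, hL, hNL⟩ := exists_coatom_normalizer hG hW1 fun e => hM.1 (top_le_iff.1 (e ▸ hWM))
  have hAL : A ≤ L := (hAC.trans (centralizer_le_normalizer _)).trans hNL
  have hne : L ≠ M := fun e => hnoM 1 (by rw [map_one, one_smul]; exact e ▸ hAL)
  obtain ⟨N, hNl, hLN, hNσ, hcov, hNp⟩ := exists_cover hG hM hqσ hW hW1 hWM hL hne hNL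
  have hpN : p ∣ Nat.card N := by
    by_contra hn
    haveI := solvable_of_ne_top hG hL.1
    have hidx : (M ⊓ L).relIndex L ∣ Nat.card N := by
      refine Nat.dvd_of_mul_dvd_mul_left (k := Nat.card ↥(M ⊓ L)) Nat.card_pos ?_
      rw [Grp.card_mul_relIndex inf_le_right]
      have h : L = (M ⊓ L) ⊔ N := le_antisymm (hcov.trans (sup_comm _ _).le) (sup_le inf_le_right hNl)
      refine (dvd_of_eq (congrArg (fun K : Subgroup G => Nat.card K) h)).trans (Grp.card_sup_dvd_mul ?_)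
      exact inf_le_right.trans hLN
    obtain ⟨T, hT⟩ := Grp.exists_isSylowIn p (M ⊓ L : Subgroup G)
    have hTL : Grp.IsSylowIn p T L := ⟨hT.1.trans inf_le_right, hT.2.1, fun hd => by
      rw [← Subgroup.relIndex_mul_relIndex T (M ⊓ L) L hT.1 inf_le_right] at hd
      exact (hp.out.dvd_mul.1 hd).elim hT.2.2 fun h => hn (h.trans hidx)⟩
    obtain ⟨S, hS, hAS⟩ := exists_sylowIn_ge hAL (Grp.elemAb_isPGroup hA)
    obtain ⟨k, hk, e⟩ := hS.conj hTL
    exact hnoM k ((Subgroup.pointwise_smul_le_pointwise_smul_iff.2 hAS).trans (e.le.trans (hT.1.trans inf_le_left)))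
  exact ⟨L, hL, hNL, hne, hNp p hp.out hpN⟩

/-- Operators with such a plane centralise. -/
theorem centralizes_of_plane {q p : ℕ} [hq : Fact q.Prime] [hp : Fact p.Prime] (hqσ : q ∈ Cfsg.sigma M)
    (hpM : Cfsg.PRankLE p 1 M) (hid : ¬ Cfsg.IsIdealPrime p G) {W : Subgroup G} (hW : IsPGroup q W)
    (hWM : W ≤ M) {A : Subgroup G} (hA : Cfsg.IsElementaryAbelian p A) (hA2 : Nat.card A = p ^ 2)
    (hAC : A ≤ centralizer (W : Set G)) {Y : Subgroup G} (hY : IsPGroup p Y)
    (hYW : Y ≤ normalizer (W : Set G)) : Y ≤ centralizer (W : Set G) := by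
  rcases eq_or_ne W ⊥ with hW1 | hW1
  · subst hW1
    exact fun w _ => mem_centralizer_iff.2 fun b hb => by simp [mem_bot.1 hb]
  obtain ⟨L, hL, hNL, -, hpσ, hqp⟩ := plane_cover hG hM hqσ hpM hW hW1 hWM hA hA2 hAC
  haveI := solvable_of_ne_top hG hL.1
  have hqL : q ∉ Cfsg.sigma L := fun h => hid (hqp h).2
  obtain ⟨S, hS, hYS⟩ := exists_sylowIn_ge (hYW.trans hNL) hY
  have hYK : Y ≤ Cfsg.sigmaCore L := hYS.trans (sylow_le_piCore hG hL (alpha_subset_sigma hG hL) le_rfl hpσ hS)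
  rw [← commutator_eq_bot_iff_le_centralizer, eq_bot_iff,
    ← Grp.inf_eq_bot_of_coprime (H := W) (K := Cfsg.sigmaCore L) (Nat.coprime_of_dvd fun r hr h1 h2 => by
      rw [eq_of_dvd_pGroup hW hr h1] at h2
      exact not_dvd_sigmaCore hqL h2)]
  refine le_inf ?_ ((Subgroup.commutator_mono hYK le_rfl).trans ?_)
  · rw [commutator_comm]; exact Grp.commutator_le_left_of_le_normalizer hYW
  · exact Grp.commutator_le_left_of_le_normalizer
      ((le_normalizer.trans hNL).trans (TransHyp.le_normalizer_piCoreOf L))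

omit hM in
/-- A maximal overgroup of the normaliser of a subgroup of order `p` in rank one is not conjugate to `M`. -/
theorem rank_one_not_conj (hM : IsCoatom M) {p : ℕ} [hp : Fact p.Prime] (hpσ : p ∉ Cfsg.sigma M)
    (hr : Cfsg.PRankLE p 1 M) {P : Subgroup G} (hP : Nat.card P = p) {H : Subgroup G}
    (hNH : normalizer (P : Set G) ≤ H) : ∀ g : G, H ≠ MulAut.conj g • M := by
  intro g e
  refine (normalizer_prime_order hG hM hpσ (X := MulAut.conj g⁻¹ • P) (by rw [Grp.card_conj_smul, hP]) ?_).1.2 hr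
  intro x hx
  have h1 : g * x * g⁻¹ ∈ normalizer (P : Set G) := by
    have hgP : MulAut.conj g • (MulAut.conj g⁻¹ • P) = P := by
      rw [Grp.conj_smul_conj_smul, mul_inv_cancel, map_one, one_smul]
    rw [Grp.mem_normalizer_iff_smul]
    calc MulAut.conj (g * x * g⁻¹) • P = MulAut.conj g • MulAut.conj x • MulAut.conj g⁻¹ • P := by
          rw [Grp.conj_smul_conj_smul, Grp.conj_smul_conj_smul]
      _ = P := by rw [Grp.mem_normalizer_iff_smul.1 hx, hgP]
  have h2 := hNH h1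
  rw [e, Grp.mem_smul_conj] at h2
  simpa [mul_assoc] using h2

/-- The rank one subgroups of a complement act in a prime manner on `M_σ`. -/
theorem prime_action {p : ℕ} [hp : Fact p.Prime] (hpσ : p ∉ Cfsg.sigma M) (hr : Cfsg.PRankLE p 1 M)
    {T : Subgroup G} (hT : IsPGroup p T) (hTM : T ≤ M) {P : Subgroup G} (hPT : P ≤ T) (hP : Nat.card P = p) :
    Cfsg.sigmaCore M ⊓ centralizer (P : Set G) ≤ centralizer (T : Set G) := by
  haveI := solvable_of_ne_top hG hM.1
  haveI hTc := cyclic_of_rank_one hG hT hTM hr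
  have hP1 : P ≠ ⊥ := fun e => hp.out.ne_one (hP.symm.trans (by rw [e, Subgroup.card_bot]))
  obtain ⟨H, hH, hNH⟩ := exists_coatom_normalizer hG hP1 fun e => hM.1 (top_le_iff.1 (e ▸ hPT.trans hTM))
  have hnc := rank_one_not_conj hG hM hpσ hr hP hNH
  haveI := solvable_of_ne_top hG hH.1
  have hTP : T ≤ centralizer (P : Set G) := by
    letI := IsCyclic.commGroup (α := T)
    exact (le_centralizer_iff_isMulCommutative.2 ⟨⟨fun a b => mul_comm a b⟩⟩).trans (Subgroup.centralizer_le hPT)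
  have hTH : T ≤ H := (hTP.trans (centralizer_le_normalizer _)).trans hNH
  set X := Cfsg.sigmaCore M ⊓ centralizer (P : Set G) with hX
  have hXM : X ≤ M := inf_le_left.trans (TransHyp.piCoreOf_le M)
  have hTX : T ≤ normalizer (X : Set G) := le_normalizer_inf' (hTM.trans (TransHyp.le_normalizer_piCoreOf M))
    ((hTP.trans (centralizer_le_normalizer _)).trans (normalizer_le_normalizer_centralizer))
  refine (Grp.le_of_forall_sylow (inf_le_left : X ⊓ centralizer (T : Set G) ≤ X) fun q hq => ?_).trans inf_le_right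
  obtain ⟨Q, hQ, hTQ⟩ := Grp.exists_invariant_sylow T X hTX (Nat.coprime_of_dvd fun r hr h1 h2 => by
    rw [eq_of_dvd_pGroup hT hr h1] at h2
    exact not_dvd_sigmaCore hpσ (h2.trans (card_dvd_of_le inf_le_left)))
    (Or.inl (by haveI := hT.isNilpotent; infer_instance)) q
  refine ⟨Q, hQ, le_inf hQ.1 ?_⟩
  rcases eq_or_ne Q ⊥ with hQ1 | hQ1
  · rw [hQ1]; exact bot_le
  have hqσ : q ∈ Cfsg.sigma M := TransHyp.piCoreOf_primes (π := Cfsg.sigma M) (X := M) hq.out
    ((dvd_card_of_pGroup hQ.2.1 hQ1).trans (card_dvd_of_le (hQ.1.trans inf_le_left)))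
  have hqp : p ≠ q := fun e => hpσ (e ▸ hqσ)
  obtain ⟨hWq, hTW, hWQ⟩ := comm_facts hQ.2.1 hTQ
  have hWT : ⁅⁅Q, T⁆, T⁆ = ⁅Q, T⁆ := comm_idem hqp hQ.2.1 hT hTQ
  suffices h : ⁅Q, T⁆ = ⊥ from commutator_eq_bot_iff_le_centralizer.1 h
  have hWH : ⁅Q, T⁆ ≤ H :=
    hWQ.trans ((hQ.1.trans inf_le_right).trans ((centralizer_le_normalizer _).trans hNH))
  by_cases hpH : p ∈ Cfsg.sigma H
  · obtain ⟨S, hS, hTS⟩ := exists_sylowIn_ge hTH hT
    exact kills hG hM hH hnc hqσ hqp hWq hT hWH (hTS.trans (sylow_le_derived hG hH hpH hS)) hTW hWT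
  obtain ⟨hrk, -, A, hA, hA2, hPA⟩ := normalizer_prime_order hG hH hpH hP hNH
  have hAH : A ≤ H := ((le_centralizer_iff_isMulCommutative.2 hA.1).trans (Subgroup.centralizer_le hPA)).trans
    ((centralizer_le_normalizer _).trans hNH)
  obtain ⟨A₀, hexc⟩ := exists_exc hG hH hAH hA hA2 hpH
  have hqH : q ∉ Cfsg.sigma H := sigma_disjoint hG hM hH hnc hexc.nilpotent hqσ
  obtain ⟨B, -, hB, hB2, hBW, hid⟩ := tau2_comm hG hH (p := p) ⟨hp.out, hpH, hrk.1, hrk.2⟩
    (U := T ⊔ ⁅Q, T⁆) (sup_le hTH hWH) (fun r hr hd => by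
      rcases hr.dvd_mul.1 (hd.trans (Grp.card_sup_dvd_mul hTW)) with h | h
      · rw [eq_of_dvd_pGroup hT hr h]; exact hpH
      · rw [eq_of_dvd_pGroup hWq hr h]; exact hqH)
    (W := ⁅Q, T⁆) (hWT.ge.trans (Subgroup.commutator_mono le_sup_right le_sup_left))
    (fun hd => hqp (eq_of_dvd_pGroup hWq hp.out hd))
  have h := centralizes_of_plane hG hM hqσ hr hid hWq (hWQ.trans (hQ.1.trans hXM)) hB hB2 hBW hT hTW
  rw [← hWT, commutator_comm]
  exact commutator_eq_bot_iff_le_centralizer.2 h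

end Cfsg.Agent.Transfer.Loc
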