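import Cfsg.Agent.Lib.Transfer.Local.KappaBasic

/-!
The `κ(M)'`-part of a complement of `M_σ` and the standard factorisation.
-/

set_option autoImplicit false
set_option linter.style.haveILetI false
set_option linter.unusedSectionVars false
set_option maxHeartbeats 1000000

namespace Cfsg.Agent.Transfer.Loc

open Subgroup
open scoped commutatorElement Pointwise

universe u

variable {G : Type u} [Group G] [Finite G] (hG : Cfsg.IsMinSimpleOddOrder G) {M : Subgroup G} (hM : IsCoatom M)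
  {E : Subgroup G} (hE : Cfsg.IsComplIn E (Cfsg.sigmaCore M) M)
include hG hM hE

/-- `K` acts regularly on the `κ'`-subgroups of `E` when `κ(M) ⊆ τ₁(M)`. -/
theorem kappa'_regular (hsub : Cfsg.kappa M ⊆ Cfsg.tau1 M) {K U : Subgroup G}
    (hK : Cfsg.IsPiHallOf (Cfsg.kappa M) K M) (hKE : K ≤ E) (hUE : U ≤ E)
    (hU : ∀ q : ℕ, q.Prime → q ∣ Nat.card U → q ∉ Cfsg.kappa M) {k : G} (hk : k ∈ K) (hk1 : k ≠ 1) :
    U ⊓ centralizer ({k} : Set G) = ⊥ := by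
  by_contra hne
  obtain ⟨u, ⟨huU, huk⟩, hu1⟩ := (bot_or_exists_ne_one _).resolve_left hne
  obtain ⟨r, _, z, hz, -, hzc, -⟩ := exists_prime_zpowers_le hk1
  obtain ⟨s, _, w, hw, -, hwc, -⟩ := exists_prime_zpowers_le hu1
  have hwU : zpowers w ≤ U := zpowers_le.2 ((zpowers_le.2 huU) hw)
  have hzK : zpowers z ≤ K := zpowers_le.2 ((zpowers_le.2 hk) hz)
  refine hU s Fact.out (hwc ▸ card_dvd_of_le hwU) (kappa_regular hG hM hE hsub (hzK.trans hKE) hzc
    (hK.2.1 r Fact.out (hzc ▸ card_dvd_of_le hzK)) (hwU.trans hUE) hwc fun a ha => mem_centralizer_iff.2 fun b hb => ?_)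
  obtain ⟨i, rfl⟩ := (zpowers_le.2 hw) ha
  obtain ⟨j, rfl⟩ := (zpowers_le.2 hz) hb
  exact (((show Commute u k from mem_centralizer_singleton_iff.1 huk).symm.zpow_left j).zpow_right i).eq

/-- The `κ'`-subgroups of `E` normalised by `K ≠ 1` are abelian. -/
theorem kappa'_abelian (hsub : Cfsg.kappa M ⊆ Cfsg.tau1 M) {K U : Subgroup G}
    (hK : Cfsg.IsPiHallOf (Cfsg.kappa M) K M) (hKE : K ≤ E) (hK1 : K ≠ ⊥) (hUE : U ≤ E)
    (hU : ∀ q : ℕ, q.Prime → q ∣ Nat.card U → q ∉ Cfsg.kappa M) (hKU : K ≤ normalizer (U : Set G)) :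
    IsMulCommutative U := by
  obtain ⟨k, hk, hk1⟩ := (bot_or_exists_ne_one K).resolve_left hK1
  obtain ⟨r, _, z, hz, hzr, -, -⟩ := exists_prime_zpowers_le hk1
  have hzK : z ∈ K := (zpowers_le.2 hk) hz
  have hz1 : z ≠ 1 := fun e => (Fact.out (p := r.Prime)).ne_one (by rw [← hzr, e, orderOf_one])
  have hn : Group.IsNilpotent U := Grp.isNilpotent_of_fpf (p := r) (b := z)
    (by rw [← hzr]; exact pow_orderOf_eq_one z) (hKU hzK) (kappa'_regular hG hM hE hsub hK hKE hUE hU hzK hz1)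
  exact (Cfsg.Agent.S1420.result hG M hM E hE).1 U (hUE.trans hE.1) hn fun p hp hd =>
    compl_prime hG hM hE hp (hd.trans (card_dvd_of_le hUE))

/-- A Hall `κ'`-subgroup of `E` is normal in `E` when `κ(M) ⊆ τ₁(M)`. -/
theorem kappa'_normal (hsub : Cfsg.kappa M ⊆ Cfsg.tau1 M) {U : Subgroup G}
    (hU : Cfsg.IsPiHallOf {q | q.Prime ∧ q ∉ Cfsg.kappa M ∧ q ∉ Cfsg.sigma M} U E) :
    E ≤ normalizer (U : Set G) := by
  set π := {q | q.Prime ∧ q ∉ Cfsg.kappa M ∧ q ∉ Cfsg.sigma M}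
  have hD : ∀ p : ℕ, p.Prime → p ∣ Nat.card ↥⁅E, E⁆ → p ∈ π := fun p hp hd =>
    ⟨hp, fun hκ => (hsub hκ).2.2.2.1 (hd.trans (card_dvd_of_le (commutator_mono hE.1 hE.1))),
      compl_prime hG hM hE hp (hd.trans (card_dvd_of_le E.commutator_le_self))⟩
  have hUN : U ≤ normalizer ((⁅E, E⁆ : Subgroup G) : Set G) :=
    hU.1.trans (le_normalizer_commutator' le_normalizer le_normalizer)
  have hle : ⁅E, E⁆ ≤ U := by
    have hW : U ⊔ ⁅E, E⁆ ≤ E := sup_le hU.1 E.commutator_le_self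
    have h1 : U.relIndex (U ⊔ ⁅E, E⁆) ∣ Nat.card ↥⁅E, E⁆ := by
      refine Nat.dvd_of_mul_dvd_mul_left (k := Nat.card U) Nat.card_pos ?_
      rw [Grp.card_mul_relIndex le_sup_left]
      exact Grp.card_sup_dvd_mul hUN
    have h2 : U.relIndex (U ⊔ ⁅E, E⁆) = 1 := by
      by_contra hne
      obtain ⟨p, hp, hd⟩ := Nat.exists_prime_and_dvd hne
      refine hU.2.2 p hp (hD p hp (hd.trans h1)) (hd.trans (Dvd.intro ((U ⊔ ⁅E, E⁆).relIndex E) ?_))
      exact Subgroup.relIndex_mul_relIndex U (U ⊔ ⁅E, E⁆) E le_sup_left hW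
    exact le_sup_right.trans (Subgroup.relIndex_eq_one.1 h2)
  refine Grp.PiHall.le_normalizer_of_conj_mem fun e he u hu => ?_
  have h3 := U.mul_mem (hle (commutator_mem_commutator he (hU.1 hu))) hu
  rwa [commutatorElement_def, inv_mul_cancel_right] at h3

omit hE in
/-- The standard factorisation gives a complement `E = U K`. -/
theorem decomp_compl {K U : Subgroup G} (hKU : Cfsg.IsSigmaDecomposition M K U) :
    Cfsg.IsComplIn (U ⊔ K) (Cfsg.sigmaCore M) M ∧ Nat.card ↥(U ⊔ K) = Nat.card U * Nat.card K ∧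
      ∀ q : ℕ, q.Prime → q ∣ Nat.card U → q ∉ Cfsg.kappa M := by
  have hKM := hKU.hall.1
  have hKs : (Nat.card K).Coprime (Nat.card (Cfsg.sigmaCore M)) := Nat.coprime_of_dvd fun q hq h1 h2 =>
    (hKU.hall.2.1 q hq h1).2.2.1 (TransHyp.piCoreOf_primes (π := Cfsg.sigma M) (X := M) hq h2)
  have hKN : K ≤ normalizer (Cfsg.sigmaCore M : Set G) := hKM.trans (TransHyp.le_normalizer_piCoreOf M)
  have hdec : ∀ x ∈ K ⊔ Cfsg.sigmaCore M, ∃ k ∈ K, ∃ y ∈ Cfsg.sigmaCore M, x = k * y := fun x hx => by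
    rw [← SetLike.mem_coe, Subgroup.coe_mul_of_left_le_normalizer_right K _ hKN] at hx
    obtain ⟨k, hk, y, hy, e⟩ := hx
    exact ⟨k, hk, y, hy, e.symm⟩
  have hcKs : Nat.card ↥(K ⊔ Cfsg.sigmaCore M) = Nat.card K * Nat.card (Cfsg.sigmaCore M) :=
    (complIn_card ⟨le_sup_left, le_sup_right, Grp.inf_eq_bot_of_coprime hKs, hdec⟩).symm
  have hM' := complIn_card hKU.compl
  rw [hcKs] at hM'
  have hUK : U ⊓ K = ⊥ := le_bot_iff.1 ((inf_le_inf_left U le_sup_left).trans hKU.compl.2.2.1.le)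
  have hdec' : ∀ x ∈ U ⊔ K, ∃ u ∈ U, ∃ k ∈ K, x = u * k := fun x hx => by
    rw [← SetLike.mem_coe, Subgroup.coe_mul_of_right_le_normalizer_left U K hKU.normal] at hx
    obtain ⟨u, hu, k, hk, e⟩ := hx
    exact ⟨u, hu, k, hk, e.symm⟩
  have hcE : Nat.card ↥(U ⊔ K) = Nat.card U * Nat.card K :=
    (complIn_card ⟨le_sup_left, le_sup_right, hUK, hdec'⟩).symm
  refine ⟨⟨sup_le hKU.compl.1 hKM, TransHyp.piCoreOf_le M, Grp.inf_eq_bot_of_coprime (Nat.coprime_of_dvd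
    fun q hq h1 h2 => ?_), fun m hm => ?_⟩, hcE, fun q hq hd hκ => hKU.hall.2.2 q hq hκ ?_⟩
  · rw [hcE] at h1
    have hσ := TransHyp.piCoreOf_primes (π := Cfsg.sigma M) (X := M) hq h2
    rcases hq.dvd_mul.1 h1 with h | h
    · exact decomp_U_prime hG hM hKU hq h hσ
    · exact (hKU.hall.2.1 q hq h).2.2.1 hσ
  · obtain ⟨u, hu, b, hb, rfl⟩ := hKU.compl.2.2.2 m hm
    obtain ⟨k, hk, y, hy, rfl⟩ := hdec b hb
    exact ⟨u * k, Subgroup.mul_mem_sup hu hk, y, hy, (mul_assoc u k y).symm⟩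
  · refine hd.trans ⟨Nat.card (Cfsg.sigmaCore M), Nat.eq_of_mul_eq_mul_left (Nat.card_pos (α := K)) ?_⟩
    rw [Grp.card_mul_relIndex hKM, ← hM']
    ring

omit hE in
/-- `U` is a normal abelian regular subgroup of `U K` when `K ≠ 1`. -/
theorem decomp_facts {K U : Subgroup G} (hKU : Cfsg.IsSigmaDecomposition M K U) :
    Cfsg.kappa M ⊆ Cfsg.tau1 M ∧ (∀ k ∈ K, k ≠ 1 → U ⊓ centralizer ({k} : Set G) = ⊥) ∧
      (K ≠ ⊥ → IsMulCommutative U) := by
  have hsub := kappa_subset_tau1 hG hM hKU.hall hKU.cyclic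
  obtain ⟨hE', -, hU⟩ := decomp_compl hG hM hKU
  exact ⟨hsub, fun k hk hk1 => kappa'_regular hG hM hE' hsub hKU.hall le_sup_right le_sup_left hU hk hk1,
    fun hK1 => kappa'_abelian hG hM hE' hsub hKU.hall le_sup_right hK1 le_sup_left hU hKU.normal⟩

omit hE in
/-- A cyclic Hall `κ`-subgroup extends to a standard factorisation. -/
theorem exists_decomp {K : Subgroup G} (hKc : IsCyclic K) (hK : Cfsg.IsPiHallOf (Cfsg.kappa M) K M) :
    ∃ U : Subgroup G, Cfsg.IsSigmaDecomposition M K U := by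
  haveI := solvable_of_ne_top hG hM.1
  obtain ⟨E, hE, hKE⟩ := kappa_compl hG hM hK
  haveI := isSolvable_of_le hE.1
  set π := {q | q.Prime ∧ q ∉ Cfsg.kappa M ∧ q ∉ Cfsg.sigma M}
  obtain ⟨U, hU⟩ := Grp.PiHall.exists_piHall π E
  have hN := kappa'_normal hG hM hE (kappa_subset_tau1 hG hM hK hKc) hU
  have hKs : K ≤ normalizer (Cfsg.sigmaCore M : Set G) := hK.1.trans (TransHyp.le_normalizer_piCoreOf M)
  have hKE' := kappa_hall_compl hG hM hE hK hKE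
  have hsup : U ⊔ K = E := le_antisymm (sup_le hU.1 hKE) (Grp.le_of_forall_sylow (sup_le hU.1 hKE) fun p hp => by
    by_cases hd : p ∣ Nat.card E
    · by_cases hκ : p ∈ Cfsg.kappa M
      · obtain ⟨T, hT⟩ := Grp.exists_isSylowIn p K
        refine ⟨T, ⟨hT.1.trans hKE, hT.2.1, fun hd' => ?_⟩, hT.1.trans le_sup_right⟩
        rw [← Subgroup.relIndex_mul_relIndex T K E hT.1 hKE] at hd'
        exact (hp.out.dvd_mul.1 hd').elim hT.2.2 fun h' => hKE'.2.2 p hp.out hκ h'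
      · obtain ⟨T, hT⟩ := Grp.exists_isSylowIn p U
        refine ⟨T, ⟨hT.1.trans hU.1, hT.2.1, fun hd' => ?_⟩, hT.1.trans le_sup_left⟩
        rw [← Subgroup.relIndex_mul_relIndex T U E hT.1 hU.1] at hd'
        exact (hp.out.dvd_mul.1 hd').elim hT.2.2 fun h' =>
          hU.2.2 p hp.out ⟨hp.out, hκ, compl_prime hG hM hE hp.out hd⟩ h'
    · exact ⟨⊥, ⟨bot_le, IsPGroup.of_bot, by rwa [Subgroup.relIndex_bot_left]⟩, bot_le⟩)
  refine ⟨U, hKc, hK, ⟨hU.1.trans hE.1, sup_le hK.1 hE.2.1, ?_, fun m hm => ?_⟩, hKE.trans hN⟩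
  · refine Grp.inf_eq_bot_of_coprime (Nat.coprime_of_dvd fun p hp h1 h2 => ?_)
    rcases hp.dvd_mul.1 (h2.trans (Grp.card_sup_dvd_mul hKs)) with h | h
    · exact (hU.2.1 p hp h1).2.1 (hK.2.1 p hp h)
    · exact (hU.2.1 p hp h1).2.2 (TransHyp.piCoreOf_primes (π := Cfsg.sigma M) (X := M) hp h)
  · obtain ⟨e, he, y, hy, rfl⟩ := hE.2.2.2 m hm
    rw [← hsup, ← SetLike.mem_coe, Subgroup.coe_mul_of_right_le_normalizer_left U K (hKE.trans hN)] at he
    obtain ⟨u, hu, k, hk, rfl⟩ := he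
    exact ⟨u, hu, k * y, Subgroup.mul_mem_sup hk hy, mul_assoc u k y⟩

end Cfsg.Agent.Transfer.Loc
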