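import Cfsg.Agent.Lib.Transfer.Local.KappaDual
import Cfsg.Agent.S1354

/-!
The pair `(M, K)`, `(M*, K*)` and its properties.
-/

set_option autoImplicit false
set_option linter.style.haveILetI false
set_option linter.unusedSectionVars false
set_option maxHeartbeats 1000000

namespace Cfsg.Agent.Transfer.Loc

open Subgroup
open scoped commutatorElement Pointwise

universe u

variable {G : Type u} [Group G] [Finite G]

/-- `M*` is the dual of `M` with respect to `K`. -/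
structure KappaPair (M K Ms : Subgroup G) : Prop where
  hG : Cfsg.IsMinSimpleOddOrder G
  hM : IsCoatom M
  hMs : IsCoatom Ms
  hK : Cfsg.IsPiHallOf (Cfsg.kappa M) K M
  hK1 : K ≠ ⊥
  star1 : kStar M K ≠ ⊥
  hall : Cfsg.IsPiHallOf (Cfsg.kappa Ms) (kStar M K) Ms
  dual : kStar Ms (kStar M K) = K
  cycK : IsCyclic K
  cycStar : IsCyclic (kStar M K)
  primeCard : (Nat.card K).Prime ∨ (Nat.card (kStar M K)).Prime
  partners : ∀ L, ZPartner (K ⊔ kStar M K) L → L = M ∨ L = Ms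

/-- The pair from the hypotheses of the statements. -/
theorem kappaPair_of (hG : Cfsg.IsMinSimpleOddOrder G) {M K Ms : Subgroup G} (hM : IsCoatom M)
    (hK : Cfsg.IsPiHallOf (Cfsg.kappa M) K M) (hK1 : K ≠ ⊥) (hMs : IsCoatom Ms) (hdual : K = kStar Ms (kStar M K))
    (hhall : Cfsg.IsPiHallOf (Cfsg.kappa Ms) (kStar M K) Ms) : KappaPair M K Ms := by
  obtain ⟨L, hL, -, -, -, hc, hc', hp, -, hall⟩ := kappa_dual hG hM hK hK1
  obtain ⟨E, hE, hKE⟩ := kappa_compl hG hM hK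
  obtain ⟨-, hfix, -⟩ := kappa_prime_action hG hM hE hK hKE hK1
  have hZ : ZPartner (K ⊔ kStar M K) Ms := ⟨hMs, kStar M K, hhall, hfix, by rw [← hdual, sup_comm]⟩
  have hne : Ms ≠ M := fun e => hK1 (by
    subst e
    obtain ⟨-, -, -, hcop, -⟩ := kStar_facts hG hM hK
    exact (inf_eq_left.2 (hdual.le.trans inf_le_left)).symm.trans (Grp.inf_eq_bot_of_coprime hcop))
  obtain rfl := (hall Ms hZ).resolve_left hne
  exact ⟨hG, hM, hMs, hK, hK1, hfix, hhall, hdual.symm, hc, hc', hp, hall⟩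

/-- Every Hall `κ`-subgroup has a pair. -/
theorem exists_kappaPair (hG : Cfsg.IsMinSimpleOddOrder G) {M K : Subgroup G} (hM : IsCoatom M)
    (hK : Cfsg.IsPiHallOf (Cfsg.kappa M) K M) (hK1 : K ≠ ⊥) : ∃ Ms, KappaPair M K Ms := by
  obtain ⟨L, hL, -, hhall, hdual, -⟩ := kappa_dual hG hM hK hK1
  exact ⟨L, kappaPair_of hG hM hK hK1 hL hdual.symm hhall⟩

namespace KappaPair

variable {M K Ms : Subgroup G} (h : KappaPair M K Ms)
include h

theorem symm : KappaPair Ms (kStar M K) M where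
  hG := h.hG
  hM := h.hMs
  hMs := h.hM
  hK := h.hall
  hK1 := h.star1
  star1 := h.dual.symm ▸ h.hK1
  hall := h.dual.symm ▸ h.hK
  dual := by rw [h.dual]
  cycK := h.cycStar
  cycStar := h.dual.symm ▸ h.cycK
  primeCard := h.dual.symm ▸ h.primeCard.symm
  partners := by rw [h.dual, sup_comm]; exact fun L hL => (h.partners L hL).symm

theorem le_sigmaCore_dual : K ≤ Cfsg.sigmaCore Ms := h.dual.ge.trans inf_le_left

theorem ne : Ms ≠ M := fun e => h.hK1 (by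
  obtain ⟨-, -, -, hcop, -⟩ := kStar_facts h.hG h.hM h.hK
  exact (inf_eq_left.2 (e ▸ h.le_sigmaCore_dual)).symm.trans (Grp.inf_eq_bot_of_coprime hcop))

theorem le_inf_pair : K ⊔ kStar M K ≤ M ⊓ Ms :=
  le_inf (kStar_facts h.hG h.hM h.hK).1
    (sup_le (h.le_sigmaCore_dual.trans (TransHyp.piCoreOf_le Ms)) h.hall.1)

theorem not_conj (g : G) : Ms ≠ MulAut.conj g • M :=
  zpartner_not_conj h.hG ⟨h.hM, K, h.hK, h.hK1, rfl⟩
    ⟨h.hMs, kStar M K, h.hall, h.star1, by rw [h.dual, sup_comm]⟩ h.ne g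

/-- `σ(M)` and `σ(M*)` are disjoint. -/
theorem disjoint {p : ℕ} (hp : p.Prime) (hσ : p ∈ Cfsg.sigma M) : p ∉ Cfsg.sigma Ms := by
  haveI := Fact.mk hp
  obtain ⟨q, hq, hqd⟩ := Nat.exists_prime_and_dvd (fun e => h.hK1 ((Subgroup.card_eq_one).1 e))
  exact kappa_sigma_disjoint h.hG h.hM h.hMs h.not_conj ⟨q, h.hK.2.1 q hq hqd⟩ hσ

/-- The `σ(M)`-subgroups of `M*` containing `K*` reduce to `K*`. -/
theorem sigmaCore_inf : Cfsg.sigmaCore M ⊓ Ms = kStar M K := by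
  refine le_antisymm (le_inf inf_le_left ?_) (le_inf inf_le_left h.hall.1)
  set D := Cfsg.sigmaCore M ⊓ Ms
  set D' := Cfsg.sigmaCore Ms ⊓ M
  have hcop : (Nat.card D).Coprime (Nat.card D') := Nat.coprime_of_dvd fun p hp h1 h2 => h.disjoint hp
    (TransHyp.piCoreOf_primes (π := Cfsg.sigma M) (X := M) hp (h1.trans (card_dvd_of_le inf_le_left)))
    (TransHyp.piCoreOf_primes (π := Cfsg.sigma Ms) (X := Ms) hp (h2.trans (card_dvd_of_le inf_le_left)))
  have hN : M ⊓ Ms ≤ normalizer (D : Set G) :=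
    Grp.le_normalizer_inf' (inf_le_left.trans (TransHyp.le_normalizer_piCoreOf M)) (inf_le_right.trans le_normalizer)
  have hN' : M ⊓ Ms ≤ normalizer (D' : Set G) :=
    Grp.le_normalizer_inf' (inf_le_right.trans (TransHyp.le_normalizer_piCoreOf Ms)) (inf_le_left.trans le_normalizer)
  have hD : D ≤ M ⊓ Ms := inf_le_inf_right _ (TransHyp.piCoreOf_le M)
  have hD' : D' ≤ M ⊓ Ms := le_inf inf_le_right (inf_le_left.trans (TransHyp.piCoreOf_le Ms))
  have hbot : D ⊓ D' = ⊥ := Grp.inf_eq_bot_of_coprime hcop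
  intro d hd
  refine mem_centralizer_iff.2 fun k hk => ?_
  have hk' : k ∈ D' := ⟨h.le_sigmaCore_dual hk, h.hK.1 hk⟩
  have h1 : k * d * k⁻¹ * d⁻¹ ∈ D ⊓ D' := ⟨D.mul_mem (Grp.mem_conj_normalizer (hN (hD' hk')) hd) (D.inv_mem hd), by
    rw [show k * d * k⁻¹ * d⁻¹ = k * (d * k⁻¹ * d⁻¹) by group]
    exact D'.mul_mem hk' (Grp.mem_conj_normalizer (hN' (hD hd)) (D'.inv_mem hk'))⟩
  rw [hbot, mem_bot, mul_inv_eq_one, mul_inv_eq_iff_eq_mul] at h1
  exact h1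

/-- `M ∩ M* = K × K*`. -/
theorem meet : M ⊓ Ms = K ⊔ kStar M K := by
  refine le_antisymm ?_ h.le_inf_pair
  obtain ⟨x, hx⟩ := (bot_or_exists_ne_one K).resolve_left h.hK1
  obtain ⟨r, _, z, hz, -, hzc, -⟩ := exists_prime_zpowers_le hx.2
  have hXK : zpowers z ≤ K := zpowers_le.2 ((zpowers_le.2 hx.1) hz)
  rw [← ((Cfsg.Agent.S1430.result h.hG M h.hM K h.hK h.hK1).2.2 _ hXK (hzc ▸ Fact.out)).2.1]
  refine le_inf inf_le_left ?_
  have e : Cfsg.sigmaCore Ms ⊓ M = K := by rw [h.symm.sigmaCore_inf, h.dual]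
  calc M ⊓ Ms ≤ normalizer (((Cfsg.sigmaCore Ms ⊓ M : Subgroup G)) : Set G) :=
        Grp.le_normalizer_inf' (inf_le_right.trans (TransHyp.le_normalizer_piCoreOf Ms))
          (inf_le_left.trans le_normalizer)
    _ = normalizer (K : Set G) := by rw [e]

/-- The normaliser of a line of `K` lies in `M*`. -/
theorem normalizer_line_le {X : Subgroup G} (hXK : X ≤ K) {r : ℕ} [hr : Fact r.Prime] (hX : Nat.card X = r) :
    normalizer (X : Set G) ≤ Ms := by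
  have hXM := hXK.trans h.hK.1
  obtain ⟨H, hH, hNH⟩ := exists_coatom_normalizer h.hG (K := X)
    (fun e => hr.out.ne_one (by rw [← hX, e, Subgroup.card_bot])) fun e => h.hM.1 (top_le_iff.1 (e ▸ hXM))
  obtain ⟨hZ, hrσ⟩ := exists_partner h.hG h.hM h.hK h.hK1 hXK hX hH hNH
  exact (h.partners H hZ).resolve_left
    (fun e => (h.hK.2.1 r hr.out (hX ▸ card_dvd_of_le hXK)).2.2.1 (e ▸ hrσ)) ▸ hNH

/-- `K*` is a Hall `σ(M)`-subgroup of `M*`. -/
theorem hall_sigma : Cfsg.IsPiHallOf (Cfsg.sigma M) (kStar M K) Ms := by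
  haveI := solvable_of_ne_top h.hG h.hMs.1
  have hπ : ∀ p : ℕ, p.Prime → p ∣ Nat.card (kStar M K) → p ∈ Cfsg.sigma M := fun p hp hd =>
    TransHyp.piCoreOf_primes (π := Cfsg.sigma M) (X := M) hp (hd.trans (card_dvd_of_le inf_le_left))
  obtain ⟨W₀, hW₀⟩ := Grp.PiHall.exists_piHall (Cfsg.sigma M) Ms
  obtain ⟨a, ha, hle⟩ := Grp.PiHall.dominate hW₀ h.hall.1 hπ
  have hW := Grp.PiHall.smul hW₀ (Grp.mem_normalizer_iff_smul.1 (le_normalizer ha))
  have h1 := (Cfsg.Agent.S1431.result h.hG M h.hM K h.hK h.hK1).2.2.2 _ hW.2.1 fun e => h.star1 (by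
    change MulAut.conj a • W₀ ⊓ kStar M K = ⊥ at e
    rwa [inf_eq_right.2 hle] at e)
  rwa [le_antisymm ((le_inf h1 hW.1).trans h.sigmaCore_inf.le) hle] at hW

/-- `Z = K × K*` is cyclic. -/
theorem isCyclic : IsCyclic ↥(K ⊔ kStar M K) := by
  obtain ⟨-, hKc, -, hcop, hcard⟩ := kStar_facts h.hG h.hM h.hK
  haveI := h.cycK
  haveI := h.cycStar
  obtain ⟨a, ha⟩ := IsCyclic.exists_ofOrder_eq_natCard (α := K)
  obtain ⟨b, hb⟩ := IsCyclic.exists_ofOrder_eq_natCard (α := kStar M K)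
  have hab : Commute (a : G) b := (mem_centralizer_iff.1 (hKc a.2) b b.2).symm
  refine isCyclic_of_orderOf_eq_card (⟨(a : G) * b, mul_mem (mem_sup_left a.2) (mem_sup_right b.2)⟩ : ↥(K ⊔ kStar M K)) ?_
  rw [← Subgroup.orderOf_coe, hcard, hab.orderOf_mul_eq_mul_orderOf_of_coprime, Subgroup.orderOf_coe,
    Subgroup.orderOf_coe, ha, hb]
  rw [Subgroup.orderOf_coe, Subgroup.orderOf_coe, ha, hb]
  exact Nat.Coprime.coprime_dvd_right (card_dvd_of_le inf_le_left) hcop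

/-- The mixed elements are those outside `K ∪ K*`. -/
theorem inT_iff {z : G} :
    InT (K ⊔ kStar M K) z ↔ z ∈ ((↑(K ⊔ kStar M K) : Set G) \ ((K : Set G) ∪ ↑(kStar M K))) := by
  obtain ⟨-, -, hmeet, -, -⟩ := kStar_facts h.hG h.hM h.hK
  obtain ⟨-, -, hmeet', -, -⟩ := kStar_facts h.hG h.hMs h.hall
  rw [h.dual, sup_comm] at hmeet'
  constructor
  · rintro ⟨hz, hno⟩
    refine ⟨hz, ?_⟩
    rintro (hk | hk)
    · exact hno Ms ⟨h.hMs, kStar M K, h.hall, h.star1, by rw [h.dual, sup_comm]⟩ (h.le_sigmaCore_dual hk)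
    · exact hno M ⟨h.hM, K, h.hK, h.hK1, rfl⟩ hk.1
  · rintro ⟨hz, hno⟩
    refine ⟨hz, fun L hL hzL => hno ?_⟩
    rcases h.partners L hL with rfl | rfl
    · exact Or.inr (hmeet ▸ ⟨hz, hzL⟩)
    · exact Or.inl (hmeet' ▸ ⟨hz, hzL⟩)

/-- Elements of `Z` outside `K ∪ K*` are products. -/
theorem exists_parts {z : G} (hz : z ∈ ((↑(K ⊔ kStar M K) : Set G) \ ((K : Set G) ∪ ↑(kStar M K)))) :
    ∃ x ∈ K, ∃ y ∈ kStar M K, x ≠ 1 ∧ y ≠ 1 ∧ z = x * y ∧ x ∈ zpowers z ∧ y ∈ zpowers z := by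
  obtain ⟨-, hKc, -, -, -⟩ := kStar_facts h.hG h.hM h.hK
  obtain ⟨hz, hno⟩ := hz
  rw [SetLike.mem_coe, ← SetLike.mem_coe, Subgroup.coe_mul_of_left_le_normalizer_right K _
    (hKc.trans (centralizer_le_normalizer _))] at hz
  obtain ⟨x, hx, y, hy, rfl⟩ := hz
  have hc : Commute y x := mem_centralizer_iff.1 (hKc hx) y hy
  obtain ⟨h1, h2⟩ := pi_part_mem_zpowers (π := Cfsg.sigma M) hc
    (fun q hq hd => TransHyp.piCoreOf_primes (π := Cfsg.sigma M) (X := M) hq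
      (hd.trans (Subgroup.orderOf_dvd_natCard _ hy.1)))
    (fun q hq hd => (h.hK.2.1 q hq (hd.trans (Subgroup.orderOf_dvd_natCard _ hx))).2.2.1)
  rw [hc.eq] at h1 h2
  refine ⟨x, hx, y, hy, fun e => hno (Or.inr ?_), fun e => hno (Or.inl ?_), rfl, h2, h1⟩
  · show x * y ∈ kStar M K
    rwa [e, one_mul]
  · show x * y ∈ K
    rwa [e, mul_one]

/-- A conjugate of a mixed element lying in `Z` comes from `Z`. -/
theorem ti {z c : G} (hz : z ∈ ((↑(K ⊔ kStar M K) : Set G) \ ((K : Set G) ∪ ↑(kStar M K))))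
    (hc : c * z * c⁻¹ ∈ K ⊔ kStar M K) : c ∈ K ⊔ kStar M K :=
  inT_ti h.hG ⟨h.hM, K, h.hK, h.hK1, rfl⟩ (h.inT_iff.2 hz) hc

/-- The centraliser in `M` of a nonidentity element of `K`. -/
theorem inf_centralizer {x : G} (hx : x ∈ K) (hx1 : x ≠ 1) :
    M ⊓ centralizer ({x} : Set G) = K ⊔ kStar M K :=
  (Cfsg.Agent.S1354.result h.hG M h.hM K h.cycK h.hK).2 h.hK1 x hx hx1

/-- The centraliser of a nonidentity element of `K*` lies in `M`. -/
theorem centralizer_star_le {y : G} (hy : y ∈ kStar M K) (hy1 : y ≠ 1) : centralizer ({y} : Set G) ≤ M := by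
  obtain ⟨x, hx, hx1⟩ := (bot_or_exists_ne_one K).resolve_left h.hK1
  obtain ⟨r, _, z, hz, -, hzc, -⟩ := exists_prime_zpowers_le hx1
  have hXK : zpowers z ≤ K := zpowers_le.2 ((zpowers_le.2 hx) hz)
  exact kappa_fixed_centralizer h.hG h.hM (h.hK.2.1 r Fact.out (hzc ▸ card_dvd_of_le hXK)) (hXK.trans h.hK.1) hzc
    (inf_le_inf_left _ (centralizer_le hXK) hy) hy1

/-- The centraliser of a mixed element. -/
theorem centralizer_mixed {z : G} (hz : z ∈ ((↑(K ⊔ kStar M K) : Set G) \ ((K : Set G) ∪ ↑(kStar M K)))) :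
    centralizer ({z} : Set G) = K ⊔ kStar M K := by
  refine le_antisymm (fun c hc => h.ti hz ?_) fun c hc => ?_
  · rw [show c * z = z * c from mem_centralizer_singleton_iff.1 hc, mul_inv_cancel_right]
    exact hz.1
  · haveI := h.isCyclic
    letI : CommGroup ↥(K ⊔ kStar M K) := IsCyclic.commGroup
    exact mem_centralizer_singleton_iff.2 (congrArg Subtype.val (mul_comm (⟨c, hc⟩ : ↥(K ⊔ kStar M K)) ⟨z, hz.1⟩))

end KappaPair

end Cfsg.Agent.Transfer.Loc
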