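import Cfsg.Agent.Lib.Transfer.Local.TauOneUnique
import Cfsg.Agent.Lib.Grp.CoprimeHall

/-!
Two maximal subgroups in which a subgroup of prime order is a `τ₁`-subgroup with fixed points.
-/

set_option autoImplicit false
set_option linter.style.haveILetI false
set_option linter.unusedSectionVars false
set_option maxHeartbeats 1000000

namespace Cfsg.Agent.Transfer.Loc

open Subgroup
open scoped commutatorElement Pointwise

universe u

variable {G : Type u} [Group G] [Finite G] (hG : Cfsg.IsMinSimpleOddOrder G) {M : Subgroup G} (hM : IsCoatom M)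
include hG hM

/-- A prime of `C_{M_σ}(P)`, `p ∈ τ₁(M)`, is in `σ` only for the conjugates of `M`. -/
theorem tau1_private {p q : ℕ} [hp : Fact p.Prime] [hq : Fact q.Prime] (hτ : p ∈ Cfsg.tau1 M)
    {P X : Subgroup G} (hPM : P ≤ M) (hP : Nat.card P = p) (hX : Nat.card X = q)
    (hXσ : X ≤ Cfsg.sigmaCore M ⊓ centralizer (P : Set G)) {H : Subgroup G} (hH : IsCoatom H)
    (hnc : ∀ g : G, H ≠ MulAut.conj g • M) : q ∉ Cfsg.sigma H := by
  intro hqH
  have hqσ : q ∈ Cfsg.sigma M := TransHyp.piCoreOf_primes (π := Cfsg.sigma M) (X := M) hq.out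
    (hX.symm.dvd.trans (card_dvd_of_le (hXσ.trans inf_le_left)))
  obtain ⟨S⟩ : Nonempty (Sylow q ↥(Cfsg.sigmaCore M)) := inferInstance
  obtain ⟨-, hU, hSM⟩ := Cfsg.Agent.S1423.result hG M hM q hqσ X
    ((hXσ.trans inf_le_left).trans (TransHyp.piCoreOf_le M)) hX S
    (or_iff_not_imp_left.2 fun hβ => tau1_fixed_derived hG hM hτ hPM hP hX hXσ hβ)
  obtain ⟨g, hg⟩ := exists_conj_le hG hH hqH (S.isPGroup'.map (Cfsg.sigmaCore M).subtype)
  have e := hU.unique ⟨isCoatom_conj hG hH g, hg⟩ ⟨hM, hSM⟩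
  exact hnc g⁻¹ (by rw [← e, Grp.conj_smul_conj_smul, inv_mul_cancel, map_one, one_smul])

omit hM in
/-- A maximal overgroup of the normaliser of a rank one subgroup of order `r ∉ σ(M)`. -/
theorem sigma_or_tau2 {r : ℕ} [hr : Fact r.Prime] {R H : Subgroup G} (hR : Nat.card R = r) (hH : IsCoatom H)
    (hNH : normalizer (R : Set G) ≤ H) : r ∈ Cfsg.sigma H ∨ r ∈ Cfsg.tau2 H := by
  by_cases h : r ∈ Cfsg.sigma H
  · exact Or.inl h
  · obtain ⟨hrk, -⟩ := normalizer_prime_order hG hH h hR hNH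
    exact Or.inr ⟨hr.out, h, hrk.1, hrk.2⟩

omit hM in
/-- A subgroup of prime order of rank one dividing `|E'|` is normal in a complement `E`. -/
theorem tau3_normal {H : Subgroup G} (hH : IsCoatom H) {E : Subgroup G} (hE : Cfsg.IsComplIn E (Cfsg.sigmaCore H) H)
    {t : ℕ} [ht : Fact t.Prime] (hσ : t ∉ Cfsg.sigma H) (hr : Cfsg.PRankLE t 1 H) (hd : t ∣ Nat.card ↥⁅H, H⁆)
    {Z : Subgroup G} (hZE : Z ≤ E) (hZ : Nat.card Z = t) : Z ≤ ⁅E, E⁆ ∧ E ≤ normalizer (Z : Set G) := by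
  haveI := solvable_of_ne_top hG hH.1
  haveI := isSolvable_of_le hE.1
  have hrE := prankLE_mono hE.1 hr
  have hZp : IsPGroup t Z := IsPGroup.of_card (n := 1) (by rw [hZ, pow_one])
  have hdE := compl_dvd_derived hG hH hE hσ hd
  have hZ' := le_derived_of_rank_one hG hrE hdE hZE hZp
  refine ⟨hZ', fun e he => Grp.mem_normalizer_iff_smul.2 ?_⟩
  have heZ : MulAut.conj e • Z ≤ ⁅E, E⁆ := by
    rw [← Grp.mem_normalizer_iff_smul.1 ((le_normalizer_commutator' le_normalizer le_normalizer : E ≤ normalizer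
      ((⁅E, E⁆ : Subgroup G) : Set G)) he)]
    exact Subgroup.pointwise_smul_le_pointwise_smul_iff.2 hZ'
  have hab : IsMulCommutative ↥⁅E, E⁆ := (Cfsg.Agent.S1420.result hG H hH E hE).2.1
  have hcent : MulAut.conj e • Z ≤ normalizer (Z : Set G) := ((heZ.trans
    (le_centralizer_iff_isMulCommutative.2 hab)).trans (Subgroup.centralizer_le hZ')).trans (centralizer_le_normalizer _)
  exact eq_of_card_cyclic (cyclic_of_rank_one hG
    (hZp.to_sup_of_normal_left' (hZp.map _) hcent : IsPGroup t ↥(Z ⊔ MulAut.conj e • Z))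
    (sup_le hZE (heZ.trans E.commutator_le_self)) hrE) le_sup_right le_sup_left (by rw [Grp.card_conj_smul])

omit hG hM in
/-- A subgroup of prime order centralises itself. -/
theorem le_centralizer_self {r : ℕ} [Fact r.Prime] {R : Subgroup G} (hR : Nat.card R = r) :
    R ≤ centralizer (R : Set G) :=
  le_centralizer_iff_isMulCommutative.2 (elem_of_card_prime hR).1

/-- The primes of the fixed points of a `τ₁`-subgroup `R` have rank one in the overgroups of `N(R)`. -/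
theorem tau1_fixed_rank_one {r t : ℕ} [hr : Fact r.Prime] [ht : Fact t.Prime] (hτ : r ∈ Cfsg.tau1 M)
    {R Z : Subgroup G} (hRM : R ≤ M) (hR : Nat.card R = r) (hZ : Z ≤ Cfsg.sigmaCore M ⊓ centralizer (R : Set G))
    (hZc : Nat.card Z = t) {H : Subgroup G} (hH : IsCoatom H) (hNH : normalizer (R : Set G) ≤ H) :
    Cfsg.PRankLE t 1 H := by
  haveI := solvable_of_ne_top hG hH.1
  have hR1 : R ≠ ⊥ := fun e => hr.out.ne_one (hR.symm.trans (by rw [e, Subgroup.card_bot]))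
  have hKH : centralizer (R : Set G) ≤ H := (centralizer_le_normalizer _).trans hNH
  have hHM := rank_one_not_conj hG hM hτ.2.1 hτ.2.2.2.2 hR hNH
  have htH : t ∉ Cfsg.sigma H := tau1_private hG hM hτ hRM hR hZc hZ hH hHM
  have hZu := tau1_unique hG hM hτ hRM hR hZc hZ
  have hZH : Z ≤ H := (hZ.trans inf_le_right).trans hKH
  have hRH : R ≤ H := (le_centralizer_self hR).trans hKH
  have hZt : IsPGroup t Z := IsPGroup.of_card (n := 1) (by rw [hZc, pow_one])
  by_contra h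
  have hτt := tau2_of_not_rank_one hG hH htH h
  rcases sigma_or_tau2 hG hR hH hNH with hrH | hrH
  · obtain ⟨E, hE, hZE⟩ := exists_compl_ge hG hH hZH fun s hs hd => by
      rw [eq_of_dvd_pGroup hZt hs hd]; exact htH
    obtain ⟨T, hT⟩ := Grp.exists_isSylowIn t E
    obtain ⟨B, hBT, hB, hB2⟩ := tau2_plane hG hH hE hτt hT
    have h18 := Cfsg.Agent.S1418.result hG H hH E hE t hτt B ⟨hBT.trans hT.1, hB, hB2⟩
    obtain ⟨S, hS, hRS⟩ := exists_sylowIn_ge hRH (IsPGroup.of_card (n := 1) (by rw [hR, pow_one]) : IsPGroup r R)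
    have hRHσ : R ≤ Cfsg.sigmaCore H :=
      hRS.trans (sylow_le_piCore hG hH (alpha_subset_sigma hG hH) le_rfl hrH hS)
    have hne : Cfsg.sigmaCore H ⊓ centralizer (Z : Set G) ≠ ⊥ := fun e => hR1 (le_bot_iff.1
      ((le_inf hRHσ (le_centralizer_iff.1 (hZ.trans inf_le_right))).trans e.le))
    obtain ⟨h1, -⟩ := h18.2.2 Z (h18.1.2 Z hZE hZc) hZc hne
    exact hHM 1 (by rw [map_one, one_smul]; exact hZu.2 H hH h1)
  · obtain ⟨E, hE, hZRE⟩ := exists_compl_ge hG hH (sup_le hZH hRH) fun s hs hd => by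
      rcases hs.dvd_mul.1 (hd.trans (Grp.card_sup_dvd_mul
        ((hZ.trans inf_le_right).trans (centralizer_le_normalizer _)))) with h' | h'
      · rw [eq_of_dvd_pGroup hZt hs h']; exact htH
      · rw [hR] at h'; rw [(Nat.prime_dvd_prime_iff_eq hs hr.out).1 h']; exact hrH.2.1
    obtain ⟨T, hT⟩ := Grp.exists_isSylowIn r E
    obtain ⟨B, hBT, hB, hB2⟩ := tau2_plane hG hH hE hrH hT
    have h' := tau2_centralizes hG hH hE hrH hτt (hBT.trans hT.1) hB hB2 (le_sup_left.trans hZRE) hZt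
    exact not_prank_of_elem (n := 1) ((le_centralizer_iff.1 h').trans hZu.1) hB hB2.ge hτ.2.2.2.2

/-- The cross lemma: a conjugate of `Z'` inside `M ∩ C(R)` centralised by `C_{M_σ}(R)`. -/
theorem tau1_cross {L : Subgroup G} (hL : IsCoatom L) (hnc : ∀ g : G, L ≠ MulAut.conj g • M)
    {r t t' : ℕ} [hr : Fact r.Prime] [ht : Fact t.Prime] [ht' : Fact t'.Prime] (hτ : r ∈ Cfsg.tau1 M) (hτ' : r ∈ Cfsg.tau1 L)
    {R Z Z' : Subgroup G} (hRM : R ≤ M) (hRL : R ≤ L) (hR : Nat.card R = r)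
    (hZ : Z ≤ Cfsg.sigmaCore M ⊓ centralizer (R : Set G)) (hZc : Nat.card Z = t)
    (hZ' : Z' ≤ Cfsg.sigmaCore L ⊓ centralizer (R : Set G)) (hZ'c : Nat.card Z' = t') :
    ∃ g ∈ centralizer (R : Set G), MulAut.conj g • Z' ≤ M ∧
      Cfsg.sigmaCore M ⊓ centralizer (R : Set G) ≤ centralizer ((MulAut.conj g • Z' : Subgroup G) : Set G) := by
  haveI := solvable_of_ne_top hG hM.1
  have hnc' : ∀ g : G, M ≠ MulAut.conj g • L := fun g e => hnc g⁻¹ (by
    rw [e, Grp.conj_smul_conj_smul, inv_mul_cancel, map_one, one_smul])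
  have hR1 : R ≠ ⊥ := fun e => hr.out.ne_one (hR.symm.trans (by rw [e, Subgroup.card_bot]))
  obtain ⟨H, hH, hNH⟩ := exists_coatom_normalizer hG hR1 fun e => hM.1 (top_le_iff.1 (e ▸ hRM))
  haveI := solvable_of_ne_top hG hH.1
  have hKH : centralizer (R : Set G) ≤ H := (centralizer_le_normalizer _).trans hNH
  haveI := isSolvable_of_le hKH
  have hHM := rank_one_not_conj hG hM hτ.2.1 hτ.2.2.2.2 hR hNH
  have hHL := rank_one_not_conj hG hL hτ'.2.1 hτ'.2.2.2.2 hR hNH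
  have htH : t ∉ Cfsg.sigma H := tau1_private hG hM hτ hRM hR hZc hZ hH hHM
  have ht'H : t' ∉ Cfsg.sigma H := tau1_private hG hL hτ' hRL hR hZ'c hZ' hH hHL
  have ht'M : t' ∉ Cfsg.sigma M := tau1_private hG hL hτ' hRL hR hZ'c hZ' hM hnc'
  have htL : t ∉ Cfsg.sigma L := tau1_private hG hM hτ hRM hR hZc hZ hL hnc
  have hZu := tau1_unique hG hM hτ hRM hR hZc hZ
  have hZ'u := tau1_unique hG hL hτ' hRL hR hZ'c hZ'
  suffices key : ∃ g ∈ centralizer (R : Set G), MulAut.conj g • Z' ≤ M by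
    obtain ⟨g, hg, hgM⟩ := key
    refine ⟨g, hg, hgM, cent_tau1 hG hM hτ hRM hR hgM (by rw [Grp.card_conj_smul, hZ'c]) ?_ ht'M⟩
    have h := smul_centralizer_le (hZ'.trans inf_le_right : Z' ≤ centralizer (R : Set G)) g
    rwa [Grp.mem_normalizer_iff_smul.1 (centralizer_le_normalizer _ hg)] at h
  set π : Set ℕ := {t, t'}
  have hZπ : Grp.PiHall.IsPiNum π (Nat.card Z) := fun s hs hd => by
    rw [hZc] at hd; exact Or.inl ((Nat.prime_dvd_prime_iff_eq hs ht.out).1 hd)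
  have hZ'π : Grp.PiHall.IsPiNum π (Nat.card Z') := fun s hs hd => by
    rw [hZ'c] at hd; exact Or.inr ((Nat.prime_dvd_prime_iff_eq hs ht'.out).1 hd)
  obtain ⟨D₀, hD₀⟩ := Grp.PiHall.exists_piHall π (centralizer (R : Set G))
  obtain ⟨a, ha, hZD⟩ := Grp.PiHall.dominate hD₀ (hZ.trans inf_le_right) hZπ
  have hD := Grp.PiHall.smul hD₀ (Grp.mem_normalizer_iff_smul.1 (le_normalizer ha))
  set D := MulAut.conj a • D₀ with hDdef
  obtain ⟨b, hb, hZ'D⟩ := Grp.PiHall.dominate hD (hZ'.trans inf_le_right) hZ'π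
  set U := MulAut.conj b⁻¹ • Z' with hU
  have hUD : U ≤ D := by
    rw [hU, Subgroup.pointwise_smul_subset_iff, ← map_inv, inv_inv]; exact hZ'D
  have hUc : Nat.card U = t' := by rw [hU, Grp.card_conj_smul, hZ'c]
  refine ⟨b⁻¹, Subgroup.inv_mem _ hb, ?_⟩
  suffices hmain : U ≤ normalizer (Z : Set G) from hmain.trans (normalizer_le_of_unique hG hM hZu)
  have hDσ : ∀ s : ℕ, s.Prime → s ∣ Nat.card D → s ∉ Cfsg.sigma H := fun s hs hd => by
    rcases hD.2.1 s hs hd with rfl | rfl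
    · exact htH
    · exact ht'H
  obtain ⟨E, hE, hDE⟩ := exists_compl_ge hG hH (hD.1.trans hKH) hDσ
  have hZr := tau1_fixed_rank_one hG hM hτ hRM hR hZ hZc hH hNH
  by_cases hdt : t ∣ Nat.card ↥⁅H, H⁆
  · exact (hUD.trans hDE).trans (tau3_normal hG hH hE htH hZr hdt (hZD.trans hDE) hZc).2
  refine le_trans ?_ (centralizer_le_normalizer (Z : Set G))
  by_cases hdt' : t' ∣ Nat.card ↥⁅H, H⁆
  · have hU'r := tau1_fixed_rank_one hG hL hτ' hRL hR hZ' hZ'c hH hNH
    have hZU : Z ≤ normalizer (U : Set G) :=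
      (hZD.trans hDE).trans (tau3_normal hG hH hE ht'H hU'r hdt' (hUD.trans hDE) hUc).2
    have hbZ : MulAut.conj b • Z ≤ normalizer (Z' : Set G) := by
      have h := smul_le_normalizer hZU b
      rwa [hU, Grp.conj_smul_conj_smul, mul_inv_cancel, map_one, one_smul] at h
    have hbR : MulAut.conj b • Z ≤ centralizer (R : Set G) := by
      have h := smul_centralizer_le (hZ.trans inf_le_right : Z ≤ centralizer (R : Set G)) b
      rwa [Grp.mem_normalizer_iff_smul.1 (centralizer_le_normalizer _ hb)] at h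
    have h := hZ'.trans (cent_tau1 hG hL hτ' hRL hR (hbZ.trans (normalizer_le_of_unique hG hL hZ'u))
      (by rw [Grp.card_conj_smul, hZc]) hbR htL)
    have h' := smul_centralizer_le h b⁻¹
    rwa [Grp.conj_smul_conj_smul, inv_mul_cancel, map_one, one_smul, ← hU] at h'
  · rw [← commutator_eq_bot_iff_le_centralizer, eq_bot_iff]
    have h1 : ⁅U, Z⁆ ≤ D ⊓ ⁅H, H⁆ := le_inf
      ((Subgroup.commutator_mono hUD hZD).trans D.commutator_le_self)
      (Subgroup.commutator_mono (hUD.trans (hD.1.trans hKH)) (hZD.trans (hD.1.trans hKH)))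
    refine h1.trans (Grp.inf_eq_bot_of_coprime (Nat.coprime_of_dvd fun s hs hd1 hd2 => ?_)).le
    rcases hD.2.1 s hs hd1 with rfl | rfl
    · exact hdt hd2
    · exact hdt' hd2

/-- With a complement inside `L` the fixed points of `R` in `M_σ` lie in `L`. -/
theorem cross_into {L E : Subgroup G} (hL : IsCoatom L) (hnc : ∀ g : G, L ≠ MulAut.conj g • M)
    (hE : Cfsg.IsComplIn E (Cfsg.sigmaCore M) M) (hEL : E ≤ L)
    {r t' : ℕ} [hr : Fact r.Prime] [ht' : Fact t'.Prime] (hτ : r ∈ Cfsg.tau1 M) (hτ' : r ∈ Cfsg.tau1 L)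
    {R Z' : Subgroup G} (hRE : R ≤ E) (hR : Nat.card R = r)
    (hZ' : Z' ≤ Cfsg.sigmaCore L ⊓ centralizer (R : Set G)) (hZ'c : Nat.card Z' = t') :
    Cfsg.sigmaCore M ⊓ centralizer (R : Set G) ≤ L := by
  haveI := solvable_of_ne_top hG hM.1
  set V := Cfsg.sigmaCore M ⊓ centralizer (R : Set G) with hV
  rcases eq_or_ne V ⊥ with h0 | h0
  · rw [h0]; exact bot_le
  obtain ⟨t, ht, z, hz⟩ : ∃ t : ℕ, t.Prime ∧ ∃ z ∈ V, orderOf z = t := by
    obtain ⟨z, hz, ho⟩ := Grp.exists_prime_order_mem h0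
    exact ⟨orderOf z, ho, z, hz, rfl⟩
  haveI := Fact.mk ht
  obtain ⟨g, hg, hgM, hgC⟩ := tau1_cross hG hM hL hnc hτ hτ' (hRE.trans hE.1) (hRE.trans hEL) hR
    (zpowers_le.2 hz.1) (by rw [Nat.card_zpowers, hz.2]) hZ' hZ'c
  set U := MulAut.conj g • Z' with hU
  have hnc' : ∀ g : G, M ≠ MulAut.conj g • L := fun g e => hnc g⁻¹ (by
    rw [e, Grp.conj_smul_conj_smul, inv_mul_cancel, map_one, one_smul])
  have ht'M : t' ∉ Cfsg.sigma M := tau1_private hG hL hτ' (hRE.trans hEL) hR hZ'c hZ' hM hnc'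
  have hUR : U ≤ centralizer (R : Set G) := by
    have h := smul_centralizer_le (hZ'.trans inf_le_right : Z' ≤ centralizer (R : Set G)) g
    rwa [Grp.mem_normalizer_iff_smul.1 (centralizer_le_normalizer _ hg)] at h
  set C := M ⊓ centralizer (R : Set G) with hC
  haveI : Group.IsSolvable C := isSolvable_of_le inf_le_left
  have hsplit : C ≤ (E ⊓ centralizer (R : Set G)) ⊔ V := by
    rintro x ⟨hxM, hxR⟩
    obtain ⟨e, he, s, hs, rfl⟩ := hE.2.2.2 x hxM
    have hec : e ∈ centralizer (R : Set G) := mem_centralizer_iff.2 fun b hb => by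
      have h1 : ⁅b, e⁆ ∈ E ⊓ Cfsg.sigmaCore M := by
        refine ⟨E.commutator_le_self (commutator_mem_commutator (hRE hb) he), ?_⟩
        have h2 : ⁅b, e⁆ = ⁅b, e * s⁆ * (e * (s * b * s⁻¹ * b⁻¹) * e⁻¹) := by
          rw [commutatorElement_def, commutatorElement_def]; group
        have h3 : ⁅b, e * s⁆ = 1 := commutatorElement_eq_one_iff_mul_comm.2 (mem_centralizer_iff.1 hxR b hb)
        rw [h2, h3, one_mul]
        have hbN := TransHyp.le_normalizer_piCoreOf (π := Cfsg.sigma M) M (hE.1 (hRE hb))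
        refine Grp.mem_conj_normalizer (TransHyp.le_normalizer_piCoreOf (π := Cfsg.sigma M) M (hE.1 he)) ?_
        rw [show s * b * s⁻¹ * b⁻¹ = s * (b * s⁻¹ * b⁻¹) by group]
        exact Subgroup.mul_mem _ hs (Grp.mem_conj_normalizer hbN (Subgroup.inv_mem _ hs))
      rw [hE.2.2.1, mem_bot] at h1
      exact commutatorElement_eq_one_iff_mul_comm.1 h1
    refine Subgroup.mul_mem_sup ⟨he, hec⟩ ⟨hs, ?_⟩
    have := Subgroup.mul_mem _ (Subgroup.inv_mem _ hec) hxR
    rwa [inv_mul_cancel_left] at this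
  have hHall : Cfsg.IsPiHallOf {s | s ∉ Cfsg.sigma M} (E ⊓ centralizer (R : Set G)) C := by
    refine ⟨inf_le_inf hE.1 le_rfl, fun s hs hd => compl_prime hG hM hE hs (hd.trans (card_dvd_of_le inf_le_left)),
      fun s hs hsσ hd => ?_⟩
    have hle : E ⊓ centralizer (R : Set G) ≤ normalizer (V : Set G) := le_normalizer_inf'
      (inf_le_left.trans (hE.1.trans (TransHyp.le_normalizer_piCoreOf M)))
      ((inf_le_right.trans (centralizer_le_normalizer _)).trans normalizer_le_normalizer_centralizer)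
    have h1 : Nat.card ↥(E ⊓ centralizer (R : Set G)) * (E ⊓ centralizer (R : Set G)).relIndex C ∣
        Nat.card ↥(E ⊓ centralizer (R : Set G)) * Nat.card V := by
      rw [Grp.card_mul_relIndex (inf_le_inf hE.1 le_rfl)]
      exact (card_dvd_of_le hsplit).trans (Grp.card_sup_dvd_mul hle)
    haveI := Fact.mk hs
    exact not_dvd_sigmaCore hsσ (hd.trans ((Nat.dvd_of_mul_dvd_mul_left Nat.card_pos h1).trans
      (card_dvd_of_le inf_le_left)))
  obtain ⟨m, hm, hUm⟩ := Grp.PiHall.dominate hHall (le_inf hgM hUR) fun s hs hd => by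
    rw [hU, Grp.card_conj_smul, hZ'c] at hd
    rw [(Nat.prime_dvd_prime_iff_eq hs ht'.out).1 hd]; exact ht'M
  set U' := MulAut.conj (m⁻¹ * g) • Z' with hU'
  have hU'E : U' ≤ E := by
    have h := (Subgroup.pointwise_smul_le_pointwise_smul_iff (a := MulAut.conj m⁻¹)).2 hUm
    rw [hU, Grp.conj_smul_conj_smul, Grp.conj_smul_conj_smul, inv_mul_cancel, map_one, one_smul] at h
    exact h.trans inf_le_left
  have hZ'L : Z' ≤ L := (hZ'.trans inf_le_left).trans (TransHyp.piCoreOf_le L)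
  have hZ'u := tau1_unique hG hL hτ' (hRE.trans hEL) hR hZ'c hZ'
  have hZ'1 : Z' ≠ ⊥ := fun e => ht'.out.ne_one (hZ'c.symm.trans (by rw [e, Subgroup.card_bot]))
  have ht'L : t' ∈ Cfsg.sigma L := TransHyp.piCoreOf_primes (π := Cfsg.sigma L) (X := L) ht'.out
    (hZ'c.symm.dvd.trans (card_dvd_of_le (hZ'.trans inf_le_left)))
  obtain ⟨l, hl, c, hc, e⟩ := (Cfsg.Agent.S1404.result hG L hL t' ht'L Z'
    (IsPGroup.of_card (n := 1) (by rw [hZ'c, pow_one])) hZ'1 hZ'L).1 (m⁻¹ * g) (hU'E.trans hEL)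
  have hin : m⁻¹ * g ∈ L := e ▸ L.mul_mem hl (hZ'u.1 hc)
  have hmV : MulAut.conj m⁻¹ • V = V := Grp.mem_normalizer_iff_smul.1 (Subgroup.inv_mem _
    (le_normalizer_inf' (inf_le_left.trans (TransHyp.le_normalizer_piCoreOf M))
      ((inf_le_right.trans (centralizer_le_normalizer _)).trans normalizer_le_normalizer_centralizer) hm))
  have hVU : V ≤ centralizer (U' : Set G) := by
    have h := smul_centralizer_le hgC m⁻¹
    rwa [hmV, hU, Grp.conj_smul_conj_smul] at h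
  refine hVU.trans fun x hx => ?_
  have h1 : MulAut.conj (m⁻¹ * g)⁻¹ x ∈ centralizer (Z' : Set G) := by
    refine mem_centralizer_iff.2 fun y hy => ?_
    have h2 := mem_centralizer_iff.1 hx ((m⁻¹ * g) * y * (m⁻¹ * g)⁻¹) ⟨y, hy, rfl⟩
    rw [MulAut.conj_apply, inv_inv]
    calc y * ((m⁻¹ * g)⁻¹ * x * (m⁻¹ * g)) = (m⁻¹ * g)⁻¹ * (((m⁻¹ * g) * y * (m⁻¹ * g)⁻¹) * x) * (m⁻¹ * g) := by group
      _ = (m⁻¹ * g)⁻¹ * (x * ((m⁻¹ * g) * y * (m⁻¹ * g)⁻¹)) * (m⁻¹ * g) := by rw [h2]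
      _ = _ := by group
  have h3 := L.mul_mem (L.mul_mem hin (hZ'u.1 h1)) (L.inv_mem hin)
  rw [MulAut.conj_apply, inv_inv] at h3
  simpa [mul_assoc] using h3

end Cfsg.Agent.Transfer.Loc
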