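import Cfsg.Agent.Lib.Transfer.Local.KappaFixed

/-!
A normal abelian subgroup of `E` containing the `τ₂`-elements with fixed points.
-/

set_option autoImplicit false
set_option linter.style.haveILetI false
set_option linter.unusedSectionVars false
set_option maxHeartbeats 1000000

namespace Cfsg.Agent.Transfer.Loc

open Subgroup
open scoped commutatorElement Pointwise

universe u

variable {G : Type u} [Group G] [Finite G] (hG : Cfsg.IsMinSimpleOddOrder G) {M : Subgroup G} (hM : IsCoatom M)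
  {E : Subgroup G} (hE : Cfsg.IsComplIn E (Cfsg.sigmaCore M) M)
include hG hM hE

/-- Abelian `τ₂`-Sylow subgroups are normal in `E`. -/
theorem tau2_sylow_normal {p : ℕ} [hp : Fact p.Prime] (hτ : p ∈ Cfsg.tau2 M) {A : Subgroup G} (hAE : A ≤ E)
    (hA : Cfsg.IsElementaryAbelian p A) (hA2 : Nat.card A = p ^ 2) {S : Sylow p G}
    (hab : IsMulCommutative (S : Subgroup G)) (hAS : A ≤ (S : Subgroup G)) :
    E ≤ normalizer ((S : Subgroup G) : Set G) := by
  haveI := solvable_of_ne_top hG hM.1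
  haveI := isSolvable_of_le hE.1
  obtain ⟨hSE, -, hmem⟩ := tau2_sylow_compl hG hM hE hτ hAE hA hA2 hab hAS
  obtain ⟨⟨hEA, -⟩, ⟨hCA, hMEA, -⟩, -⟩ := Cfsg.Agent.S1418.result hG M hM E hE p hτ A ⟨hAE, hA, hA2⟩
  set C := centralizer (A : Set G) with hC
  have hCE : C ≤ E := hCA.trans hMEA.le
  have hSC : (S : Subgroup G) ≤ C := (le_centralizer_iff_isMulCommutative.2 hab).trans (centralizer_le hAS)
  have hNC : normalizer (A : Set G) ≤ normalizer (C : Set G) := normalizer_le_normalizer_cent _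
  have hNS : normalizer ((S : Subgroup G) : Set G) ≤ normalizer (A : Set G) := fun g hg => by
    rw [Grp.mem_normalizer_iff_smul]
    refine Subgroup.eq_of_le_of_card_ge ?_ (by rw [Grp.card_conj_smul])
    rintro _ ⟨b, hb, rfl⟩
    show MulAut.conj g b ∈ A
    exact hmem _ (Grp.mem_conj_normalizer hg (hAS hb)) (by rw [← map_pow, hA.2 b hb, map_one])
  have hNC' : normalizer (A : Set G) ≤ normalizer ((⁅C, C⁆ : Subgroup G) : Set G) :=
    le_normalizer_commutator' hNC hNC
  have hC'ab : ⁅C, C⁆ ≤ centralizer ((⁅C, C⁆ : Subgroup G) : Set G) := by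
    refine le_centralizer_iff_isMulCommutative.2 ?_
    have h1 : ⁅C, C⁆ ≤ ⁅E, E⁆ := commutator_mono hCE hCE
    have h2 := le_centralizer_iff_isMulCommutative.2 (Cfsg.Agent.S1420.result hG M hM E hE).2.1
    exact le_centralizer_iff_isMulCommutative.1 (h1.trans (h2.trans (centralizer_le h1)))
  have hC'E : ⁅C, C⁆ ≤ E := (C.commutator_le_self).trans hCE
  have hC'N : ⁅C, C⁆ ≤ normalizer ((S : Subgroup G) : Set G) := by
    refine (Grp.le_of_forall_sylow (inf_le_left : ⁅C, C⁆ ⊓ _ ≤ ⁅C, C⁆) fun q hq => ?_).trans inf_le_right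
    obtain ⟨T, hT⟩ := Grp.exists_isSylowIn q ⁅C, C⁆
    have hTO : T ≤ O q ⁅C, C⁆ := le_O hT.1 (hC'ab.trans ((centralizer_le hT.1).trans (centralizer_le_normalizer _)))
      hT.2.1
    refine ⟨T, hT, le_inf hT.1 (hTO.trans ?_)⟩
    set Q := O q ⁅C, C⁆ with hQ
    have hQE : Q ≤ E := (O_le q _).trans hC'E
    have hAQ : normalizer (A : Set G) ≤ normalizer (Q : Set G) := le_normalizer_core hNC'
    have hEQ : E ≤ normalizer (Q : Set G) := hEA.trans hAQ
    by_cases hqp : q = p
    · subst hqp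
      refine le_trans ?_ le_normalizer
      have h1 : IsPGroup q ↥(Q ⊔ (S : Subgroup G)) :=
        (O_isPGroup q _).to_sup_of_normal_left' S.isPGroup' (hSE.trans hEQ)
      rw [← S.3 h1 le_sup_right]
      exact le_sup_left
    refine (le_centralizer_iff.1 ?_).trans (centralizer_le_normalizer _)
    haveI hQab : IsMulCommutative Q := le_centralizer_iff_isMulCommutative.1
      ((O_le q _).trans (hC'ab.trans (centralizer_le (O_le q _))))
    by_cases hd : q ∣ Nat.card E
    swap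
    · have : Q = ⊥ := by
        by_contra h
        exact hd ((dvd_card_of_pGroup (O_isPGroup q _) h).trans (card_dvd_of_le hQE))
      rw [this]
      exact fun x _ => mem_centralizer_iff.2 fun y hy => by rw [mem_bot.1 hy, one_mul, mul_one]
    have hqσ := compl_prime hG hM hE hq.out hd
    by_cases hq1 : Cfsg.PRankLE q 1 M
    · haveI := cyclic_of_rank_one hG (O_isPGroup q ⁅C, C⁆) (hQE.trans hE.1) hq1
      exact (sylow_le_derived_normalizer hG S).trans (derived_centralizes_cyclic (hNS.trans hAQ))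
    · have hτq := tau2_of_not_rank_one hG hM hqσ hq1
      obtain ⟨V, hV⟩ := Grp.exists_isSylowIn q E
      obtain ⟨B, hBV, hB, hB2⟩ := tau2_plane hG hM hE hτq hV
      have hBE := hBV.trans hV.1
      obtain ⟨⟨-, hlines⟩, -, -⟩ := Cfsg.Agent.S1418.result hG M hM E hE q hτq B ⟨hBE, hB, hB2⟩
      refine centralizes_of_omZ (O_isPGroup q _) (hSE.trans hEQ) (coprime_O (Ne.symm hqp) S.isPGroup' (O_isPGroup q _)) ?_
      refine (tau2_centralizes hG hM hE hτq hτ hBE hB hB2 hSE S.isPGroup').trans (centralizer_le fun x hx => ?_)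
      rcases eq_or_ne x 1 with rfl | hx1
      · exact B.one_mem
      exact hlines (zpowers x) (zpowers_le.2 (hQE (omZ_le Q hx)))
        (by rw [Nat.card_zpowers, orderOf_eq_prime hx.2.2 hx1]) (mem_zpowers x)
  have hCN : C ≤ normalizer ((S : Subgroup G) : Set G) := by
    intro c hc
    rw [Grp.mem_normalizer_iff_smul]
    have hle : MulAut.conj c • (S : Subgroup G) ≤ normalizer ((S : Subgroup G) : Set G) := by
      rintro _ ⟨b, hb, rfl⟩
      show MulAut.conj c b ∈ _
      rw [MulAut.conj_apply, show c * b * c⁻¹ = ⁅c, b⁆ * b by rw [commutatorElement_def]; group]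
      exact mul_mem (hC'N (commutator_mem_commutator hc (hSC hb))) (le_normalizer hb)
    have h1 : IsPGroup p ↥((S : Subgroup G) ⊔ MulAut.conj c • (S : Subgroup G)) :=
      S.isPGroup'.to_sup_of_normal_left' (S.isPGroup'.map _) hle
    have h2 := S.3 h1 le_sup_left
    exact Subgroup.eq_of_le_of_card_ge (le_sup_right.trans h2.le) (by rw [Grp.card_conj_smul])
  intro e he
  rw [Grp.mem_normalizer_iff_smul]
  have hle : MulAut.conj e • (S : Subgroup G) ≤ normalizer ((S : Subgroup G) : Set G) := by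
    rintro _ ⟨b, hb, rfl⟩
    exact hCN (Grp.mem_conj_normalizer (hNC (hEA he)) (hSC hb))
  have h1 : IsPGroup p ↥((S : Subgroup G) ⊔ MulAut.conj e • (S : Subgroup G)) :=
    S.isPGroup'.to_sup_of_normal_left' (S.isPGroup'.map _) hle
  exact Subgroup.eq_of_le_of_card_ge (le_sup_right.trans (S.3 h1 le_sup_left).le) (by rw [Grp.card_conj_smul])

/-- A normal abelian subgroup containing the fixing `τ₂`-elements. -/
theorem tau2_fixed_part : ∃ A₀ : Subgroup G, A₀ ≤ E ∧ E ≤ normalizer (A₀ : Set G) ∧ IsMulCommutative A₀ ∧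
    ∀ e ∈ E, (∀ p : ℕ, p.Prime → p ∣ orderOf e → p ∈ Cfsg.tau2 M) →
      Cfsg.sigmaCore M ⊓ centralizer ({e} : Set G) ≠ ⊥ → e ∈ A₀ := by
  haveI := solvable_of_ne_top hG hM.1
  haveI := isSolvable_of_le hE.1
  have hplane : ∀ q : ℕ, q ∈ Cfsg.tau2 M → ∃ B : Subgroup G, B ≤ E ∧ Cfsg.IsElementaryAbelian q B ∧
      Nat.card B = q ^ 2 := fun q hq => by
    haveI := Fact.mk hq.1
    obtain ⟨V, hV⟩ := Grp.exists_isSylowIn q E
    obtain ⟨B, hBV, hB, hB2⟩ := tau2_plane hG hM hE hq hV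
    exact ⟨B, hBV.trans hV.1, hB, hB2⟩
  by_cases hna : ∃ p : ℕ, ∃ _ : Fact p.Prime, p ∈ Cfsg.tau2 M ∧ ∀ S : Sylow p G, ¬ IsMulCommutative (S : Subgroup G)
  · -- one prime with nonabelian Sylow subgroups
    obtain ⟨p, _, hτ, hS⟩ := hna
    obtain ⟨A, hAE, hA, hA2⟩ := hplane p hτ
    obtain ⟨hτ2, ⟨hcard, -⟩, hlines⟩ := Cfsg.Agent.S1419.result hG M hM E hE p hτ hS A ⟨hAE, hA, hA2⟩
    obtain ⟨⟨hEA, -⟩, -, -⟩ := Cfsg.Agent.S1418.result hG M hM E hE p hτ A ⟨hAE, hA, hA2⟩
    set A₀ := A ⊓ centralizer (Cfsg.sigmaCore M : Set G) with hA₀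
    haveI := hA.1
    refine ⟨A₀, inf_le_left.trans hAE, Grp.le_normalizer_inf' hEA
      ((hE.1.trans (sigma_le_normalizer hE)).trans (normalizer_le_normalizer_cent _)),
      le_centralizer_iff_isMulCommutative.1 (inf_le_left.trans ((le_centralizer_iff_isMulCommutative.2 hA.1).trans
        (centralizer_le inf_le_left))), fun e he hep hfix => ?_⟩
    obtain ⟨A₁, hexc⟩ := exists_exc hG hM (hAE.trans hE.1) hA hA2 hτ.2.1
    have heP : IsPGroup p (zpowers e) := isPGroup_of_primes fun q hq hd => by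
      have := hep q hq (Nat.card_zpowers e ▸ hd)
      rwa [hτ2] at this
    have heA : zpowers e ≤ centralizer (A : Set G) :=
      tau2_centralizes hG hM hE hτ hτ hAE hA hA2 (zpowers_le.2 he) heP
    obtain ⟨P, hP, hle⟩ := exists_sylowIn_ge (K := M) (U := A ⊔ zpowers e)
      (sup_le (hAE.trans hE.1) (zpowers_le.2 (hE.1 he)))
      ((Grp.elemAb_isPGroup hA).to_sup_of_normal_left' heP (heA.trans (centralizer_le_normalizer _)))
    obtain ⟨S, hPS⟩ := hP.2.1.exists_le_sylow
    have hAP : A ≤ P := le_sup_left.trans hle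
    have hA1 : A₁ = A₀ := by
      refine Subgroup.eq_of_le_of_card_ge ?_ (by rw [hcard, hexc.hA₀c])
      exact le_inf hexc.hA₀ (le_centralizer_iff.1 (hexc.lines_facts (hAP.trans hPS) (hS S)).1)
    have hord : ∀ y ∈ zpowers e, y ^ p = 1 → y ∈ A₀ := by
      intro y hy hyp
      rcases eq_or_ne y 1 with rfl | hy1
      · exact one_mem _
      by_contra hy0
      refine hfix (le_bot_iff.1 (le_trans ?_ ((hlines (zpowers y) (zpowers_le.2 ((zpowers_le.2 he) hy))
        (by rw [Nat.card_zpowers, orderOf_eq_prime hyp hy1]) fun e' => hy0 (e' ▸ mem_zpowers y)).1).le))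
      refine inf_le_inf_left _ fun c hc => mem_centralizer_iff.2 fun w hw => ?_
      obtain ⟨i, rfl⟩ := (zpowers_le.2 hy) hw
      exact ((show Commute e c from (mem_centralizer_singleton_iff.1 hc).symm).zpow_left i).eq
    have hall : ∀ j : ℕ, ∀ y ∈ zpowers e, y ^ p ^ j = 1 → y ^ p = 1 := by
      intro j
      induction j with
      | zero => intro y _ hy; rw [pow_zero, pow_one] at hy; rw [hy, one_pow]
      | succ j ih =>
        intro y hy hyj
        rw [pow_succ', pow_mul] at hyj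
        exact hexc.not_pow (hAP.trans hPS) (hS S) hP hAP hPS (hle (mem_sup_right hy))
          (hA1 ▸ hord (y ^ p) (pow_mem hy p) (ih (y ^ p) (pow_mem hy p) hyj))
    obtain ⟨j, hj⟩ := heP ⟨e, mem_zpowers e⟩
    exact hord e (mem_zpowers e) (hall j e (mem_zpowers e) (by simpa using congrArg Subtype.val hj))
  · -- abelian Sylow subgroups
    push Not at hna
    have hsyl : ∀ q : ℕ, ∀ [Fact q.Prime], q ∈ Cfsg.tau2 M → ∃ S : Sylow q G, IsMulCommutative (S : Subgroup G) ∧
        (S : Subgroup G) ≤ E ∧ E ≤ normalizer ((S : Subgroup G) : Set G) ∧ Grp.IsSylowIn q (S : Subgroup G) E := by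
      intro q _ hq
      obtain ⟨B, hBE, hB, hB2⟩ := hplane q hq
      obtain ⟨R, hBR⟩ := (Grp.elemAb_isPGroup hB).exists_le_sylow
      obtain ⟨R₀, hR₀⟩ := hna q inferInstance hq
      have hab : IsMulCommutative (R : Subgroup G) := ⟨⟨fun a b => (R.equiv R₀).injective (by
        rw [map_mul, map_mul]; exact hR₀.is_comm.comm _ _)⟩⟩
      obtain ⟨h1, h2, -⟩ := tau2_sylow_compl hG hM hE hq hBE hB hB2 hab hBR
      exact ⟨R, hab, h1, tau2_sylow_normal hG hM hE hq hBE hB hB2 hab hBR, h2⟩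
    set A₀ := Cfsg.piCoreOf (Cfsg.tau2 M) E with hA₀
    have hle : A₀ ≤ E := TransHyp.piCoreOf_le E
    have hin : ∀ q : ℕ, ∀ [Fact q.Prime], q ∈ Cfsg.tau2 M → ∀ {T : Subgroup G}, T ≤ E → IsPGroup q T →
        ∀ {S : Sylow q G}, (S : Subgroup G) ≤ E → E ≤ normalizer ((S : Subgroup G) : Set G) → T ≤ (S : Subgroup G) := by
      intro q _ _ T hTE hT S _ hEN
      have h1 := S.3 (S.isPGroup'.to_sup_of_normal_left' hT (hTE.trans hEN)) le_sup_left
      exact le_sup_right.trans h1.le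
    refine ⟨A₀, hle, TransHyp.le_normalizer_piCoreOf E, le_centralizer_iff_isMulCommutative.1 ?_, fun e he hep _ => ?_⟩
    · refine (Grp.le_of_forall_sylow (inf_le_left : A₀ ⊓ _ ≤ A₀) fun q hq => ?_).trans inf_le_right
      obtain ⟨T, hT⟩ := Grp.exists_isSylowIn q A₀
      refine ⟨T, hT, le_inf hT.1 ?_⟩
      rcases eq_or_ne T ⊥ with h0 | h0
      · rw [h0]; exact bot_le
      have hqτ : q ∈ Cfsg.tau2 M := TransHyp.piCoreOf_primes (π := Cfsg.tau2 M) (X := E) hq.out
        ((dvd_card_of_pGroup hT.2.1 h0).trans (card_dvd_of_le hT.1))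
      obtain ⟨S, hab, hSE, hEN, -⟩ := hsyl q hqτ
      refine le_centralizer_iff.1 ((Grp.le_of_forall_sylow (inf_le_left : A₀ ⊓ _ ≤ A₀) fun r hr => ?_).trans inf_le_right)
      obtain ⟨V, hV⟩ := Grp.exists_isSylowIn r A₀
      refine ⟨V, hV, le_inf hV.1 ?_⟩
      rcases eq_or_ne V ⊥ with h1 | h1
      · rw [h1]; exact bot_le
      have hrτ : r ∈ Cfsg.tau2 M := TransHyp.piCoreOf_primes (π := Cfsg.tau2 M) (X := E) hr.out
        ((dvd_card_of_pGroup hV.2.1 h1).trans (card_dvd_of_le hV.1))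
      obtain ⟨R, habR, hRE, hER, -⟩ := hsyl r hrτ
      refine (hin r hrτ (hV.1.trans hle) hV.2.1 hRE hER).trans (le_trans ?_ (centralizer_le
        (hin q hqτ (hT.1.trans hle) hT.2.1 hSE hEN)))
      by_cases hrq : r = q
      · subst hrq
        exact (hin r hrτ hRE R.isPGroup' hSE hEN).trans (le_centralizer_iff_isMulCommutative.2 hab)
      · exact commute_of_coprime (hRE.trans hEN) (hSE.trans hER) (coprime_O hrq R.isPGroup' S.isPGroup')
    · refine ((Grp.le_of_forall_sylow (inf_le_left : zpowers e ⊓ A₀ ≤ zpowers e) fun q hq => ?_).trans inf_le_right)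
        (mem_zpowers e)
      obtain ⟨T, hT⟩ := Grp.exists_isSylowIn q (zpowers e)
      refine ⟨T, hT, le_inf hT.1 ?_⟩
      rcases eq_or_ne T ⊥ with h0 | h0
      · rw [h0]; exact bot_le
      have hqτ := hep q hq.out (Nat.card_zpowers e ▸ (dvd_card_of_pGroup hT.2.1 h0).trans (card_dvd_of_le hT.1))
      obtain ⟨S, -, hSE, hEN, -⟩ := hsyl q hqτ
      refine (hin q hqτ (hT.1.trans (zpowers_le.2 he)) hT.2.1 hSE hEN).trans
        (TransHyp.le_piCoreOf hSE hEN fun r hr hd => ?_)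
      rw [eq_of_dvd_pGroup S.isPGroup' hr hd]; exact hqτ

end Cfsg.Agent.Transfer.Loc
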