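import Cfsg.Agent.Lib.Transfer.Local.CoreStructure
import Cfsg.Agent.Lib.Transfer.Local.TauTwoPart
import Cfsg.Agent.Lib.Grp.HallSystem
import Cfsg.Agent.S1430
import Cfsg.Agent.S1431
import Cfsg.Agent.S1426

/-!
The derived series of `M` against its Fitting subgroup and `M_F`.
-/

set_option autoImplicit false
set_option linter.style.haveILetI false
set_option linter.unusedSectionVars false
set_option maxHeartbeats 2000000

namespace Cfsg.Agent.Transfer.Loc

open Subgroup
open scoped commutatorElement Pointwise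

universe u

variable {G : Type u} [Group G] [Finite G]

/-- An abelian subgroup is nilpotent. -/
theorem isNilpotent_of_comm {A : Subgroup G} (hA : IsMulCommutative A) : Group.IsNilpotent A := by
  letI : CommGroup A := { (inferInstance : Group A) with mul_comm := fun a b => hA.is_comm.comm a b }
  infer_instance

/-- A subgroup with a central intersection with `N` and nilpotent image mod `N` is nilpotent. -/
theorem nilpotent_of_central_quot {N C : Subgroup G} (hCN : C ≤ normalizer (N : Set G))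
    (hc : C ≤ centralizer ((C ⊓ N : Subgroup G) : Set G)) (h : Group.IsNilpotent (qimg N C)) :
    Group.IsNilpotent C := by
  obtain ⟨φ, hφ, hker⟩ := exists_qhom hCN
  haveI := h
  refine Subgroup.isNilpotent_of_ker_le_center φ ?_
  rw [hker]
  intro x hx
  exact mem_center_iff.2 fun y => Subtype.ext (mem_centralizer_iff.1 (hc y.2) x.1 ⟨x.2, hx⟩).symm

variable (hG : Cfsg.IsMinSimpleOddOrder G) {M : Subgroup G} (hM : IsCoatom M)
include hG hM

/-- A standard factorisation exists. -/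
theorem exists_decomp_of_max : ∃ K U : Subgroup G, Cfsg.IsSigmaDecomposition M K U := by
  haveI := solvable_of_ne_top hG hM.1
  obtain ⟨K, hK⟩ := Grp.PiHall.exists_piHall (Cfsg.kappa M) M
  have hc : IsCyclic K := by
    rcases eq_or_ne K ⊥ with rfl | hK1
    · infer_instance
    obtain ⟨_, -, -, -, -, hc, -⟩ := kappa_dual hG hM hK hK1
    exact hc
  obtain ⟨U, hU⟩ := exists_decomp hG hM hc hK
  exact ⟨K, U, hU⟩

section Decomp

variable {K U : Subgroup G} (hKU : Cfsg.IsSigmaDecomposition M K U) (hK1 : K ≠ ⊥)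
include hKU hK1

/-- `U = [U, K]`. -/
theorem commutator_decomp : ⁅U, K⁆ = U := by
  haveI := solvable_of_ne_top hG hM.1
  haveI := isSolvable_of_le hKU.compl.1
  obtain ⟨-, hfpf, -⟩ := decomp_facts hG hM hKU
  obtain ⟨-, -, hU⟩ := decomp_compl hG hM hKU
  have hcop : (Nat.card K).Coprime (Nat.card U) :=
    Nat.coprime_of_dvd fun q hq h1 h2 => hU q hq h2 (hKU.hall.2.1 q hq h1)
  obtain ⟨k, hk, hk1⟩ := (bot_or_exists_ne_one K).resolve_left hK1
  have h0 : U ⊓ centralizer (K : Set G) = ⊥ :=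
    le_bot_iff.1 ((inf_le_inf_left U (centralizer_le (Set.singleton_subset_iff.2 hk))).trans (hfpf k hk hk1).le)
  have h := Grp.commutator_sup_fixed K U hKU.normal hcop (Or.inr inferInstance)
  rwa [h0, sup_bot_eq] at h

/-- `M' = U M_σ`. -/
theorem derived_eq_of_decomp : ⁅M, M⁆ = U ⊔ Cfsg.sigmaCore M :=
  le_antisymm (derived_le_of_decomp hG hM hKU) (sup_le
    ((commutator_decomp hG hM hKU hK1).ge.trans (commutator_mono hKU.compl.1 hKU.hall.1))
    (sigmaCore_le_derived hG hM))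

/-- `K* ≤ M''`. -/
theorem kStar_le_derived_two : kStar M K ≤ ⁅⁅M, M⁆, ⁅M, M⁆⁆ := by
  obtain ⟨hE', -, hU⟩ := decomp_compl hG hM hKU
  have hKM := hKU.hall.1
  have hder := derived_eq_of_decomp hG hM hKU hK1
  set S := Cfsg.sigmaCore M
  set M' := ⁅M, M⁆ with hM'
  set D := ⁅M', M'⁆ with hD
  have hM'M : M' ≤ M := M.commutator_le_self
  have hMM' : M ≤ normalizer (M' : Set G) := le_normalizer_commutator' le_normalizer le_normalizer
  have hMD : M ≤ normalizer (D : Set G) := le_normalizer_commutator' hMM' hMM'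
  have hDM' : D ≤ M' := M'.commutator_le_self
  set W := ⁅M', K⁆ ⊔ D with hW
  have hWM' : W ≤ M' := sup_le (Grp.commutator_le_left_of_le_normalizer (hKM.trans hMM')) hDM'
  have hM'W : M' ≤ normalizer (W : Set G) := Grp.PiHall.le_normalizer_of_conj_mem fun e he w hw => by
    have h1 := W.mul_mem ((le_sup_right : D ≤ W) (commutator_mem_commutator he (hWM' hw))) hw
    rwa [commutatorElement_def, inv_mul_cancel_right] at h1
  have hKW : K ≤ normalizer (W : Set G) :=
    Grp.le_normalizer_sup' (le_normalizer_commutator' (hKM.trans hMM') le_normalizer) (hKM.trans hMD)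
  have hUM' : U ≤ M' := hder.symm ▸ le_sup_left
  have hSM' : S ≤ M' := sigmaCore_le_derived hG hM
  have hUW : U ≤ W := (commutator_decomp hG hM hKU hK1).ge.trans ((commutator_mono hUM' le_rfl).trans le_sup_left)
  have hSW : S ≤ W := by
    refine (Cfsg.Agent.S1426.result hG M hM (U ⊔ K) hE').2.1.ge.trans (commutator_le.2 ?_)
    intro s hs e he
    rw [sup_comm, ← SetLike.mem_coe, Subgroup.coe_mul_of_left_le_normalizer_right K _ hKU.normal] at he
    obtain ⟨k, hk, u, hu, rfl⟩ := he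
    have e1 : ⁅s, k * u⁆ = ⁅s, k⁆ * (k * ⁅s, u⁆ * k⁻¹) := by simp only [commutatorElement_def]; group
    show ⁅s, k * u⁆ ∈ W
    rw [e1]
    exact W.mul_mem ((le_sup_left : ⁅M', K⁆ ≤ W) (commutator_mem_commutator (hSM' hs) hk)) (Grp.mem_conj_normalizer (hKW hk)
      ((le_sup_right : D ≤ W) (commutator_mem_commutator (hSM' hs) (hUM' hu))))
  have hWeq : W = M' := le_antisymm hWM' (hder ▸ sup_le hUW hSW)
  have hM'N : M' ≤ normalizer (D : Set G) := hM'M.trans hMD
  have hKN : K ≤ normalizer (D : Set G) := hKM.trans hMD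
  have hCN : ⁅M', K⁆ ≤ normalizer (D : Set G) := (le_sup_left.trans hWM').trans hM'N
  haveI : IsMulCommutative (qimg D M') := le_centralizer_iff_isMulCommutative.1 (commutator_eq_bot_iff_le_centralizer.1
    (by rw [← qimg_commutator hM'N hM'N]; exact qimg_self))
  have hV : ⁅qimg D M', qimg D K⁆ = qimg D M' := by
    rw [← qimg_commutator hM'N hKN]
    conv_rhs => rw [← hWeq, hW, qimg_sup hCN le_normalizer, qimg_self, sup_bot_eq]
  have hcop : (Nat.card (qimg D K)).Coprime (Nat.card (qimg D M')) := by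
    refine (Nat.Coprime.coprime_dvd_left (card_qimg_dvd hKN) ?_).coprime_dvd_right (card_qimg_dvd hM'N)
    refine Nat.coprime_of_dvd fun q hq h1 h2 => ?_
    have hκ := hKU.hall.2.1 q hq h1
    rw [hder] at h2
    rcases hq.dvd_mul.1 (h2.trans (Grp.card_sup_dvd_mul
      (hKU.compl.1.trans (TransHyp.le_normalizer_piCoreOf M)))) with h | h
    · exact hU q hq h hκ
    · exact hκ.2.2.1 (TransHyp.piCoreOf_primes (π := Cfsg.sigma M) (X := M) hq h)
  have hfix := Grp.abelian_commutator_inf_fixed (qimg D K) (qimg D M')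
    (qimg_normalizer (hKM.trans hMM')) hcop
  rw [hV] at hfix
  have hKsM' : kStar M K ≤ M' := inf_le_left.trans hSM'
  refine (qimg_eq_bot (hKsM'.trans hM'N)).1 (le_bot_iff.1 (le_trans (le_inf (le_inf (qimg_mono hKsM') ?_)
    (qimg_mono hKsM')) hfix.le))
  refine commutator_eq_bot_iff_le_centralizer.1 ?_
  rw [← qimg_commutator (hKsM'.trans hM'N) hKN,
    commutator_eq_bot_iff_le_centralizer.2 (inf_le_right : kStar M K ≤ _)]
  exact (qimg_eq_bot bot_le).2 bot_le

end Decomp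

/-- `M'' ≤ M_σ`. -/
theorem derived_two_le_sigmaCore : ⁅⁅M, M⁆, ⁅M, M⁆⁆ ≤ Cfsg.sigmaCore M := by
  obtain ⟨K, U, hKU⟩ := exists_decomp_of_max hG hM
  obtain ⟨hE, -, -⟩ := decomp_compl hG hM hKU
  set E := U ⊔ K
  set S := Cfsg.sigmaCore M
  have hN : M ≤ normalizer (S : Set G) := TransHyp.le_normalizer_piCoreOf M
  have hM'N : ⁅M, M⁆ ≤ normalizer (S : Set G) := M.commutator_le_self.trans hN
  have hEN : E ≤ normalizer (S : Set G) := hE.1.trans hN
  have hE'N : ⁅E, E⁆ ≤ normalizer (S : Set G) := E.commutator_le_self.trans hEN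
  rw [← qimg_eq_bot ((⁅M, M⁆).commutator_le_self.trans hM'N), qimg_commutator hM'N hM'N, qimg_commutator hN hN,
    ← compl_qimg hE, ← qimg_commutator hEN hEN, ← qimg_commutator hE'N hE'N]
  rw [commutator_eq_bot_iff_le_centralizer.2
    (le_centralizer_iff_isMulCommutative.2 (Cfsg.Agent.S1420.result hG M hM E hE).2.1)]
  exact (qimg_eq_bot bot_le).2 bot_le

/-- The primes of `C_M(M_σ)` outside `σ(M)` lie in `τ₂(M) ∪ τ₃(M)`. -/
theorem cent_sigma_primes {p : ℕ} [hp : Fact p.Prime]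
    (hd : p ∣ Nat.card ↥(M ⊓ centralizer (Cfsg.sigmaCore M : Set G))) (hσ : p ∉ Cfsg.sigma M) :
    p ∈ Cfsg.tau2 M ∨ p ∈ Cfsg.tau3 M := by
  by_cases hr : Cfsg.PRankLE p 1 M
  swap
  · exact Or.inl (tau2_of_not_rank_one hG hM hσ hr)
  by_cases hd' : p ∣ Nat.card ↥⁅M, M⁆
  · exact Or.inr ⟨hp.out, hσ, hd', hr⟩
  exfalso
  haveI := solvable_of_ne_top hG hM.1
  set S := Cfsg.sigmaCore M
  set C := M ⊓ centralizer (S : Set G)
  obtain ⟨x, hx⟩ := exists_prime_orderOf_dvd_card' p hd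
  have hxo : Nat.card (zpowers (x : G)) = p := by rw [Nat.card_zpowers, Subgroup.orderOf_coe, hx]
  have hMC : M ≤ normalizer (C : Set G) := Grp.le_normalizer_inf' le_normalizer
    ((TransHyp.le_normalizer_piCoreOf M).trans (normalizer_le_normalizer_cent _))
  have hconj : ∀ X : Subgroup G, X ≤ M → Nat.card X = p → X ≤ C := fun X hXM hX => by
    obtain ⟨m, hm, rfl⟩ := prime_sub_conj hG hr (zpowers_le.2 x.2.1) hXM hxo hX
    exact (Subgroup.pointwise_smul_le_pointwise_smul_iff.2 (zpowers_le.2 x.2)).trans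
      (Grp.mem_normalizer_iff_smul.1 (hMC hm)).le
  have hdM : p ∣ Nat.card M := hd.trans (card_dvd_of_le inf_le_left)
  obtain ⟨y, hy, hy1⟩ := (bot_or_exists_ne_one S).resolve_left (sigmaCore_ne_bot hG hM)
  have hκ : p ∈ Cfsg.kappa M := by
    refine ⟨hp.out, hdM, hσ, fun P => ?_⟩
    have hPc : IsCyclic ((P : Subgroup M).map M.subtype) :=
      cyclic_of_rank_one hG (P.isPGroup'.map M.subtype) (map_subtype_le _) hr
    refine ⟨isCyclic_of_surjective _ ((P : Subgroup M).equivMapOfInjective M.subtype M.subtype_injective).symm.surjective, ?_⟩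
    obtain ⟨z, hz⟩ := exists_prime_orderOf_dvd_card' p
      (dvd_card_of_pGroup P.isPGroup' (fun e => P.not_dvd_index (by rw [e, Subgroup.index_bot]; exact hdM)))
    refine ⟨z, z.2, fun e => hp.out.ne_one (by rw [← hz, ← Subgroup.orderOf_coe, e, orderOf_one]), y, hy, hy1, ?_⟩
    have hzC : ((z : M) : G) ∈ C := hconj (zpowers ((z : M) : G)) (zpowers_le.2 (z : M).2)
      (by rw [Nat.card_zpowers, Subgroup.orderOf_coe, Subgroup.orderOf_coe, hz]) (mem_zpowers _)
    exact (mem_centralizer_iff.1 hzC.2 y hy).symm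
  obtain ⟨K, hK⟩ := Grp.PiHall.exists_piHall (Cfsg.kappa M) M
  have hdK : p ∣ Nat.card K := by
    have h := hK.2.2 p hp.out hκ
    rw [← Grp.card_mul_relIndex hK.1] at hdM
    exact (hp.out.dvd_mul.1 hdM).resolve_right h
  obtain ⟨k, hk⟩ := exists_prime_orderOf_dvd_card' p hdK
  have hk1 : (k : G) ≠ 1 := fun e => hp.out.ne_one (by rw [← hk, ← Subgroup.orderOf_coe, e, orderOf_one])
  have hK1 : K ≠ ⊥ := fun e => hk1 ((eq_bot_iff_forall K).1 e k k.2)
  have hkC : (k : G) ∈ C := hconj (zpowers (k : G)) (zpowers_le.2 (hK.1 k.2))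
    (by rw [Nat.card_zpowers, Subgroup.orderOf_coe, hk]) (mem_zpowers _)
  have hSK : S ≤ kStar M K := ((le_inf le_rfl fun a ha => mem_centralizer_singleton_iff.2
    (mem_centralizer_iff.1 hkC.2 a ha)).trans ((Cfsg.Agent.S1430.result hG M hM K hK hK1).1 k k.2 hk1).le)
  obtain ⟨q, hq, hqd⟩ := Nat.exists_prime_and_dvd fun e => sigmaCore_ne_bot hG hM (Subgroup.card_eq_one.1 e)
  haveI := Fact.mk hq
  exact (((Cfsg.Agent.S1431.result hG M hM K hK hK1).2.2.1 q hq (hqd.trans (card_dvd_of_le hSK))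
    (Classical.arbitrary _)).2.2) ((map_subtype_le _).trans hSK)

/-- `C_M(M_σ)` splits over `M_σ`. -/
theorem cent_sigma_split {E : Subgroup G} (hE : Cfsg.IsComplIn E (Cfsg.sigmaCore M) M) :
    M ⊓ centralizer (Cfsg.sigmaCore M : Set G) =
      (E ⊓ centralizer (Cfsg.sigmaCore M : Set G)) ⊔ (Cfsg.sigmaCore M ⊓ centralizer (Cfsg.sigmaCore M : Set G)) := by
  set S := Cfsg.sigmaCore M
  refine le_antisymm ?_ (sup_le (inf_le_inf_right _ hE.1) (inf_le_inf_right _ hE.2.1))
  intro c hc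
  obtain ⟨e, he, s, hs, rfl⟩ := hE.2.2.2 c hc.1
  have hcs : Commute (e * s) s⁻¹ := ((show Commute (e * s) s from (mem_centralizer_iff.1 hc.2 s hs).symm)).inv_right
  have hn : e ^ Nat.card S ∈ centralizer (S : Set G) := by
    have h1 : e ^ Nat.card S = (e * s) ^ Nat.card S := by
      conv_lhs => rw [show e = e * s * s⁻¹ by group, hcs.mul_pow]
      rw [orderOf_dvd_iff_pow_eq_one.1 ((orderOf_inv s).dvd.trans (Subgroup.orderOf_dvd_natCard _ hs)), mul_one]
    rw [h1]
    exact pow_mem hc.2 _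
  obtain ⟨j, hj⟩ := exists_pow_eq_self_of_coprime (x := e) (n := Nat.card S)
    ((compl_coprime hG hM hE).coprime_dvd_left (Subgroup.orderOf_dvd_natCard _ he)).symm
  have heC : e ∈ centralizer (S : Set G) := hj ▸ pow_mem hn j
  refine Subgroup.mul_mem_sup ⟨he, heC⟩ ⟨hs, ?_⟩
  have h2 := (centralizer (S : Set G)).mul_mem (inv_mem heC) hc.2
  rwa [inv_mul_cancel_left] at h2

/-- `C_E(M_σ) ≤ F(E)`. -/
theorem cent_compl_le_fitting {E : Subgroup G} (hE : Cfsg.IsComplIn E (Cfsg.sigmaCore M) M) :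
    E ⊓ centralizer (Cfsg.sigmaCore M : Set G) ≤ Cfsg.fittingOf E := by
  haveI := solvable_of_ne_top hG hM.1
  haveI := isSolvable_of_le hE.1
  set S := Cfsg.sigmaCore M
  refine (Grp.le_of_forall_sylow (inf_le_left : _ ⊓ Cfsg.fittingOf E ≤ E ⊓ centralizer (S : Set G))
    fun p hp => ?_).trans inf_le_right
  obtain ⟨X, hX⟩ := Grp.exists_isSylowIn p (E ⊓ centralizer (S : Set G))
  refine ⟨X, hX, le_inf hX.1 ?_⟩
  rcases eq_or_ne X ⊥ with rfl | hX1
  · exact bot_le
  have hd := (dvd_card_of_pGroup hX.2.1 hX1).trans (card_dvd_of_le hX.1)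
  rcases cent_sigma_primes hG hM (hd.trans (card_dvd_of_le (inf_le_inf_right _ hE.1)))
    (compl_prime hG hM hE hp.out (hd.trans (card_dvd_of_le inf_le_left))) with hτ | hτ
  · obtain ⟨A₀, hA₀E, hEA₀, hA₀c, hA₀⟩ := tau2_fixed_part hG hM hE
    refine le_trans (fun x hx => hA₀ x (hX.1 hx).1 (fun q hq hqd => ?_) ?_)
      (le_fittingOf hA₀E hEA₀ (isNilpotent_of_comm hA₀c))
    · obtain ⟨n, hn⟩ := hX.2.1 ⟨x, hx⟩
      rw [(Nat.prime_dvd_prime_iff_eq hq hp.out).1 (hq.dvd_of_dvd_pow (hqd.trans (orderOf_dvd_of_pow_eq_one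
        (by simpa using congrArg Subtype.val hn))))]
      exact hτ
    · exact ne_bot_of_le_ne_bot (sigmaCore_ne_bot hG hM) (le_inf le_rfl fun a ha =>
        mem_centralizer_singleton_iff.2 (mem_centralizer_iff.1 (hX.1 hx).2 a ha))
  · obtain ⟨T, hT, hXT⟩ := exists_sylowIn_ge (hX.1.trans inf_le_left) hX.2.1
    exact hXT.trans ((compl_tau3_le hG hM hE hτ hT).2.trans (le_fittingOf E.commutator_le_self
      (le_normalizer_commutator' le_normalizer le_normalizer) (compl_derived_nilpotent hG hM hE)))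

/-- `C_M(M_σ)` is nilpotent. -/
theorem cent_sigma_nilpotent : Group.IsNilpotent ↥(M ⊓ centralizer (Cfsg.sigmaCore M : Set G)) := by
  obtain ⟨K, U, hKU⟩ := exists_decomp_of_max hG hM
  obtain ⟨hE, -, -⟩ := decomp_compl hG hM hKU
  rw [cent_sigma_split hG hM hE]
  haveI := fittingOf_isNilpotent (U ⊔ K)
  refine nilpotent_sup_of_centralize (Grp.isNilpotent_of_le (cent_compl_le_fitting hG hM hE) inferInstance)
    (isNilpotent_of_comm (le_centralizer_iff_isMulCommutative.1 (inf_le_right.trans (centralizer_le inf_le_left))))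
    (inf_le_right.trans (centralizer_le inf_le_left))

/-- When `κ(M)` is nonempty `C_M(M_σ) ≤ M'`. -/
theorem cent_sigma_le_derived {K U : Subgroup G} (hKU : Cfsg.IsSigmaDecomposition M K U) (hK1 : K ≠ ⊥) :
    M ⊓ centralizer (Cfsg.sigmaCore M : Set G) ≤ ⁅M, M⁆ := by
  obtain ⟨hE, hcK, -⟩ := decomp_compl hG hM hKU
  rw [cent_sigma_split hG hM hE]
  refine sup_le (fun x hx => ?_) (inf_le_left.trans (sigmaCore_le_derived hG hM))
  have hidx : U.relIndex (U ⊔ K) = Nat.card K :=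
    Nat.eq_of_mul_eq_mul_left (Nat.card_pos (α := U)) ((Grp.card_mul_relIndex le_sup_left).trans hcK)
  have hxU : x ∈ U := by
    refine Grp.HallSys.mem_of_coprime_relIndex (sup_le le_normalizer hKU.normal) hx.1 ?_
    rw [hidx]
    refine Nat.coprime_of_dvd fun q hq h1 h2 => ?_
    haveI := Fact.mk hq
    have hκ := hKU.hall.2.1 q hq h2
    have hτ1 := (decomp_facts hG hM hKU).1 hκ
    rcases cent_sigma_primes hG hM (h1.trans (Subgroup.orderOf_dvd_natCard _
      (show x ∈ M ⊓ centralizer (Cfsg.sigmaCore M : Set G) from ⟨hE.1 hx.1, hx.2⟩))) hκ.2.2.1 with h | h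
    · exact h.2.2.2 (kappa_rank_one hG hM hκ)
    · exact hτ1.2.2.2.1 h.2.2.1
  rw [derived_eq_of_decomp hG hM hKU hK1]
  exact mem_sup_left hxU

/-- `C_M(M_F)` is nilpotent and lies in `M'` when `κ(M)` is nonempty. -/
theorem cent_fittingHall {K U : Subgroup G} (hKU : Cfsg.IsSigmaDecomposition M K U) :
    Group.IsNilpotent ↥(M ⊓ centralizer (Cfsg.fittingHallOf M : Set G)) ∧
      (K ≠ ⊥ → M ⊓ centralizer (Cfsg.fittingHallOf M : Set G) ≤ ⁅M, M⁆) := by
  haveI := solvable_of_ne_top hG hM.1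
  by_cases hnil : Group.IsNilpotent (Cfsg.sigmaCore M)
  · rw [fittingHallOf_eq_sigmaCore hG hM hnil]
    exact ⟨cent_sigma_nilpotent hG hM, cent_sigma_le_derived hG hM hKU⟩
  obtain ⟨hU, hK1, hder, hpr, hqp, -, Q, hQ, hMQ, hQH, hqQ, hn, -⟩ := sigmaCore_structure hG hM hKU hnil
  haveI := Fact.mk hqp
  obtain ⟨hE, hcK, -⟩ := decomp_compl hG hM hKU
  set S := Cfsg.sigmaCore M
  set C := M ⊓ centralizer (Cfsg.fittingHallOf M : Set G)
  set q := Nat.card (kStar M K) with hq
  have hCS : C ≤ S := by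
    have hidx : S.relIndex M = Nat.card K := by
      have h1 := compl_card hE
      rw [hcK, hU, Subgroup.card_bot, one_mul, mul_comm] at h1
      exact Nat.eq_of_mul_eq_mul_left (Nat.card_pos (α := S)) ((Grp.card_mul_relIndex hE.2.1).trans h1.symm)
    intro c hc
    refine Grp.HallSys.mem_of_coprime_relIndex (TransHyp.le_normalizer_piCoreOf M) hc.1 ?_
    rw [show (Cfsg.piCoreOf (Cfsg.sigma M) M).relIndex M = Nat.card K from hidx]
    refine (hpr.coprime_iff_not_dvd.2 fun hd => ?_).symm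
    haveI := Fact.mk hpr
    obtain ⟨x, hx⟩ := exists_prime_orderOf_dvd_card' (Nat.card K) (hd.trans (Subgroup.orderOf_dvd_natCard _ hc))
    have hMC : M ≤ normalizer (C : Set G) := Grp.le_normalizer_inf' le_normalizer
      ((le_normalizer_fittingHallOf M).trans (normalizer_le_normalizer_cent _))
    obtain ⟨m, hm, e⟩ := prime_sub_conj hG (kappa_rank_one hG hM (hKU.hall.2.1 _ hpr dvd_rfl))
      (zpowers_le.2 x.2.1) hKU.hall.1 (by rw [Nat.card_zpowers, Subgroup.orderOf_coe, hx]) rfl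
    have hKC : K ≤ C := e ▸ (Subgroup.pointwise_smul_le_pointwise_smul_iff.2 (zpowers_le.2 x.2)).trans
      (Grp.mem_normalizer_iff_smul.1 (hMC hm)).le
    have hQK : Q ≤ kStar M K := le_inf hQ.1
      ((le_centralizer_iff.1 (hKC.trans inf_le_right)).trans' hQH)
    obtain ⟨P, hP⟩ := Grp.isSylowIn_iff.1 hQ
    exact ((Cfsg.Agent.S1431.result hG M hM K hKU.hall hK1).2.2.1 q hqp dvd_rfl P).2.2 (hP ▸ hQK)
  refine ⟨?_, fun _ => hder ▸ hCS⟩
  have hCN : C ≤ normalizer (Q : Set G) := inf_le_left.trans hMQ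
  exact nilpotent_of_central_quot hCN
    (inf_le_right.trans (centralizer_le (inf_le_right.trans hQH)))
    (Grp.isNilpotent_of_le (qimg_mono hCS) hn)

/-- `F(M) = C_M(M_F) M_F`. -/
theorem fitting_eq_cent_sup :
    Cfsg.fittingOf M = (M ⊓ centralizer (Cfsg.fittingHallOf M : Set G)) ⊔ Cfsg.fittingHallOf M := by
  obtain ⟨K, U, hKU⟩ := exists_decomp_of_max hG hM
  set H := Cfsg.fittingHallOf M
  set F := Cfsg.fittingOf M
  set C := M ⊓ centralizer (H : Set G)
  refine le_antisymm ?_ (sup_le (le_fittingOf inf_le_left (Grp.le_normalizer_inf' le_normalizer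
    ((le_normalizer_fittingHallOf M).trans (normalizer_le_normalizer_cent _))) (cent_fittingHall hG hM hKU).1)
    (fittingHallOf_le_fitting M))
  haveI hF := fittingOf_isNilpotent M
  refine (Grp.le_of_forall_sylow (inf_le_left : F ⊓ (C ⊔ H) ≤ F) fun r hr => ?_).trans inf_le_right
  obtain ⟨X, hX⟩ := Grp.exists_isSylowIn r F
  refine ⟨X, hX, le_inf hX.1 ?_⟩
  have hXM : X ≤ M := hX.1.trans (fittingOf_le M)
  by_cases hd : r ∣ Nat.card H
  · refine le_trans (fun x hx => ?_) le_sup_right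
    obtain ⟨n, hn⟩ := hX.2.1 ⟨x, hx⟩
    refine Grp.HallSys.mem_of_coprime_relIndex (le_normalizer_fittingHallOf M) (hXM hx) ?_
    refine Nat.Coprime.coprime_dvd_left (orderOf_dvd_of_pow_eq_one (by simpa using congrArg Subtype.val hn))
      (Nat.Coprime.pow_left _ ?_)
    exact (TypeP.fittingHallOf_coprime M).coprime_dvd_left hd
  · refine le_trans (fun x hx => ?_) le_sup_left
    obtain ⟨n, hn⟩ := hX.2.1 ⟨x, hx⟩
    refine ⟨hXM hx, mem_centralizer_iff.2 fun h hh => TypeP.commute_of_coprime_orderOf hF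
      (fittingHallOf_le_fitting M hh) (hX.1 hx) ?_⟩
    refine Nat.Coprime.coprime_dvd_right (orderOf_dvd_of_pow_eq_one (by simpa using congrArg Subtype.val hn))
      (Nat.Coprime.pow_right _ ?_)
    exact ((hr.out.coprime_iff_not_dvd.2 hd).coprime_dvd_right (Subgroup.orderOf_dvd_natCard _ hh)).symm

/-- `M'' ≤ F(M)`. -/
theorem derived_two_le_fitting : ⁅⁅M, M⁆, ⁅M, M⁆⁆ ≤ Cfsg.fittingOf M := by
  by_cases hnil : Group.IsNilpotent (Cfsg.sigmaCore M)
  · exact (derived_two_le_sigmaCore hG hM).trans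
      (le_fittingOf (TransHyp.piCoreOf_le M) (TransHyp.le_normalizer_piCoreOf M) hnil)
  haveI := solvable_of_ne_top hG hM.1
  obtain ⟨K, U, hKU⟩ := exists_decomp_of_max hG hM
  obtain ⟨-, -, hder, -, hqp, -, Q, hQ, hMQ, -, -, -, hall⟩ := sigmaCore_structure hG hM hKU hnil
  haveI := Fact.mk hqp
  set S := Cfsg.sigmaCore M
  haveI := isSolvable_of_le (TransHyp.piCoreOf_le M : S ≤ M)
  obtain ⟨D, hD⟩ : ∃ D, Cfsg.IsComplIn Q D S := by
    haveI : (Q.subgroupOf S).Normal :=
      (normal_subgroupOf_iff_le_normalizer hQ.1).2 ((TransHyp.piCoreOf_le M).trans hMQ)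
    obtain ⟨n, hn⟩ := IsPGroup.iff_card.1 hQ.2.1
    obtain ⟨D', hD'⟩ := Subgroup.exists_right_complement'_of_coprime (N := Q.subgroupOf S) (by
      rw [Nat.card_congr (subgroupOfEquivOfLe hQ.1).toEquiv, hn]
      refine Nat.Coprime.pow_left _ (hqp.coprime_iff_not_dvd.2 hQ.2.2))
    refine ⟨D'.map S.subtype, hQ.1, map_subtype_le _, ?_, fun x hx => ?_⟩
    · rw [← map_subgroupOf_eq_of_le hQ.1, ← Subgroup.map_inf _ _ _ S.subtype_injective, hD'.disjoint.eq_bot,
        Subgroup.map_bot]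
    · obtain ⟨⟨a, b⟩, hab⟩ := (hD'.existsUnique ⟨x, hx⟩).exists
      exact ⟨(a : S), a.2, (b : S), ⟨b, b.2, rfl⟩, congrArg Subtype.val hab.symm⟩
  obtain ⟨hDn, -, -, -, -, -, hDc⟩ := hall D hD
  have hsup : Q ⊔ D = S := le_antisymm (sup_le hD.1 hD.2.1) fun s hs => by
    obtain ⟨a, ha, b, hb, rfl⟩ := hD.2.2.2 s hs
    exact Subgroup.mul_mem_sup ha hb
  have hSN : S ≤ normalizer (Q : Set G) := (TransHyp.piCoreOf_le M).trans hMQ
  have hDN : D ≤ normalizer (Q : Set G) := hD.2.1.trans hSN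
  set W := Q ⊔ ⁅D, D⁆ with hW
  have hle : ⁅S, S⁆ ≤ W := by
    have h1 : qimg Q ⁅S, S⁆ ≤ qimg Q W := by
      rw [qimg_commutator hSN hSN, ← hsup, qimg_sup le_normalizer hDN, qimg_self, bot_sup_eq,
        ← qimg_commutator hDN hDN]
      exact qimg_mono le_sup_right
    intro x hx
    have hxN : x ∈ normalizer (Q : Set G) := hSN (S.commutator_le_self hx)
    obtain ⟨w, hw, e⟩ := h1 (mem_qimg hx hxN)
    rw [QuotientGroup.mk'_apply, QuotientGroup.mk'_apply, QuotientGroup.eq, Subgroup.mem_subgroupOf] at e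
    have := W.mul_mem hw ((le_sup_left : Q ≤ W) e)
    simpa using this
  rw [← hder]
  have hWS : W ≤ S := sup_le hD.1 (D.commutator_le_self.trans hD.2.1)
  have hWn : Group.IsNilpotent W := nilpotent_sup_of_centralize (hQ.2.1).isNilpotent
    (Grp.isNilpotent_of_le D.commutator_le_self hDn) (le_centralizer_iff.1 hDc)
  have hMW : M ≤ normalizer (W : Set G) := by
    have hWeq : W = Q ⊔ ⁅S, S⁆ := le_antisymm (sup_le_sup_left (commutator_mono hD.2.1 hD.2.1) _)
      (sup_le le_sup_left hle)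
    rw [hWeq]
    exact Grp.le_normalizer_sup' hMQ (le_normalizer_commutator' (TransHyp.le_normalizer_piCoreOf M)
      (TransHyp.le_normalizer_piCoreOf M))
  exact hle.trans (le_fittingOf (hWS.trans (TransHyp.piCoreOf_le M)) hMW hWn)

/-- When `κ(M)` is nonempty `F(M) ≤ M'`. -/
theorem fitting_le_derived {K U : Subgroup G} (hKU : Cfsg.IsSigmaDecomposition M K U) (hK1 : K ≠ ⊥) :
    Cfsg.fittingOf M ≤ ⁅M, M⁆ := by
  rw [fitting_eq_cent_sup hG hM]
  exact sup_le ((cent_fittingHall hG hM hKU).2 hK1)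
    ((fittingHallOf_le_sigmaCore hG hM).trans (sigmaCore_le_derived hG hM))

end Cfsg.Agent.Transfer.Loc
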