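import Cfsg.Agent.Lib.Transfer.Local.Sigma
import Cfsg.Agent.S1443

/-!
Centralisers in `M_α` and primes outside `σ(M)`.
-/

set_option autoImplicit false
set_option linter.style.haveILetI false
set_option linter.unusedSectionVars false

namespace Cfsg.Agent.Transfer.Loc

open Subgroup
open scoped commutatorElement Pointwise

universe u

/-- A cyclic group has at most one subgroup of each order. -/
theorem cyclic_unique {α : Type*} [Group α] [Finite α] [IsCyclic α] {H H' : Subgroup α}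
    (h : Nat.card ↥H = Nat.card ↥H') : H = H' := by
  classical
  cases nonempty_fintype α
  have key : ∀ L : Subgroup α, Nat.card ↥L = Nat.card ↥H →
      (L : Set α).toFinset = Finset.univ.filter fun a => a ^ Nat.card ↥H = 1 := by
    intro L hL
    refine Finset.eq_of_subset_of_card_le (fun a ha => ?_) ?_
    · rw [Set.mem_toFinset] at ha
      rw [Finset.mem_filter]
      exact ⟨Finset.mem_univ _, hL ▸ congrArg Subtype.val (pow_card_eq_one' (x := (⟨a, ha⟩ : ↥L)))⟩
    · rw [Set.toFinset_card, ← Nat.card_eq_fintype_card]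
      exact (IsCyclic.card_pow_eq_one_le Nat.card_pos).trans (le_of_eq hL.symm)
  exact SetLike.coe_injective (Set.toFinset_inj.1 ((key H rfl).trans (key H' h.symm).symm))

variable {G : Type u} [Group G] [Finite G] (hG : Cfsg.IsMinSimpleOddOrder G) {M : Subgroup G} (hM : IsCoatom M)
include hG hM

theorem cent_alpha_uniq {X : Subgroup G} (hXM : X ≤ M) (hXα : ∀ p : ℕ, p.Prime → p ∣ Nat.card X → p ∉ Cfsg.alpha M)
    (hr : ¬ Cfsg.RankLE 1 ↥(Cfsg.alphaCore M ⊓ centralizer (X : Set G))) :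
    Cfsg.InUniqueMaximal (M ⊓ centralizer (X : Set G)) := by
  haveI := solvable_of_ne_top hG hM.1
  unfold Cfsg.RankLE at hr
  push Not at hr
  obtain ⟨p, hp, hr⟩ := hr
  haveI := Fact.mk hp
  obtain ⟨B, hB, hBe, hB2⟩ := exists_elem_of_not_prank hr
  have hBα : B ≤ Cfsg.alphaCore M := hB.trans inf_le_left
  have hBC : B ≤ centralizer (X : Set G) := hB.trans inf_le_right
  have hBM : B ≤ M := hBα.trans (TransHyp.piCoreOf_le M)
  have hne : M ⊓ centralizer (X : Set G) ≠ ⊤ := fun e => hM.1 (top_le_iff.1 (e.ge.trans inf_le_left))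
  have hB2' : p ^ 2 ≤ Nat.card B := hB2
  have hpB : p ∣ Nat.card B := by
    obtain ⟨n, hn⟩ := IsPGroup.iff_card.1 (Grp.elemAb_isPGroup hBe)
    rcases Nat.eq_zero_or_pos n with rfl | h0
    · rw [hn, pow_zero] at hB2'
      exact absurd hB2' (not_le.2 (Nat.one_lt_pow (by norm_num) hp.one_lt))
    · rw [hn]; exact dvd_pow_self p h0.ne'
  have hpα : p ∈ Cfsg.alpha M := TransHyp.piCoreOf_primes hp (hpB.trans (card_dvd_of_le hBα))
  by_cases hmax : ∃ E : Subgroup G, Cfsg.IsElementaryAbelian p E ∧ p ^ 3 ≤ Nat.card E ∧ B ≤ E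
  · obtain ⟨E, hE, hE3, hBE⟩ := hmax
    exact u_mono hG (u_elem_of_centralizes hG (u_elem_three hG hE hE3)
      (hBE.trans (le_centralizer_iff_isMulCommutative.2 hE.1)) hBe hB2') (le_inf hBM hBC) hne
  push Not at hmax
  have hcop : (Nat.card X).Coprime (Nat.card (Cfsg.alphaCore M)) := Nat.coprime_of_dvd fun r hr h1 h2 =>
    hXα r hr h1 (TransHyp.piCoreOf_primes hr h2)
  have hXα' : X ≤ normalizer (Cfsg.alphaCore M : Set G) := hXM.trans (TransHyp.le_normalizer_piCoreOf M)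
  haveI : Group.IsSolvable (Cfsg.alphaCore M) := isSolvable_of_le (TransHyp.piCoreOf_le M)
  obtain ⟨P, hP, hXP, hBP⟩ := Grp.exists_invariant_sylow_ge X (Cfsg.alphaCore M) hXα' hcop (Or.inr inferInstance) hBα
    (Grp.elemAb_isPGroup hBe) ((le_centralizer_iff.1 hBC).trans (centralizer_le_normalizer _))
  have hp2 : p ≠ 2 := ne_two hG (hpB.trans (card_subgroup_dvd_card B))
  have hXCP : X ≤ centralizer (P : Set G) := by
    refine Cfsg.Agent.S1443.result p hp2 P B X hP.2.1 hBP hBe hXP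
      (hp.coprime_iff_not_dvd.2 fun h => hXα p hp h hpα).symm fun x hx hxo => ?_
    have hxB : x ∈ B := by
      by_contra hxB
      have hx' : x ^ p = 1 := by rw [← hxo]; exact pow_orderOf_eq_one x
      have hE := Cfsg.Agent.Fus.isElementaryAbelian_sup (A := B) (B := zpowers x) hBe
        ⟨inferInstance, fun a ha => by
          obtain ⟨i, rfl⟩ := ha
          show (x ^ i) ^ p = 1
          rw [← zpow_natCast, ← zpow_mul, mul_comm, zpow_mul, zpow_natCast, hx', one_zpow]⟩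
        fun a ha b hb => by
          obtain ⟨i, rfl⟩ := hb
          exact ((show Commute a x from mem_centralizer_iff.1 hx.2 a ha).zpow_right i).eq
      obtain ⟨m, hm⟩ := IsPGroup.iff_card.1 (Grp.elemAb_isPGroup hE)
      have hlt : Nat.card B < Nat.card (B ⊔ zpowers x : Subgroup G) := Set.ncard_lt_ncard
        (SetLike.coe_ssubset_coe.2 (lt_of_le_of_ne le_sup_left fun e => hxB (e ▸ mem_sup_right (mem_zpowers x))))
      have h2 := hmax _ hE
      have hm3 : 2 < m := (Nat.pow_lt_pow_iff_right hp.one_lt).1 (hm ▸ hB2'.trans_lt hlt)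
      exact h2 (hm ▸ Nat.pow_le_pow_right hp.pos hm3) le_sup_left
    exact (le_centralizer_iff.1 hBC).trans (centralizer_le (Set.singleton_subset_iff.2 hxB))
  have hPM : Grp.IsSylowIn p P M := by
    refine ⟨hP.1.trans (TransHyp.piCoreOf_le M), hP.2.1, ?_⟩
    rw [← relIndex_mul_relIndex P (Cfsg.alphaCore M) M hP.1 (TransHyp.piCoreOf_le M)]
    intro hd
    exact (hp.dvd_mul.1 hd).elim hP.2.2 ((isPiHallOf_piCore hG hM le_rfl (alpha_subset_sigma hG hM)).2.2 p hp hpα)
  obtain ⟨E, hEM, hE, hE3⟩ := exists_elem_of_not_prank hpα.2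
  obtain ⟨T, hT, -, hET⟩ := Grp.exists_invariant_sylow_ge ⊥ M bot_le (by simp) (Or.inl inferInstance) hEM
    (Grp.elemAb_isPGroup hE) bot_le
  obtain ⟨k, hk, hkT⟩ := hT.conj hPM
  have hU : Cfsg.InUniqueMaximal (MulAut.conj k • E) := u_conj hG (u_elem_three hG hE hE3) k
  have hEP : MulAut.conj k • E ≤ P := hkT ▸ Subgroup.pointwise_smul_le_pointwise_smul_iff.2 hET
  exact u_mono hG hU (le_inf (hEP.trans hPM.1) (hEP.trans (le_centralizer_iff.1 hXCP))) hne

/-- Some element of order `p` in the centre of a Sylow subgroup has small centraliser in `M_α` and is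
not a witness for `M`. -/
theorem exists_central_not_witness {p : ℕ} [hp : Fact p.Prime] (hpM : p ∣ Nat.card M) (hpσ : p ∉ Cfsg.sigma M)
    (P : Sylow p M) :
    ∃ x : G, x ∈ (P : Subgroup M).map M.subtype ⊓ centralizer ((P : Subgroup M).map M.subtype : Set G) ∧ orderOf x = p ∧
      IsZGroup ↥(Cfsg.alphaCore M ⊓ centralizer ({x} : Set G)) ∧
      ¬ (centralizer ({x} : Set G) ≤ M ∧ ∀ L : Subgroup G, IsCoatom L → centralizer ({x} : Set G) ≤ L → L = M) := by
  haveI := solvable_of_ne_top hG hM.1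
  set P' := (P : Subgroup M).map M.subtype with hP'
  have hPp : IsPGroup p P' := P.isPGroup'.map _
  have hpP : p ∣ Nat.card P' := by
    rw [hP', card_map_of_injective M.subtype_injective]
    exact P.dvd_card_of_dvd_card hpM
  have hz : ∃ x : G, x ∈ P' ⊓ centralizer (P' : Set G) ∧ orderOf x = p := by
    haveI : Nontrivial P' := Finite.one_lt_card_iff_nontrivial.1 (lt_of_lt_of_le hp.out.one_lt (Nat.le_of_dvd Nat.card_pos hpP))
    haveI := hPp.center_nontrivial
    obtain ⟨z, hz⟩ := exists_prime_orderOf_dvd_card' (G := center P') p (by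
      obtain ⟨n, hn⟩ := IsPGroup.iff_card.1 (hPp.to_subgroup (center P'))
      rcases Nat.eq_zero_or_pos n with rfl | h0
      · exact absurd (Finite.one_lt_card (α := center P')) (by simp [hn])
      · rw [hn]; exact dvd_pow_self p h0.ne')
    refine ⟨((z : P') : G), ⟨(z : P').2, mem_centralizer_iff.2 fun y hy => ?_⟩, by rw [Subgroup.orderOf_coe, Subgroup.orderOf_coe, hz]⟩
    exact congrArg Subtype.val (mem_center_iff.1 z.2 ⟨y, hy⟩)
  by_contra hcon
  push Not at hcon
  have huniq : ∀ x : G, x ∈ P' ⊓ centralizer (P' : Set G) → orderOf x = p →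
      centralizer ({x} : Set G) ≤ M ∧ ∀ L : Subgroup G, IsCoatom L → centralizer ({x} : Set G) ≤ L → L = M := by
    intro x hx hxo
    by_cases hZ : IsZGroup ↥(Cfsg.alphaCore M ⊓ centralizer ({x} : Set G))
    · exact hcon x hx hxo hZ
    have hx1 : x ≠ 1 := fun e => hp.out.ne_one (by rw [← hxo, e, orderOf_one])
    have hsing : centralizer ({x} : Set G) = centralizer (zpowers x : Set G) := Cfsg.Agent.Grp.centralizer_singleton_eq_zpowers x
    have hxM : x ∈ M := map_subtype_le _ hx.1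
    have hr : ¬ Cfsg.RankLE 1 ↥(Cfsg.alphaCore M ⊓ centralizer (zpowers x : Set G)) := by
      rw [← hsing]
      set K := Cfsg.alphaCore M ⊓ centralizer ({x} : Set G) with hK
      intro h
      refine hZ ⟨fun q hq Q => ?_⟩
      haveI := Fact.mk hq
      by_contra hQ
      set Q' := (Q : Subgroup K).map K.subtype with hQ'
      have hQc : ¬ IsCyclic Q' := fun hc => hQ
        (by haveI := hc; exact isCyclic_of_surjective _ ((Q : Subgroup K).equivMapOfInjective K.subtype K.subtype_injective).symm.surjective)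
      have hQ'p : IsPGroup q Q' := Q.isPGroup'.map _
      have hqG : q ∣ Nat.card G := by
        obtain ⟨n, hn⟩ := IsPGroup.iff_card.1 hQ'p
        rcases Nat.eq_zero_or_pos n with rfl | h0
        · refine absurd ?_ hQc
          rw [card_eq_one.1 (by simpa using hn : Nat.card Q' = 1)]; infer_instance
        · exact ((dvd_pow_self q h0.ne').trans (dvd_of_eq hn.symm)).trans (card_subgroup_dvd_card Q')
      obtain ⟨E, hE, hEe, hE2⟩ := exists_elem_of_not_prank (not_prank_one_of_not_cyclic hG (ne_two hG hqG) hQ'p hQc)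
      exact not_prank_of_elem (n := 1) (hE.trans (map_subtype_le _)) hEe hE2 (h q hq)
    have hU := cent_alpha_uniq hG hM (X := zpowers x) (zpowers_le.2 hxM) (fun r hr hd hα => by
      rw [Nat.card_zpowers, hxo] at hd
      exact hpσ ((Nat.prime_dvd_prime_iff_eq hr hp.out).1 hd ▸ alpha_subset_sigma hG hM hα)) hr
    rw [← hsing] at hU
    have hL : ∀ L : Subgroup G, IsCoatom L → centralizer ({x} : Set G) ≤ L → L = M := fun L hL hCL =>
      hU.unique ⟨hL, inf_le_right.trans hCL⟩ ⟨hM, inf_le_left⟩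
    obtain ⟨L, hL', hCL⟩ := exists_coatom hG (TransHyp.centralizer_ne_top hG hx1)
    exact ⟨hL L hL' hCL ▸ hCL, hL⟩
  obtain ⟨x, hx, hxo⟩ := hz
  obtain ⟨g, hg, hgM⟩ := SetLike.not_le_iff_exists.1 (show ¬ normalizer (P' : Set G) ≤ M from
    fun h => hpσ ⟨hp.out, hpM, P, h⟩)
  have hx' : g * x * g⁻¹ ∈ P' ⊓ centralizer (P' : Set G) :=
    ⟨(Subgroup.mem_normalizer_iff.1 hg x).1 hx.1,
      (Subgroup.mem_normalizer_iff.1 (normalizer_le_normalizer_centralizer hg) x).1 hx.2⟩
  have hxo' : orderOf (g * x * g⁻¹) = p := by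
    rw [← hxo]; exact (MulAut.conj g).orderOf_eq x
  obtain ⟨hC, -⟩ := huniq x hx hxo
  obtain ⟨-, hC'⟩ := huniq _ hx' hxo'
  refine hgM (mem_of_conj_smul_eq hG hM (hC' _ (isCoatom_conj hG hM g) fun z hz => ?_))
  rw [Subgroup.mem_pointwise_smul_iff_inv_smul_mem, ← map_inv, MulAut.smul_def, MulAut.conj_apply, inv_inv]
  refine hC (mem_centralizer_iff.2 fun y hy => ?_)
  rw [Set.mem_singleton_iff.1 hy]
  have h1 := mem_centralizer_iff.1 hz (g * x * g⁻¹) rfl
  calc x * (g⁻¹ * z * g) = g⁻¹ * (g * x * g⁻¹ * z) * g := by group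
    _ = g⁻¹ * (z * (g * x * g⁻¹)) * g := by rw [h1]
    _ = g⁻¹ * z * g * x := by group

theorem sigma'_rank_two {p : ℕ} [hp : Fact p.Prime] (hpσ : p ∉ Cfsg.sigma M) {A : Subgroup G} (hAM : A ≤ M)
    (hA : Cfsg.IsElementaryAbelian p A) (hA2 : p ^ 2 ≤ Nat.card A) {B : Subgroup G}
    (hB : Cfsg.IsElementaryAbelian p B) (hAB : A ≤ B) : Nat.card B ≤ p ^ 2 := by
  haveI := solvable_of_ne_top hG hM.1
  by_contra hlt
  obtain ⟨n, hn⟩ := IsPGroup.iff_card.1 (Grp.elemAb_isPGroup hB)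
  have hB3 : p ^ 3 ≤ Nat.card B := by
    rw [hn] at hlt ⊢
    exact Nat.pow_le_pow_right hp.out.pos ((Nat.pow_lt_pow_iff_right hp.out.one_lt).1 (not_le.1 hlt))
  have hAU := u_elem_of_centralizes hG (u_elem_three hG hB hB3) (hAB.trans (le_centralizer_iff_isMulCommutative.2 hB.1))
    hA hA2
  obtain ⟨S, hS, -, hAS⟩ := Grp.exists_invariant_sylow_ge ⊥ M bot_le (by simp) (Or.inl inferInstance) hAM
    (Grp.elemAb_isPGroup hA) bot_le
  obtain ⟨T, rfl⟩ := Grp.isSylowIn_iff.1 hS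
  have hA1 := u_ne_bot hG hAU
  obtain ⟨L, hL, hNL⟩ := exists_coatom_normalizer hG (ne_bot_of_le_ne_bot hA1 hAS) (ne_top_of_pGroup hG hS.2.1)
  have hpM : p ∣ Nat.card M := by
    obtain ⟨m, hm⟩ := IsPGroup.iff_card.1 (Grp.elemAb_isPGroup hA)
    rcases Nat.eq_zero_or_pos m with rfl | h0
    · exact absurd (card_eq_one.1 (by simpa using hm)) hA1
    · exact ((dvd_pow_self p h0.ne').trans (dvd_of_eq hm.symm)).trans (card_dvd_of_le hAM)
  exact hpσ ⟨hp.out, hpM, T, hAU.unique ⟨hL, hAS.trans (le_normalizer.trans hNL)⟩ ⟨hM, hAM⟩ ▸ hNL⟩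

theorem not_ideal {p : ℕ} [hp : Fact p.Prime] (hpσ : p ∉ Cfsg.sigma M) {A : Subgroup G} (hAM : A ≤ M)
    (hA : Cfsg.IsElementaryAbelian p A) (hA2 : Nat.card A = p ^ 2) : ¬ Cfsg.IsIdealPrime p G := by
  rintro ⟨-, -, h⟩
  obtain ⟨T, hT⟩ := (Grp.elemAb_isPGroup hA).exists_le_sylow
  obtain ⟨B, -, hB, hAB⟩ := h T A hT hA hA2
  have h1 := sigma'_rank_two hG hM hpσ hAM hA hA2.ge hB hAB.le
  exact absurd (hA2 ▸ Set.ncard_lt_ncard (SetLike.coe_ssubset_coe.2 hAB) : p ^ 2 < Nat.card B) h1.not_gt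

theorem normalizer_prime_order {p : ℕ} [hp : Fact p.Prime] (hpσ : p ∉ Cfsg.sigma M) {X : Subgroup G}
    (hX : Nat.card X = p) (hNX : normalizer (X : Set G) ≤ M) :
    (Cfsg.PRankLE p 2 M ∧ ¬ Cfsg.PRankLE p 1 M) ∧ ¬ Cfsg.IsIdealPrime p G ∧
      ∃ A : Subgroup G, Cfsg.IsElementaryAbelian p A ∧ Nat.card A = p ^ 2 ∧ X ≤ A := by
  haveI := solvable_of_ne_top hG hM.1
  have hXM : X ≤ M := le_normalizer.trans hNX
  have hpM : p ∣ Nat.card M := hX ▸ card_dvd_of_le hXM
  have hXp : IsPGroup p X := IsPGroup.of_card (n := 1) (by rw [hX, pow_one])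
  have hr2 : Cfsg.PRankLE p 2 M := by
    by_contra h
    exact hpσ (alpha_subset_sigma hG hM ⟨hp.out, h⟩)
  have hr1 : ¬ Cfsg.PRankLE p 1 M := by
    intro h1
    obtain ⟨S, hS, -, hXS⟩ := Grp.exists_invariant_sylow_ge ⊥ M bot_le (by simp) (Or.inl inferInstance) hXM hXp bot_le
    have hcyc : IsCyclic S := by
      by_contra hc
      obtain ⟨E, hE, hEe, hE2⟩ := exists_elem_of_not_prank
        (not_prank_one_of_not_cyclic hG (ne_two hG (hpM.trans (card_subgroup_dvd_card M))) hS.2.1 hc)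
      exact not_prank_of_elem (hE.trans hS.1) hEe hE2 h1
    obtain ⟨T, rfl⟩ := Grp.isSylowIn_iff.1 hS
    refine hpσ ⟨hp.out, hpM, T, ?_⟩
    refine le_trans (fun g hg => ?_) hNX
    rw [Grp.mem_normalizer_iff_smul]
    set S := (T : Subgroup M).map M.subtype with hSdef
    have h2 : MulAut.conj g • X ≤ S := by
      rw [← Grp.mem_normalizer_iff_smul.1 hg]
      exact Subgroup.pointwise_smul_le_pointwise_smul_iff.2 hXS
    haveI := hcyc
    have e : (MulAut.conj g • X).subgroupOf S = X.subgroupOf S := by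
      refine cyclic_unique ?_
      rw [Nat.card_congr (subgroupOfEquivOfLe h2).toEquiv, Nat.card_congr (subgroupOfEquivOfLe hXS).toEquiv,
        Grp.card_conj_smul]
    rw [← map_subgroupOf_eq_of_le h2, e, map_subgroupOf_eq_of_le hXS]
  obtain ⟨A, hAM, hA, hA2⟩ := exists_elem_of_not_prank hr1
  have hcard : ∀ {B : Subgroup G}, B ≤ M → Cfsg.IsElementaryAbelian p B → p ^ 2 ≤ Nat.card B → Nat.card B = p ^ 2 := by
    intro B hB hBe hB2
    refine le_antisymm ?_ hB2
    by_contra hlt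
    obtain ⟨n, hn⟩ := IsPGroup.iff_card.1 (Grp.elemAb_isPGroup hBe)
    refine not_prank_of_elem (n := 2) hB hBe ?_ hr2
    rw [hn] at hlt ⊢
    exact Nat.pow_le_pow_right hp.out.pos ((Nat.pow_lt_pow_iff_right hp.out.one_lt).1 (not_le.1 hlt))
  refine ⟨⟨hr2, hr1⟩, not_ideal hG hM hpσ hAM hA (hcard hAM hA hA2), ?_⟩
  obtain ⟨S, hS, -, hXS⟩ := Grp.exists_invariant_sylow_ge ⊥ M bot_le (by simp) (Or.inl inferInstance) hXM hXp bot_le
  obtain ⟨T, hT, -, hAT⟩ := Grp.exists_invariant_sylow_ge ⊥ M bot_le (by simp) (Or.inl inferInstance) hAM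
    (Grp.elemAb_isPGroup hA) bot_le
  obtain ⟨k, hk, hkT⟩ := hT.conj hS
  set A' := MulAut.conj k • A with hA'
  have hA'S : A' ≤ S := hkT ▸ Subgroup.pointwise_smul_le_pointwise_smul_iff.2 hAT
  have hA'e : Cfsg.IsElementaryAbelian p A' := by
    rw [hA', ← Grp.map_conj_eq_smul]
    haveI := hA.1
    refine ⟨inferInstance, ?_⟩
    rintro _ ⟨a, ha, rfl⟩
    rw [← map_pow, hA.2 a ha, map_one]
  obtain ⟨y, hyS, hyX, hyc, hy⟩ : ∃ y ∈ S, y ∉ X ∧ y ∈ centralizer (X : Set G) ∧ y ^ p = 1 := by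
    haveI : Nontrivial S := (nontrivial_iff_ne_bot S).2 (ne_bot_of_le_ne_bot (fun e => hp.out.ne_one (by rw [← hX, e, card_bot])) hXS)
    haveI := hS.2.1.center_nontrivial
    obtain ⟨z, hz⟩ := exists_prime_orderOf_dvd_card' (G := center S) p (by
      obtain ⟨n, hn⟩ := IsPGroup.iff_card.1 (hS.2.1.to_subgroup (center S))
      rcases Nat.eq_zero_or_pos n with rfl | h0
      · exact absurd (Finite.one_lt_card (α := center S)) (by simp [hn])
      · rw [hn]; exact dvd_pow_self p h0.ne')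
    set z' : G := ((z : S) : G) with hz'
    have hz'o : orderOf z' = p := by rw [hz', Subgroup.orderOf_coe, Subgroup.orderOf_coe, hz]
    have hz'c : ∀ s ∈ S, s * z' = z' * s := fun s hs => congrArg Subtype.val (mem_center_iff.1 z.2 ⟨s, hs⟩)
    by_cases hzX : z' ∈ X
    · have hXz : X = zpowers z' := (Subgroup.eq_of_le_of_card_ge (zpowers_le.2 hzX)
        (by rw [Nat.card_zpowers, hz'o, hX])).symm
      obtain ⟨a, ha, haX⟩ : ∃ a ∈ A', a ∉ X := by
        by_contra hc
        push Not at hc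
        have := (card_le_of_le hc).trans hX.le
        rw [hA', Grp.card_conj_smul] at this
        exact absurd (hA2.trans this) (not_le.2 (lt_self_pow₀ hp.out.one_lt (by norm_num)))
      refine ⟨a, hA'S ha, haX, mem_centralizer_iff.2 fun x hx => ?_, hA'e.2 a ha⟩
      rw [hXz] at hx
      obtain ⟨i, rfl⟩ := hx
      exact ((show Commute a z' from hz'c a (hA'S ha)).zpow_right i).eq.symm
    · exact ⟨z', (z : S).2, hzX, mem_centralizer_iff.2 fun x hx => hz'c x (hXS hx), by rw [← hz'o]; exact pow_orderOf_eq_one _⟩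
  have hXe : Cfsg.IsElementaryAbelian p X := by
    haveI := isCyclic_of_prime_card hX
    exact ⟨inferInstance, fun a ha => by
      rw [← hX]
      exact congrArg Subtype.val (pow_card_eq_one' (x := (⟨a, ha⟩ : X)))⟩
  have hXy := Cfsg.Agent.Fus.isElementaryAbelian_sup (A := X) (B := zpowers y) hXe
    ⟨inferInstance, fun a ha => by
      obtain ⟨i, rfl⟩ := ha
      show (y ^ i) ^ p = 1
      rw [← zpow_natCast, ← zpow_mul, mul_comm, zpow_mul, zpow_natCast, hy, one_zpow]⟩
    fun a ha b hb => by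
      obtain ⟨i, rfl⟩ := hb
      exact ((show Commute a y from mem_centralizer_iff.1 hyc a ha).zpow_right i).eq
  refine ⟨X ⊔ zpowers y, hXy, hcard (sup_le hXM (zpowers_le.2 (hS.1 hyS))) hXy ?_, le_sup_left⟩
  obtain ⟨n, hn⟩ := IsPGroup.iff_card.1 (Grp.elemAb_isPGroup hXy)
  have hlt : Nat.card X < Nat.card (X ⊔ zpowers y : Subgroup G) := Set.ncard_lt_ncard
    (SetLike.coe_ssubset_coe.2 (lt_of_le_of_ne le_sup_left fun e => hyX (e ▸ mem_sup_right (mem_zpowers y))))
  rw [hX, hn] at hlt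
  rw [hn]
  refine Nat.pow_le_pow_right hp.out.pos ((Nat.pow_lt_pow_iff_right hp.out.one_lt).1 ?_)
  rwa [pow_one]

end Cfsg.Agent.Transfer.Loc
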