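import Cfsg.Agent.Lib.Transfer.Local.FittingTI
import Cfsg.Agent.Lib.Transfer.Local.FrobAction
import Cfsg.Agent.Lib.Transfer.Local.KappaPair
import Cfsg.Agent.Lib.Transfer.Local.SigmaTilde
import Cfsg.Agent.Lib.Transfer.Local.TauOneCross
import Cfsg.Agent.Lib.Grp.SignalizerTransitive
import Cfsg.Agent.S1364
import Cfsg.Agent.S1369
import Cfsg.Agent.S1375
import Cfsg.Agent.S1408
import Cfsg.Agent.S1417
import Cfsg.Agent.S1418
import Cfsg.Agent.S1420
import Cfsg.Agent.S1432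

/-!
Maximal overgroups of `U K` when `K ≠ 1` and `U ≠ 1`.
-/

set_option autoImplicit false
set_option linter.style.haveILetI false
set_option linter.unusedSectionVars false
set_option maxHeartbeats 2000000

namespace Cfsg.Agent.Transfer.Loc

open Subgroup
open scoped commutatorElement Pointwise

universe u

variable {G : Type u} [Group G] [Finite G]

theorem centralizer_zpowers_eq (b : G) : centralizer (zpowers b : Set G) = centralizer ({b} : Set G) := by
  refine le_antisymm (centralizer_le (Set.singleton_subset_iff.2 (mem_zpowers b))) fun y hy =>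
    mem_centralizer_iff.2 fun c hc => ?_
  obtain ⟨i, rfl⟩ := hc
  exact ((show Commute b y from (mem_centralizer_singleton_iff.1 hy).symm).zpow_left i).eq

/-- A normalised abelian group has normalised Sylow subgroups. -/
theorem normalizer_sylow_of_comm {p : ℕ} [Fact p.Prime] {A T K : Subgroup G} (hA : IsMulCommutative A)
    (hT : Grp.IsSylowIn p T A) (hK : K ≤ normalizer (A : Set G)) : K ≤ normalizer (T : Set G) := fun k hk => by
  rw [Grp.mem_normalizer_iff_smul]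
  have h1 : MulAut.conj k • T ≤ A :=
    (Subgroup.pointwise_smul_le_pointwise_smul_iff.2 hT.1).trans (Grp.mem_normalizer_iff_smul.1 (hK hk)).le
  have h2 : IsPGroup p ↥(T ⊔ MulAut.conj k • T) := hT.2.1.to_sup_of_normal_left' (hT.2.1.map _)
    ((h1.trans (le_centralizer_iff_isMulCommutative.2 hA)).trans
      ((centralizer_le hT.1).trans (centralizer_le_normalizer _)))
  exact Subgroup.eq_of_le_of_card_ge (le_sup_right.trans (hT.eq_of_le le_sup_left (sup_le hT.1 h1) h2).ge)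
    (by rw [Grp.card_conj_smul])

variable (hG : Cfsg.IsMinSimpleOddOrder G) {M K U Ms : Subgroup G} (hM : IsCoatom M)
include hG hM

/-- With `K ≠ 1` and `U ≠ 1` no nontrivial element of `M_σ` is centralised by `U`. -/
theorem decomp_U_fixed (hKU : Cfsg.IsSigmaDecomposition M K U) (hU1 : U ≠ ⊥) {a : G}
    (ha : a ∈ Cfsg.sigmaCore M) (hUa : ∀ u ∈ U, u * a = a * u) : a = 1 := by
  by_contra ha1
  haveI := solvable_of_ne_top hG hM.1
  obtain ⟨hE, -, hU⟩ := decomp_compl hG hM hKU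
  obtain ⟨p, hp, hpU⟩ := Nat.exists_prime_and_dvd fun e => hU1 (Subgroup.card_eq_one.1 e)
  haveI := Fact.mk hp
  have hσ := decomp_U_prime hG hM hKU hp hpU
  by_cases hr : Cfsg.PRankLE p 1 M
  · obtain ⟨x, hx⟩ := exists_prime_orderOf_dvd_card' p hpU
    refine hU p hp hpU (kappa_of_fixed hG hM hσ hr (zpowers_le.2 (hKU.compl.1 x.2))
      (by rw [Nat.card_zpowers, Subgroup.orderOf_coe, hx]) fun e => ha1 ?_)
    have : a ∈ (⊥ : Subgroup G) := e ▸ ⟨ha, (centralizer_zpowers_eq (x : G)).ge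
      (mem_centralizer_singleton_iff.2 (hUa x x.2).symm)⟩
    exact mem_bot.1 this
  · have hτ := tau2_of_not_rank_one hG hM hσ hr
    obtain ⟨V, hV⟩ := Grp.exists_isSylowIn p (U ⊔ K)
    obtain ⟨A, hAV, hA, hA2⟩ := tau2_plane hG hM hE hτ hV
    have hAU : A ≤ U := decomp_le_U hG hM hKU (hAV.trans hV.1) (by
      rw [hA2]
      exact (hp.coprime_iff_not_dvd.2 fun h => hU p hp hpU (hKU.hall.2.1 p hp h)).pow_left 2)
    have h0 := (Cfsg.Agent.S1417.result hG M hM p hτ A ⟨(hAV.trans hV.1).trans hE.1, hA, hA2⟩).2.2.2.1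
    have : a ∈ (⊥ : Subgroup G) := h0 ▸ ⟨ha, mem_centralizer_iff.2 fun b hb => hUa b (hAU hb)⟩
    exact ha1 (mem_bot.1 this)

end Cfsg.Agent.Transfer.Loc

namespace Cfsg.Agent.Transfer.Loc.KappaPair

open Subgroup
open scoped commutatorElement Pointwise

universe u

variable {G : Type u} [Group G] [Finite G] {M K U Ms : Subgroup G} (h : KappaPair M K Ms)
  {p : ℕ} [hp : Fact p.Prime] (hpK : Nat.card K = p)
include h hpK

theorem exists_gen : ∃ b ∈ K, b ≠ 1 ∧ b ^ p = 1 ∧ zpowers b = K := by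
  obtain ⟨b, hb, hb1, e⟩ := exists_generator_line hpK
  exact ⟨b, hb, hb1, by rw [← hpK, ← e, Nat.card_zpowers, pow_orderOf_eq_one], e⟩

theorem prime_kappa : p ∈ Cfsg.kappa M := h.hK.2.1 p hp.out (dvd_of_eq hpK.symm)

theorem prime_sigma_dual : p ∈ Cfsg.sigma Ms :=
  TransHyp.piCoreOf_primes (π := Cfsg.sigma Ms) (X := Ms) hp.out
    ((dvd_of_eq hpK.symm).trans (card_dvd_of_le h.le_sigmaCore_dual))

/-- `K ≤ M*_F`. -/
theorem le_fittingHall_dual : K ≤ Cfsg.fittingHallOf Ms := by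
  obtain ⟨U', hU'⟩ := exists_decomp h.hG h.hMs h.cycStar h.hall
  exact h.dual.ge.trans (Cfsg.Agent.S1364.result h.hG Ms h.hMs (kStar M K) U' hU' h.star1).2.2.1

/-- In `M*` no group is moved freely by a subgroup of order `p`. -/
theorem moved_bot_dual {Z Y : Subgroup G} (hY : Y ≤ Ms) (hYc : Nat.card Y = p) (hZ : Z ≤ Ms)
    (hcop : ¬ p ∣ Nat.card Z) (hcomm : ⁅Z, Y⁆ = Z) : Z = ⊥ := by
  set F := Cfsg.fittingHallOf Ms with hF
  have hMF : Ms ≤ normalizer (F : Set G) := le_normalizer_fittingHallOf Ms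
  have hdF : p ∣ Nat.card F := (dvd_of_eq hpK.symm).trans (card_dvd_of_le (h.le_fittingHall_dual hpK))
  have hYF : Y ≤ F := fun y hy => Grp.HallSys.mem_of_coprime_relIndex hMF (hY hy)
    (((TypeP.fittingHallOf_coprime Ms).coprime_dvd_left hdF).coprime_dvd_left
      ((Subgroup.orderOf_dvd_natCard _ hy).trans (dvd_of_eq hYc)))
  have hZF : Z ≤ F := by
    rw [← hcomm]
    refine commutator_le.2 fun z hz y hy => ?_
    rw [commutatorElement_def]
    exact mul_mem (Grp.mem_conj_normalizer (hMF (hZ hz)) (hYF hy)) (inv_mem (hYF hy))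
  rw [← hcomm, commutator_eq_bot_iff_le_centralizer]
  intro z hz
  refine mem_centralizer_iff.2 fun y hy => TypeP.commute_of_coprime_orderOf (fittingHallOf_nilpotent Ms)
    (hYF hy) (hZF hz) ?_
  exact ((hp.out.coprime_iff_not_dvd.2 hcop).coprime_dvd_left ((Subgroup.orderOf_dvd_natCard _ hy).trans
    (dvd_of_eq hYc))).coprime_dvd_right (Subgroup.orderOf_dvd_natCard _ hz)

variable (hKU : Cfsg.IsSigmaDecomposition M K U)
include hKU

/-- Overgroups of `K` outside the classes of `M` and `M*` have `K` acting freely on their core. -/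
theorem fixed_bot {L : Subgroup G} (hL : IsCoatom L) (hKL : K ≤ L) (hpσ : p ∉ Cfsg.sigma L)
    (hnM : ∀ g : G, L ≠ MulAut.conj g • M) : Cfsg.sigmaCore L ⊓ centralizer (K : Set G) = ⊥ := by
  by_contra hne
  haveI := solvable_of_ne_top h.hG hL.1
  by_cases hr : Cfsg.PRankLE p 1 L
  · have hκ := kappa_of_fixed h.hG hL hpσ hr hKL hpK hne
    obtain ⟨g, e | e⟩ := (Cfsg.Agent.S1369.result h.hG M h.hM K U hKU h.hK1 Ms h.hMs h.dual.symm h.hall).2 L hL ⟨p, hκ⟩
    · exact hnM g e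
    · rw [Grp.map_conj_eq_smul] at e
      exact hpσ (e ▸ sigma_smul h.hG h.hMs (h.prime_sigma_dual hpK) g)
  · obtain ⟨E, hE, hKE⟩ := exists_compl_ge h.hG hL hKL fun q hq hd => by
      rw [hpK, Nat.prime_dvd_prime_iff_eq hq hp.out] at hd; exact hd ▸ hpσ
    haveI := isSolvable_of_le hE.1
    have hτ := tau2_of_not_rank_one h.hG hL hpσ hr
    obtain ⟨V, hV⟩ := Grp.exists_isSylowIn p E
    obtain ⟨A, hAV, hA, hA2⟩ := tau2_plane h.hG hL hE hτ hV
    obtain ⟨⟨-, hlines⟩, -, huniq⟩ := Cfsg.Agent.S1418.result h.hG L hL E hE p hτ A ⟨hAV.trans hV.1, hA, hA2⟩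
    have hCL := huniq K (hlines K hKE hpK) hpK hne
    have e := hCL.2 Ms h.hMs ((centralizer_le_normalizer _).trans (h.normalizer_line_le le_rfl hpK))
    exact hpσ (e ▸ h.prime_sigma_dual hpK)

/-- A maximal subgroup with a fixed point of `K` of order `s ∉ σ` is not conjugate to `M`. -/
theorem not_conj_of_fixed {N : Subgroup G} (hKN : K ≤ N) {x : G} (hxN : x ∈ N)
    (hxK : x ∈ centralizer (K : Set G)) {s : ℕ} [hs : Fact s.Prime] (hxo : orderOf x = s) (hsp : s ≠ p)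
    (hsN : s ∉ Cfsg.sigma N) (g : G) : N ≠ MulAut.conj g • M := by
  rintro rfl
  haveI := solvable_of_ne_top h.hG h.hM.1
  have hgK : MulAut.conj g⁻¹ • K ≤ M := by
    have := (Subgroup.pointwise_smul_le_pointwise_smul_iff (a := MulAut.conj g⁻¹)).2 hKN
    rwa [Grp.conj_smul_conj_smul, inv_mul_cancel, map_one, one_smul] at this
  obtain ⟨m, hm, e⟩ := prime_sub_conj h.hG (kappa_rank_one h.hG h.hM (h.prime_kappa hpK)) hgK h.hK.1
    (by rw [Grp.card_conj_smul, hpK]) hpK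
  rw [Grp.conj_smul_conj_smul] at e
  set c := m * g⁻¹ with hc
  have hy : c * x * c⁻¹ ∈ M := by
    obtain ⟨y, hy, rfl⟩ := hxN
    show c * MulAut.conj g y * c⁻¹ ∈ M
    rw [hc, MulAut.conj_apply]
    have := M.mul_mem (M.mul_mem hm hy) (M.inv_mem hm)
    convert this using 1
    group
  obtain ⟨b, hb, hb1, -, -⟩ := h.exists_gen hpK
  have hyc : c * x * c⁻¹ ∈ M ⊓ centralizer ({b} : Set G) := by
    refine ⟨hy, mem_centralizer_singleton_iff.2 ?_⟩
    obtain ⟨k, hk, hkb⟩ := e.ge hb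
    have h1 := mem_centralizer_iff.1 hxK k hk
    rw [← hkb]
    show c * x * c⁻¹ * MulAut.conj c k = MulAut.conj c k * (c * x * c⁻¹)
    rw [MulAut.conj_apply, show c * x * c⁻¹ * (c * k * c⁻¹) = c * (x * k) * c⁻¹ by group, ← h1]
    group
  rw [(Cfsg.Agent.S1354.result h.hG M h.hM K h.cycK h.hK).2 h.hK1 b hb hb1] at hyc
  have hd : s ∣ Nat.card K * Nat.card (kStar M K) := by
    rw [← (kStar_facts h.hG h.hM h.hK).2.2.2.2, ← hxo, show orderOf x = orderOf (c * x * c⁻¹) from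
      (MulEquiv.orderOf_eq (MulAut.conj c) x).symm]
    exact Subgroup.orderOf_dvd_natCard _ hyc
  rcases hs.out.dvd_mul.1 hd with h1 | h1
  · rw [hpK] at h1; exact hsp ((Nat.prime_dvd_prime_iff_eq hs.out hp.out).1 h1)
  · exact hsN (sigma_smul h.hG h.hM (TransHyp.piCoreOf_primes (π := Cfsg.sigma M) (X := M) hs.out
      (h1.trans (card_dvd_of_le inf_le_left))) g)

/-- A moved `σ'`-group gives an invariant line centralising the core. -/
theorem moved_line {L : Subgroup G} (hL : IsCoatom L) (hKL : K ≤ L) (hpσ : p ∉ Cfsg.sigma L)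
    (hnM : ∀ g : G, L ≠ MulAut.conj g • M) {X : Subgroup G} (hXL : X ≤ L) {s : ℕ} [hs : Fact s.Prime]
    (hX : IsPGroup s X) (hsp : s ≠ p) (hsL : s ∉ Cfsg.sigma L) (hX1 : X ≠ ⊥)
    (hKX : K ≤ normalizer (X : Set G)) (hXK : X ⊓ centralizer (K : Set G) = ⊥) :
    ∃ E Z : Subgroup G, Cfsg.IsComplIn E (Cfsg.sigmaCore L) L ∧ K ≤ E ∧ Z ≤ E ∧ Nat.card Z = s ∧
      K ≤ normalizer (Z : Set G) ∧ Z ⊓ centralizer (K : Set G) = ⊥ ∧ ⁅Z, K⁆ = Z ∧
      Z ≤ centralizer (Cfsg.sigmaCore L : Set G) ∧ s ∈ Cfsg.tau2 L ∧ normalizer (Z : Set G) = L := by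
  haveI := solvable_of_ne_top h.hG hL.1
  obtain ⟨b, hb, hb1, hbp, hbK⟩ := h.exists_gen hpK
  have hCb : centralizer (K : Set G) = centralizer ({b} : Set G) := by rw [← hbK, centralizer_zpowers_eq]
  obtain ⟨n, hn⟩ := IsPGroup.iff_card.1 hX
  have hsup : ∀ q : ℕ, q.Prime → q ∣ Nat.card ↥(K ⊔ X) → q ∉ Cfsg.sigma L := fun q hq hd => by
    rcases hq.dvd_mul.1 (hd.trans (Grp.card_sup_dvd_mul hKX)) with h1 | h1
    · rw [hpK, Nat.prime_dvd_prime_iff_eq hq hp.out] at h1; exact h1 ▸ hpσ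
    · rw [hn] at h1; exact (Nat.prime_dvd_prime_iff_eq hq hs.out).1 (hq.dvd_of_dvd_pow h1) ▸ hsL
  obtain ⟨E, hE, hKXE⟩ := exists_compl_ge h.hG hL (sup_le hKL hXL) hsup
  have hKE : K ≤ E := le_sup_left.trans hKXE
  have hXE : X ≤ E := le_sup_right.trans hKXE
  have hLS : L ≤ normalizer (Cfsg.sigmaCore L : Set G) := TransHyp.le_normalizer_piCoreOf L
  have hfix := h.fixed_bot hpK hKU hL hKL hpσ hnM
  have hXC : X ≤ centralizer (Cfsg.sigmaCore L : Set G) :=
    le_centralizer_of_fpf hbp (hLS (hKL hb)) (hKX hb) (hXL.trans hLS)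
      ((compl_coprime h.hG hL hE).coprime_dvd_left (card_dvd_of_le hXE)).symm
      (by rw [← hCb]; exact hfix) (by rw [← hCb]; exact hXK)
  obtain ⟨hYc, hYτ, -⟩ := Cfsg.Agent.S1439.result h.hG L hL
  set Y := Cfsg.piCoreOf {q | q.Prime ∧ q ∉ Cfsg.sigma L} (Cfsg.fittingOf L)
  have hOY : O s L ≤ Y := TransHyp.le_piCoreOf (O_le_fittingOf L)
    ((fittingOf_le L).trans (le_normalizer_core' L)) fun q hq hqd => ⟨hq, by
      obtain ⟨i, hi⟩ := IsPGroup.iff_card.1 (O_isPGroup s L)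
      rw [hi] at hqd
      rwa [(Nat.prime_dvd_prime_iff_eq hq hs.out).1 (hq.dvd_of_dvd_pow hqd)]⟩
  have hC : L ⊓ centralizer (Cfsg.sigmaCore L : Set G) ≤ Cfsg.fittingOf L := le_fittingOf inf_le_left
    (Grp.le_normalizer_inf' le_normalizer (hLS.trans (normalizer_le_normalizer_cent _))) (cent_sigma_nilpotent h.hG hL)
  have hXY : X ≤ Y := fun x hx => by
    obtain ⟨i, hi⟩ := hX ⟨x, hx⟩
    exact hOY (mem_O_of_mem_fittingOf (hC ⟨hXL hx, hXC hx⟩) (by simpa using congrArg Subtype.val hi))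
  have hτ := hYτ s hs.out ((dvd_card_of_pGroup hX hX1).trans (card_dvd_of_le hXY))
  obtain ⟨z, hz⟩ := exists_prime_orderOf_dvd_card' s (dvd_card_of_pGroup hX hX1)
  have hZc : Nat.card (zpowers (z : G)) = s := by rw [Nat.card_zpowers, Subgroup.orderOf_coe, hz]
  have hZX : zpowers (z : G) ≤ X := zpowers_le.2 z.2
  have hYN : L ≤ normalizer (Y : Set G) := le_normalizer_core (le_normalizer_fittingOf L)
  have hLZ : L ≤ normalizer (zpowers (z : G) : Set G) := fun l hl => by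
    rw [Grp.mem_normalizer_iff_smul]
    exact eq_of_card_cyclic hYc ((Subgroup.pointwise_smul_le_pointwise_smul_iff.2 (hZX.trans hXY)).trans
      (Grp.mem_normalizer_iff_smul.1 (hYN hl)).le) (hZX.trans hXY) (Grp.card_conj_smul _ _)
  have hZ1 : zpowers (z : G) ≠ ⊥ := fun e => hs.out.ne_one (by rw [← hZc, e, Subgroup.card_bot])
  have hNZ := normalizer_eq_of_coatom h.hG hL hZ1 (fun e => hL.1 (top_le_iff.1 (e ▸ hZX.trans hXL))) hLZ
  have hZK : zpowers (z : G) ⊓ centralizer (K : Set G) = ⊥ :=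
    le_bot_iff.1 ((inf_le_inf_right _ hZX).trans hXK.le)
  refine ⟨E, zpowers (z : G), hE, hKE, hZX.trans hXE, hZc, hKL.trans hLZ, hZK, ?_, hZX.trans hXC, hτ, hNZ⟩
  have h1 := Grp.commutator_sup_fixed K (zpowers (z : G)) (hKL.trans hLZ) (by
    rw [hpK, hZc]; exact (Nat.coprime_primes hp.out hs.out).2 (Ne.symm hsp))
    (Or.inr (isSolvable_of_le (hZX.trans hXL)))
  rwa [hZK, sup_bot_eq] at h1

/-- The fixed line of a plane is not a `σ(M*)`-line. -/
theorem dual_sigma_contra {L A Z : Subgroup G} (hL : IsCoatom L) {s : ℕ} [hs : Fact s.Prime] (hsp : s ≠ p)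
    (hsMs : s ∈ Cfsg.sigma Ms) (hAL : A ≤ L) (hA : Cfsg.IsElementaryAbelian s A) (hA2 : Nat.card A = s ^ 2)
    (hSA : Cfsg.sigmaCore L ⊓ centralizer (A : Set G) = ⊥) (hZA : Z ≤ A) (hZc : Nat.card Z = s)
    (hKZ : K ≤ normalizer (Z : Set G)) (hZK : Z ⊓ centralizer (K : Set G) = ⊥)
    (hZS : Z ≤ centralizer (Cfsg.sigmaCore L : Set G)) (hNZ : normalizer (Z : Set G) = L) {x : G} (hxA : x ∈ A)
    (hxK : x ∈ centralizer (K : Set G)) (hxo : orderOf x = s) (hxMs : x ∈ Ms)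
    (hxC : ¬ centralizer ({x} : Set G) ≤ Ms) : False := by
  obtain ⟨b, hb, hb1, hbp, hbK⟩ := h.exists_gen hpK
  have hCb : centralizer (K : Set G) = centralizer ({b} : Set G) := by rw [← hbK, centralizer_zpowers_eq]
  have hx1 : x ≠ 1 := fun e => hs.out.ne_one (by rw [← hxo, e, orderOf_one])
  have hxS : x ∈ Cfsg.sigmaCore Ms := mem_sigmaCore_of_pi h.hG h.hMs hxMs fun q hq hd => by
    rw [hxo, Nat.prime_dvd_prime_iff_eq hq hs.out] at hd; exact hd ▸ hsMs
  obtain ⟨N, ⟨hN, hCN⟩, -, -, -, -, -, hdec⟩ := Cfsg.Agent.S1375.result h.hG Ms h.hMs x hxS hx1 hxC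
  obtain ⟨K', U', hKU'⟩ := exists_decomp_of_max h.hG hN
  obtain ⟨-, ⟨⟨hxN, y, hy, hy1, hxy⟩, -⟩, hxS'⟩ := hdec K' U' hKU'
  haveI := solvable_of_ne_top h.hG hN.1
  have hsN : s ∉ Cfsg.sigma N := fun hσ => hxS' (mem_sigmaCore_of_pi h.hG hN hxN fun q hq hd => by
    rw [hxo, Nat.prime_dvd_prime_iff_eq hq hs.out] at hd; exact hd ▸ hσ)
  have hAc : A ≤ centralizer ({x} : Set G) := fun a ha => mem_centralizer_singleton_iff.2
    (congrArg Subtype.val (hA.1.is_comm.comm (⟨a, ha⟩ : A) ⟨x, hxA⟩))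
  have hAN : A ≤ N := hAc.trans hCN
  have hNL : N ≠ L := fun e => by
    subst e
    have hne : Z ≠ zpowers x := fun e' => hx1 (mem_bot.1 (hZK.le ⟨e' ▸ mem_zpowers x, hxK⟩))
    have hAy : A ≤ centralizer ({y} : Set G) := by
      rw [← sup_lines hA2 hZA (zpowers_le.2 hxA) hZc (by rw [Nat.card_zpowers, hxo]) hne]
      exact sup_le (hZS.trans (centralizer_le (Set.singleton_subset_iff.2 hy)))
        (zpowers_le.2 (mem_centralizer_singleton_iff.2 hxy))
    exact hy1 (mem_bot.1 (hSA.le ⟨hy, mem_centralizer_iff.2 fun a ha => mem_centralizer_singleton_iff.1 (hAy ha)⟩))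
  have hτN := tau2_of_not_rank_one h.hG hN hsN (not_prank_of_elem hAN hA (by rw [hA2]))
  have hmeetN := (Cfsg.Agent.S1417.result h.hG N hN s hτN A ⟨hAN, hA, hA2⟩).2.2.2.2.1 L hL (Ne.symm hNL) hAL
  have hKN : K ≤ N := fun k hk =>
    hCN (mem_centralizer_singleton_iff.2 (mem_centralizer_iff.1 hxK k hk))
  have hpN : p ∉ Cfsg.sigma N := fun hσ => by
    obtain ⟨g, e⟩ := sigma_conj_of_common h.hG h.hMs hN (h.prime_sigma_dual hpK) hσ
    exact hsN (e ▸ sigma_smul h.hG h.hMs hsMs g)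
  have hfixN := h.fixed_bot hpK hKU hN hKN hpN (h.not_conj_of_fixed hpK hKU hKN hxN hxK hxo hsp hsN)
  have hZN : Z ≤ centralizer (Cfsg.sigmaCore N : Set G) := by
    refine le_centralizer_of_fpf hbp (TransHyp.le_normalizer_piCoreOf N (hKN hb)) (hKZ hb)
      ((hZA.trans hAN).trans (TransHyp.le_normalizer_piCoreOf N)) ?_ (by rw [← hCb]; exact hfixN)
      (by rw [← hCb]; exact hZK)
    rw [hZc]
    exact (hs.out.coprime_iff_not_dvd.2 (not_dvd_sigmaCore hsN)).symm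
  exact sigmaCore_ne_bot h.hG hN (le_bot_iff.1 ((le_inf le_rfl
    (((le_centralizer_iff.1 hZN).trans (centralizer_le_normalizer _)).trans hNZ.le)).trans hmeetN.le))

variable (hU1 : U ≠ ⊥)
include hU1

/-- No `σ'`-group of an overgroup of `K` outside the classes of `M` and `M*` is moved freely by `K`. -/
theorem line_contra {L : Subgroup G} (hL : IsCoatom L) (hKL : K ≤ L) (hpσ : p ∉ Cfsg.sigma L)
    (hnM : ∀ g : G, L ≠ MulAut.conj g • M) {X : Subgroup G} (hXL : X ≤ L) {s : ℕ} [hs : Fact s.Prime]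
    (hX : IsPGroup s X) (hsp : s ≠ p) (hsL : s ∉ Cfsg.sigma L) (hX1 : X ≠ ⊥)
    (hKX : K ≤ normalizer (X : Set G)) (hXK : X ⊓ centralizer (K : Set G) = ⊥) : False := by
  obtain ⟨E, Z, hE, hKE, hZE, hZc, hKZ, hZK, hZcomm, hZS, hτ, hNZ⟩ :=
    h.moved_line hpK hKU hL hKL hpσ hnM hXL hX hsp hsL hX1 hKX hXK
  haveI := solvable_of_ne_top h.hG hL.1
  haveI := isSolvable_of_le hE.1
  obtain ⟨b, hb, hb1, hbp, hbK⟩ := h.exists_gen hpK
  have hCb : centralizer (K : Set G) = centralizer ({b} : Set G) := by rw [← hbK, centralizer_zpowers_eq]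
  have hLS : L ≤ normalizer (Cfsg.sigmaCore L : Set G) := TransHyp.le_normalizer_piCoreOf L
  obtain ⟨V, hV⟩ := Grp.exists_isSylowIn s E
  obtain ⟨A, hAV, hA, hA2⟩ := tau2_plane h.hG hL hE hτ hV
  have hAE : A ≤ E := hAV.trans hV.1
  obtain ⟨⟨hEA, hlines⟩, -, -⟩ := Cfsg.Agent.S1418.result h.hG L hL E hE s hτ A ⟨hAE, hA, hA2⟩
  have hZA : Z ≤ A := hlines Z hZE hZc
  obtain ⟨-, -, -, hSA, -, -⟩ := Cfsg.Agent.S1417.result h.hG L hL s hτ A ⟨hAE.trans hE.1, hA, hA2⟩
  obtain ⟨x, ⟨hxA, hxK⟩, hx1⟩ :=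
    (bot_or_exists_ne_one (A ⊓ centralizer (K : Set G))).resolve_left fun e => by
      have hAS : A ≤ centralizer (Cfsg.sigmaCore L : Set G) :=
        le_centralizer_of_fpf hbp (hLS (hKL hb)) (hEA (hKE hb)) ((hAE.trans hE.1).trans hLS)
          ((compl_coprime h.hG hL hE).coprime_dvd_left (card_dvd_of_le hAE)).symm
          (by rw [← hCb]; exact h.fixed_bot hpK hKU hL hKL hpσ hnM) (by rw [← hCb]; exact e)
      exact sigmaCore_ne_bot h.hG hL (le_bot_iff.1 ((le_inf le_rfl (le_centralizer_iff.1 hAS)).trans hSA.le))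
  have hxo : orderOf x = s := orderOf_eq_prime (hA.2 x hxA) hx1
  have hxMs : x ∈ Ms := h.normalizer_line_le le_rfl hpK (centralizer_le_normalizer _ hxK)
  have hxC : ¬ centralizer ({x} : Set G) ≤ Ms := fun hle => by
    have hZMs : Z ≤ Ms := fun z hz => hle (mem_centralizer_singleton_iff.2
      (congrArg Subtype.val (hA.1.is_comm.comm (⟨z, hZA hz⟩ : A) ⟨x, hxA⟩)))
    have hZ := h.moved_bot_dual hpK (Y := K) (h.le_sigmaCore_dual.trans (TransHyp.piCoreOf_le Ms)) hpK hZMs (by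
      rw [hZc]; exact fun hd => hsp ((Nat.prime_dvd_prime_iff_eq hp.out hs.out).1 hd).symm) hZcomm
    rw [hZ, Subgroup.card_bot] at hZc
    exact hs.out.ne_one hZc.symm
  by_cases hsMs : s ∈ Cfsg.sigma Ms
  · exact h.dual_sigma_contra hpK hKU hL hsp hsMs (hAE.trans hE.1) hA hA2 hSA hZA hZc hKZ hZK hZS hNZ hxA hxK hxo
      hxMs hxC
  · rcases Cfsg.Agent.S1432.result h.hG Ms h.hMs b (h.le_sigmaCore_dual hb) hb1 x
      ⟨hxMs, by rw [← hCb]; exact hxK⟩ hx1 (fun q hq hd => by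
        rw [hxo, Nat.prime_dvd_prime_iff_eq hq hs.out] at hd; exact hd ▸ hsMs) with ⟨hκ, -⟩ | ⟨-, -, hC, -⟩
    · have hsκ := hκ s hs.out (dvd_of_eq hxo.symm)
      have hd : s ∣ Nat.card (kStar M K) := by
        have h1 := hsκ.2.1
        rw [← Grp.card_mul_relIndex h.hall.1] at h1
        exact (hs.out.dvd_mul.1 h1).resolve_right (h.hall.2.2 s hs.out hsκ)
      exact (Cfsg.Agent.S1408.result h.hG L hL s hsL hτ.2.2.1 hτ.2.2.2).1
        (beta_of_decomp h.hG h.hM hKU h.hK1 hU1 (hd.trans (card_dvd_of_le inf_le_left))).2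
    · exact hxC hC

/-- A maximal overgroup of `U K` outside the class of `M` carries `U` in its core. -/
theorem overgroup_core {L : Subgroup G} (hL : IsCoatom L) (hUK : U ⊔ K ≤ L)
    (hnM : ∀ g : G, L ≠ MulAut.conj g • M) : p ∉ Cfsg.sigma L ∧ U ≤ Cfsg.sigmaCore L := by
  haveI := solvable_of_ne_top h.hG h.hM.1
  haveI := isSolvable_of_le hKU.compl.1
  obtain ⟨-, hfpf, hab⟩ := decomp_facts h.hG h.hM hKU
  obtain ⟨-, -, hU⟩ := decomp_compl h.hG h.hM hKU
  have hpU : ¬ p ∣ Nat.card U := fun hd => hU p hp.out hd (h.prime_kappa hpK)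
  have hpσ : p ∉ Cfsg.sigma L := fun hσ => by
    obtain ⟨g, rfl⟩ := sigma_conj_of_common h.hG h.hMs hL (h.prime_sigma_dual hpK) hσ
    have hle : ∀ {W : Subgroup G}, W ≤ MulAut.conj g • Ms → MulAut.conj g⁻¹ • W ≤ Ms := fun hW => by
      have := (Subgroup.pointwise_smul_le_pointwise_smul_iff (a := MulAut.conj g⁻¹)).2 hW
      rwa [Grp.conj_smul_conj_smul, inv_mul_cancel, map_one, one_smul] at this
    have h1 := h.moved_bot_dual hpK (Z := MulAut.conj g⁻¹ • U) (Y := MulAut.conj g⁻¹ • K)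
      (hle (le_sup_right.trans hUK)) (by rw [Grp.card_conj_smul, hpK]) (hle (le_sup_left.trans hUK))
      (by rwa [Grp.card_conj_smul]) (by
        rw [← Grp.map_conj_eq_smul, ← Grp.map_conj_eq_smul, ← Subgroup.map_commutator,
          commutator_decomp h.hG h.hM hKU h.hK1])
    exact hU1 (Subgroup.card_eq_one.1 (by rw [← Grp.card_conj_smul g⁻¹, h1, Subgroup.card_bot]))
  refine ⟨hpσ, ?_⟩
  haveI := solvable_of_ne_top h.hG hL.1
  refine (Grp.le_of_forall_sylow (inf_le_left : U ⊓ Cfsg.sigmaCore L ≤ U) fun s hs => ?_).trans inf_le_right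
  obtain ⟨X, hX⟩ := Grp.exists_isSylowIn s U
  refine ⟨X, hX, le_inf hX.1 ?_⟩
  rcases eq_or_ne X ⊥ with rfl | hX1
  · exact bot_le
  by_contra hnot
  have hsp : s ≠ p := fun e => hpU (e ▸ (dvd_card_of_pGroup hX.2.1 hX1).trans (card_dvd_of_le hX.1))
  by_cases hsσ : s ∈ Cfsg.sigma L
  · refine hnot fun x hx => mem_sigmaCore_of_pi h.hG hL (hUK (mem_sup_left (hX.1 hx))) fun q hq hd => ?_
    obtain ⟨i, hi⟩ := hX.2.1 ⟨x, hx⟩
    rw [(Nat.prime_dvd_prime_iff_eq hq hs.out).1 (hq.dvd_of_dvd_pow (hd.trans (orderOf_dvd_of_pow_eq_one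
      (by simpa using congrArg Subtype.val hi))))]
    exact hsσ
  obtain ⟨b, hb, hb1, -, -⟩ := h.exists_gen hpK
  refine h.line_contra hpK hKU hU1 hL (le_sup_right.trans hUK) hpσ hnM (hX.1.trans (le_sup_left.trans hUK))
    hX.2.1 hsp hsσ hX1 (normalizer_sylow_of_comm (hab h.hK1) hX hKU.normal) ?_
  exact le_bot_iff.1 ((inf_le_inf hX.1 (centralizer_le (Set.singleton_subset_iff.2 hb))).trans (hfpf b hb hb1).le)

/-- The further structure of such an overgroup. -/
theorem overgroup_structure {L : Subgroup G} (hL : IsCoatom L) (hUK : U ⊔ K ≤ L)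
    (hnM : ∀ g : G, L ≠ MulAut.conj g • M) :
    Cfsg.kappa L = ∅ ∧ U ≤ Cfsg.sigmaCore L ∧ M ⊓ L = U ⊔ K ∧ ¬ L ⊓ normalizer (U : Set G) ≤ M ∧
      K ≤ Cfsg.fittingOf (L ⊓ Ms) ∧ Cfsg.IsComplIn (L ⊓ Ms) (Cfsg.sigmaCore L) L := by
  obtain ⟨hpσ, hUS⟩ := h.overgroup_core hpK hKU hU1 hL hUK hnM
  have hKL : K ≤ L := le_sup_right.trans hUK
  haveI := solvable_of_ne_top h.hG hL.1
  obtain ⟨hE₀, -, -⟩ := decomp_compl h.hG h.hM hKU
  set S := Cfsg.sigmaCore L with hS
  have hLS : L ≤ normalizer (S : Set G) := TransHyp.le_normalizer_piCoreOf L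
  have hκ : Cfsg.kappa L = ∅ := by
    by_contra hne
    obtain ⟨g, e | e⟩ := (Cfsg.Agent.S1369.result h.hG M h.hM K U hKU h.hK1 Ms h.hMs h.dual.symm h.hall).2 L hL
      (Set.nonempty_iff_ne_empty.2 hne)
    · exact hnM g e
    · rw [Grp.map_conj_eq_smul] at e
      exact hpσ (e ▸ sigma_smul h.hG h.hMs (h.prime_sigma_dual hpK) g)
  have hfix := h.fixed_bot hpK hKU hL hKL hpσ hnM
  have hdisj : ∀ {A : Subgroup G}, IsCoatom A → (∀ g : G, L ≠ MulAut.conj g • A) →
      Cfsg.sigmaCore A ⊓ S = ⊥ := fun {A} hA hne => Grp.inf_eq_bot_of_coprime (Nat.coprime_of_dvd fun q hq h1 h2 => by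
    haveI := Fact.mk hq
    obtain ⟨g, e⟩ := sigma_conj_of_common h.hG hA hL (TransHyp.piCoreOf_primes (π := Cfsg.sigma A) (X := A) hq h1)
      (TransHyp.piCoreOf_primes (π := Cfsg.sigma L) (X := L) hq h2)
    exact hne g e)
  have hMS := hdisj h.hM hnM
  have hMsS := hdisj h.hMs fun g e => hpσ (e ▸ sigma_smul h.hG h.hMs (h.prime_sigma_dual hpK) g)
  have hmeet : M ⊓ L = U ⊔ K := by
    refine le_antisymm (fun m hm => ?_) (le_inf hE₀.1 hUK)
    obtain ⟨e, he, y, hy, rfl⟩ := hE₀.2.2.2 m hm.1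
    have hyL : y ∈ L := by
      have := L.mul_mem (L.inv_mem (hUK he)) hm.2
      rwa [inv_mul_cancel_left] at this
    have hy1 : y = 1 := decomp_U_fixed h.hG h.hM hKU hU1 hy fun u hu => by
      have h1 : ⁅u, y⁆ ∈ Cfsg.sigmaCore M ⊓ S := by
        refine ⟨?_, ?_⟩
        · show ⁅u, y⁆ ∈ Cfsg.sigmaCore M
          rw [commutatorElement_def]
          exact mul_mem (Grp.mem_conj_normalizer (TransHyp.le_normalizer_piCoreOf M (hE₀.1 (mem_sup_left hu))) hy)
            (inv_mem hy)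
        · show ⁅u, y⁆ ∈ S
          rw [commutatorElement_def, mul_assoc, mul_assoc]
          refine mul_mem (hUS hu) ?_
          rw [← mul_assoc]
          exact Grp.mem_conj_normalizer (hLS hyL) (inv_mem (hUS hu))
      rw [hMS, mem_bot] at h1
      exact commutatorElement_eq_one_iff_mul_comm.1 h1
    rw [hy1, mul_one]
    exact he
  have hnilS : Group.IsNilpotent S := sigmaCore_nilpotent_of_kappa_empty h.hG hL hκ
  have hSK : S ⊓ (U ⊔ K) ≤ U := by
    intro x hx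
    refine decomp_le_U h.hG h.hM hKU (zpowers_le.2 hx.2) ?_ (mem_zpowers x)
    rw [Nat.card_zpowers, hpK]
    exact (hp.out.coprime_iff_not_dvd.2 fun hd => hpσ (TransHyp.piCoreOf_primes (π := Cfsg.sigma L) (X := L) hp.out
      (hd.trans (Subgroup.orderOf_dvd_natCard _ hx.1)))).symm
  have hnorm : ¬ L ⊓ normalizer (U : Set G) ≤ M := fun hle => by
    rcases (hUS.lt_or_eq) with hlt | heq
    · exact (Grp.lt_inf_normalizer hnilS hlt).not_ge fun x hx => hSK
        ⟨hx.1, hmeet.le ⟨hle ⟨TransHyp.piCoreOf_le L hx.1, hx.2⟩, TransHyp.piCoreOf_le L hx.1⟩⟩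
    · have hLN : L ≤ normalizer (U : Set G) := heq ▸ hLS
      have hLM : L ≤ M := (le_inf le_rfl hLN).trans hle
      exact hnM 1 (by rw [map_one, one_smul]; exact ((hL.le_iff.1 hLM).resolve_left h.hM.1).symm)
  obtain ⟨E, hE, hKE⟩ := exists_compl_ge h.hG hL hKL fun q hq hd => by
    rw [hpK, Nat.prime_dvd_prime_iff_eq hq hp.out] at hd; exact hd ▸ hpσ
  haveI := isSolvable_of_le hE.1
  have hKFE : E ≤ Ms ∧ K ≤ Cfsg.fittingOf E := by
    by_cases hr : Cfsg.PRankLE p 1 L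
    · suffices hEK : E ≤ normalizer (K : Set G) by
        refine ⟨hEK.trans (h.normalizer_line_le le_rfl hpK), le_fittingOf hKE hEK ?_⟩
        exact (IsPGroup.of_card (n := 1) (hpK.trans (pow_one p).symm)).isNilpotent
      by_cases hd : p ∣ Nat.card ↥⁅L, L⁆
      · exact (tau3_normal h.hG hL hE hpσ hr hd hKE hpK).2
      have hpE : ¬ p ∣ Nat.card ↥⁅E, E⁆ := fun hd' => hd (hd'.trans (card_dvd_of_le (commutator_mono hE.1 hE.1)))
      have hab' : IsMulCommutative ↥⁅E, E⁆ := (Cfsg.Agent.S1420.result h.hG L hL E hE).2.1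
      have hEE : E ≤ normalizer ((⁅E, E⁆ : Subgroup G) : Set G) :=
        le_normalizer_commutator' le_normalizer le_normalizer
      have hE'K : ⁅E, E⁆ ≤ centralizer (K : Set G) := by
        refine (Grp.le_of_forall_sylow (inf_le_left : ⁅E, E⁆ ⊓ centralizer (K : Set G) ≤ ⁅E, E⁆) fun s hs => ?_).trans
          inf_le_right
        obtain ⟨X, hX⟩ := Grp.exists_isSylowIn s ⁅E, E⁆
        refine ⟨X, hX, le_inf hX.1 ?_⟩
        haveI : IsMulCommutative X := le_centralizer_iff_isMulCommutative.1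
          ((hX.1.trans (le_centralizer_iff_isMulCommutative.2 hab')).trans (centralizer_le hX.1))
        have hKX := normalizer_sylow_of_comm hab' hX (hKE.trans hEE)
        rw [← commutator_eq_bot_iff_le_centralizer]
        by_contra hne
        have hle : ⁅X, K⁆ ≤ X := Grp.commutator_le_left_of_le_normalizer hKX
        have hX1 : X ≠ ⊥ := ne_bot_of_le_ne_bot hne hle
        have hdX := (dvd_card_of_pGroup hX.2.1 hX1).trans (card_dvd_of_le hX.1)
        have hsp : s ≠ p := fun e => hpE (e ▸ hdX)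
        obtain ⟨i, hi⟩ := IsPGroup.iff_card.1 hX.2.1
        refine h.line_contra hpK hKU hU1 hL hKL hpσ hnM ((hle.trans hX.1).trans (E.commutator_le_self.trans hE.1))
          (hX.2.1.to_le hle) hsp (compl_prime h.hG hL hE hs.out (hdX.trans (card_dvd_of_le E.commutator_le_self))) hne
          (le_normalizer_commutator' hKX le_normalizer) ?_
        have hfix' := Grp.abelian_commutator_inf_fixed K X hKX (by
          rw [hpK, hi]; exact ((Nat.coprime_primes hp.out hs.out).2 (Ne.symm hsp)).pow_right i)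
        exact le_bot_iff.1 ((le_inf (le_inf (inf_le_left.trans hle) inf_le_right) inf_le_left).trans hfix'.le)
      refine Grp.PiHall.le_normalizer_of_conj_mem fun e he k hk => ?_
      have hc : ⁅e, k⁆ ∈ ⁅E, E⁆ := commutator_mem_commutator he (hKE hk)
      have hk1 : k ^ p = 1 := hpK ▸ (orderOf_dvd_iff_pow_eq_one.1 (Subgroup.orderOf_dvd_natCard _ hk))
      have hcomm : Commute ⁅e, k⁆ k := (mem_centralizer_iff.1 (hE'K hc) k hk).symm
      have hp1 : ⁅e, k⁆ ^ p = 1 := by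
        have h1 : (⁅e, k⁆ * k) ^ p = 1 := by
          rw [commutatorElement_def, inv_mul_cancel_right, conj_pow, hk1, mul_one, mul_inv_cancel]
        rwa [hcomm.mul_pow, hk1, mul_one] at h1
      have h1 : ⁅e, k⁆ = 1 := orderOf_eq_one_iff.1 (Nat.eq_one_of_dvd_coprimes
        (hp.out.coprime_iff_not_dvd.2 hpE) (orderOf_dvd_of_pow_eq_one hp1) (Subgroup.orderOf_dvd_natCard _ hc))
      rw [commutatorElement_def, mul_inv_eq_one] at h1
      rwa [h1]
    · have hτ := tau2_of_not_rank_one h.hG hL hpσ hr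
      obtain ⟨V, hV⟩ := Grp.exists_isSylowIn p E
      obtain ⟨A, hAV, hA, hA2⟩ := tau2_plane h.hG hL hE hτ hV
      obtain ⟨⟨hEA, hlines⟩, -, -⟩ := Cfsg.Agent.S1418.result h.hG L hL E hE p hτ A ⟨hAV.trans hV.1, hA, hA2⟩
      have hKA : K ≤ A := hlines K hKE hpK
      have hAMs : A ≤ Ms := ((le_centralizer_iff_isMulCommutative.2 hA.1).trans (centralizer_le hKA)).trans
        ((centralizer_le_normalizer _).trans (h.normalizer_line_le le_rfl hpK))
      have hAnc : ¬ IsCyclic A := fun hc => by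
        have h1 := card_le_prime_of_cyclic hc hA.2
        rw [hA2] at h1
        nlinarith [hp.out.two_le]
      obtain ⟨E', hE', -⟩ := exists_compl_ge h.hG h.hMs (U := ⊥) bot_le fun q hq hd => by
        rw [Subgroup.card_bot, Nat.dvd_one] at hd; exact absurd hd hq.ne_one
      exact ⟨hEA.trans ((Cfsg.Agent.S1420.result h.hG Ms h.hMs E' hE').2.2.1 p A (h.prime_sigma_dual hpK)
        (Grp.elemAb_isPGroup hA) hAMs hAnc),
        hKA.trans (le_fittingOf (hAV.trans hV.1) hEA (Grp.elemAb_isPGroup hA).isNilpotent)⟩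
  have hSMs : ∀ w ∈ S, w ∈ Ms → w = 1 := fun w hw hwMs => by
    refine mem_bot.1 (hfix ▸ ⟨hw, mem_centralizer_iff.2 fun k hk => ?_⟩)
    have h1 : ⁅k, w⁆ ∈ Cfsg.sigmaCore Ms ⊓ S := by
      refine ⟨?_, ?_⟩
      · show ⁅k, w⁆ ∈ Cfsg.sigmaCore Ms
        rw [commutatorElement_def, mul_assoc, mul_assoc]
        refine mul_mem (h.le_sigmaCore_dual hk) ?_
        rw [← mul_assoc]
        exact Grp.mem_conj_normalizer (TransHyp.le_normalizer_piCoreOf Ms hwMs) (inv_mem (h.le_sigmaCore_dual hk))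
      · show ⁅k, w⁆ ∈ S
        rw [commutatorElement_def]
        exact mul_mem (Grp.mem_conj_normalizer (hLS (hKL hk)) hw) (inv_mem hw)
    rw [hMsS, mem_bot] at h1
    exact commutatorElement_eq_one_iff_mul_comm.1 h1
  have hEeq : L ⊓ Ms = E := le_antisymm (fun x hx => by
    obtain ⟨e, he, w, hw, rfl⟩ := hE.2.2.2 x hx.1
    have hw1 := hSMs w hw (by
      have := Ms.mul_mem (Ms.inv_mem (hKFE.1 he)) hx.2
      rwa [inv_mul_cancel_left] at this)
    rw [hw1, mul_one]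
    exact he) (le_inf hE.1 hKFE.1)
  exact ⟨hκ, hUS, hmeet, hnorm, hEeq ▸ hKFE.2, hEeq ▸ hE⟩

end Cfsg.Agent.Transfer.Loc.KappaPair
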