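import Cfsg.Agent.Lib.Transfer.Local.SigmaTilde
import Cfsg.Agent.Lib.Transfer.Local.KappaPair
import Cfsg.Agent.S1369
import Cfsg.Agent.S1425

/-!
Every nonidentity element is in a tilde set or conjugate to a mixed element.
-/

set_option autoImplicit false
set_option linter.style.haveILetI false
set_option linter.unusedSectionVars false
set_option maxHeartbeats 1000000

namespace Cfsg.Agent.Transfer.Loc

open Subgroup
open scoped commutatorElement Pointwise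

universe u

variable {G : Type u} [Group G] [Finite G] (hG : Cfsg.IsMinSimpleOddOrder G) {M : Subgroup G} (hM : IsCoatom M)
include hG hM

/-- A fixing `τ₂`-element is supported by `M`. -/
theorem support_of_tau2 {w x : G} (hw : w ∈ M) (hw1 : w ≠ 1) (hτ : ∀ p : ℕ, p.Prime → p ∣ orderOf w → p ∈ Cfsg.tau2 M)
    (hx : x ∈ Cfsg.sigmaCore M) (hx1 : x ≠ 1) (hc : Commute x w) :
    centralizer ({w} : Set G) ≤ M ∧ ∃ L : Subgroup G, IsCoatom L ∧ w ∈ Cfsg.sigmaCore L ∧ InR L w x := by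
  haveI := solvable_of_ne_top hG hM.1
  obtain ⟨E, hE, -⟩ := exists_compl_ge hG hM (U := ⊥) bot_le fun s hs hd => by
    rw [Subgroup.card_bot, Nat.dvd_one] at hd; exact absurd hd hs.ne_one
  obtain ⟨hCw, hu⟩ := (Cfsg.Agent.S1420.result hG M hM E hE).2.2.2 w hw hw1 hτ ⟨hw, x, hx, hx1, hc.eq.symm⟩
  obtain ⟨q, hq, hqd⟩ := Nat.exists_prime_and_dvd (fun h => hw1 (orderOf_eq_one_iff.1 h))
  haveI := Fact.mk hq
  obtain ⟨L₀, hL₀, hL₀τ⟩ := tau2_sigma_common hG hM ⟨q, hτ q hq hqd⟩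
  obtain ⟨c, hc'⟩ := Cfsg.Agent.S1425.result hG L₀ hL₀ (zpowers w)
    (fun h => hw1 (zpowers_eq_bot.1 h)) fun p hp hd => hL₀τ (hτ p hp (Nat.card_zpowers w ▸ hd))
  have hwL : w ∈ Cfsg.sigmaCore (MulAut.conj c⁻¹ • L₀) := by
    rw [← smul_sigmaCore hG hL₀]
    refine ⟨c * w * c⁻¹, hc' ⟨w, mem_zpowers w, rfl⟩, ?_⟩
    show MulAut.conj c⁻¹ (c * w * c⁻¹) = w
    rw [MulAut.conj_apply]; group
  have hL := isCoatom_conj hG hL₀ c⁻¹
  refine ⟨hCw, _, hL, hwL, ?_⟩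
  have hCL : ¬ centralizer ({w} : Set G) ≤ MulAut.conj c⁻¹ • L₀ := fun h => by
    have h' := sigma_smul hG hL₀ (hL₀τ (hτ q hq hqd)) c⁻¹
    rw [hu _ hL h] at h'
    exact (hτ q hq hqd).2.1 h'
  obtain ⟨N, hN, huN, -⟩ := support_unique hG hL hwL hw1 hCL
  obtain rfl := huN M hM hCw
  exact Or.inr ⟨M, hN, hx, mem_centralizer_singleton_iff.2 hc.eq⟩

/-- The fixing `σ(M)'`-elements of `M`. -/
theorem fixing_cases {w x : G} (hw : w ∈ M) (hw1 : w ≠ 1) (hπ : IsPiElt (Cfsg.sigma M)ᶜ w)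
    (hx : x ∈ Cfsg.sigmaCore M) (hx1 : x ≠ 1) (hc : Commute x w) :
    (∀ p : ℕ, p.Prime → p ∣ orderOf w → p ∈ Cfsg.kappa M) ∨
      (centralizer ({w} : Set G) ≤ M ∧ ∃ L : Subgroup G, IsCoatom L ∧ x * w ∈ Cfsg.tildeOf L ((Cfsg.sigmaCore L : Set G) \ {1})) := by
  refine (fixed_primes_cases hG hM hw hw1 hπ fun e => hx1 ?_).imp_right fun hτ => ?_
  · rw [← mem_bot, ← e]; exact ⟨hx, mem_centralizer_singleton_iff.2 hc.eq⟩
  · obtain ⟨hCw, L, hL, hwL, hR⟩ := support_of_tau2 hG hM hw hw1 hτ hx hx1 hc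
    exact ⟨hCw, L, hL, (mem_tilde_iff hG hL).2 ⟨1, w, x, by rwa [map_one, one_smul], hw1,
      by rwa [map_one, one_smul], hc.eq⟩⟩

omit hM in
/-- The dichotomy. -/
theorem sigma_dichotomy {g : G} (hg : g ≠ 1) :
    (∃ L : Subgroup G, IsCoatom L ∧ g ∈ Cfsg.tildeOf L ((Cfsg.sigmaCore L : Set G) \ {1})) ∨
      ∃ (H : Subgroup G) (c x w : G), IsCoatom H ∧ g = c * (x * w) * c⁻¹ ∧ x ∈ Cfsg.sigmaCore H ∧ x ≠ 1 ∧
        w ∈ H ∧ w ≠ 1 ∧ IsPiElt (Cfsg.sigma H)ᶜ w ∧ Commute x w ∧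
        ∀ p : ℕ, p.Prime → p ∣ orderOf w → p ∈ Cfsg.kappa H := by
  obtain ⟨p, hp, hpd⟩ := Nat.exists_prime_and_dvd (fun h => hg (orderOf_eq_one_iff.1 h))
  haveI := Fact.mk hp
  obtain ⟨M₀, hM₀, hpσ⟩ := exists_sigma hG (hpd.trans (_root_.orderOf_dvd_natCard g))
  obtain ⟨x, v, hxg, hvg, e, hxπ, hvπ⟩ := exists_pi_parts (Cfsg.sigma M₀) g
  have hx1 : x ≠ 1 := fun h => by
    rw [h, one_mul] at e
    exact hvπ p hp (e ▸ hpd) hpσ
  obtain ⟨d, hd⟩ := Cfsg.Agent.S1425.result hG M₀ hM₀ (zpowers x) (fun h => hx1 (zpowers_eq_bot.1 h))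
    fun q hq hqd => hxπ q hq (Nat.card_zpowers x ▸ hqd)
  set M := MulAut.conj d⁻¹ • M₀
  have hM := isCoatom_conj hG hM₀ d⁻¹
  have hx : x ∈ Cfsg.sigmaCore M := by
    rw [← smul_sigmaCore hG hM₀]
    refine ⟨d * x * d⁻¹, hd ⟨x, mem_zpowers x, rfl⟩, ?_⟩
    show MulAut.conj d⁻¹ (d * x * d⁻¹) = x
    rw [MulAut.conj_apply]; group
  have hvπ' : IsPiElt (Cfsg.sigma M)ᶜ v := fun q hq hqd hσ => hvπ q hq hqd ((sigma_smul_iff hG hM₀ _).1 hσ)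
  obtain ⟨i, hi⟩ := mem_zpowers_iff.1 hxg
  obtain ⟨j, hj⟩ := mem_zpowers_iff.1 hvg
  have hxv : Commute x v := hi ▸ hj ▸ Commute.zpow_zpow (Commute.refl g) i j
  have hxM : x ∈ M := TransHyp.piCoreOf_le M hx
  by_cases hv1 : v = 1
  · exact Or.inl ⟨M, hM, (mem_tilde_iff hG hM).2 ⟨1, x, 1, by rwa [map_one, one_smul], hx1, Or.inl rfl,
      by rw [← e, hv1]⟩⟩
  have finish : v ∈ M → (∀ q : ℕ, q.Prime → q ∣ orderOf v → q ∈ Cfsg.kappa M) →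
      ∃ (H : Subgroup G) (c x w : G), IsCoatom H ∧ g = c * (x * w) * c⁻¹ ∧ x ∈ Cfsg.sigmaCore H ∧ x ≠ 1 ∧
        w ∈ H ∧ w ≠ 1 ∧ IsPiElt (Cfsg.sigma H)ᶜ w ∧ Commute x w ∧
        ∀ p : ℕ, p.Prime → p ∣ orderOf w → p ∈ Cfsg.kappa H := fun hvM hκ =>
    ⟨M, 1, x, v, hM, by rw [e]; group, hx, hx1, hvM, hv1, hvπ', hxv, hκ⟩
  have inM : v ∈ M → (∃ L : Subgroup G, IsCoatom L ∧ g ∈ Cfsg.tildeOf L ((Cfsg.sigmaCore L : Set G) \ {1})) ∨
      ∃ (H : Subgroup G) (c x w : G), IsCoatom H ∧ g = c * (x * w) * c⁻¹ ∧ x ∈ Cfsg.sigmaCore H ∧ x ≠ 1 ∧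
        w ∈ H ∧ w ≠ 1 ∧ IsPiElt (Cfsg.sigma H)ᶜ w ∧ Commute x w ∧
        ∀ p : ℕ, p.Prime → p ∣ orderOf w → p ∈ Cfsg.kappa H := fun hvM => by
    rcases fixing_cases hG hM hvM hv1 hvπ' hx hx1 hxv with h | ⟨-, L, hL, h⟩
    · exact Or.inr (finish hvM h)
    · exact Or.inl ⟨L, hL, e ▸ h⟩
  by_cases hC : centralizer ({x} : Set G) ≤ M
  · exact inM (hC (mem_centralizer_singleton_iff.2 hxv.eq.symm))
  obtain ⟨N, hN, -, -, -, -⟩ := support_unique hG hM hx hx1 hC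
  obtain ⟨hbot, hNR, hcomp, hE⟩ := hN.facts hG hM
  have hc := hcomp hxM
  obtain ⟨u, w, huv, hwv, euw, huπ, hwπ⟩ := exists_pi_parts (Cfsg.sigma N) v
  have hvC : v ∈ centralizer ({x} : Set G) := mem_centralizer_singleton_iff.2 hxv.eq.symm
  have huC := (zpowers_le.2 hvC) huv
  have hwC := (zpowers_le.2 hvC) hwv
  have huR : u ∈ Cfsg.sigmaCore N ⊓ centralizer ({x} : Set G) :=
    ⟨mem_sigmaCore_of_pi hG hN.hN (hN.le huC) huπ, huC⟩
  by_cases hw1 : w = 1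
  · refine Or.inl ⟨M, hM, (mem_tilde_iff hG hM).2 ⟨1, x, v, by rwa [map_one, one_smul], hx1, ?_, e.symm⟩⟩
    rw [map_one, one_smul]
    exact Or.inr ⟨N, hN, by rw [← euw, hw1, mul_one]; exact huR⟩
  haveI := solvable_of_ne_top hG hN.hN.1
  haveI := isSolvable_of_le hN.le
  have hHall : Cfsg.IsPiHallOf (Cfsg.sigma N)ᶜ (M ⊓ centralizer ({x} : Set G)) (centralizer ({x} : Set G)) := by
    have hcard := complIn_card hc
    have hrel : (M ⊓ centralizer ({x} : Set G)).relIndex (centralizer ({x} : Set G)) =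
        Nat.card ↥(Cfsg.sigmaCore N ⊓ centralizer ({x} : Set G)) :=
      Nat.eq_of_mul_eq_mul_left Nat.card_pos ((Grp.card_mul_relIndex hc.1).trans hcard.symm)
    refine ⟨inf_le_right, fun q hq hd => hE q hq (hd.trans (card_dvd_of_le (le_inf inf_le_left (inf_le_right.trans hN.le)))),
      fun q hq hπq hd => hπq ?_⟩
    rw [hrel] at hd
    exact TransHyp.piCoreOf_primes (π := Cfsg.sigma N) (X := N) hq (hd.trans (card_dvd_of_le inf_le_left))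
  obtain ⟨a, ha, hle⟩ := Grp.PiHall.dominate hHall (zpowers_le.2 hwC) fun q hq hd => hwπ q hq (Nat.card_zpowers w ▸ hd)
  obtain ⟨w', hw', ew'⟩ := hle (mem_zpowers w)
  have ew : a * w' * a⁻¹ = w := ew'
  have hax : a * x * a⁻¹ = x := by rw [mem_centralizer_singleton_iff.1 ha, mul_inv_cancel_right]
  have hw'1 : w' ≠ 1 := fun h => hw1 (by rw [← ew, h]; group)
  have hw'π : IsPiElt (Cfsg.sigma M)ᶜ w' := fun q hq hd => hvπ' q hq (by
    rw [← MulEquiv.orderOf_eq (MulAut.conj a), show MulAut.conj a w' = w from ew] at hd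
    exact hd.trans (orderOf_dvd_of_mem_zpowers hwv))
  have hxw' : Commute x w' := (mem_centralizer_singleton_iff.1 hw'.2).symm
  rcases fixing_cases hG hM hw'.1 hw'1 hw'π hx hx1 hxw' with hκ | ⟨hCw, L, hL, h⟩
  · exfalso
    obtain ⟨r, _, z, hz, hzo, hzc, hrd⟩ := exists_prime_zpowers_le hw'1
    refine hC (kappa_fixed_centralizer hG hM (hκ r Fact.out hrd) ((zpowers_le.2 ((zpowers_le.2 hw'.1) hz))) hzc
      ⟨hx, mem_centralizer_iff.2 fun c hc' => ?_⟩ hx1)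
    obtain ⟨k, rfl⟩ := mem_zpowers_iff.1 ((zpowers_le.2 hz) hc')
    exact (hxw'.zpow_right k).eq.symm
  · have hu' : a⁻¹ * u * a = 1 := by
      have h1 : a⁻¹ * u * a ∈ M ⊓ Cfsg.sigmaCore N := ⟨hCw (mem_centralizer_singleton_iff.2 ?_),
        Grp.mem_conj_normalizer' (TransHyp.le_normalizer_piCoreOf N (hN.le ha)) huR.1⟩
      · rwa [hbot, mem_bot] at h1
      obtain ⟨k, hk⟩ := mem_zpowers_iff.1 huv
      obtain ⟨l, hl⟩ := mem_zpowers_iff.1 hwv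
      have huw : u * w = w * u := (hk ▸ hl ▸ Commute.zpow_zpow (Commute.refl v) k l : Commute u w).eq
      calc a⁻¹ * u * a * w' = a⁻¹ * (u * (a * w' * a⁻¹)) * a := by group
        _ = a⁻¹ * ((a * w' * a⁻¹) * u) * a := by rw [ew, huw]
        _ = w' * (a⁻¹ * u * a) := by group
    have hu1 : u = 1 := by rw [show u = a * (a⁻¹ * u * a) * a⁻¹ by group, hu']; group
    refine Or.inl ⟨L, hL, ?_⟩
    have h2 := tilde_conj hG hL h a
    rwa [conj_mul.symm, hax, ew, show w = v by rw [← euw, hu1, one_mul], e] at h2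

/-- The mixed elements of a pair. -/
theorem mixed_of_kappa {K Ms : Subgroup G} (h : KappaPair M K Ms) {x w : G} (hx : x ∈ Cfsg.sigmaCore M) (hx1 : x ≠ 1)
    (hw : w ∈ M) (hw1 : w ≠ 1) (hκ : ∀ p : ℕ, p.Prime → p ∣ orderOf w → p ∈ Cfsg.kappa M) (hc : Commute x w) :
    ∃ y : G, ∃ z ∈ ((↑(K ⊔ kStar M K) : Set G) \ ((K : Set G) ∪ ↑(kStar M K))), x * w = y * z * y⁻¹ := by
  haveI := solvable_of_ne_top hG hM.1
  obtain ⟨m, hm, hle⟩ := Grp.PiHall.dominate h.hK (zpowers_le.2 hw) fun p hp hd => hκ p hp (Nat.card_zpowers w ▸ hd)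
  obtain ⟨k, hk, ek⟩ := hle (mem_zpowers w)
  have ek' : m * k * m⁻¹ = w := ek
  have hk1 : k ≠ 1 := fun e => hw1 (by rw [← ek', e]; group)
  have hxk : m⁻¹ * x * m ∈ kStar M K := by
    refine ((Cfsg.Agent.S1430.result hG M hM K h.hK h.hK1).1 k hk hk1).le
      ⟨Grp.mem_conj_normalizer' (TransHyp.le_normalizer_piCoreOf M hm) hx, mem_centralizer_singleton_iff.2 ?_⟩
    have h1 : k = m⁻¹ * w * m := by rw [← ek']; group
    rw [h1, show m⁻¹ * x * m * (m⁻¹ * w * m) = m⁻¹ * (x * w) * m by group, hc.eq]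
    group
  refine ⟨m, k * (m⁻¹ * x * m), ⟨mul_mem (mem_sup_left hk) (mem_sup_right hxk), ?_⟩, ?_⟩
  · obtain ⟨-, -, -, hcop, -⟩ := kStar_facts hG hM h.hK
    have hbot : K ⊓ Cfsg.sigmaCore M = ⊥ := Grp.inf_eq_bot_of_coprime hcop
    rintro (h' | h')
    · have h1 : m⁻¹ * x * m = 1 := mem_bot.1 (hbot.le ⟨(K.mul_mem_cancel_left hk).1 h', hxk.1⟩)
      exact hx1 (by rw [show x = m * (m⁻¹ * x * m) * m⁻¹ by group, h1]; group)
    · exact hk1 (mem_bot.1 (hbot.le ⟨hk, (((kStar M K).mul_mem_cancel_right hxk).1 h').1⟩))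
  · rw [show m * (k * (m⁻¹ * x * m)) * m⁻¹ = m * k * m⁻¹ * x by group, ek', hc.eq]

/-- The dichotomy relative to a given pair. -/
theorem sigma_dichotomy_pair {K Ms : Subgroup G} (h : KappaPair M K Ms) {g : G} (hg : g ≠ 1) :
    (∃ L : Subgroup G, IsCoatom L ∧ g ∈ Cfsg.tildeOf L ((Cfsg.sigmaCore L : Set G) \ {1})) ∨
      ∃ y : G, ∃ z ∈ ((↑(K ⊔ kStar M K) : Set G) \ ((K : Set G) ∪ ↑(kStar M K))), g = y * z * y⁻¹ := by
  refine (sigma_dichotomy hG hg).elim Or.inl ?_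
  rintro ⟨H, c, x, w, hH, rfl, hx, hx1, hw, hw1, hwπ, hc, hκ⟩
  obtain ⟨q, hq, hqd⟩ := Nat.exists_prime_and_dvd (fun h' => hw1 (orderOf_eq_one_iff.1 h'))
  obtain ⟨U, hKU⟩ := exists_decomp hG hM h.cycK h.hK
  obtain ⟨d, hd⟩ := (Cfsg.Agent.S1369.result hG M hM K U hKU h.hK1 Ms h.hMs h.dual.symm h.hall).2 H hH
    ⟨q, hκ q hq hqd⟩
  -- reduce to one of the pair
  have key : ∀ (L K' Ls : Subgroup G), KappaPair L K' Ls → H = MulAut.conj d • L →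
      (∃ L₁ : Subgroup G, IsCoatom L₁ ∧ c * (x * w) * c⁻¹ ∈ Cfsg.tildeOf L₁ ((Cfsg.sigmaCore L₁ : Set G) \ {1})) ∨
      ∃ y : G, ∃ z ∈ ((↑(K' ⊔ kStar L K') : Set G) \ ((K' : Set G) ∪ ↑(kStar L K'))),
        c * (x * w) * c⁻¹ = y * z * y⁻¹ := by
    intro L K' Ls h' e
    obtain ⟨x', hx', ex⟩ : x ∈ MulAut.conj d • Cfsg.sigmaCore L := by rw [smul_sigmaCore hG h'.hM, ← e]; exact hx
    obtain ⟨w', hw', ew⟩ : w ∈ MulAut.conj d • L := e ▸ hw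
    have ex' : d * x' * d⁻¹ = x := ex
    have ew' : d * w' * d⁻¹ = w := ew
    have hxe : x' = d⁻¹ * x * d := by rw [← ex']; group
    have hwe : w' = d⁻¹ * w * d := by rw [← ew']; group
    have hx'1 : x' ≠ 1 := fun h1 => hx1 (by rw [← ex', h1]; group)
    have hw'1 : w' ≠ 1 := fun h1 => hw1 (by rw [← ew', h1]; group)
    have hc' : Commute x' w' := by
      show x' * w' = w' * x'
      rw [hxe, hwe, show d⁻¹ * x * d * (d⁻¹ * w * d) = d⁻¹ * (x * w) * d by group, hc.eq]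
      group
    have hπ' : IsPiElt (Cfsg.sigma L)ᶜ w' := fun p hp hpd hσ => hwπ p hp (by
      rw [← ew', show d * w' * d⁻¹ = MulAut.conj d w' from rfl, MulEquiv.orderOf_eq]; exact hpd)
      (e ▸ sigma_smul hG h'.hM hσ d)
    have hg' : c * (x * w) * c⁻¹ = (c * d) * (x' * w') * (c * d)⁻¹ := by rw [← ex', ← ew']; group
    rw [hg']
    rcases fixing_cases hG h'.hM hw' hw'1 hπ' hx' hx'1 hc' with hκ' | ⟨-, L₁, hL₁, hmem⟩
    · obtain ⟨y, z, hz, ez⟩ := mixed_of_kappa hG h'.hM h' hx' hx'1 hw' hw'1 hκ' hc'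
      exact Or.inr ⟨c * d * y, z, hz, by rw [ez]; group⟩
    · exact Or.inl ⟨L₁, hL₁, tilde_conj hG hL₁ hmem (c * d)⟩
  rcases hd with hd | hd
  · exact key M K Ms h hd
  · have h1 := key Ms (kStar M K) M h.symm hd
    rwa [h.dual, sup_comm, Set.union_comm] at h1

end Cfsg.Agent.Transfer.Loc
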