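import Cfsg.Agent.Lib.Transfer.Local.TauTwoMover
import Cfsg.Agent.Lib.Transfer.Local.SigmaDecomp

/-!
A cyclic group of operators on a nonabelian group of order `p³` fixing exactly its centre.
-/

set_option autoImplicit false
set_option linter.style.haveILetI false
set_option linter.unusedSectionVars false
set_option maxHeartbeats 1000000

namespace Cfsg.Agent.Transfer.Loc

open Subgroup
open scoped commutatorElement Pointwise

universe u

variable {G : Type u} [Group G] [Finite G]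

/-- Powers in a pair with central commutator. -/
theorem pow_mul_pow_of_central {a b c : G} (h : a * b = c * b * a) (ha : Commute c a) (hb : Commute c b) (i j : ℕ) :
    a ^ i * b ^ j = c ^ (i * j) * b ^ j * a ^ i := by
  have h1 : ∀ n : ℕ, a * b ^ n = c ^ n * b ^ n * a := by
    intro n
    induction n with
    | zero => simp
    | succ n ih =>
      calc a * b ^ (n + 1) = a * b ^ n * b := by rw [pow_succ, mul_assoc]
        _ = c ^ n * b ^ n * (c * b * a) := by rw [ih, mul_assoc (c ^ n * b ^ n), h]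
        _ = c ^ n * (b ^ n * c) * b * a := by group
        _ = c ^ (n + 1) * b ^ (n + 1) * a := by
          rw [← (hb.pow_right n).eq, pow_succ, pow_succ]; group
  induction i with
  | zero => simp
  | succ i ih =>
    calc a ^ (i + 1) * b ^ j = a * (a ^ i * b ^ j) := by rw [pow_succ', mul_assoc]
      _ = a * c ^ (i * j) * b ^ j * a ^ i := by rw [ih]; group
      _ = c ^ (i * j) * (a * b ^ j) * a ^ i := by rw [← (ha.pow_left (i * j)).eq]; group
      _ = c ^ ((i + 1) * j) * b ^ j * a ^ (i + 1) := by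
        rw [h1, add_mul, one_mul, pow_add, pow_succ']; group

variable {p : ℕ} [hp : Fact p.Prime] {P Z K : Subgroup G}

/-- The setting: `K` acts on `P` of order `p³` and exponent `p` with fixed group the centre `Z`. -/
structure CubeAction (p : ℕ) (P Z K : Subgroup G) : Prop where
  card : Nat.card P = p ^ 3
  exp : ∀ x ∈ P, x ^ p = 1
  nab : ¬ IsMulCommutative P
  cardZ : Nat.card Z = p
  hZP : Z ≤ P
  cent : P ≤ centralizer (Z : Set G)
  cyc : IsCyclic K
  hKP : K ≤ normalizer (P : Set G)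
  cop : (Nat.card K).Coprime p
  odd : Odd (Nat.card K)
  fix : ∀ k ∈ K, k ≠ 1 → P ⊓ centralizer ({k} : Set G) = Z

/-- A subgroup of order `p²` between `Z` and `P`. -/
def IsCubePlane (p : ℕ) (P Z A : Subgroup G) : Prop := Z ≤ A ∧ A ≤ P ∧ Nat.card A = p ^ 2

namespace CubeAction

variable (h : CubeAction p P Z K)
include h

theorem comm_Z {x w : G} (hx : x ∈ P) (hw : w ∈ Z) : w * x = x * w :=
  mem_centralizer_iff.1 (h.cent hx) w hw

theorem fixes_Z {k w : G} (hk : k ∈ K) (hw : w ∈ Z) : k * w = w * k := by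
  rcases eq_or_ne k 1 with rfl | hk1
  · simp
  exact ((mem_centralizer_singleton_iff.1 ((h.fix k hk hk1).ge hw).2)).symm

theorem sup_card {a : G} (ha : a ∈ P) (haZ : a ∉ Z) :
    IsCubePlane p P Z (Z ⊔ zpowers a) ∧ ∀ y ∈ Z ⊔ zpowers a, ∃ i : ℕ, ∃ w ∈ Z, y = a ^ i * w := by
  have hdec : ∀ y ∈ Z ⊔ zpowers a, ∃ w ∈ Z, ∃ y' ∈ zpowers a, y = w * y' := fun y hy => by
    rw [← SetLike.mem_coe, Subgroup.coe_mul_of_right_le_normalizer_left Z (zpowers a)
      (zpowers_le.2 (centralizer_le_normalizer _ (h.cent ha)))] at hy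
    obtain ⟨w, hw, y', hy', e⟩ := hy
    exact ⟨w, hw, y', hy', e.symm⟩
  have hac : Nat.card (zpowers a) = p := by
    rw [Nat.card_zpowers]
    exact orderOf_eq_prime (h.exp a ha) fun e => haZ (e ▸ one_mem _)
  have hinf : Z ⊓ zpowers a = ⊥ := by
    rcases (Nat.dvd_prime hp.out).1 (hac ▸ card_dvd_of_le (inf_le_right : Z ⊓ zpowers a ≤ zpowers a)) with e | e
    · exact Subgroup.card_eq_one.1 e
    · exact absurd ((Subgroup.eq_of_le_of_card_ge inf_le_right (hac.trans e.symm).le).ge.trans inf_le_left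
        (mem_zpowers a)) haZ
  refine ⟨⟨le_sup_left, sup_le h.hZP (zpowers_le.2 ha), ?_⟩, fun y hy => ?_⟩
  · rw [← complIn_card ⟨le_sup_left, le_sup_right, hinf, hdec⟩, h.cardZ, hac, sq]
  · obtain ⟨w, hw, y', hy', rfl⟩ := hdec y hy
    obtain ⟨i, rfl⟩ := (Submonoid.mem_powers_iff _ _).1 (mem_powers_iff_mem_zpowers.2 hy')
    exact ⟨i, w, hw, h.comm_Z (pow_mem ha i) hw⟩

theorem plane_eq {A : Subgroup G} (hA : IsCubePlane p P Z A) {a : G} (ha : a ∈ A) (haZ : a ∉ Z) :
    Z ⊔ zpowers a = A :=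
  Subgroup.eq_of_le_of_card_ge (sup_le hA.1 (zpowers_le.2 ha))
    (hA.2.2.trans (h.sup_card (hA.2.1 ha) haZ).1.2.2.symm).le

theorem exists_gen {A : Subgroup G} (hA : IsCubePlane p P Z A) : ∃ a ∈ A, a ∉ Z := by
  by_contra hc
  push Not at hc
  have := Nat.le_of_dvd Nat.card_pos (card_dvd_of_le (show A ≤ Z from hc))
  rw [hA.2.2, h.cardZ] at this
  nlinarith [hp.out.two_le]

theorem center_eq : P ⊓ centralizer (P : Set G) = Z := by
  refine le_antisymm (fun x hx => ?_) (le_inf h.hZP (le_centralizer_iff.1 h.cent))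
  by_contra hxZ
  obtain ⟨hA, -⟩ := h.sup_card hx.1 hxZ
  set A := Z ⊔ zpowers x
  have hAc : A ≤ centralizer (P : Set G) := sup_le (le_centralizer_iff.1 h.cent) (zpowers_le.2 hx.2)
  have hne : A ≠ P := fun e => by
    have := hA.2.2.symm.trans (by rw [e, h.card] : Nat.card A = p ^ 3)
    exact absurd ((Nat.pow_right_injective hp.out.two_le) this) (by norm_num)
  obtain ⟨y, hy, hyA⟩ := SetLike.exists_of_lt (lt_of_le_of_ne hA.2.1 hne)
  have hsup : A ⊔ zpowers y = P := by
    refine Subgroup.eq_of_le_of_card_ge (sup_le hA.2.1 (zpowers_le.2 hy)) ?_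
    obtain ⟨j, hj, e⟩ := (Nat.dvd_prime_pow hp.out).1
      (h.card ▸ card_dvd_of_le (sup_le hA.2.1 (zpowers_le.2 hy) : A ⊔ zpowers y ≤ P))
    have h2 : Nat.card A < Nat.card ↥(A ⊔ zpowers y) := by
      refine lt_of_le_of_ne (Nat.le_of_dvd Nat.card_pos (card_dvd_of_le le_sup_left)) fun e' => hyA ?_
      exact (Subgroup.eq_of_le_of_card_ge le_sup_left e'.ge).ge (mem_sup_right (mem_zpowers y))
    rw [h.card, e]
    rw [hA.2.2, e] at h2
    exact Nat.pow_le_pow_right hp.out.pos ((Nat.pow_lt_pow_iff_right hp.out.one_lt).1 h2)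
  refine h.nab (le_centralizer_iff_isMulCommutative.1 ?_)
  conv_lhs => rw [← hsup]
  refine sup_le hAc (zpowers_le.2 ?_)
  rw [← hsup]
  refine mem_centralizer_iff.2 fun w hw => ?_
  have hle : A ⊔ zpowers y ≤ centralizer ({y} : Set G) := sup_le
    (fun b hb => mem_centralizer_singleton_iff.2 (mem_centralizer_iff.1 (hAc hb) y hy).symm)
    (zpowers_le.2 (mem_centralizer_singleton_iff.2 rfl))
  exact mem_centralizer_singleton_iff.1 (hle hw)

/-- The action on a normalised plane. -/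
theorem step {A : Subgroup G} (hA : IsCubePlane p P Z A) {a k : G} (hk : k ∈ K)
    (hkA : k ∈ normalizer (A : Set G)) (ha : a ∈ A) (haZ : a ∉ Z) :
    ∃ i : ℕ, ¬ p ∣ i ∧ ∀ n : ℕ, ∃ w ∈ Z, k ^ n * a * (k ^ n)⁻¹ = a ^ (i ^ n) * w := by
  have h1 : k * a * k⁻¹ ∈ Z ⊔ zpowers a := h.plane_eq hA ha haZ ▸ Grp.mem_conj_normalizer hkA ha
  obtain ⟨i, w, hw, e⟩ := (h.sup_card (hA.2.1 ha) haZ).2 _ h1
  refine ⟨i, fun ⟨c, hc⟩ => haZ ?_, fun n => ?_⟩
  · rw [hc, pow_mul, h.exp a (hA.2.1 ha), one_pow, one_mul] at e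
    have : k⁻¹ * w * k = w := by rw [mul_assoc, ← h.fixes_Z hk hw, inv_mul_cancel_left]
    rw [← this, ← e] at hw
    simpa [mul_assoc] using hw
  · induction n with
    | zero => exact ⟨1, one_mem _, by simp⟩
    | succ n ih =>
      obtain ⟨v, hv, ev⟩ := ih
      refine ⟨w ^ i ^ n * v, mul_mem (pow_mem hw _) hv, ?_⟩
      calc k ^ (n + 1) * a * (k ^ (n + 1))⁻¹ = k * (k ^ n * a * (k ^ n)⁻¹) * k⁻¹ := by
            rw [pow_succ']; group
        _ = (k * a * k⁻¹) ^ (i ^ n) * (k * v * k⁻¹) := by rw [ev, conj_pow]; group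
        _ = a ^ (i ^ (n + 1)) * (w ^ i ^ n * v) := by
          rw [e, h.fixes_Z hk hv, mul_inv_cancel_right, (show Commute (a ^ i) w from
            (h.comm_Z (pow_mem (hA.2.1 ha) i) hw).symm).mul_pow, ← pow_mul, pow_succ', mul_assoc]

/-- An element trivial on a plane modulo `Z` is trivial. -/
theorem eq_one_of_cong {A : Subgroup G} (hA : IsCubePlane p P Z A) {a k w : G} (hk : k ∈ K)
    (ha : a ∈ A) (haZ : a ∉ Z) (hw : w ∈ Z) (e : k * a * k⁻¹ = a * w) : k = 1 := by
  have h1 : ∀ n : ℕ, k ^ n * a * (k ^ n)⁻¹ = a * w ^ n := by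
    intro n
    induction n with
    | zero => simp
    | succ n ih =>
      have h2 : k ^ n * w * (k ^ n)⁻¹ = w := by rw [h.fixes_Z (pow_mem hk n) hw, mul_inv_cancel_right]
      calc k ^ (n + 1) * a * (k ^ (n + 1))⁻¹ = k ^ n * (k * a * k⁻¹) * (k ^ n)⁻¹ := by rw [pow_succ]; group
        _ = (k ^ n * a * (k ^ n)⁻¹) * (k ^ n * w * (k ^ n)⁻¹) := by rw [e]; group
        _ = a * w ^ (n + 1) := by rw [ih, h2, pow_succ, mul_assoc]
  have h3 := h1 (orderOf k)
  rw [pow_orderOf_eq_one, one_mul, inv_one, mul_one, left_eq_mul] at h3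
  have hw1 : w = 1 := orderOf_eq_one_iff.1 (Nat.eq_one_of_dvd_coprimes
    (h.cop.coprime_dvd_left (Subgroup.orderOf_dvd_natCard _ hk)) (orderOf_dvd_of_pow_eq_one h3)
    (orderOf_dvd_of_pow_eq_one (h.exp w (h.hZP hw))))
  by_contra hk1
  refine haZ ((h.fix k hk hk1).le ⟨hA.2.1 ha, mem_centralizer_singleton_iff.2 ?_⟩)
  rw [hw1, mul_one, mul_inv_eq_iff_eq_mul] at e
  exact e.symm

/-- Two normalised planes carry reciprocal exponents. -/
theorem reciprocal {A B : Subgroup G} (hA : IsCubePlane p P Z A) (hB : IsCubePlane p P Z B) (hne : A ≠ B)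
    {a b k w v : G} {i j : ℕ} (hk : k ∈ K) (ha : a ∈ A) (haZ : a ∉ Z) (hb : b ∈ B) (hbZ : b ∉ Z)
    (hw : w ∈ Z) (hv : v ∈ Z) (ea : k * a * k⁻¹ = a ^ i * w) (eb : k * b * k⁻¹ = b ^ j * v) :
    i * j ≡ 1 [MOD p] := by
  have haP := hA.2.1 ha
  have hbP := hB.2.1 hb
  set c := ⁅a, b⁆ with hc
  have hcen : ∀ x ∈ P, x * c = c * x := derived_central_of_card_cube h.card haP hbP
  have hcP : c ∈ P := by rw [hc, commutatorElement_def]; exact mul_mem (mul_mem (mul_mem haP hbP) (inv_mem haP)) (inv_mem hbP)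
  have hcZ : c ∈ Z := h.center_eq.le ⟨hcP, mem_centralizer_iff.2 hcen⟩
  have hab : a * b = c * b * a := by rw [hc, commutatorElement_def]; group
  have hc1 : c ≠ 1 := fun e => by
    rw [hc, commutatorElement_eq_one_iff_mul_comm] at e
    refine haZ (h.center_eq.le ⟨haP, ?_⟩)
    have hsup : A ⊔ B = P := by
      refine Subgroup.eq_of_le_of_card_ge (sup_le hA.2.1 hB.2.1) ?_
      obtain ⟨m, -, em⟩ := (Nat.dvd_prime_pow hp.out).1 (h.card ▸ card_dvd_of_le (sup_le hA.2.1 hB.2.1))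
      have h2 : Nat.card A < Nat.card ↥(A ⊔ B) := by
        refine lt_of_le_of_ne (Nat.le_of_dvd Nat.card_pos (card_dvd_of_le le_sup_left)) fun e' => hne ?_
        refine (Subgroup.eq_of_le_of_card_ge ?_ (hA.2.2.trans hB.2.2.symm).le).symm
        exact le_sup_right.trans (Subgroup.eq_of_le_of_card_ge le_sup_left e'.ge).ge
      rw [h.card, em]
      rw [hA.2.2, em] at h2
      exact Nat.pow_le_pow_right hp.out.pos ((Nat.pow_lt_pow_iff_right hp.out.one_lt).1 h2)
    have hle : P ≤ centralizer ({a} : Set G) := by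
      rw [← hsup, ← h.plane_eq hA ha haZ, ← h.plane_eq hB hb hbZ]
      refine sup_le (sup_le ?_ (zpowers_le.2 (mem_centralizer_singleton_iff.2 rfl)))
        (sup_le ?_ (zpowers_le.2 (mem_centralizer_singleton_iff.2 e.symm))) <;>
        exact fun x hx => mem_centralizer_singleton_iff.2 (h.comm_Z haP hx)
    exact mem_centralizer_iff.2 fun x hx => mem_centralizer_singleton_iff.1 (hle hx)
  have hco : orderOf c = p := orderOf_eq_prime (h.exp c hcP) hc1
  have h1 := pow_mul_pow_of_central hab (hcen a haP).symm (hcen b hbP).symm i j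
  have hkc : k * c * k⁻¹ = c := by rw [h.fixes_Z hk hcZ, mul_inv_cancel_right]
  have h2 : k * c * k⁻¹ = ⁅a ^ i * w, b ^ j * v⁆ := by
    rw [← ea, ← eb, hc, ← MulAut.conj_apply, map_commutatorElement]; rfl
  have hwa : Commute w (a ^ i) := h.comm_Z (pow_mem haP i) hw
  have hwb : Commute w (b ^ j) := h.comm_Z (pow_mem hbP j) hw
  have hva : Commute v (a ^ i) := h.comm_Z (pow_mem haP i) hv
  have hvb : Commute v (b ^ j) := h.comm_Z (pow_mem hbP j) hv
  have hwv : Commute w v := h.comm_Z (h.hZP hv) hw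
  have h3 : ⁅a ^ i * w, b ^ j * v⁆ = c ^ (i * j) := by
    have h4 : (a ^ i * w) * (b ^ j * v) = c ^ (i * j) * ((b ^ j * v) * (a ^ i * w)) := by
      calc (a ^ i * w) * (b ^ j * v) = (a ^ i * b ^ j) * (w * v) := by
            rw [mul_assoc, ← mul_assoc w, hwb.eq, mul_assoc, ← mul_assoc (a ^ i)]
        _ = c ^ (i * j) * (b ^ j * (a ^ i * v) * w) := by rw [h1, hwv.eq]; group
        _ = c ^ (i * j) * ((b ^ j * v) * (a ^ i * w)) := by rw [← hva.eq]; group
    rw [commutatorElement_def, h4]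
    group
  rw [hkc, h3] at h2
  have h5 : c ^ (i * j) = c ^ 1 := by rw [pow_one]; exact h2.symm
  rwa [pow_eq_pow_iff_modEq, hco] at h5

/-- The number of planes. -/
theorem card_planes : Nat.card {A : Subgroup G // IsCubePlane p P Z A} * (p ^ 2 - p) = p ^ 3 - p := by
  classical
  set T := {A : Subgroup G // IsCubePlane p P Z A}
  set X := {x : G // x ∈ (P : Set G) \ Z}
  let f : X → T := fun x => ⟨Z ⊔ zpowers (x : G), (h.sup_card x.2.1 x.2.2).1⟩
  have hfib : ∀ A : T, Nat.card {x : X // f x = A} = p ^ 2 - p := fun A => by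
    have e : {x : X // f x = A} ≃ ↥(((A : Subgroup G) : Set G) \ Z) :=
    { toFun := fun x => ⟨x.1.1, (congrArg Subtype.val x.2).le (mem_sup_right (mem_zpowers _)), x.1.2.2⟩
      invFun := fun y => ⟨⟨y.1, A.2.2.1 y.2.1, y.2.2⟩, Subtype.ext (h.plane_eq A.2 y.2.1 y.2.2)⟩
      left_inv := fun _ => rfl
      right_inv := fun _ => rfl }
    rw [Nat.card_congr e, Nat.card_coe_set_eq, Set.ncard_sdiff A.2.1, ← Nat.card_coe_set_eq,
      ← Nat.card_coe_set_eq]
    show Nat.card (A : Subgroup G) - Nat.card Z = _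
    rw [A.2.2.2, h.cardZ]
  have hX : Nat.card X = p ^ 3 - p := by
    show Nat.card ↥((P : Set G) \ Z) = _
    rw [Nat.card_coe_set_eq, Set.ncard_sdiff h.hZP, ← Nat.card_coe_set_eq, ← Nat.card_coe_set_eq]
    show Nat.card P - Nat.card Z = _
    rw [h.card, h.cardZ]
  haveI : Fintype T := Fintype.ofFinite T
  rw [← hX, ← Nat.card_congr (Equiv.sigmaFiberEquiv f), Nat.card_sigma, Finset.sum_congr rfl fun A _ => hfib A,
    Finset.sum_const, Finset.card_univ, ← Nat.card_eq_fintype_card, smul_eq_mul]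

theorem plane_smul {A : Subgroup G} (hA : IsCubePlane p P Z A) {k : G} (hk : k ∈ K) :
    IsCubePlane p P Z (MulAut.conj k • A) := by
  refine ⟨fun w hw => ⟨w, hA.1 hw, ?_⟩, ?_, by rw [Grp.card_conj_smul]; exact hA.2.2⟩
  · show k * w * k⁻¹ = w
    rw [h.fixes_Z hk hw, mul_inv_cancel_right]
  · rw [← Grp.mem_normalizer_iff_smul.1 (h.hKP hk)]
    exact Subgroup.pointwise_smul_le_pointwise_smul_iff.2 hA.2.1

/-- The order of `K`. -/
theorem dvd_pred_or_succ : Nat.card K ∣ p - 1 ∨ Nat.card K ∣ p + 1 := by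
  haveI := h.cyc
  by_cases hex : ∃ A k, IsCubePlane p P Z A ∧ k ∈ K ∧ k ≠ 1 ∧ MulAut.conj k • A = A
  · left
    obtain ⟨A, k, hA, hk, hk1, hkA⟩ := hex
    have hKA : K ≤ normalizer (A : Set G) := by
      intro g hg
      by_contra hgA
      rw [Grp.mem_normalizer_iff_smul] at hgA
      set B := MulAut.conj g • A
      set C := MulAut.conj (g * g) • A
      have hcomm : ∀ x ∈ K, k * x = x * k := fun x hx => congrArg Subtype.val
        ((IsCyclic.isMulCommutative (α := K)).is_comm.comm ⟨k, hk⟩ ⟨x, hx⟩)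
      have hkx : ∀ x ∈ K, k ∈ normalizer ((MulAut.conj x • A : Subgroup G) : Set G) := fun x hx => by
        rw [Grp.mem_normalizer_iff_smul, Grp.conj_smul_conj_smul, hcomm x hx, ← Grp.conj_smul_conj_smul, hkA]
      have hAC : C ≠ A := fun e => hgA (by
        have hn : g * g ∈ normalizer (A : Set G) := Grp.mem_normalizer_iff_smul.2 e
        obtain ⟨m, hm⟩ := h.odd.of_dvd_nat (Subgroup.orderOf_dvd_natCard _ hg)
        have : (g * g) ^ (m + 1) = g := by
          rw [← sq, ← pow_mul, show 2 * (m + 1) = orderOf g + 1 by omega, pow_succ, pow_orderOf_eq_one, one_mul]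
        exact Grp.mem_normalizer_iff_smul.1 (this ▸ pow_mem hn _))
      have hBC : B ≠ C := fun e => hgA (by
        have : MulAut.conj g⁻¹ • B = MulAut.conj g⁻¹ • C := by rw [e]
        rw [Grp.conj_smul_conj_smul, Grp.conj_smul_conj_smul, inv_mul_cancel, inv_mul_cancel_left, map_one,
          one_smul] at this
        exact this.symm)
      have hB := h.plane_smul hA hg
      have hC := h.plane_smul hA (mul_mem hg hg)
      obtain ⟨a, ha, haZ⟩ := h.exists_gen hA
      obtain ⟨b, hb, hbZ⟩ := h.exists_gen hB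
      obtain ⟨c, hc, hcZ⟩ := h.exists_gen hC
      obtain ⟨i, -, hi⟩ := h.step hA hk (Grp.mem_normalizer_iff_smul.2 hkA) ha haZ
      obtain ⟨j, -, hj⟩ := h.step hB hk (hkx g hg) hb hbZ
      obtain ⟨l, -, hl⟩ := h.step hC hk (hkx _ (mul_mem hg hg)) hc hcZ
      obtain ⟨w, hw, ea⟩ := hi 1
      obtain ⟨v, hv, eb⟩ := hj 1
      obtain ⟨u, hu, ec⟩ := hl 1
      simp only [pow_one] at ea eb ec
      have hij := h.reciprocal hA hB (Ne.symm hgA) hk ha haZ hb hbZ hw hv ea eb
      have hil := h.reciprocal hA hC hAC.symm hk ha haZ hc hcZ hw hu ea ec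
      have hjl := h.reciprocal hB hC hBC hk hb hbZ hc hcZ hv hu eb ec
      have hii : i ^ 2 ≡ 1 [MOD p] := by
        have h1 : i ^ 2 * (j * l) ≡ 1 [MOD p] := by
          rw [show i ^ 2 * (j * l) = (i * j) * (i * l) by ring]
          simpa using hij.mul hil
        exact (by simpa using (hjl.mul_left (i ^ 2)).symm.trans h1 : i ^ 2 ≡ 1 [MOD p])
      obtain ⟨w₂, hw₂, e₂⟩ := hi 2
      rw [pow_eq_pow_iff_modEq.2 (by rwa [orderOf_eq_prime (h.exp a (hA.2.1 ha)) fun e => haZ (e ▸ one_mem _)] :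
        i ^ 2 ≡ 1 [MOD orderOf a]), pow_one] at e₂
      have hk2 := h.eq_one_of_cong hA (pow_mem hk 2) ha haZ hw₂ e₂
      obtain ⟨m, hm⟩ := h.odd.of_dvd_nat (Subgroup.orderOf_dvd_natCard _ hk)
      have : orderOf k ∣ 2 := orderOf_dvd_of_pow_eq_one hk2
      have := Nat.le_of_dvd (by norm_num) this
      exact hk1 (orderOf_eq_one_iff.1 (by omega))
    obtain ⟨g, hg⟩ := IsCyclic.exists_generator (α := K)
    rw [← orderOf_eq_card_of_forall_mem_zpowers hg]
    refine orderOf_dvd_of_pow_eq_one (Subtype.ext ?_)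
    obtain ⟨a, ha, haZ⟩ := h.exists_gen hA
    obtain ⟨i, hip, hi⟩ := h.step hA g.2 (hKA g.2) ha haZ
    obtain ⟨w, hw, e⟩ := hi (p - 1)
    have hi1 : i ^ (p - 1) ≡ 1 [MOD p] := by
      have := Nat.ModEq.pow_totient ((hp.out.coprime_iff_not_dvd.2 hip).symm)
      rwa [Nat.totient_prime hp.out] at this
    rw [pow_eq_pow_iff_modEq.2 (by rwa [orderOf_eq_prime (h.exp a (hA.2.1 ha)) fun e => haZ (e ▸ one_mem _)] :
        i ^ (p - 1) ≡ 1 [MOD orderOf a]), pow_one] at e
    exact h.eq_one_of_cong hA (pow_mem g.2 _) ha haZ hw e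
  · right
    push Not at hex
    letI : MulAction K {A : Subgroup G // IsCubePlane p P Z A} :=
      { smul := fun k A => ⟨MulAut.conj (k : G) • (A : Subgroup G), h.plane_smul A.2 k.2⟩
        one_smul := fun A => Subtype.ext (by
          show MulAut.conj ((1 : K) : G) • (A : Subgroup G) = _
          rw [Subgroup.coe_one, map_one, one_smul])
        mul_smul := fun k l A => Subtype.ext (by
          show MulAut.conj ((k * l : K) : G) • (A : Subgroup G) = MulAut.conj (k : G) • (MulAut.conj (l : G) • (A : Subgroup G))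
          rw [Grp.conj_smul_conj_smul, Subgroup.coe_mul]) }
    have hst : ∀ A : {A : Subgroup G // IsCubePlane p P Z A}, MulAction.stabilizer K A = ⊥ := fun A => by
      refine (Subgroup.eq_bot_iff_forall _).2 fun k hk => ?_
      by_contra hk1
      exact hex A k A.2 k.2 (fun e => hk1 (Subtype.ext e)) (congrArg Subtype.val hk)
    have hdvd : Nat.card K ∣ Nat.card {A : Subgroup G // IsCubePlane p P Z A} := by
      rw [Nat.card_congr (MulAction.selfEquivOrbitsQuotientProd hst), Nat.card_prod]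
      exact dvd_mul_left _ _
    have hT := h.card_planes
    rw [show p ^ 3 - p = (p + 1) * (p ^ 2 - p) by
      zify [Nat.le_self_pow (by norm_num : 3 ≠ 0) p, Nat.le_self_pow (by norm_num : 2 ≠ 0) p]; ring] at hT
    have hpos : 0 < p ^ 2 - p := by
      have := hp.out.two_le
      rw [Nat.sub_pos_iff_lt]
      nlinarith
    exact (Nat.eq_of_mul_eq_mul_right hpos hT) ▸ hdvd

end CubeAction

end Cfsg.Agent.Transfer.Loc
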