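import Cfsg.Agent.Lib.Transfer.Local.NonTI
import Cfsg.Agent.Lib.Transfer.Local.CubeAction
import Cfsg.Agent.S1373
import Cfsg.Agent.S1430
import Cfsg.Agent.S1454

/-!
The non-TI case with `K ≠ 1`, and the criterion for type V.
-/

set_option autoImplicit false
set_option linter.style.haveILetI false
set_option linter.unusedSectionVars false
set_option maxHeartbeats 1000000

namespace Cfsg.Agent.Transfer.Loc

open Subgroup
open scoped commutatorElement Pointwise

universe u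

variable {G : Type u} [Group G] [Finite G]

/-- `O_p` of a nilpotent group is its Sylow subgroup. -/
theorem card_pCore_of_nilpotent {p : ℕ} [hp : Fact p.Prime] {S P : Subgroup G} (hS : Group.IsNilpotent S)
    (hP : Grp.IsSylowIn p P S) : (Cfsg.pCore p S).map S.subtype = P := by
  rw [← O_eq]
  exact le_antisymm (le_of_pgroup_nilpotent hS hP (O_le p S) (O_isPGroup p S))
    (le_O hP.1 (le_normalizer.trans (normalizer_le_sylow hS hP)) hP.2.1)

namespace NonTIData

variable (hG : Cfsg.IsMinSimpleOddOrder G) {M : Subgroup G} (hM : IsCoatom M)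
  {p : ℕ} [hp : Fact p.Prime] {P : Subgroup G} (h : NonTIData M p P)
  {K U : Subgroup G} (hKU : Cfsg.IsSigmaDecomposition M K U) (hK1 : K ≠ ⊥)
include hG hM h hKU hK1

/-- The action of `K` on `M_σ`. -/
theorem kappa_case : U = ⊥ ∧ ¬ IsMulCommutative P ∧
    (∀ q : ℕ, q.Prime → q ∣ Nat.card (Cfsg.sigmaCore M) → q ≠ p → Nat.card K ∣ q - 1) ∧
    (Nat.card K ∣ p - 1 ∨ (Nat.card P = p ^ 3 ∧ Nat.card K ∣ p + 1)) := by
  haveI := solvable_of_ne_top hG hM.1
  have hU : U = ⊥ := (h.hKU K U hKU).resolve_left hK1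
  have hab : ¬ IsMulCommutative P := fun hab => by
    obtain ⟨-, -, -, hκ⟩ := h.comm_case hG hM hab
    obtain ⟨q, hq, hqd⟩ := Nat.exists_prime_and_dvd fun e => hK1 (Subgroup.card_eq_one.1 e)
    have := hKU.hall.2.1 q hq hqd
    rw [hκ] at this
    exact this
  set S := Cfsg.sigmaCore M with hS
  set Ks := S ⊓ centralizer (K : Set G) with hKsdef
  obtain ⟨hder, hsD⟩ := Cfsg.Agent.S1365.result hG M hM K U hKU hK1
  rw [hder, hU, bot_sup_eq] at hsD
  have hsp : (Nat.card Ks).Prime := Cfsg.Agent.S1373.result hG M hM K U hKU hK1 hU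
  have hfix := (Cfsg.Agent.S1430.result hG M hM K hKU.hall hK1).1
  haveI := Fact.mk hsp
  have hKsP : Ks ≤ P ∧ Nat.card Ks = p := by
    by_cases e : Nat.card Ks = p
    · refine ⟨le_of_pgroup_nilpotent h.hnil h.sylow inf_le_left ?_, e⟩
      exact IsPGroup.of_card (n := 1) (by rw [e, pow_one])
    exfalso
    obtain ⟨Q, hQ⟩ := Grp.exists_isSylowIn (Nat.card Ks) S
    obtain ⟨w, hw, hw1⟩ := (bot_or_exists_ne_one Ks).resolve_left fun e' =>
      hsp.ne_one (by rw [e', Subgroup.card_bot])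
    exact hw1 (derived_meet_sylow h.hnil hQ (h.others _ ⟨hsp⟩ e Q hQ).1 (hsD hw)
      (le_of_pgroup_nilpotent h.hnil hQ inf_le_left
        (IsPGroup.of_card (n := 1) (pow_one _).symm : IsPGroup (Nat.card Ks) Ks) hw))
  haveI := hKU.cyclic
  have hKM : K ≤ M := hKU.hall.1
  have hexp : Monoid.exponent K = Nat.card K := IsCyclic.exponent_eq_card
  have hfree : ∀ (q : ℕ) [Fact q.Prime] (Z : Subgroup G), Nat.card Z = q → Z ≤ S → M ≤ normalizer (Z : Set G) →
      Z ≠ Ks → Nat.card K ∣ q - 1 := by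
    intro q _ Z hZ hZS hMZ hne
    rw [← hexp]
    refine exponent_dvd_pred hZ (hKM.trans hMZ) fun k hk hk1 y hy hc => ?_
    by_contra hy1
    have h1 : y ∈ Ks := (hfix k hk hk1).le ⟨hZS hy, mem_centralizer_singleton_iff.2 hc.symm⟩
    exact hne ((zpowers_eq_of_prime hZ hy hy1).symm.trans (zpowers_eq_of_prime rfl h1 hy1))
  have hd := h.dvd_card hG hM
  obtain ⟨Z, hZ, hZS, hMZ, hZp⟩ := h.exists_line hG hM hab hd
  refine ⟨hU, hab, fun q hq hqd hqp => ?_, ?_⟩
  · haveI := Fact.mk hq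
    obtain ⟨Z', hZ', hZ'S, hMZ', -⟩ := h.exists_line hG hM hab hqd
    exact hfree q Z' hZ' hZ'S hMZ' fun e => hqp (by rw [← hZ', e, hKsP.2])
  by_cases hZK : Z = Ks
  swap
  · exact Or.inl (hfree p Z hZ hZS hMZ hZK)
  have hZom : omZ p P = Ks := (hZp rfl).symm.trans hZK
  obtain ⟨hPM, hMP⟩ := h.sylow_M hG hM h.sylow hd
  have hKP : K ≤ normalizer (P : Set G) := hKM.trans hMP
  have hp2 : p ≠ 2 := ne_two hG (h.memσ.2.1.trans (card_subgroup_dvd_card M))
  have hcop : (Nat.card K).Coprime p := (hp.out.coprime_iff_not_dvd.2 fun hd' =>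
    (hKU.hall.2.1 p hp.out hd').2.2.1 h.memσ).symm
  have hfixP : ∀ k ∈ K, k ≠ 1 → P ⊓ centralizer ({k} : Set G) = Ks := fun k hk hk1 =>
    le_antisymm ((inf_le_inf_right _ h.sylow.1).trans (hfix k hk hk1).le)
      (le_inf hKsP.1 (inf_le_right.trans (centralizer_le (Set.singleton_subset_iff.2 hk))))
  have hfaith : K ⊓ centralizer (P : Set G) = ⊥ := (Subgroup.eq_bot_iff_forall _).2 fun k hk => by
    by_contra hk1
    refine h.not_rank_one fun B _ _ => ?_
    have h1 : P ≤ Ks := fun x hx => (hfixP k hk.1 hk1).le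
      ⟨hx, mem_centralizer_singleton_iff.2 (mem_centralizer_iff.1 hk.2 x hx)⟩
    rw [pow_one]
    exact (Nat.le_of_dvd Nat.card_pos (card_subgroup_dvd_card B)).trans
      ((Nat.le_of_dvd Nat.card_pos (card_dvd_of_le h1)).trans hKsP.2.le)
  by_cases hr : Cfsg.PRankLE p 2 P
  swap
  · left
    obtain ⟨P₀, hP₀⟩ := Grp.isSylowIn_iff.1 hPM
    have hPn : Cfsg.IsNarrow p P := by
      have h1 := narrow_equiv ((P₀ : Subgroup M).equivMapOfInjective _ M.subtype_injective)
        (sylow_narrow hG hM h.memσ.2.1 h.notβ P₀)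
      rwa [hP₀] at h1
    haveI : Group.IsSolvable K := isSolvable_of_le hKM
    have h2 := (Cfsg.Agent.S1454.result (G := G) p hp2 P K h.sylow.2.1 hPn hKP inferInstance
      (hG.1.of_dvd_nat (card_subgroup_dvd_card K)) hfaith).2.1 hr
    obtain ⟨g, hg⟩ := IsCyclic.exists_generator (α := K)
    rw [← orderOf_eq_card_of_forall_mem_zpowers hg, ← Subgroup.orderOf_coe]
    refine h2 g g.2 (hcop.coprime_dvd_left ?_)
    exact Subgroup.orderOf_dvd_natCard _ g.2
  obtain ⟨-, hidx⟩ := sigma_sylow hG hM h.memσ hPM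
  set PG : Sylow p G := h.sylow.2.1.toSylow hidx
  rcases Cfsg.Agent.S1412.result hG p PG hr with hc | ⟨P₁, P₂, hsup, hc12, hP1na, hP1c, hP1e, hP2c, hP2Ω⟩
  · exact absurd hc hab
  have hsup' : P₁ ⊔ P₂ = P := hsup
  haveI := hP2c
  -- the centre of `P` is `Ks`
  set C := P ⊓ centralizer (P : Set G) with hC
  haveI : IsMulCommutative C := le_centralizer_iff_isMulCommutative.1 fun a ha =>
    mem_centralizer_iff.2 fun b hb => mem_centralizer_iff.1 ha.2 b hb.1
  have hKC : K ≤ centralizer (C : Set G) := by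
    refine centralizes_of_omZ (r := p) (h.sylow.2.1.to_le inf_le_left)
      (Grp.le_normalizer_inf' hKP (hKP.trans (normalizer_le_normalizer_cent _))) ?_ ?_
    · obtain ⟨i, hi⟩ := IsPGroup.iff_card.1 (h.sylow.2.1.to_le (inf_le_left : C ≤ P))
      rw [hi]
      exact hcop.pow_right i
    · refine (le_centralizer_iff.1 (?_ : omZ p C ≤ centralizer (K : Set G)))
      intro x hx
      exact (hZom.le (⟨hx.1.1, hx.1.2, hx.2.2⟩ : x ∈ omZ p P)).2
  have hCKs : C ≤ Ks := fun x hx => ⟨h.sylow.1 hx.1, le_centralizer_iff.1 hKC hx⟩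
  have hP2C : P₂ ≤ C := fun b hb => ⟨hsup'.le (mem_sup_right hb), by
    have hle : P ≤ centralizer ({b} : Set G) := hsup' ▸ sup_le
      (fun a ha => mem_centralizer_singleton_iff.2 (hc12 a ha b hb))
      (fun a ha => mem_centralizer_singleton_iff.2 (congrArg Subtype.val
        ((IsCyclic.isMulCommutative (α := P₂)).is_comm.comm ⟨a, ha⟩ ⟨b, hb⟩)))
    exact mem_centralizer_iff.2 fun a ha => mem_centralizer_singleton_iff.1 (hle ha)⟩
  have hP21 : P₂ ≤ P₁ := by
    intro b hb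
    have h1 : b ^ p = 1 := by
      have := Subgroup.pow_mem Ks (hCKs (hP2C hb)) p
      exact orderOf_dvd_iff_pow_eq_one.1 (hKsP.2 ▸ Subgroup.orderOf_dvd_natCard _ (hCKs (hP2C hb)))
    exact (hP2Ω.le (subset_closure ⟨hb, h1⟩)).1
  have hPP1 : P = P₁ := by rw [← hsup', sup_eq_left.2 hP21]
  subst hPP1
  have hact : CubeAction p P Ks K :=
    { card := hP1c
      exp := fun x hx => by
        have := Monoid.pow_exponent_eq_one (⟨x, hx⟩ : P)
        rw [hP1e] at this
        simpa using congrArg Subtype.val this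
      nab := hab
      cardZ := hKsP.2
      hZP := hKsP.1
      cent := fun x hx => mem_centralizer_iff.2 fun w hw => by
        rw [← hZom] at hw
        exact (mem_centralizer_iff.1 (omZ_le_centralizer P hw) x hx).symm
      cyc := hKU.cyclic
      hKP := hKP
      cop := hcop
      odd := hG.1.of_dvd_nat (card_subgroup_dvd_card K)
      fix := hfixP }
  rcases hact.dvd_pred_or_succ with h1 | h1
  · exact Or.inl h1
  · exact Or.inr ⟨hP1c, h1⟩

end NonTIData

variable (hG : Cfsg.IsMinSimpleOddOrder G) {M : Subgroup G} (hM : IsCoatom M)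
  {K U : Subgroup G} (hKU : Cfsg.IsSigmaDecomposition M K U)
include hG hM hKU

/-- Type V. -/
theorem typeV_iff : Cfsg.IsOfTypeV M ↔ (K ≠ ⊥ ∧ U = ⊥ ∧ Cfsg.fittingHallOf M = Cfsg.sigmaCore M) := by
  constructor
  · rintro ⟨W₁, V, W₂, h, hV, -⟩
    have hK1 := kappa_ne_of_typeP hG hM hKU h
    have hder : ⁅M, M⁆ ≤ Cfsg.fittingHallOf M := fun m hm => by
      obtain ⟨a, ha, b, hb, rfl⟩ := h.U_compl.2.2.2 m hm
      rw [hV, mem_bot] at hb
      rwa [hb, mul_one]
    obtain ⟨hc, -, -, -⟩ := derived_compl hG hM hKU hK1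
    have hH : Cfsg.fittingHallOf M = Cfsg.sigmaCore M :=
      le_antisymm (fittingHallOf_le_sigmaCore hG hM) (hc.1.trans hder)
    exact ⟨hK1, le_bot_iff.1 ((le_inf ((hc.2.1.trans hder).trans hH.le) le_rfl).trans hc.2.2.1.le), hH⟩
  · rintro ⟨hK1, hU, hH⟩
    obtain ⟨hc, hc', -, -⟩ := derived_compl hG hM hKU hK1
    have hbot : Cfsg.IsComplIn (Cfsg.fittingHallOf M) ⊥ ⁅M, M⁆ := hH ▸ hU ▸ hc
    have hP := isTypePWith_of hG hM hKU hK1 (V := ⊥) inferInstance
      (fun g _ => Grp.mem_normalizer_iff_smul.2 (Subgroup.smul_bot _)) hbot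
    refine ⟨K, ⊥, kStar M K, hP, rfl, ?_⟩
    by_cases hTI : Cfsg.IsTISubset (Cfsg.fittingHallOf M : Set G)
    · exact Or.inl hTI
    right
    unfold Cfsg.IsTISubset at hTI
    push Not at hTI
    obtain ⟨g, hg, x, hx, hgx, hx1⟩ := hTI
    have hgM : g ∉ M := fun hh => hg (le_normalizer_fittingHallOf M hh)
    have hX : Cfsg.fittingOf M ⊓ (Cfsg.fittingOf M).map (MulAut.conj g).toMonoidHom ≠ ⊥ := fun e => hx1 (by
      have h1 : g * x * g⁻¹ ∈ Cfsg.fittingOf M ⊓ (Cfsg.fittingOf M).map (MulAut.conj g).toMonoidHom :=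
        ⟨fittingHallOf_le_fitting M hgx, x, fittingHallOf_le_fitting M hx, rfl⟩
      rw [e, mem_bot, conj_eq_one_iff] at h1
      exact h1)
    obtain ⟨p, _, P, hd⟩ := exists_nonTIData hG hM hgM hX
    obtain ⟨-, hab, -, hcase⟩ := hd.kappa_case hG hM hKU hK1
    have hpH : p ∣ Nat.card (Cfsg.fittingHallOf M) := hH.symm ▸ hd.dvd_card hG hM
    rcases hcase with h1 | ⟨h2, h3⟩
    · exact Or.inl ⟨p, Fact.out, hpH, h1, hd.core_cyclic hG hM hab⟩
    · refine Or.inr ⟨p, Fact.out, hpH, ?_, h3, hd.core_cyclic hG hM hab⟩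
      rw [hH, ← Subgroup.card_map_of_injective (Cfsg.sigmaCore M).subtype_injective,
        card_pCore_of_nilpotent hd.hnil hd.sylow, h2]

end Cfsg.Agent.Transfer.Loc
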