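import Cfsg.Agent.Lib.Transfer.Local.TypeIMain
import Cfsg.Agent.Lib.Transfer.Local.NonTIKappa
import Cfsg.Agent.S1356

/-!
`M_σ` contains the centralisers of its elements when `κ(M) = ∅`; the order of `F(M) ∩ F(M)^g`.
-/

set_option autoImplicit false
set_option linter.style.haveILetI false
set_option linter.unusedSectionVars false
set_option maxHeartbeats 1000000

namespace Cfsg.Agent.Transfer.Loc.TypeI

open Subgroup
open scoped commutatorElement Pointwise

universe u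

variable {G : Type u} [Group G] [Finite G] (hG : Cfsg.IsMinSimpleOddOrder G) {M : Subgroup G} (hM : IsCoatom M)
include hG hM

/-- Centralisers in `M` of elements of `M_σ` lie in `M_σ`. -/
theorem free_sigmaCore (hκ : Cfsg.kappa M = ∅) {x : G} (hx : x ∈ Cfsg.sigmaCore M) (hx1 : x ≠ 1) :
    M ⊓ centralizer ({x} : Set G) ≤ Cfsg.sigmaCore M := fun c hc => by
  by_contra hcS
  obtain ⟨s, hs, hsσ, k, hwo⟩ := exists_sigma'_power hG hM hc.1 hcS
  have hwM : c ^ k ∈ M := M.pow_mem hc.1 k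
  have hne : Cfsg.sigmaCore M ⊓ centralizer ({c ^ k} : Set G) ≠ ⊥ := fun e => hx1 (by
    rw [← mem_bot, ← e]
    exact ⟨hx, mem_centralizer_singleton_iff.2
      ((show Commute c x from mem_centralizer_singleton_iff.1 hc.2).pow_left k).eq.symm⟩)
  rcases fixed_primes_cases hG hM hwM (fun e => hs.ne_one (by rw [← hwo, e, orderOf_one]))
      (fun t ht hd => by rw [hwo, Nat.prime_dvd_prime_iff_eq ht hs] at hd; exact hd ▸ hsσ) hne with h1 | h1
  · exact (hκ ▸ h1 s hs hwo.symm.dvd :)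
  · exact hne (fixed_eq_bot hG s hs M hM hκ (h1 s hs hwo.symm.dvd) _ hwM hwo)

/-- `κ(M) = ∅` makes `F(M) = M' = M_σ` in the non-TI case. -/
theorem fitting_of_free (hκ : Cfsg.kappa M = ∅) : Cfsg.fittingOf M = Cfsg.sigmaCore M := by
  have hH := fitting_of_kappa_empty hG hM hκ
  rw [(Cfsg.Agent.S1356.result hG M hM).2.1, hH]
  refine le_antisymm (sup_le (fun c hc => ?_) le_rfl) le_sup_right
  obtain ⟨x, hx, hx1⟩ := (bot_or_exists_ne_one _).resolve_left (sigmaCore_ne_bot hG hM)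
  exact free_sigmaCore hG hM hκ hx hx1
    ⟨hc.1, mem_centralizer_singleton_iff.2 (mem_centralizer_iff.1 hc.2 x hx).symm⟩

/-- An element of prime order of `F(M) ∩ F(M)^g` has its centraliser outside `M`. -/
theorem meet_prime_centralizer {g : G} (hg : g ∉ M) {z : G}
    (hz : z ∈ Cfsg.fittingOf M ⊓ (Cfsg.fittingOf M).map (MulAut.conj g).toMonoidHom) {p : ℕ} [hp : Fact p.Prime]
    (hzo : orderOf z = p) : z ∈ Cfsg.sigmaCore M ∧ ¬ centralizer ({z} : Set G) ≤ M := by
  have hgi : g⁻¹ ∉ M := fun h => hg (by simpa using M.inv_mem h)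
  have hback : g⁻¹ * z * g⁻¹⁻¹ ∈ Cfsg.fittingOf M := by
    obtain ⟨y, hy, e⟩ := hz.2
    rw [← e]
    show g⁻¹ * (g * y * g⁻¹) * g⁻¹⁻¹ ∈ _
    rwa [show g⁻¹ * (g * y * g⁻¹) * g⁻¹⁻¹ = y by group]
  obtain ⟨hσ, -, hzS⟩ := fitting_meet_prime hG hM hgi hz.1 hzo hback
  refine ⟨hzS, fun hC => hgi ?_⟩
  have hzc : Nat.card (zpowers z) = p := by rw [Nat.card_zpowers, hzo]
  obtain ⟨m, hm, c, hc, e⟩ := (Cfsg.Agent.S1404.result hG M hM p hσ (zpowers z)
    (IsPGroup.of_card (n := 1) (hzc.trans (pow_one p).symm))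
    (fun e => hp.out.ne_one (by rw [← hzc, e, Subgroup.card_bot]))
    (zpowers_le.2 (fittingOf_le M hz.1))).1 g⁻¹ (by
      rw [MonoidHom.map_zpowers, zpowers_le]
      exact fittingOf_le M hback)
  rw [e]
  exact M.mul_mem hm (hC (centralizer_le (Set.singleton_subset_iff.2 (mem_zpowers z)) hc))

/-- A noncentral element of order `p` of a nonabelian Sylow subgroup is no `p`-th power there. -/
theorem not_pth_power {p : ℕ} [hp : Fact p.Prime] {P : Subgroup G}
    (hP : Grp.IsSylowIn p P (Cfsg.sigmaCore M)) (hσ : p ∈ Cfsg.sigma M)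
    (hna : ¬ IsMulCommutative P) {z : G} (hz : z ∈ P) (hzo : orderOf z = p)
    (hC : ¬ centralizer ({z} : Set G) ≤ M) (hZc : Nat.card (omZ p P) = p) (hzZ : z ∉ omZ p P)
    {x : G} (hx : x ∈ P) (hxp : x ^ p = z) : False := by
  have hz1 : z ≠ 1 := fun e => hp.out.ne_one (by rw [← hzo, e, orderOf_one])
  have hp2 : p ≠ 2 := ne_two hG (hσ.2.1.trans (card_subgroup_dvd_card M))
  have hPM : Grp.IsSylowIn p P M := sylowIn_trans hP (TransHyp.piCoreOf_le M)
    ((isPiHallOf_piCore hG hM (alpha_subset_sigma hG hM) Set.Subset.rfl).2.2 p hp.out hσ)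
  obtain ⟨-, hidx⟩ := sigma_sylow hG hM hσ hPM
  set PG : Sylow p G := hP.2.1.toSylow hidx
  have hzzp : z ^ p = 1 := by rw [← hzo]; exact pow_orderOf_eq_one z
  by_cases hr : Cfsg.PRankLE p 2 P
  · rcases Cfsg.Agent.S1412.result hG p PG hr with hc | ⟨P₁, P₂, hsup, hc12, -, -, hP1e, hP2c, -⟩
    · exact hna hc
    haveI := hP2c
    have hsup' : P₁ ⊔ P₂ = P := hsup
    have h2le : P₂ ≤ centralizer (P : Set G) := by
      rw [← hsup', le_centralizer_iff]
      exact sup_le (fun a ha => mem_centralizer_iff.2 fun b hb => (hc12 a ha b hb).symm)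
        (le_centralizer_iff_isMulCommutative.2 inferInstance)
    have hN : P₁ ≤ normalizer (P₂ : Set G) := fun a ha =>
      centralizer_le_normalizer _ (mem_centralizer_iff.2 fun b hb => (hc12 a ha b hb).symm)
    have hx' := hx
    rw [← hsup', ← SetLike.mem_coe, Subgroup.coe_mul_of_left_le_normalizer_right P₁ P₂ hN] at hx'
    obtain ⟨a, ha, b, hb, rfl⟩ := hx'
    have hap : a ^ p = 1 := by
      have := congrArg Subtype.val (Monoid.pow_exponent_eq_one (⟨a, ha⟩ : P₁))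
      rwa [hP1e] at this
    rw [(show Commute a b from hc12 a ha b hb).mul_pow, hap, one_mul] at hxp
    exact hzZ ⟨hz, h2le (hxp ▸ P₂.pow_mem hb p), hzzp⟩
  set Z := omZ p P with hZdef
  obtain ⟨N, hsup, -, -, -, hτ⟩ := support_unique hG hM (hP.1 hz) hz1 hC
  have hτp := hτ p hp.out (by rw [hzo])
  set A := zpowers z ⊔ Z with hAdef
  have hzc : Nat.card (zpowers z) = p := by rw [Nat.card_zpowers, hzo]
  have hzCZ : zpowers z ≤ centralizer (Z : Set G) :=
    (zpowers_le.2 hz).trans (le_centralizer_iff.1 (omZ_le_centralizer P))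
  have hA : Cfsg.IsElementaryAbelian p A := by
    refine ⟨le_centralizer_iff_isMulCommutative.1 (sup_le ?_ ?_), fun a ha => ?_⟩
    · rw [le_centralizer_iff]
      exact sup_le (le_centralizer_iff_isMulCommutative.2 inferInstance) (le_centralizer_iff.1 hzCZ)
    · rw [le_centralizer_iff]
      exact sup_le hzCZ ((omZ_le_centralizer P).trans (centralizer_le (omZ_le P)))
    · rw [hAdef, ← SetLike.mem_coe, Subgroup.coe_mul_of_left_le_normalizer_right (zpowers z) Z
        (hzCZ.trans (centralizer_le_normalizer _))] at ha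
      obtain ⟨u, hu, w, hw, rfl⟩ := ha
      obtain ⟨i, rfl⟩ := mem_zpowers_iff.1 hu
      show (z ^ i * w) ^ p = 1
      rw [(show Commute (z ^ i) w from (mem_centralizer_iff.1 (hzCZ hu) w hw).symm).mul_pow, hw.2.2, mul_one,
        ← zpow_natCast, ← zpow_mul, mul_comm, zpow_mul, zpow_natCast, hzzp, one_zpow]
  have hdis : zpowers z ⊓ Z = ⊥ := (Subgroup.eq_bot_iff_forall _).2 fun y hy => by
    by_contra hy1
    exact hzZ ((zpowers_le.2 hy.2) ((zpowers_eq_of_prime hzc hy.1 hy1).ge (mem_zpowers z)))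
  have hA2 : Nat.card A = p ^ 2 := by
    have h1 := Grp.card_sup_mul_card_inf (H := zpowers z) (N := Z)
      (((zpowers_le.2 hz).trans (le_centralizer_iff.1 (omZ_le_centralizer P))).trans (centralizer_le_normalizer _))
    rwa [hdis, Subgroup.card_bot, mul_one, hzc, hZc, ← sq] at h1
  have hAN : A ≤ N := sup_le (zpowers_le.2 (hsup.le (mem_centralizer_singleton_iff.2 rfl)))
    fun y hy => hsup.le (mem_centralizer_singleton_iff.2 (mem_centralizer_iff.1 hy.2.1 z hz).symm)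
  have hmax : IsMaxPlane p A := IsMaxPlane.of_sigma' hG hsup.hN hτp.2.1 hAN hA hA2
  have hAP : A ≤ P := sup_le (zpowers_le.2 hz) (omZ_le P)
  haveI := hA.1
  obtain ⟨-, hc⟩ := maxPlane_cent hp2 hP.2.1 hr (E := A.subgroupOf P)
    ⟨inferInstance, fun a ha => Subtype.ext (hA.2 _ ha)⟩
    (by rw [Nat.card_congr (subgroupOfEquivOfLe hAP).toEquiv, hA2]) fun D hD hle => by
      haveI := hD.1
      have h : D.map P.subtype = A := hmax.2.2 _ ⟨Subgroup.map_isMulCommutative _ _, by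
        rintro _ ⟨d, hd, rfl⟩
        exact congrArg Subtype.val (hD.2 d hd)⟩ ((map_subgroupOf_eq_of_le hAP).ge.trans (map_mono hle))
      rw [← comap_map_eq_self_of_injective P.subtype_injective D, h]
      rfl
  obtain ⟨R₁, -, -, hdisR, hcomm, hsupR⟩ := hc ⟨z, hz⟩ (mem_subgroupOf.2 (mem_sup_left (mem_zpowers z)))
    fun hcen => hzZ ⟨hz, mem_centralizer_iff.2 fun y hy =>
      congrArg Subtype.val (Subgroup.mem_center_iff.1 hcen ⟨y, hy⟩), hzzp⟩
  set z' : P := ⟨z, hz⟩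
  have hxz : (⟨x, hx⟩ : P) ∈ centralizer (zpowers z' : Set P) := by
    rw [centralizer_zpowers_eq, mem_centralizer_singleton_iff]
    exact Subtype.ext (show x * z = z * x by rw [← hxp]; exact (Commute.self_pow x p).eq)
  rw [← hsupR, ← SetLike.mem_coe, Subgroup.coe_mul_of_right_le_normalizer_left (zpowers z') R₁
    (fun b hb => centralizer_le_normalizer _ (mem_centralizer_iff.2 fun a ha => hcomm a ha b hb))] at hxz
  obtain ⟨a, ha, b, hb, e⟩ := hxz
  replace e : a * b = ⟨x, hx⟩ := e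
  have hap : a ^ p = 1 := by
    obtain ⟨i, rfl⟩ := mem_zpowers_iff.1 ha
    rw [← zpow_natCast, ← zpow_mul, mul_comm, zpow_mul, zpow_natCast,
      show z' ^ p = 1 from Subtype.ext hzzp, one_zpow]
  have h1 : b ^ p = z' := by
    rw [← one_mul (b ^ p), ← hap, ← (show Commute a b from hcomm a ha b hb).mul_pow, e]
    exact Subtype.ext hxp
  have h2 : z' ∈ zpowers z' ⊓ R₁ := ⟨mem_zpowers _, h1 ▸ R₁.pow_mem hb p⟩
  rw [hdisR, mem_bot] at h2
  exact hz1 (congrArg Subtype.val h2)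

/-- With a nonabelian Sylow subgroup `F(M) ∩ F(M)^g` has order `p`. -/
theorem meet_card {g : G} (hg : g ∉ M)
    (hX : Cfsg.fittingOf M ⊓ (Cfsg.fittingOf M).map (MulAut.conj g).toMonoidHom ≠ ⊥)
    {p : ℕ} [hp : Fact p.Prime] {P : Subgroup G} (h : NonTIData M p P) (hna : ¬ IsMulCommutative P) :
    Nat.card ↥(Cfsg.fittingOf M ⊓ (Cfsg.fittingOf M).map (MulAut.conj g).toMonoidHom) = p := by
  set X := Cfsg.fittingOf M ⊓ (Cfsg.fittingOf M).map (MulAut.conj g).toMonoidHom with hXdef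
  obtain ⟨-, hnil, -, hXS, hcyc, -⟩ := fitting_meet_setup hG hM hg hX
  haveI : Fact p.Prime := hp
  have hprime : ∀ q : ℕ, q.Prime → q ∣ Nat.card X → q = p := fun q hq hd => by
    haveI := Fact.mk hq
    obtain ⟨⟨z, hz⟩, hzo⟩ := exists_prime_orderOf_dvd_card' (G := X) q hd
    rw [Subgroup.orderOf_mk] at hzo
    obtain ⟨hzS, hC⟩ := meet_prime_centralizer hG hM hg hz hzo
    by_contra hqp
    obtain ⟨Q, hQ⟩ := Grp.exists_isSylowIn q (Cfsg.sigmaCore M)
    exact hna ((support_sylows hG hM hnil hzS hzo hC hQ).1 p hp (Ne.symm hqp) P h.sylow).1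
  have hXp : IsPGroup p X := by
    obtain ⟨n, hn⟩ : ∃ n, Nat.card X = p ^ n := ⟨_, Nat.eq_prime_pow_of_unique_prime_dvd Nat.card_pos.ne'
      fun {q} hq hd => hprime q hq hd⟩
    exact IsPGroup.of_card hn
  have hXP : X ≤ P := le_of_pgroup_nilpotent hnil h.sylow hXS hXp
  obtain ⟨n, hn⟩ := IsPGroup.iff_card.1 hXp
  have hn0 : n ≠ 0 := fun e => hX (Subgroup.card_eq_one.1 (by rw [hn, e, pow_zero]))
  by_contra hne
  have hn2 : 2 ≤ n := by
    by_contra hlt
    obtain rfl : n = 1 := by omega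
    exact hne (by rw [hn, pow_one])
  haveI := hcyc
  obtain ⟨⟨y, hy⟩, hgen⟩ := IsCyclic.exists_generator (α := X)
  have hyo : orderOf y = p ^ n := by
    rw [← hn, ← orderOf_eq_card_of_forall_mem_zpowers hgen, Subgroup.orderOf_mk]
  set x := y ^ p ^ (n - 2)
  have hxX : x ∈ X := X.pow_mem hy _
  have hxo : orderOf x = p ^ 2 := by
    rw [orderOf_pow_of_dvd (pow_ne_zero _ hp.out.ne_zero) (hyo ▸ pow_dvd_pow p (by omega)), hyo,
      Nat.pow_div (by omega) hp.out.pos, show n - (n - 2) = 2 by omega]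
  have hzo : orderOf (x ^ p) = p := by
    rw [orderOf_pow_of_dvd hp.out.ne_zero (hxo ▸ dvd_pow_self p two_ne_zero), hxo, sq,
      Nat.mul_div_cancel _ hp.out.pos]
  obtain ⟨hzS, hC⟩ := meet_prime_centralizer hG hM hg (X.pow_mem hxX p) hzo
  obtain ⟨-, -, -, -, h5⟩ := support_sylows hG hM hnil hzS hzo hC h.sylow
  obtain ⟨hZc, hzZ⟩ := h5 hna
  exact not_pth_power hG hM h.sylow h.memσ hna (hXP (X.pow_mem hxX p)) hzo hC hZc hzZ (hXP hxX) rfl

/-- `F(M)` is generated by `M_σ` and its `σ'`-core. -/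
theorem fitting_split (hnil : Group.IsNilpotent (Cfsg.sigmaCore M)) :
    Cfsg.fittingOf M = Cfsg.sigmaCore M ⊔ Cfsg.piCoreOf {q | q.Prime ∧ q ∉ Cfsg.sigma M} (Cfsg.fittingOf M) := by
  set F := Cfsg.fittingOf M
  have hFn : Group.IsNilpotent F := fittingOf_isNilpotent M
  refine le_antisymm (Grp.le_of_forall_sylow (sup_le (le_fittingOf (TransHyp.piCoreOf_le M)
    (TransHyp.le_normalizer_piCoreOf M) hnil) (TransHyp.piCoreOf_le F)) fun q hq => ?_)
    (sup_le (le_fittingOf (TransHyp.piCoreOf_le M) (TransHyp.le_normalizer_piCoreOf M) hnil)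
      (TransHyp.piCoreOf_le F))
  obtain ⟨Q, hQ⟩ := Grp.exists_isSylowIn q F
  refine ⟨Q, hQ, ?_⟩
  have hQd : ∀ t : ℕ, t.Prime → t ∣ Nat.card Q → t = q := fun t ht hd => eq_of_dvd_pGroup hQ.2.1 ht hd
  by_cases hσ : q ∈ Cfsg.sigma M
  · exact le_trans (fun x hx => mem_sigmaCore_of_pi hG hM (fittingOf_le M (hQ.1 hx)) fun t ht hd =>
      (hQd t ht (hd.trans (Subgroup.orderOf_dvd_natCard _ hx))).symm ▸ hσ) le_sup_left
  · exact (TransHyp.le_piCoreOf hQ.1 (le_normalizer.trans (normalizer_le_sylow hFn hQ)) fun t ht hd =>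
      show t.Prime ∧ t ∉ Cfsg.sigma M from ⟨ht, (hQd t ht hd).symm ▸ hσ⟩).trans le_sup_right

end Cfsg.Agent.Transfer.Loc.TypeI
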