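import Cfsg.Agent.Lib.Transfer.Local.PlaneCentral

/-!
Exceptional configurations for primes with nonabelian Sylow subgroups.
-/

set_option autoImplicit false
set_option linter.style.haveILetI false
set_option linter.unusedSectionVars false
set_option maxHeartbeats 1000000

namespace Cfsg.Agent.Transfer.Loc

open Subgroup
open scoped commutatorElement Pointwise

universe u

variable {G : Type u} [Group G] [Finite G] {p : ℕ} [hp : Fact p.Prime]

theorem exists_generator_line {L : Subgroup G} (hL : Nat.card L = p) : ∃ x ∈ L, x ≠ 1 ∧ zpowers x = L := by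
  obtain ⟨x, hx, hx1⟩ := (Subgroup.bot_or_exists_ne_one L).resolve_left fun e =>
    hp.out.ne_one (by rw [← hL, e, Subgroup.card_bot])
  exact ⟨x, hx, hx1, zpowers_eq_of_prime hL hx hx1⟩

theorem sup_lines {A L₁ L₂ : Subgroup G} (hA : Nat.card A = p ^ 2) (h₁ : L₁ ≤ A) (h₂ : L₂ ≤ A)
    (hc₁ : Nat.card L₁ = p) (hc₂ : Nat.card L₂ = p) (hne : L₁ ≠ L₂) : L₁ ⊔ L₂ = A := by
  refine Subgroup.eq_of_le_of_card_ge (sup_le h₁ h₂) ?_
  obtain ⟨j, hj, e⟩ := (Nat.dvd_prime_pow hp.out).1 (hA ▸ card_dvd_of_le (sup_le h₁ h₂))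
  rw [hA, e]
  refine Nat.pow_le_pow_right hp.out.pos ?_
  by_contra hj2
  have h4 : Nat.card ↥(L₁ ⊔ L₂) ≤ p := e ▸ (Nat.pow_le_pow_right hp.out.pos (by omega : j ≤ 1)).trans (pow_one p).le
  exact hne ((Subgroup.eq_of_le_of_card_ge le_sup_left (h4.trans hc₁.ge)).trans
    (Subgroup.eq_of_le_of_card_ge le_sup_right (h4.trans hc₂.ge)).symm)

theorem mem_sup_lines {A L₁ L₂ : Subgroup G} (hA : IsMaxPlane p A) (h₁ : L₁ ≤ A) (h₂ : L₂ ≤ A)
    (hc₁ : Nat.card L₁ = p) (hc₂ : Nat.card L₂ = p) (hne : L₁ ≠ L₂) {a z : G} (hz : zpowers z = L₁) (ha : a ∈ A) :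
    ∃ i : ℤ, ∃ w ∈ L₂, a = z ^ i * w := by
  rw [← sup_lines hA.card h₁ h₂ hc₁ hc₂ hne, ← SetLike.mem_coe, Subgroup.coe_mul_of_left_le_normalizer_right L₁ L₂
    ((h₁.trans hA.le_centralizer).trans ((centralizer_le h₂).trans (centralizer_le_normalizer _)))] at ha
  obtain ⟨b, hb, w, hw, rfl⟩ := ha
  rw [SetLike.mem_coe, ← hz] at hb
  obtain ⟨i, rfl⟩ := hb
  exact ⟨i, w, hw, rfl⟩

/-- A `p`-element moving a line of a plane permutes all lines but its fixed one transitively. -/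
theorem line_orbit {A A₀ Z : Subgroup G} (hA : IsMaxPlane p A) (hA₀ : A₀ ≤ A) (hA₀c : Nat.card A₀ = p) (hZA : Z ≤ A)
    (hZc : Nat.card Z = p) (hne : A₀ ≠ Z) {y : G} {k : ℕ} (hyk : y ^ p ^ k = 1) (hyN : y ∈ normalizer (A : Set G))
    (hyZ : ∀ w ∈ Z, y * w = w * y) (hyC : y ∉ centralizer (A : Set G)) :
    ∀ L : Subgroup G, L ≤ A → Nat.card L = p → L ≠ Z → ∃ n : ℕ, MulAut.conj (y ^ n) • A₀ = L := by
  obtain ⟨z₀, hz₀, hz₀1, hgen⟩ := exists_generator_line hA₀c
  have hcomm : ∀ a ∈ A, ∀ b ∈ A, a * b = b * a := fun a ha b hb => mem_centralizer_iff.1 (hA.le_centralizer hb) a ha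
  set z := y * z₀ * y⁻¹ * z₀⁻¹ with hzdef
  have hzA : z ∈ A := mul_mem ((mem_normalizer_iff.1 hyN z₀).1 (hA₀ hz₀)) (inv_mem (hA₀ hz₀))
  have hact : y * z₀ * y⁻¹ = z * z₀ := by rw [hzdef, inv_mul_cancel_right]
  have hz1 : z ≠ 1 := fun e => hyC (mem_centralizer_iff.2 fun a ha => by
    obtain ⟨i, w, hw, rfl⟩ := mem_sup_lines hA hA₀ hZA hA₀c hZc hne hgen ha
    rw [e, one_mul] at hact
    have h1 : Commute z₀ y := by
      show z₀ * y = y * z₀
      nth_rw 1 [← hact]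
      group
    exact ((h1.zpow_left i).mul_left (show Commute y w from hyZ w hw).symm).eq)
  have hzZ : z ∈ Z := by
    by_contra hzZ
    obtain ⟨i, w, hw, hzw⟩ := mem_sup_lines hA hA₀ hZA hA₀c hZc hne hgen hzA
    have hcz : Nat.card (zpowers z) = p := by
      rw [Nat.card_zpowers, orderOf_eq_prime (hA.elem.2 z hzA) hz1]
    have hyz : y ∈ normalizer (zpowers z : Set G) := by
      have h1 : y * z * y⁻¹ = z ^ (i + 1) := by
        conv_lhs => rw [hzw]
        have h2 : Commute z z₀ := hcomm z hzA z₀ (hA₀ hz₀)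
        calc y * (z₀ ^ i * w) * y⁻¹ = (y * z₀ * y⁻¹) ^ i * (y * w * y⁻¹) := by rw [conj_zpow]; group
          _ = z ^ i * (z₀ ^ i * w) := by rw [hact, h2.mul_zpow, hyZ w hw, mul_inv_cancel_right, mul_assoc]
          _ = z ^ (i + 1) := by rw [← hzw, zpow_add_one]
      rw [Grp.mem_normalizer_iff_smul]
      refine Subgroup.eq_of_le_of_card_ge ?_ (by rw [Grp.card_conj_smul])
      rintro _ ⟨_, ⟨j, rfl⟩, rfl⟩
      show MulAut.conj y (z ^ j) ∈ zpowers z
      rw [map_zpow, MulAut.conj_apply, h1, ← zpow_mul]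
      exact zpow_mem (mem_zpowers z) _
    have hyc : z * y = y * z := mem_centralizer_iff.1 (centralizes_line hcz hyk hyz) z (mem_zpowers z)
    refine hyC (mem_centralizer_iff.2 fun a ha => ?_)
    obtain ⟨j, v, hv, rfl⟩ := mem_sup_lines hA (zpowers_le.2 hzA) hZA hcz hZc
      (fun e => hzZ (e ▸ mem_zpowers z)) rfl ha
    exact (((show Commute z y from hyc).zpow_left j).mul_left (show Commute y v from hyZ v hv).symm).eq
  have hpow : ∀ n : ℕ, y ^ n * z₀ * (y ^ n)⁻¹ = z ^ n * z₀ := by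
    intro n
    induction n with
    | zero => simp
    | succ n ih =>
      have h5 : y * z ^ n * y⁻¹ = z ^ n := by rw [hyZ _ (pow_mem hzZ n), mul_inv_cancel_right]
      calc y ^ (n + 1) * z₀ * (y ^ (n + 1))⁻¹ = y * (y ^ n * z₀ * (y ^ n)⁻¹) * y⁻¹ := by rw [pow_succ']; group
        _ = (y * z ^ n * y⁻¹) * (y * z₀ * y⁻¹) := by rw [ih]; group
        _ = z ^ (n + 1) * z₀ := by rw [h5, hact, pow_succ]; exact (mul_assoc _ _ _).symm
  have hzgen : zpowers z = Z := zpowers_eq_of_prime hZc hzZ hz1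
  intro L hLA hLc hLZ
  obtain ⟨l, hl, hl1, hlgen⟩ := exists_generator_line hLc
  obtain ⟨i, w, hw, hlw⟩ := mem_sup_lines hA hA₀ hZA hA₀c hZc hne hgen (hLA hl)
  have hi : ¬ (p : ℤ) ∣ i := fun ⟨c, hc⟩ => hLZ (by
    rw [← hlgen]
    refine zpowers_eq_of_prime hZc ?_ hl1
    rw [hlw, hc, zpow_mul, zpow_natCast, hA.elem.2 _ (hA₀ hz₀), one_zpow, one_mul]
    exact hw)
  obtain ⟨a, b, hab⟩ := ((Prime.coprime_iff_not_dvd (Nat.prime_iff_prime_int.1 hp.out)).2 hi).symm
  have hwa : w ^ a ∈ zpowers z := hzgen.ge (zpow_mem hw a)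
  obtain ⟨n, hn⟩ := (Submonoid.mem_powers_iff _ _).1 (mem_powers_iff_mem_zpowers.2 hwa)
  have hla : l ^ a = y ^ n * z₀ * (y ^ n)⁻¹ := by
    rw [hpow, hlw, (show Commute (z₀ ^ i) w from hcomm _ (zpow_mem (hA₀ hz₀) i) _ (hZA hw)).mul_zpow, ← zpow_mul,
      show i * a = 1 + (p : ℤ) * (-b) by linear_combination hab, zpow_add, zpow_one, zpow_mul, zpow_natCast,
      hA.elem.2 _ (hA₀ hz₀), one_zpow, mul_one, hn]
    exact hcomm _ (hA₀ hz₀) _ (zpow_mem (hZA hw) a)
  refine ⟨n, Subgroup.eq_of_le_of_card_ge ?_ (by rw [Grp.card_conj_smul, hLc, hA₀c])⟩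
  rw [← hgen]
  rintro _ ⟨_, ⟨j, rfl⟩, rfl⟩
  show MulAut.conj (y ^ n) (z₀ ^ j) ∈ L
  rw [map_zpow, MulAut.conj_apply, ← hla, ← zpow_mul]
  exact zpow_mem hl _

namespace Exc

variable {M A A₀ : Subgroup G} (h : Exc M p A A₀) {S : Sylow p G} (hAS : A ≤ (S : Subgroup G))
  (hna : ¬ IsMulCommutative (S : Subgroup G))
include h hAS hna

/-- A Sylow subgroup of `G` moves the plane outside `M`. -/
theorem exists_mover : Nat.card (omZ p (S : Subgroup G)) = p ∧ omZ p (S : Subgroup G) ≤ A ∧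
    omZ p (S : Subgroup G) ≠ A₀ ∧
    ∃ y ∈ (S : Subgroup G), y ∈ normalizer (A : Set G) ∧ y ∉ M ∧ y ∉ centralizer (A : Set G) := by
  haveI := solvable_of_ne_top h.hG h.hM.1
  obtain ⟨P, hP, hle⟩ := exists_sylowIn_ge (K := M) (U := (S : Subgroup G) ⊓ M) inf_le_right
    (S.isPGroup'.to_le inf_le_left)
  have hAP : A ≤ P := (le_inf hAS h.hAM).trans hle
  haveI := h.abelian hP hAP
  have hSne : ¬ (S : Subgroup G) ≤ centralizer (A : Set G) := fun hc => hna (by
    have h1 : (S : Subgroup G) ≤ P := (le_inf le_rfl (hc.trans h.centralizer_le_M)).trans hle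
    exact le_centralizer_iff_isMulCommutative.1 (h1.trans ((le_centralizer_iff_isMulCommutative.2 ‹_›).trans
      (centralizer_le h1))))
  set Z := omZ p (S : Subgroup G) with hZdef
  have hZA : Z ≤ A := h.hA.omZ_le_self hAS
  have hS1 : (S : Subgroup G) ≠ ⊥ := ne_bot_of_le_ne_bot h.hA.ne_bot hAS
  have hZc : Nat.card Z = p := by
    obtain ⟨j, hj, e⟩ := (Nat.dvd_prime_pow hp.out).1 (h.hA.card ▸ card_dvd_of_le hZA)
    interval_cases j
    · exact absurd (Subgroup.card_eq_one.1 (e.trans (pow_zero p))) (omZ_ne_bot S.isPGroup' hS1)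
    · exact e.trans (pow_one p)
    · exfalso
      refine hSne (le_centralizer_iff.1 ?_)
      rw [← Subgroup.eq_of_le_of_card_ge hZA (by rw [h.hA.card, e])]
      exact omZ_le_centralizer _
  have hlt : (S : Subgroup G) ⊓ centralizer (A : Set G) < (S : Subgroup G) :=
    lt_of_le_of_ne inf_le_left fun e => hSne (e.ge.trans inf_le_right)
  obtain ⟨y, ⟨hyS, hyN⟩, hyC⟩ := SetLike.exists_of_lt (exists_grow S.isPGroup' hlt)
  have hyA : y ∈ normalizer (A : Set G) := by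
    rw [Grp.mem_normalizer_iff_smul]
    refine Subgroup.eq_of_le_of_card_ge ?_ (by rw [Grp.card_conj_smul])
    rintro _ ⟨a, ha, rfl⟩
    show MulAut.conj y a ∈ A
    exact h.hA.mem (by rw [← map_pow, h.hA.elem.2 a ha, map_one])
      ((mem_normalizer_iff.1 hyN a).1 ⟨hAS ha, h.hA.le_centralizer ha⟩).2
  have hyM : y ∉ M := fun hy => hyC ⟨hyS, (hle.trans (h.central hP hAP)) ⟨hyS, hy⟩⟩
  refine ⟨hZc, hZA, fun e => hyM (h.hN (e ▸ centralizer_le_normalizer _ ?_)), y, hyS, hyA, hyM,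
    fun hc => hyC ⟨hyS, hc⟩⟩
  exact mem_centralizer_iff.2 fun w hw => (mem_centralizer_iff.1 (omZ_le_centralizer _ hw) y hyS).symm

/-- The line `A₀` centralises `M_σ`, all others act freely and have centralisers outside `M`. -/
theorem lines_facts : Cfsg.sigmaCore M ≤ centralizer (A₀ : Set G) ∧
    ∀ L : Subgroup G, L ≤ A → Nat.card L = p → L ≠ A₀ →
      Cfsg.sigmaCore M ⊓ centralizer (L : Set G) = ⊥ ∧ ¬ centralizer (L : Set G) ≤ M := by
  haveI := solvable_of_ne_top h.hG h.hM.1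
  obtain ⟨hZc, hZA, hZne, y, hyS, hyA, hyM, hyC⟩ := h.exists_mover hAS hna
  set Z := omZ p (S : Subgroup G) with hZdef
  obtain ⟨k, hk⟩ := S.isPGroup' ⟨y, hyS⟩
  have hyk : y ^ p ^ k = 1 := by simpa using congrArg Subtype.val hk
  have hyZ : ∀ w ∈ Z, y * w = w * y := fun w hw => mem_centralizer_iff.1 (omZ_le_centralizer _ hw) y hyS
  have hA' := Grp.mem_normalizer_iff_smul.1 hyA
  obtain ⟨P, hP, hle⟩ := exists_sylowIn_ge (K := M) (U := (S : Subgroup G) ⊓ M) inf_le_right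
    (S.isPGroup'.to_le inf_le_left)
  have hAP : A ≤ P := (le_inf hAS h.hAM).trans hle
  have hout : ∀ L : Subgroup G, L ≠ A₀ → ∀ n : ℕ, MulAut.conj (y ^ n) • A₀ = L → y ^ n ∉ M := fun L hLne n hn hy =>
    hLne (hn ▸ Grp.mem_normalizer_iff_smul.1 (centralizer_le_normalizer _
      (centralizer_le h.hA₀ (h.central hP hAP (hle ⟨pow_mem hyS n, hy⟩)))))
  have hfix : ∀ L : Subgroup G, L ≤ A → Nat.card L = p → L ≠ A₀ →
      Cfsg.sigmaCore M ⊓ centralizer (L : Set G) = ⊥ := by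
    intro L hLA hLc hLne
    by_cases hLZ : L = Z
    · subst hLZ
      by_contra hne
      obtain ⟨q, _, hσ, hqp, Q, hQ, hAQ, hQX⟩ := exists_meet h.hG h.hM h.hA h.hAM h.hσ
        (X := Cfsg.sigmaCore M ⊓ centralizer (Z : Set G)) inf_le_left
        (Grp.le_normalizer_inf' (h.hAM.trans (TransHyp.le_normalizer_piCoreOf M))
          ((h.hA.le_centralizer.trans (centralizer_le hZA)).trans le_normalizer)) hne
      have hyC' : MulAut.conj y • centralizer (Z : Set G) = centralizer (Z : Set G) :=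
        Grp.conj_smul_eq_self_of_mem (mem_centralizer_iff.2 fun w hw => (hyZ w hw).symm)
      refine hyM (class_lemma h.hG h.hM h.hA h.centralizer_le_M hσ hqp hQ hAQ hQ
        (by have := smul_le_normalizer hAQ y; rwa [hA'] at this)
        (centralizer_ne_top' h.hG fun e => hp.out.ne_one (by rw [← hZc, e, Subgroup.card_bot]))
        (h.hA.le_centralizer.trans (centralizer_le hZA))
        (ne_bot_of_le_ne_bot hQX (le_inf (inf_le_right.trans inf_le_right) inf_le_left)) fun e => hQX ?_)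
      have h1 : MulAut.conj y • (centralizer (Z : Set G) ⊓ Q) = ⊥ := by rw [Subgroup.smul_inf, hyC', e]
      have h2 : centralizer (Z : Set G) ⊓ Q = ⊥ :=
        card_eq_one.1 (by rw [← Grp.card_conj_smul y]; exact card_eq_one.2 h1)
      exact le_bot_iff.1 ((le_inf (inf_le_right.trans inf_le_right) inf_le_left).trans h2.le)
    · obtain ⟨n, hn⟩ := line_orbit h.hA h.hA₀ h.hA₀c hZA hZc hZne.symm hyk hyA hyZ hyC L hLA hLc hLZ
      exact hn ▸ h.fixed_conj (pow_mem hyA n) (hout L hLne n hn)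
  have hC : Cfsg.sigmaCore M ≤ centralizer (A₀ : Set G) := by
    refine Grp.le_of_hyperplanes h.hA.elem h.hA.ne_bot _ (not_dvd_sigmaCore h.hσ)
      (h.hAM.trans (TransHyp.le_normalizer_piCoreOf M)) fun D hD hi => ?_
    rcases eq_or_ne D A₀ with e | e
    · rw [e]; exact inf_le_right
    · rw [hfix D hD (card_of_hyperplane h.hA.card hD hi) e]; exact bot_le
  refine ⟨hC, fun L hLA hLc hLne => ⟨hfix L hLA hLc hLne, fun hle' => ?_⟩⟩
  by_cases hLZ : L = Z
  · subst hLZ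
    exact hyM (hle' (mem_centralizer_iff.2 fun w hw => (hyZ w hw).symm))
  obtain ⟨n, hn⟩ := line_orbit h.hA h.hA₀ h.hA₀c hZA hZc hZne.symm hyk hyA hyZ hyC L hLA hLc hLZ
  obtain ⟨q, _, hσ, -, Q, hQ, -, -⟩ := exists_meet h.hG h.hM h.hA h.hAM h.hσ le_rfl
    (h.hAM.trans (TransHyp.le_normalizer_piCoreOf M)) (sigmaCore_ne_bot h.hG h.hM)
  refine hout L hLne n hn (sigma_sylow_trans h.hG h.hM hσ hQ (le_trans ?_ hle'))
  have h3 := smul_centralizer_le ((sylow_le_piCore h.hG h.hM (alpha_subset_sigma h.hG h.hM) le_rfl hσ hQ).trans hC)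
    (y ^ n)
  rwa [hn] at h3

/-- No element of order `p²` has its `p`-th power in the line `A₀`. -/
theorem not_pow {P : Subgroup G} (hP : Grp.IsSylowIn p P M) (hAP : A ≤ P) (hPS : P ≤ (S : Subgroup G))
    {x : G} (hx : x ∈ P) (hxp : x ^ p ∈ A₀) : x ^ p = 1 := by
  obtain ⟨hZc, hZA, hZne, -⟩ := h.exists_mover hAS hna
  by_contra hne
  obtain ⟨z₀, hz₀, hz₀1, hgen⟩ := exists_generator_line h.hA₀c
  have hz₀c : z₀ ∉ centralizer ((S : Subgroup G) : Set G) := by
    intro hc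
    refine hZne (zpowers_eq_of_prime hZc (?_ : z₀ ∈ _) hz₀1 |>.symm.trans hgen)
    exact ⟨hAS (h.hA₀ hz₀), hc, h.hA.elem.2 _ (h.hA₀ hz₀)⟩
  -- the `p`-th power generates the line
  have hpow : z₀ ∈ zpowers (x ^ p) := (zpowers_eq_of_prime h.hA₀c hxp hne).ge hz₀
  have hxA₀ : x ∈ centralizer (A₀ : Set G) := centralizer_le h.hA₀ (h.central hP hAP hx)
  by_cases hr : Cfsg.PRankLE p 2 (S : Subgroup G)
  · rcases Cfsg.Agent.S1412.result h.hG p S hr with hab | ⟨S₁, S₂, hsup, hc12, -, -, hexp, hcyc, -⟩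
    · exact hna hab
    haveI := hcyc
    have hS12 : S₁ ≤ centralizer (S₂ : Set G) := fun a ha => mem_centralizer_iff.2 fun b hb => (hc12 a ha b hb).symm
    have hxS : x ∈ S₁ ⊔ S₂ := hsup.ge (hPS hx)
    rw [← SetLike.mem_coe, Subgroup.coe_mul_of_left_le_normalizer_right S₁ S₂
      (hS12.trans (centralizer_le_normalizer _))] at hxS
    obtain ⟨a, ha, b, hb, rfl⟩ := hxS
    have hap : a ^ p = 1 := by
      have := Monoid.pow_exponent_eq_one (⟨a, ha⟩ : S₁)
      rw [hexp] at this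
      simpa using congrArg Subtype.val this
    have h1 : (a * b) ^ p ∈ S₂ := by
      rw [(show Commute a b from hc12 a ha b hb).mul_pow, hap, one_mul]
      exact pow_mem hb p
    refine hz₀c (mem_centralizer_iff.2 fun s hs => ?_)
    have hz₂ : z₀ ∈ S₂ := zpowers_le.2 h1 hpow
    have hle : (S : Subgroup G) ≤ centralizer ({z₀} : Set G) := by
      rw [← hsup]
      refine sup_le (fun c hc => mem_centralizer_singleton_iff.2 (hc12 c hc z₀ hz₂)) fun c hc =>
        mem_centralizer_singleton_iff.2 ?_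
      exact congrArg Subtype.val ((IsCyclic.isMulCommutative (α := S₂)).is_comm.comm ⟨c, hc⟩ ⟨z₀, hz₂⟩)
    exact mem_centralizer_singleton_iff.1 (hle hs)
  · haveI := h.hA.elem.1
    set E := A.subgroupOf (S : Subgroup G) with hE
    have hEmax : ∀ B : Subgroup (S : Subgroup G), Cfsg.IsElementaryAbelian p B → E ≤ B → B = E := by
      intro B hB hle
      haveI := hB.1
      have h1 : B.map (S : Subgroup G).subtype = A := h.hA.2.2 _ ⟨Subgroup.map_isMulCommutative _ _, by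
        rintro _ ⟨d, hd, rfl⟩
        exact congrArg Subtype.val (hB.2 d hd)⟩ ((map_subgroupOf_eq_of_le hAS).ge.trans (map_mono hle))
      rw [← comap_map_eq_self_of_injective (S : Subgroup G).subtype_injective B, h1]
      rfl
    obtain ⟨-, hcent⟩ := maxPlane_cent (ne_two h.hG h.hA.dvd_card_group) S.isPGroup' hr (E := E)
      ⟨inferInstance, fun a ha => Subtype.ext (h.hA.elem.2 _ ha)⟩
      (by rw [Nat.card_congr (subgroupOfEquivOfLe hAS).toEquiv, h.hA.card]) hEmax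
    set w : (S : Subgroup G) := ⟨z₀, hAS (h.hA₀ hz₀)⟩ with hw
    obtain ⟨R₁, hwc, -, hdisj, hc01, hsup⟩ := hcent w (show z₀ ∈ A from h.hA₀ hz₀) (fun hc =>
      hz₀c (mem_centralizer_iff.2 fun s hs => congrArg Subtype.val (mem_center_iff.1 hc ⟨s, hs⟩)))
    set v : (S : Subgroup G) := ⟨x, hPS hx⟩ with hv
    have hvC : v ∈ centralizer (zpowers w : Set (S : Subgroup G)) := mem_centralizer_iff.2 fun c hc => by
      obtain ⟨i, rfl⟩ := hc
      exact Subtype.ext (mem_centralizer_iff.1 hxA₀ _ (by simpa [hw] using zpow_mem hz₀ i))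
    rw [← hsup, ← SetLike.mem_coe, Subgroup.coe_mul_of_left_le_normalizer_right (zpowers w) R₁
      (fun a ha => centralizer_le_normalizer _ (mem_centralizer_iff.2 fun b hb => (hc01 a ha b hb).symm))] at hvC
    obtain ⟨a, ha, b, hb, hab⟩ := hvC
    have hap : a ^ p = 1 := orderOf_dvd_iff_pow_eq_one.1 (((zpowers w).orderOf_dvd_natCard ha).trans (dvd_of_eq hwc))
    have h1 : v ^ p ∈ R₁ := by
      rw [← hab, (show Commute a b from hc01 a ha b hb).mul_pow, hap, one_mul]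
      exact pow_mem hb p
    obtain ⟨i, hi⟩ := hpow
    have h2 : w ∈ zpowers w ⊓ R₁ := by
      refine ⟨mem_zpowers w, ?_⟩
      rw [show w = (v ^ p) ^ i from Subtype.ext (by simpa [hw, hv] using hi.symm)]
      exact zpow_mem h1 i
    rw [hdisj, mem_bot] at h2
    exact hz₀1 (congrArg Subtype.val h2)

end Exc

end Cfsg.Agent.Transfer.Loc
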