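import Cfsg.Agent.Lib.Transfer.Local.TauTwoCyclic
import Cfsg.Agent.Lib.Transfer.CN.Basic
import Cfsg.Agent.S1419

/-!
A free subgroup of the same exponent inside a normal `τ₂`-containing subgroup of a complement.
-/

set_option autoImplicit false
set_option linter.style.haveILetI false
set_option linter.unusedSectionVars false
set_option maxHeartbeats 2000000

namespace Cfsg.Agent.Transfer.Loc

open Subgroup
open scoped commutatorElement Pointwise

universe u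

variable {G : Type u} [Group G] [Finite G]

theorem sylowIn_trans {q : ℕ} [hq : Fact q.Prime] {T H E : Subgroup G} (hT : Grp.IsSylowIn q T H) (hHE : H ≤ E)
    (h : ¬ q ∣ H.relIndex E) : Grp.IsSylowIn q T E := by
  refine ⟨hT.1.trans hHE, hT.2.1, fun hd => ?_⟩
  rw [← relIndex_mul_relIndex T H E hT.1 hHE] at hd
  exact (hq.out.dvd_mul.1 hd).elim hT.2.2 h

theorem conj_orderOf_mem_sylow {q : ℕ} [hq : Fact q.Prime] {T W : Subgroup G} [Group.IsSolvable W]
    (hT : Grp.IsSylowIn q T W) {x : G} (hx : x ∈ W) {i : ℕ} (hi : orderOf x = q ^ i) :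
    ∃ k ∈ W, ∃ t ∈ T, x = k * t * k⁻¹ ∧ orderOf t = orderOf x := by
  obtain ⟨X, hX, hle⟩ := exists_sylowIn_ge (zpowers_le.2 hx)
    (IsPGroup.of_card (n := i) (by rw [Nat.card_zpowers, hi]) : IsPGroup q (zpowers x))
  obtain ⟨k, hk, e⟩ := hT.conj hX
  have hx' := hle (mem_zpowers x)
  rw [← e] at hx'
  obtain ⟨t, ht, rfl⟩ := hx'
  exact ⟨k, hk, t, ht, rfl, (MulEquiv.orderOf_eq (MulAut.conj k) t).symm⟩

variable (hG : Cfsg.IsMinSimpleOddOrder G) {M : Subgroup G} (hM : IsCoatom M) {E : Subgroup G}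
  (hE : Cfsg.IsComplIn E (Cfsg.sigmaCore M) M)
include hG hM hE

/-- `τ₂`-elements of coprime prime-power orders commute. -/
theorem tau2_commute {q r : ℕ} [hq : Fact q.Prime] [hr : Fact r.Prime] (hqr : q ≠ r) (hτq : q ∈ Cfsg.tau2 M)
    (hτr : r ∈ Cfsg.tau2 M) {a b : G} (ha : a ∈ E) (hb : b ∈ E) {i j : ℕ} (hai : orderOf a = q ^ i)
    (hbj : orderOf b = r ^ j) : Commute a b := by
  haveI := solvable_of_ne_top hG hM.1
  haveI := isSolvable_of_le hE.1
  have hnorm : ∀ s : ℕ, ∀ [Fact s.Prime], s ∈ Cfsg.tau2 M → Cfsg.tau2 M ≠ {s} →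
      ∃ T, Grp.IsSylowIn s T E ∧ E ≤ normalizer (T : Set G) := by
    intro s _ hs hne
    obtain ⟨T, hT⟩ := Grp.exists_isSylowIn s E
    obtain ⟨B, hBT, hB, hB2⟩ := tau2_plane hG hM hE hs hT
    have hBE := hBT.trans hT.1
    obtain ⟨S₀, hS₀⟩ : ∃ S : Sylow s G, IsMulCommutative (S : Subgroup G) := by
      by_contra hc
      push Not at hc
      exact hne (Cfsg.Agent.S1419.result hG M hM E hE s hs hc B ⟨hBE, hB, hB2⟩).1
    obtain ⟨S, hBS⟩ := (Grp.elemAb_isPGroup hB).exists_le_sylow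
    have hab : IsMulCommutative (S : Subgroup G) := ⟨⟨fun a b => (S.equiv S₀).injective (by
      rw [map_mul, map_mul]; exact hS₀.is_comm.comm _ _)⟩⟩
    exact ⟨S, (tau2_sylow_compl hG hM hE hs hBE hB hB2 hab hBS).2.1, tau2_sylow_normal hG hM hE hs hBE hB hB2 hab hBS⟩
  obtain ⟨Q, hQ, hEQ⟩ := hnorm q hτq fun e => hqr (e ▸ hτr : r ∈ ({q} : Set ℕ)).symm
  obtain ⟨R, hR, hER⟩ := hnorm r hτr fun e => hqr (e ▸ hτq : q ∈ ({r} : Set ℕ))
  obtain ⟨k, hk, t, ht, rfl, -⟩ := conj_orderOf_mem_sylow hQ ha hai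
  obtain ⟨k', hk', t', ht', rfl, -⟩ := conj_orderOf_mem_sylow hR hb hbj
  exact (mem_centralizer_iff.1 (commute_of_coprime (hQ.1.trans hER) (hR.1.trans hEQ)
    (coprime_O hqr hQ.2.1 hR.2.1) (Grp.mem_conj_normalizer (hEQ hk) ht)) _
    (Grp.mem_conj_normalizer (hER hk') ht')).symm

/-- A free subgroup of full exponent. -/
theorem exists_free_exponent {W : Subgroup G} (hWE : W ≤ E) (hE'W : ⁅E, E⁆ ≤ W)
    (hτW : ∀ T : Subgroup G, T ≤ E → (∀ q : ℕ, q.Prime → q ∣ Nat.card T → q ∈ Cfsg.tau2 M) → T ≤ W)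
    (hfree : ∀ y ∈ W, (orderOf y).Prime → orderOf y ∉ Cfsg.tau2 M →
      Cfsg.sigmaCore M ⊓ centralizer ({y} : Set G) = ⊥) :
    ∃ W₀ : Subgroup G, W₀ ≤ W ∧ Monoid.exponent W₀ = Monoid.exponent W ∧
      ∀ e ∈ W₀, e ≠ 1 → Cfsg.sigmaCore M ⊓ centralizer ({e} : Set G) = ⊥ := by
  haveI := solvable_of_ne_top hG hM.1
  haveI := isSolvable_of_le hE.1
  haveI := isSolvable_of_le (hWE.trans hE.1)
  set τ := Cfsg.tau2 M with hτdef
  -- an abelian Hall subgroup for `τ₂`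
  obtain ⟨H, hH⟩ := Grp.PiHall.exists_piHall τ E
  have hHW : H ≤ W := hτW H hH.1 hH.2.1
  haveI hHab : IsMulCommutative H := by
    refine (Cfsg.Agent.S1420.result hG M hM E hE).1 H (hH.1.trans hE.1)
      (CN.isNilpotent_of_commute fun q r hq hr hqr a b ha hb => ?_)
      fun q hq hd => compl_prime hG hM hE hq (hd.trans (card_dvd_of_le hH.1))
    obtain ⟨i, hi⟩ := ha
    obtain ⟨j, hj⟩ := hb
    rcases Nat.eq_zero_or_pos i with rfl | hi0
    · rw [pow_zero, orderOf_eq_one_iff] at hi; rw [hi]; exact Commute.one_left b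
    rcases Nat.eq_zero_or_pos j with rfl | hj0
    · rw [pow_zero, orderOf_eq_one_iff] at hj; rw [hj]; exact Commute.one_right a
    haveI := Fact.mk hq
    haveI := Fact.mk hr
    refine Subtype.ext (tau2_commute hG hM hE hqr (hH.2.1 q hq ((dvd_pow_self q hi0.ne').trans (hi ▸ orderOf_dvd_natCard a)))
      (hH.2.1 r hr ((dvd_pow_self r hj0.ne').trans (hj ▸ orderOf_dvd_natCard b))) (hH.1 a.2) (hH.1 b.2)
      (i := i) (j := j) ?_ ?_)
    · rw [Subgroup.orderOf_coe, hi]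
    · rw [Subgroup.orderOf_coe, hj]
  have hHH : H ≤ centralizer (H : Set G) := le_centralizer_iff_isMulCommutative.2 hHab
  have hsyl : ∀ q : ℕ, ∀ [Fact q.Prime], q ∈ τ → ∀ {T : Subgroup G}, Grp.IsSylowIn q T H → Grp.IsSylowIn q T E :=
    fun q hq hqτ T hT => sylowIn_trans hT hH.1 (hH.2.2 q hq.out hqτ)
  -- the `τ₂'`-part of `E'`
  set D := Cfsg.piCoreOf τᶜ ⁅E, E⁆ with hD
  have hDE' : D ≤ ⁅E, E⁆ := TransHyp.piCoreOf_le _
  have hDp : ∀ q : ℕ, q.Prime → q ∣ Nat.card D → q ∉ τ := fun q hq hd =>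
    TransHyp.piCoreOf_primes (π := τᶜ) (X := ⁅E, E⁆) hq hd
  have hEE : E ≤ normalizer ((⁅E, E⁆ : Subgroup G) : Set G) := le_normalizer_commutator' le_normalizer le_normalizer
  have hED : E ≤ normalizer (D : Set G) := le_normalizer_core hEE
  have hE'ab : ⁅E, E⁆ ≤ centralizer ((⁅E, E⁆ : Subgroup G) : Set G) :=
    le_centralizer_iff_isMulCommutative.2 (Cfsg.Agent.S1420.result hG M hM E hE).2.1
  set L := H ⊔ D with hL
  have hLE : L ≤ E := sup_le hH.1 (hDE'.trans E.commutator_le_self)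
  have hE'L : ⁅E, E⁆ ≤ L := by
    refine (Grp.le_of_forall_sylow (inf_le_left : ⁅E, E⁆ ⊓ L ≤ ⁅E, E⁆) fun q hq => ?_).trans inf_le_right
    obtain ⟨T, hT⟩ := Grp.exists_isSylowIn q ⁅E, E⁆
    refine ⟨T, hT, le_inf hT.1 ?_⟩
    have hTN : ⁅E, E⁆ ≤ normalizer (T : Set G) :=
      hE'ab.trans ((centralizer_le hT.1).trans (centralizer_le_normalizer _))
    by_cases hqτ : q ∈ τ
    · refine le_trans ?_ (le_sup_left : H ≤ L)
      obtain ⟨g, hg, hle⟩ := Grp.PiHall.dominate hH (hT.1.trans E.commutator_le_self) fun r hr hd => by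
        rw [eq_of_dvd_pGroup hT.2.1 hr hd]; exact hqτ
      rw [← Subgroup.pointwise_smul_le_pointwise_smul_iff (a := MulAut.conj g)]
      exact ((Grp.mem_normalizer_iff_smul.1 (normalizer_sylow_of_comm
        (Cfsg.Agent.S1420.result hG M hM E hE).2.1 hT hEE hg)).le).trans hle
    · exact (TransHyp.le_piCoreOf hT.1 hTN fun r hr hd => by
        rw [eq_of_dvd_pGroup hT.2.1 hr hd]; exact hqτ).trans le_sup_right
  have hEL : E ≤ normalizer (L : Set G) := fun e he => by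
    rw [Grp.mem_normalizer_iff_smul]
    refine Subgroup.eq_of_le_of_card_ge ?_ (by rw [Grp.card_conj_smul])
    rintro _ ⟨l, hl, rfl⟩
    show MulAut.conj e l ∈ L
    rw [MulAut.conj_apply, show e * l * e⁻¹ = ⁅e, l⁆ * l by rw [commutatorElement_def]; group]
    exact L.mul_mem (hE'L (commutator_mem_commutator he (hLE hl))) hl
  have hDW : D ≤ W := hDE'.trans hE'W
  set N := W ⊓ normalizer (H : Set G) with hN
  -- Frattini argument
  have hWN : W ≤ N ⊔ D := by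
    intro w hw
    haveI := isSolvable_of_le hLE
    have hwL := Grp.mem_normalizer_iff_smul.1 (hEL (hWE hw))
    have hH1 : Cfsg.IsPiHallOf τ H L := ⟨le_sup_left, hH.2.1, fun q hq hqτ hd =>
      hH.2.2 q hq hqτ (hd.trans (Dvd.intro _ (relIndex_mul_relIndex H L E le_sup_left hLE)))⟩
    obtain ⟨l, hl, e⟩ := Grp.PiHall.conj_eq hH1 (Grp.PiHall.smul hH1 hwL)
    have hn : l⁻¹ * w ∈ normalizer (H : Set G) := Grp.mem_normalizer_iff_smul.2 (by
      rw [← Grp.conj_smul_conj_smul, ← e, Grp.conj_smul_conj_smul, inv_mul_cancel, map_one, one_smul])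
    have hLND : L ≤ N ⊔ D := sup_le ((le_inf hHW le_normalizer).trans le_sup_left) le_sup_right
    rw [show w = l * (l⁻¹ * w) by group]
    exact mul_mem (hLND hl) (mem_sup_left ⟨W.mul_mem (W.inv_mem ((sup_le hHW hDW) hl)) hw, hn⟩)
  haveI := isSolvable_of_le ((inf_le_left.trans (hWE.trans hE.1)) : N ≤ M)
  obtain ⟨R, hR⟩ := Grp.PiHall.exists_piHall τᶜ N
  have hRW : R ≤ W := hR.1.trans inf_le_left
  have hRH : R ≤ normalizer (H : Set G) := hR.1.trans inf_le_right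
  have hRD : R ≤ normalizer (D : Set G) := hRW.trans (hWE.trans hED)
  -- `D R` contains the other Sylow subgroups of `W`
  have hidx : ∀ q : ℕ, q.Prime → q ∉ τ → ¬ q ∣ (R ⊔ D).relIndex W := by
    intro q hq hqτ hd
    have hND : N ⊔ D = W := le_antisymm (sup_le inf_le_left hDW) hWN
    have h1 := Grp.card_sup_mul_card_inf (H := N) (N := D) (inf_le_left.trans (hWE.trans hED))
    have h2 := Grp.card_sup_mul_card_inf (H := R) (N := D) hRD
    rw [hND] at h1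
    obtain ⟨j, hj⟩ := card_dvd_of_le (inf_le_inf_right D hR.1 : R ⊓ D ≤ N ⊓ D)
    rw [hj, ← Grp.card_mul_relIndex hR.1, ← Grp.card_mul_relIndex (sup_le hRW hDW : R ⊔ D ≤ W)] at h1
    have h3 : (R ⊔ D).relIndex W * j = R.relIndex N := by
      refine Nat.eq_of_mul_eq_mul_left (Nat.mul_pos Nat.card_pos Nat.card_pos : 0 < Nat.card R * Nat.card D) ?_
      rw [← h2]
      calc Nat.card ↥(R ⊔ D) * Nat.card ↥(R ⊓ D) * ((R ⊔ D).relIndex W * j)
          = Nat.card ↥(R ⊔ D) * (R ⊔ D).relIndex W * (Nat.card ↥(R ⊓ D) * j) := by ring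
        _ = Nat.card R * R.relIndex N * Nat.card D := h1
        _ = Nat.card R * Nat.card D * R.relIndex N := by ring
        _ = _ := by rw [h2]
    exact hR.2.2 q hq hqτ (h3 ▸ hd.trans (dvd_mul_right _ j))
  -- the cyclic subgroups
  have hC : ∀ q : {q : ℕ // q ∈ τ}, ∃ T C : Subgroup G, Grp.IsSylowIn (q : ℕ) T H ∧ C ≤ T ∧ IsCyclic C ∧
      R ≤ normalizer (C : Set G) ∧
      (∀ y ∈ C, orderOf y = q → Cfsg.sigmaCore M ⊓ centralizer ({y} : Set G) = ⊥) ∧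
      ∀ t ∈ T, orderOf t ∣ Nat.card C := by
    rintro ⟨q, hq⟩
    haveI := Fact.mk hq.1
    obtain ⟨T, hT⟩ := Grp.exists_isSylowIn q H
    have hTE := hsyl q hq hT
    obtain ⟨A, hAT, hA, hA2⟩ := tau2_plane hG hM hE hq hTE
    obtain ⟨C, hC⟩ := (TauPlane.exists_free_cyclic (A := A) ⟨hG, hM, hE, hq, hAT.trans hTE.1, hA, hA2, hTE⟩
      (hRW.trans hWE) (normalizer_sylow_of_comm hHab hT hRH) hR.2.1 fun y hy hyp => hfree y (hRW hy) hyp
        (hR.2.1 _ hyp (Subgroup.orderOf_dvd_natCard _ hy)))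
    exact ⟨T, C, hT, hC⟩
  choose T C hT hCT hCc hRC hCf hCexp using hC
  set C' := ⨆ q, C q with hC'
  have hC'H : C' ≤ H := iSup_le fun q => (hCT q).trans (hT q).1
  have hRC' : R ≤ normalizer (C' : Set G) := fun g hg => Grp.mem_normalizer_iff_smul.2 (by
    rw [hC', ← Grp.map_conj_eq_smul, Subgroup.map_iSup]
    exact iSup_congr fun q => by rw [Grp.map_conj_eq_smul, Grp.mem_normalizer_iff_smul.1 (hRC q hg)])
  set W₀ := (R ⊔ C') ⊔ D with hW₀
  have hW₀W : W₀ ≤ W := sup_le (sup_le hRW (hC'H.trans hHW)) hDW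
  haveI := isSolvable_of_le (hW₀W.trans (hWE.trans hE.1))
  have hRCD : R ⊔ C' ≤ normalizer (D : Set G) := (sup_le hRW (hC'H.trans hHW)).trans (hWE.trans hED)
  -- each `C q` is a Sylow subgroup
  have hCsyl : ∀ q : {q : ℕ // q ∈ τ}, ∀ [Fact (q : ℕ).Prime], Grp.IsSylowIn (q : ℕ) (C q) W₀ := by
    intro q _
    set Hq := Cfsg.piCoreOf {s : ℕ | s ≠ (q : ℕ)} H with hHq
    have hHqH : Hq ≤ H := TransHyp.piCoreOf_le _
    have hC'q : C' ≤ C q ⊔ Hq := iSup_le fun s => by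
      by_cases hsq : s = q
      · subst hsq; exact le_sup_left
      haveI := Fact.mk (s.2 : (s : ℕ) ∈ τ).1
      exact (TransHyp.le_piCoreOf ((hCT s).trans (hT s).1)
        (hHH.trans ((centralizer_le ((hCT s).trans (hT s).1)).trans (centralizer_le_normalizer _)))
        fun r hr hd => by
          rw [eq_of_dvd_pGroup ((hT s).2.1.to_le (hCT s)) hr hd]
          exact fun e => hsq (Subtype.ext e)).trans le_sup_right
    obtain ⟨Y, hY, hCY⟩ := exists_sylowIn_ge (K := W₀) (U := C q)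
      ((le_iSup C q).trans (le_sup_right.trans le_sup_left)) ((hT q).2.1.to_le (hCT q))
    suffices C q = Y from this ▸ hY
    refine Subgroup.eq_of_le_of_card_ge hCY (Nat.le_of_dvd Nat.card_pos ?_)
    have h1 : Nat.card W₀ ∣ Nat.card R * (Nat.card (C q) * Nat.card Hq) * Nat.card D :=
      (Grp.card_sup_dvd_mul hRCD).trans (mul_dvd_mul_right ((Grp.card_sup_dvd_mul hRC').trans (mul_dvd_mul_left _
        ((card_dvd_of_le hC'q).trans (Grp.card_sup_dvd_mul (((hCT q).trans (hT q).1).trans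
          (le_normalizer_core' H)))))) _)
    have h2 : Nat.card Y ∣ Nat.card (C q) * (Nat.card R * Nat.card Hq * Nat.card D) :=
      ((card_dvd_of_le hY.1).trans h1).trans (dvd_of_eq (by ring))
    obtain ⟨i, hi⟩ := IsPGroup.iff_card.1 hY.2.1
    refine Nat.Coprime.dvd_of_dvd_mul_right ?_ h2
    rw [hi]
    refine Nat.Coprime.pow_left i ((q.2 : (q : ℕ) ∈ τ).1.coprime_iff_not_dvd.2 fun hd => ?_)
    rcases (q.2 : (q : ℕ) ∈ τ).1.dvd_mul.1 hd with hd | hd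
    · rcases (q.2 : (q : ℕ) ∈ τ).1.dvd_mul.1 hd with hd | hd
      · exact hR.2.1 _ (q.2 : (q : ℕ) ∈ τ).1 hd q.2
      · exact TransHyp.piCoreOf_primes (π := {s : ℕ | s ≠ (q : ℕ)}) (X := H) (q.2 : (q : ℕ) ∈ τ).1 hd rfl
    · exact hDp _ (q.2 : (q : ℕ) ∈ τ).1 hd q.2
  have hprime : ∀ y ∈ W₀, (orderOf y).Prime → Cfsg.sigmaCore M ⊓ centralizer ({y} : Set G) = ⊥ := by
    intro y hy hyp
    by_cases hyτ : orderOf y ∈ τ
    swap
    · exact hfree y (hW₀W hy) hyp hyτ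
    haveI : Fact ((⟨orderOf y, hyτ⟩ : {q : ℕ // q ∈ τ}) : ℕ).Prime := ⟨hyp⟩
    obtain ⟨k, hk, c, hc, e, hco⟩ := conj_orderOf_mem_sylow (hCsyl ⟨orderOf y, hyτ⟩) hy (i := 1) (pow_one _).symm
    have hf := hCf ⟨orderOf y, hyτ⟩ c hc hco
    have hkM : k ∈ M := hE.1 (hWE (hW₀W hk))
    rw [eq_bot_iff]
    intro a ha
    have h1 : k⁻¹ * a * k ∈ Cfsg.sigmaCore M ⊓ centralizer ({c} : Set G) := by
      refine ⟨Grp.mem_conj_normalizer' (TransHyp.le_normalizer_piCoreOf M hkM) ha.1, mem_centralizer_singleton_iff.2 ?_⟩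
      have h2 := mem_centralizer_singleton_iff.1 ha.2
      rw [e] at h2
      calc k⁻¹ * a * k * c = k⁻¹ * (a * (k * c * k⁻¹)) * k := by group
        _ = k⁻¹ * (k * c * k⁻¹ * a) * k := by rw [h2]
        _ = c * (k⁻¹ * a * k) := by group
    rw [hf, mem_bot] at h1
    rw [mem_bot]
    calc a = k * (k⁻¹ * a * k) * k⁻¹ := by group
      _ = 1 := by rw [h1]; group
  refine ⟨W₀, hW₀W, ?_, fun e he he1 => ?_⟩
  swap
  · obtain ⟨q, hq, z, hz, hzo, -, -⟩ := exists_prime_zpowers_le he1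
    rw [eq_bot_iff, ← hprime z ((zpowers_le.2 he) hz) (hzo ▸ hq.out)]
    refine inf_le_inf_left _ ((centralizer_zpowers_eq e).ge.trans ?_)
    exact centralizer_le (Set.singleton_subset_iff.2 hz)
  -- the exponent
  refine Nat.dvd_antisymm (Monoid.exponent_dvd_of_monoidHom (inclusion hW₀W) (inclusion_injective hW₀W))
    (Monoid.exponent_dvd_of_forall_pow_eq_one fun x => ?_)
  rw [← orderOf_dvd_iff_pow_eq_one, Nat.dvd_iff_prime_pow_dvd_dvd]
  intro q i hq hqi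
  haveI := Fact.mk hq
  obtain ⟨m, hm⟩ := hqi
  have hx' : orderOf ((x : G) ^ m) = q ^ i := by
    have h0 : orderOf (x : G) = q ^ i * m := by rw [Subgroup.orderOf_coe, hm]
    have hm0 : 0 < m := Nat.pos_of_ne_zero fun e => (orderOf_pos (x : G)).ne' (by rw [h0, e, mul_zero])
    rw [orderOf_pow' _ hm0.ne', h0, Nat.gcd_mul_left_left, Nat.mul_div_cancel _ hm0]
  have hxW : (x : G) ^ m ∈ W := W.pow_mem x.2 m
  by_cases hqτ : q ∈ τ
  · haveI : Fact ((⟨q, hqτ⟩ : {q : ℕ // q ∈ τ}) : ℕ).Prime := ⟨hq⟩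
    obtain ⟨k, -, t, ht, -, hto⟩ := conj_orderOf_mem_sylow (hsyl q hqτ (hT ⟨q, hqτ⟩)) (hWE hxW) hx'
    have h1 := (hCexp ⟨q, hqτ⟩ t ht)
    rw [hto, hx'] at h1
    haveI := hCc ⟨q, hqτ⟩
    obtain ⟨g, hg⟩ := IsCyclic.exists_generator (α := C ⟨q, hqτ⟩)
    rw [← orderOf_eq_card_of_forall_mem_zpowers hg, ← Subgroup.orderOf_coe] at h1
    exact h1.trans ((Subgroup.orderOf_coe (⟨(g : G), (hCsyl ⟨q, hqτ⟩).1 g.2⟩ : W₀)).dvd.trans
      (Monoid.order_dvd_exponent _))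
  · obtain ⟨Y, hY⟩ := Grp.exists_isSylowIn q (R ⊔ D)
    obtain ⟨k, -, t, ht, -, hto⟩ := conj_orderOf_mem_sylow (sylowIn_trans hY (sup_le hRW hDW) (hidx q hq hqτ)) hxW hx'
    rw [← hx', ← hto]
    exact (Subgroup.orderOf_coe (⟨t, (sup_le (le_sup_left.trans le_sup_left) le_sup_right : R ⊔ D ≤ W₀) (hY.1 ht)⟩ : W₀)).dvd.trans
      (Monoid.order_dvd_exponent _)

end Cfsg.Agent.Transfer.Loc
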