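import Cfsg.Agent.Lib.Transfer.Local.SupportKappa
import Cfsg.Agent.S1354
import Cfsg.Agent.S1356
import Cfsg.Agent.S1360
import Cfsg.Agent.S1363
import Cfsg.Agent.S1364
import Cfsg.Agent.S1365

/-!
The types of maximal subgroups in terms of the standard factorisation.
-/

set_option autoImplicit false
set_option linter.style.haveILetI false
set_option linter.unusedSectionVars false
set_option maxHeartbeats 1000000

namespace Cfsg.Agent.Transfer.Loc

open Subgroup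
open scoped commutatorElement Pointwise

universe u

variable {G : Type u} [Group G] [Finite G]

/-- The indices of the factors of a factorisation. -/
theorem complIn_relIndex {A B M : Subgroup G} (h : Cfsg.IsComplIn A B M) :
    A.relIndex M = Nat.card B ∧ B.relIndex M = Nat.card A :=
  ⟨Nat.eq_of_mul_eq_mul_left (Nat.card_pos (α := A)) ((Grp.card_mul_relIndex h.1).trans (complIn_card h).symm),
    Nat.eq_of_mul_eq_mul_left (Nat.card_pos (α := B))
      ((Grp.card_mul_relIndex h.2.1).trans ((complIn_card h).symm.trans (mul_comm _ _)))⟩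

/-- An element of order prime to the index lies in a normal subgroup. -/
theorem mem_of_coprime_index {X : Type*} [Group X] (N : Subgroup X) [N.Normal] {u : X}
    (h : (orderOf u).Coprime N.index) : u ∈ N := by
  rw [← QuotientGroup.eq_one_iff, ← orderOf_eq_one_iff]
  refine Nat.eq_one_of_dvd_coprimes h (orderOf_map_dvd (QuotientGroup.mk' N) u) ?_
  rw [Subgroup.index_eq_card]
  exact orderOf_dvd_natCard _

/-- An element of prime order in a subgroup with the same exponent. -/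
theorem exists_orderOf_of_exponent {X : Type*} [Group X] [Finite X] {U U₀ : Subgroup X}
    (h : Monoid.exponent U₀ = Monoid.exponent U) {l : ℕ} [hl : Fact l.Prime] (hd : l ∣ Nat.card U) :
    ∃ u : X, u ∈ U₀ ∧ orderOf u = l := by
  obtain ⟨w, hw⟩ := exists_prime_orderOf_dvd_card' (G := U) l hd
  have h1 : l ∣ Nat.card U₀ := (hw ▸ h ▸ Monoid.order_dvd_exponent w : l ∣ Monoid.exponent U₀).trans
    Group.exponent_dvd_nat_card
  obtain ⟨v, hv⟩ := exists_prime_orderOf_dvd_card' (G := U₀) l h1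
  exact ⟨v, v.2, by rw [Subgroup.orderOf_coe, hv]⟩

/-- In type `P` data the complement `U` is a Hall subgroup. -/
theorem typeP_coprime {M W₁ U W₂ : Subgroup G} (h : Cfsg.IsTypePWith M W₁ U W₂) :
    (Nat.card U).Coprime (U.relIndex M) := by
  obtain ⟨hH, hU⟩ := complIn_relIndex h.U_compl
  obtain ⟨hM', hW⟩ := complIn_relIndex h.W₁_compl
  have hF : (Nat.card (Cfsg.fittingHallOf M)).Coprime (Nat.card U) := by
    have h1 := TypeP.fittingHallOf_coprime M
    rw [← relIndex_mul_relIndex _ _ M h.U_compl.1 h.W₁_compl.1, hH] at h1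
    exact h1.coprime_dvd_right (dvd_mul_right _ _)
  rw [← relIndex_mul_relIndex U _ M h.U_compl.2.1 h.W₁_compl.1, hU, hM']
  exact Nat.Coprime.mul_right hF.symm
    ((hW ▸ h.W₁_hall).symm.coprime_dvd_left (card_dvd_of_le h.U_compl.2.1))

variable (hG : Cfsg.IsMinSimpleOddOrder G) {M : Subgroup G} (hM : IsCoatom M)
include hG hM

/-- A group of Frobenius type has empty `κ`. -/
theorem kappa_empty_of_typeF (h : Cfsg.IsOfTypeF M) : Cfsg.kappa M = ∅ := by
  haveI := solvable_of_ne_top hG hM.1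
  by_contra hne
  obtain ⟨l, hl⟩ := Set.nonempty_iff_ne_empty.2 hne
  haveI := Fact.mk hl.1
  obtain ⟨-, -, -, -, U, -, hcompl, -, U₀, -, hexp, hfree⟩ := h
  have hlF : ¬ l ∣ Nat.card (Cfsg.fittingHall M) := fun hd => hl.2.2.1 (fittingHallOf_primes hG hM
    (hd.trans (dvd_of_eq (Subgroup.card_map_of_injective M.subtype_injective).symm)))
  have hlU : l ∣ Nat.card U := by
    have h1 := hl.2.1
    rw [← hcompl.card_mul_card] at h1
    exact (hl.1.dvd_mul.1 h1).resolve_left hlF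
  obtain ⟨u, hu, huo⟩ := exists_orderOf_of_exponent hexp hlU
  have hu1 : u ≠ 1 := fun e => hl.1.ne_one (by rw [← huo, e, orderOf_one])
  obtain ⟨K, V, hKV⟩ := exists_decomp_of_max hG hM
  have hlK : l ∣ Nat.card K := by
    have h1 := hl.2.1
    rw [← Grp.card_mul_relIndex hKV.hall.1] at h1
    exact (hl.1.dvd_mul.1 h1).resolve_right (hKV.hall.2.2 l hl.1 hl)
  have hK1 : K ≠ ⊥ := fun e => hl.1.ne_one (by rwa [e, Subgroup.card_bot, Nat.dvd_one] at hlK)
  obtain ⟨-, hs1, hsF, -⟩ := Cfsg.Agent.S1364.result hG M hM K V hKV hK1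
  obtain ⟨y, hy, hy1⟩ := (bot_or_exists_ne_one _).resolve_left hs1
  obtain ⟨x, hx⟩ := exists_prime_orderOf_dvd_card' (G := K) l hlK
  obtain ⟨m, hm, e⟩ := prime_sub_conj hG (kappa_rank_one hG hM hl) (zpowers_le.2 (hKV.hall.1 x.2))
    (zpowers_le.2 u.2) (by rw [Nat.card_zpowers, Subgroup.orderOf_coe, hx])
    (by rw [Nat.card_zpowers, Subgroup.orderOf_coe, huo])
  obtain ⟨z, hz, hzu⟩ : ((u : G)) ∈ MulAut.conj m • zpowers (x : G) := e ▸ mem_zpowers _
  have hzy : y * z = z * y :=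
    (mem_centralizer_iff.1 hy.2 z ((zpowers_le.2 x.2 : zpowers (x : G) ≤ K) hz)).symm
  have hzF : m * y * m⁻¹ ∈ Cfsg.fittingHallOf M :=
    Grp.mem_conj_normalizer (le_normalizer_fittingHallOf M hm) (hsF hy)
  obtain ⟨w, hw, hwe⟩ := hzF
  have hw1 : w = 1 := hfree u hu hu1 w hw (Subtype.ext (by
    have hwe' : (w : G) = m * y * m⁻¹ := hwe
    have hzu' : m * z * m⁻¹ = (u : G) := hzu
    rw [Subgroup.coe_mul, Subgroup.coe_mul, hwe', ← hzu']
    calc m * z * m⁻¹ * (m * y * m⁻¹) = m * (z * y) * m⁻¹ := by group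
      _ = m * (y * z) * m⁻¹ := by rw [hzy]
      _ = m * y * m⁻¹ * (m * z * m⁻¹) := by group))
  subst hw1
  exact hy1 (conj_eq_one_iff.1 hwe.symm)

/-- A group of type `P` has nonempty `κ`. -/
theorem kappa_nonempty_of_typeP {W₁ U W₂ : Subgroup G} (h : Cfsg.IsTypePWith M W₁ U W₂) :
    (Cfsg.kappa M).Nonempty := by
  haveI := solvable_of_ne_top hG hM.1
  haveI := h.W₁_cyclic
  obtain ⟨l, hl, hld⟩ := Nat.exists_prime_and_dvd fun e => h.W₁_ne (Subgroup.card_eq_one.1 e)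
  haveI := Fact.mk hl
  obtain ⟨x, hx⟩ := exists_prime_orderOf_dvd_card' (G := W₁) l hld
  have hWM : W₁ ≤ M := h.W₁_compl.2.1
  have hi : ¬ l ∣ W₁.relIndex M := fun hd => hl.ne_one (Nat.eq_one_of_dvd_coprimes h.W₁_hall hld hd)
  have hσ : l ∉ Cfsg.sigma M := fun hσ => by
    obtain ⟨T, hT⟩ := Grp.exists_isSylowIn l M
    refine hi ?_
    rw [(complIn_relIndex h.W₁_compl).2]
    exact (dvd_card_of_pGroup hT.2.1 (sylow_ne_bot_of_dvd hT hσ.2.1)).trans
      (card_dvd_of_le (sylow_le_derived hG hM hσ hT))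
  have hr : Cfsg.PRankLE l 1 M := by
    by_contra hc
    obtain ⟨D, hDM, hD, hD2⟩ := exists_elem_of_not_prank hc
    obtain ⟨T, hT, hDT⟩ := exists_sylowIn_ge hDM (Grp.elemAb_isPGroup hD)
    obtain ⟨V, hV⟩ := Grp.exists_isSylowIn l W₁
    obtain ⟨k, -, hk⟩ := (sylowIn_trans hV hWM hi).conj hT
    haveI : IsCyclic V := Subgroup.isCyclic_of_le hV.1
    haveI : IsCyclic ↥(MulAut.conj k • V) :=
      isCyclic_of_surjective _ (Subgroup.equivSMul (MulAut.conj k) V).surjective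
    haveI : IsCyclic T := Subgroup.isCyclic_of_le hk.ge
    have h3 := card_le_prime_of_cyclic (Subgroup.isCyclic_of_le hDT) hD.2
    have h4 : l < l ^ (1 + 1) := by
      calc l = l ^ 1 := (pow_one l).symm
        _ < l ^ (1 + 1) := Nat.pow_lt_pow_right hl.one_lt (by norm_num)
    omega
  obtain ⟨y, hy, hy1⟩ := (bot_or_exists_ne_one _).resolve_left h.selfNormalizing.2.1
  refine ⟨l, kappa_of_fixed hG hM hσ hr (zpowers_le.2 (hWM x.2) : zpowers (x : G) ≤ M)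
    (by rw [Nat.card_zpowers, Subgroup.orderOf_coe, hx]) fun e => hy1 (mem_bot.1 (e ▸ ?_))⟩
  refine ⟨fittingHallOf_le_sigmaCore hG hM (h.W₂_le hy).1, mem_centralizer_iff.2 fun w hw => ?_⟩
  exact h.selfNormalizing.2.2.2.1 w ((zpowers_le.2 x.2 : zpowers (x : G) ≤ W₁) hw) y hy

variable {K U : Subgroup G} (hKU : Cfsg.IsSigmaDecomposition M K U)
include hKU

/-- The `κ`-part of type `P` data. -/
theorem kappa_ne_of_typeP {W₁ U' W₂ : Subgroup G} (h : Cfsg.IsTypePWith M W₁ U' W₂) : K ≠ ⊥ := fun e => by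
  obtain ⟨p, hp⟩ := kappa_nonempty_of_typeP hG hM h
  exact hKU.hall.2.2 p hp.1 hp (by rw [e, Subgroup.relIndex_bot_left]; exact hp.2.1)

/-- The factorisations of `M` and `M'`. -/
theorem derived_compl (hK1 : K ≠ ⊥) :
    Cfsg.IsComplIn (Cfsg.sigmaCore M) U ⁅M, M⁆ ∧ Cfsg.IsComplIn ⁅M, M⁆ K M ∧
      (Nat.card ↥⁅M, M⁆).Coprime (Nat.card K) ∧ (Nat.card (Cfsg.sigmaCore M)).Coprime (Nat.card U) := by
  obtain ⟨hder, -⟩ := Cfsg.Agent.S1365.result hG M hM K U hKU hK1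
  have hN : M ≤ normalizer (Cfsg.sigmaCore M : Set G) := TransHyp.le_normalizer_piCoreOf M
  have h1 : Cfsg.IsComplIn (Cfsg.sigmaCore M) U ⁅M, M⁆ := by
    rw [hder]
    refine ⟨le_sup_right, le_sup_left, le_bot_iff.1 ((inf_comm _ _).le.trans
      ((inf_le_inf_left U le_sup_right).trans hKU.compl.2.2.1.le)), fun m hm => ?_⟩
    rw [sup_comm, ← SetLike.mem_coe,
      Subgroup.coe_mul_of_right_le_normalizer_left _ U (hKU.compl.1.trans hN)] at hm
    obtain ⟨a, ha, b, hb, e⟩ := hm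
    exact ⟨a, ha, b, hb, e.symm⟩
  have hcopU : (Nat.card (Cfsg.sigmaCore M)).Coprime (Nat.card U) := Nat.coprime_of_dvd fun q hq h2 h3 =>
    decomp_U_prime hG hM hKU hq h3 (TransHyp.piCoreOf_primes (π := Cfsg.sigma M) (X := M) hq h2)
  have hcop : (Nat.card ↥⁅M, M⁆).Coprime (Nat.card K) := by
    rw [← complIn_card h1]
    refine Nat.coprime_of_dvd fun q hq h2 h3 => ?_
    rcases hq.dvd_mul.1 h2 with h | h
    · exact (hKU.hall.2.1 q hq h3).2.2.1 (TransHyp.piCoreOf_primes (π := Cfsg.sigma M) (X := M) hq h)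
    · exact (decomp_compl hG hM hKU).2.2 q hq h (hKU.hall.2.1 q hq h3)
  refine ⟨h1, ⟨M.commutator_le_self, hKU.hall.1, Grp.inf_eq_bot_of_coprime hcop, fun m hm => ?_⟩, hcop, hcopU⟩
  obtain ⟨u, hu, b, hb, rfl⟩ := hKU.compl.2.2.2 m hm
  rw [sup_comm, ← SetLike.mem_coe,
    Subgroup.coe_mul_of_right_le_normalizer_left _ K (hKU.hall.1.trans hN)] at hb
  obtain ⟨y, hy, k, hk, rfl⟩ := hb
  exact ⟨u * y, mul_mem (h1.2.1 hu) (h1.1 hy), k, hk, (mul_assoc u y k).symm⟩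

/-- The type `P` data of a factorisation with `K ≠ 1`. -/
theorem isTypePWith_of (hK1 : K ≠ ⊥) {V : Subgroup G} (hVn : Group.IsNilpotent V)
    (hKV : K ≤ normalizer (V : Set G)) (hV : Cfsg.IsComplIn (Cfsg.fittingHallOf M) V ⁅M, M⁆) :
    Cfsg.IsTypePWith M K V (kStar M K) := by
  obtain ⟨h1, h2, hcop, -⟩ := derived_compl hG hM hKU hK1
  obtain ⟨-, hs1, hsF, hFc⟩ := Cfsg.Agent.S1364.result hG M hM K U hKU hK1
  obtain ⟨-, hsD⟩ := Cfsg.Agent.S1365.result hG M hM K U hKU hK1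
  obtain ⟨hd2, hFe, hFle⟩ := Cfsg.Agent.S1356.result hG M hM
  obtain ⟨Ms, hp⟩ := exists_kappaPair hG hM hKU.hall hK1
  have hκ : (Cfsg.kappa M).Nonempty := by
    obtain ⟨p, hpp, hpd⟩ := Nat.exists_prime_and_dvd fun e => hK1 (Subgroup.card_eq_one.1 e)
    exact ⟨p, hKU.hall.2.1 p hpp hpd⟩
  have hsM' : kStar M K ≤ ⁅M, M⁆ := hsD.trans ⁅M, M⁆.commutator_le_self
  refine ⟨hK1, hKU.cyclic, ?_, h2, hVn, hKV, hV, hFc, ?_, ?_, hFle hκ, le_inf hsF hsD, fun x hx hx1 => ?_, ?_⟩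
  · rw [(complIn_relIndex h2).2]; exact hcop.symm
  · exact hd2.trans (hFe.trans (sup_comm _ _)).le
  · exact (sup_comm _ _).trans hFe.symm
  · refine le_antisymm (fun a ha => ?_) (le_inf hsM' ?_)
    · have h3 : a ∈ K ⊔ kStar M K := hp.inf_centralizer hx hx1 ▸ ⟨M.commutator_le_self ha.1, ha.2⟩
      rw [← SetLike.mem_coe, Subgroup.coe_mul_of_left_le_normalizer_right K _
        ((le_centralizer_iff.1 inf_le_right).trans (centralizer_le_normalizer _))] at h3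
      obtain ⟨k, hk, s, hs, rfl⟩ := h3
      have h4 : k ∈ ⁅M, M⁆ ⊓ K := ⟨(⁅M, M⁆.mul_mem_cancel_right (hsM' hs)).1 ha.1, hk⟩
      rw [h2.2.2.1, mem_bot] at h4
      subst h4
      simpa using hs
    · exact inf_le_right.trans (centralizer_le (Set.singleton_subset_iff.2 hx))
  · refine ⟨hK1, hs1, Grp.inf_eq_bot_of_coprime (hcop.symm.coprime_dvd_right (card_dvd_of_le hsM')),
      fun a ha b hb => mem_centralizer_iff.1 hb.2 a ha, hp.isCyclic, fun X hX hne => ?_⟩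
    haveI := hp.isCyclic
    letI : CommGroup ↥(K ⊔ kStar M K) := IsCyclic.commGroup
    have hcm : ∀ g ∈ K ⊔ kStar M K, ∀ z ∈ K ⊔ kStar M K, g * z * g⁻¹ = z := fun g hg z hz => by
      rw [show g * z = z * g from congrArg Subtype.val (mul_comm (⟨g, hg⟩ : ↥(K ⊔ kStar M K)) ⟨z, hz⟩),
        mul_inv_cancel_right]
    refine le_antisymm (fun g hg => ?_) fun g hg => Subgroup.mem_set_normalizer_iff.2 fun z =>
      ⟨fun hz => by rwa [hcm g hg z (hX hz).1], fun hz => ?_⟩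
    · obtain ⟨z, hz⟩ := hne
      exact hp.ti (hX hz) (hX ((Subgroup.mem_set_normalizer_iff.1 hg z).1 hz)).1
    · have hzZ : z ∈ K ⊔ kStar M K := by
        have h3 := mul_mem (mul_mem (inv_mem hg) (hX hz).1) hg
        rwa [show g⁻¹ * (g * z * g⁻¹) * g = z by group] at h3
      rwa [hcm g hg z hzZ] at hz

/-- The derived subgroup in type II. -/
theorem typeF_derived (hK1 : K ≠ ⊥) (hU1 : U ≠ ⊥) :
    Cfsg.IsOfTypeF ↥⁅M, M⁆ ∧ Cfsg.fittingHallOf ⁅M, M⁆ = Cfsg.sigmaCore M := by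
  haveI := solvable_of_ne_top hG hM.1
  obtain ⟨h1, -, -, hcop⟩ := derived_compl hG hM hKU hK1
  obtain ⟨U₀, hU₀, hexp, hfree⟩ := Cfsg.Agent.S1360.result hG M hM K U hKU
  have hnil := sigmaCore_nilpotent_of_decomp hG hM hKU hU1
  obtain ⟨hab, -⟩ := Cfsg.Agent.S1363.result hG M hM K U hKU hK1
  have hUM' : U ≤ ⁅M, M⁆ := h1.2.1
  have hσF : Cfsg.sigmaCore M ≤ Cfsg.fittingHallOf ⁅M, M⁆ := le_fittingHallOf h1.1
    (M.commutator_le_self.trans (TransHyp.le_normalizer_piCoreOf M)) hnil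
    ((complIn_relIndex h1).1.symm ▸ hcop)
  have hfix : ∀ u ∈ U₀, u ≠ 1 → ∀ y ∈ Cfsg.sigmaCore M, u * y = y * u → y = 1 := fun u hu hu1 y hy hc => by
    by_contra hy1
    exact hu1 (hfree u hu ⟨hKU.compl.1 (hU₀ hu), y, hy, hy1, hc⟩)
  have hFU : (Nat.card (Cfsg.fittingHallOf ⁅M, M⁆)).Coprime (Nat.card U) := by
    refine Nat.coprime_of_dvd fun r hr hrF hrU => ?_
    haveI := Fact.mk hr
    obtain ⟨u, hu, huo⟩ := exists_orderOf_of_exponent hexp hrU
    have huM' : u ∈ ⁅M, M⁆ := hUM' (hU₀ hu)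
    have huF : u ∈ Cfsg.fittingHallOf ⁅M, M⁆ := by
      refine ⟨⟨u, huM'⟩, mem_of_coprime_index _ ?_, rfl⟩
      rw [Subgroup.orderOf_mk, huo]
      refine hr.coprime_iff_not_dvd.2 fun hd => hr.ne_one
        (Nat.eq_one_of_dvd_coprimes (TypeP.fittingHall_coprime _) ?_ hd)
      exact (Subgroup.card_map_of_injective ⁅M, M⁆.subtype_injective) ▸ hrF
    obtain ⟨y, hy, hy1⟩ := (bot_or_exists_ne_one _).resolve_left (sigmaCore_ne_bot hG hM)
    refine hy1 (hfix u hu (fun e => hr.ne_one (by rw [← huo, e, orderOf_one])) y hy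
      (TypeP.commute_of_coprime_orderOf (fittingHallOf_nilpotent _) huF (hσF hy) ?_))
    rw [huo]
    exact (hr.coprime_iff_not_dvd.2 fun hd => hr.ne_one
      (Nat.eq_one_of_dvd_coprimes hcop (hd.trans (Subgroup.orderOf_dvd_natCard _ hy)) hrU))
  have hFeq : Cfsg.fittingHallOf ⁅M, M⁆ = Cfsg.sigmaCore M := by
    refine (Subgroup.eq_of_le_of_card_ge hσF (Nat.le_of_dvd Nat.card_pos (hFU.dvd_of_dvd_mul_right ?_))).symm
    rw [complIn_card h1]
    exact card_dvd_of_le (fittingHallOf_le _)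
  have hFeq' : Cfsg.fittingHall ↥⁅M, M⁆ = (Cfsg.sigmaCore M).subgroupOf ⁅M, M⁆ := by
    refine Subgroup.map_injective ⁅M, M⁆.subtype_injective ?_
    rw [Subgroup.map_subgroupOf_eq_of_le h1.1]
    exact hFeq
  haveI : Group.IsSolvable ↥⁅M, M⁆ := isSolvable_of_le M.commutator_le_self
  refine ⟨⟨inferInstance, hG.1.of_dvd_nat (card_subgroup_dvd_card _), fun e => sigmaCore_ne_bot hG hM ?_,
    fun e => hU1 ?_, U.subgroupOf ⁅M, M⁆, fun e => hU1 ?_, ?_, ?_, ?_⟩, hFeq⟩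
  · rw [← hFeq]
    exact (congrArg (Subgroup.map ⁅M, M⁆.subtype) e).trans (Subgroup.map_bot _)
  · refine le_bot_iff.1 ((le_inf ?_ le_rfl).trans h1.2.2.1.le)
    rw [hFeq'] at e
    exact hUM'.trans (Subgroup.subgroupOf_eq_top.1 e)
  · rw [← Subgroup.map_subgroupOf_eq_of_le hUM', e, Subgroup.map_bot]
  · rw [hFeq']
    refine Subgroup.isComplement'_of_coprime ?_ ?_ <;>
      simp only [Nat.card_congr (subgroupOfEquivOfLe h1.1).toEquiv, Nat.card_congr (subgroupOfEquivOfLe hUM').toEquiv]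
    · exact complIn_card h1
    · exact hcop
  · haveI := hab
    exact ⟨U.subgroupOf ⁅M, M⁆, le_rfl, le_normalizer,
      ⟨⟨fun a b => Subtype.ext (Subtype.ext (congrArg Subtype.val
        (hab.is_comm.comm (⟨_, a.2⟩ : U) ⟨_, b.2⟩) :))⟩⟩, fun _ _ _ => inf_le_left⟩
  · refine ⟨U₀.subgroupOf ⁅M, M⁆, Subgroup.comap_mono hU₀, ?_, fun u hu hu1 x hx hc => ?_⟩
    · rw [Monoid.exponent_eq_of_mulEquiv (subgroupOfEquivOfLe (hU₀.trans hUM')),
        Monoid.exponent_eq_of_mulEquiv (subgroupOfEquivOfLe hUM'), hexp]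
    · rw [hFeq'] at hx
      exact Subtype.ext (hfix u hu (fun e => hu1 (Subtype.ext e)) x hx (congrArg Subtype.val hc :))

omit hKU in
/-- Normalisers of nilpotent Hall subgroups inside `M_σ`. -/
theorem hall_normalizer_le {V : Subgroup G} (hV : V ≤ Cfsg.sigmaCore M) (hnil : Group.IsNilpotent V)
    (hV1 : V ≠ ⊥) (hcop : (Nat.card V).Coprime (V.relIndex M)) : normalizer (V : Set G) ≤ M := by
  obtain ⟨r, hr, hrd⟩ := Nat.exists_prime_and_dvd fun e => hV1 (Subgroup.card_eq_one.1 e)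
  haveI := Fact.mk hr
  obtain ⟨T, hT⟩ := Grp.exists_isSylowIn r V
  have hσ : r ∈ Cfsg.sigma M :=
    TransHyp.piCoreOf_primes (π := Cfsg.sigma M) (X := M) hr (hrd.trans (card_dvd_of_le hV))
  exact (normalizer_le_sylow hnil hT).trans (sigma_sylow hG hM hσ (sylowIn_trans hT
    (hV.trans (TransHyp.piCoreOf_le M)) fun hd => hr.ne_one (Nat.eq_one_of_dvd_coprimes hcop hrd hd))).1

/-- `M_F = M_σ` unless `U = 1`. -/
theorem fittingHallOf_of_U (hU1 : U ≠ ⊥) : Cfsg.fittingHallOf M = Cfsg.sigmaCore M :=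
  fittingHallOf_eq_sigmaCore hG hM (sigmaCore_nilpotent_of_decomp hG hM hKU hU1)

/-- Type II. -/
theorem typeII_iff : Cfsg.IsOfTypeII M ↔ (K ≠ ⊥ ∧ U ≠ ⊥) := by
  constructor
  · rintro ⟨W₁, V, W₂, h, hV1, -, -, -, hVN, -, -⟩
    have hK1 := kappa_ne_of_typeP hG hM hKU h
    refine ⟨hK1, fun hU => hVN ?_⟩
    have hder : ⁅M, M⁆ = Cfsg.sigmaCore M := by
      rw [(Cfsg.Agent.S1365.result hG M hM K U hKU hK1).1, hU, bot_sup_eq]
    exact hall_normalizer_le hG hM (h.U_compl.2.1.trans hder.le) h.U_nilpotent hV1 (typeP_coprime h)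
  · rintro ⟨hK1, hU1⟩
    have hF := fittingHallOf_of_U hG hM hKU hU1
    obtain ⟨hab, hN⟩ := Cfsg.Agent.S1363.result hG M hM K U hKU hK1
    obtain ⟨hp, hTI, -⟩ := Cfsg.Agent.S1372.result hG M hM K U hKU hK1 hU1
    obtain ⟨hTF, hF'⟩ := typeF_derived hG hM hKU hK1 hU1
    exact ⟨K, U, kStar M K, isTypePWith_of hG hM hKU hK1 (isNilpotent_of_comm hab) hKU.normal
      (hF ▸ (derived_compl hG hM hKU hK1).1), hU1, hp, hTI, hab, hN, hTF, hF'.trans hF.symm⟩

/-- A `K`-invariant nilpotent complement of `M_F` when `M_F ≠ M_σ`. -/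
theorem exists_compl_fitting (hK1 : K ≠ ⊥) (hne : Cfsg.fittingHallOf M ≠ Cfsg.sigmaCore M) :
    ∃ D : Subgroup G, Group.IsNilpotent D ∧ K ≤ normalizer (D : Set G) ∧
      Cfsg.IsComplIn (Cfsg.fittingHallOf M) D ⁅M, M⁆ ∧ D ≠ ⊥ ∧ normalizer (D : Set G) ≤ M := by
  obtain ⟨-, hder, -, hqp, hqH, -, Q, hQF, hMQ, hQp, hQi, hQD⟩ :=
    Cfsg.Agent.S1437.result hG M hM K U hKU hne
  rw [← hder]
  haveI := solvable_of_ne_top hG hM.1
  have hFS : Cfsg.fittingHallOf M ≤ Cfsg.sigmaCore M := fittingHallOf_le_sigmaCore hG hM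
  have hSM : Cfsg.sigmaCore M ≤ M := TransHyp.piCoreOf_le M
  have hMS : M ≤ normalizer (Cfsg.sigmaCore M : Set G) := TransHyp.le_normalizer_piCoreOf M
  haveI : Group.IsSolvable (Cfsg.sigmaCore M) := isSolvable_of_le hSM
  set H := Cfsg.fittingHallOf M with hH
  set S := Cfsg.sigmaCore M with hS
  have hcopF : (Nat.card H).Coprime (H.relIndex M) := TypeP.fittingHallOf_coprime M
  have hKS : (Nat.card K).Coprime (Nat.card S) := (kStar_facts hG hM hKU.hall).2.2.2.1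
  obtain ⟨D, hD, hKD, -⟩ := Grp.PiHall.exists_ge (π := {t : ℕ | ¬ t ∣ Nat.card H}) _ G K S ⊥ rfl
    (hKU.hall.1.trans hMS) hKS inferInstance bot_le
    (fun g _ => Grp.mem_normalizer_iff_smul.2 (Subgroup.smul_bot _))
    (fun t ht hd => by rw [Subgroup.card_bot, Nat.dvd_one] at hd; exact absurd hd ht.ne_one)
  have hHD : (Nat.card H).Coprime (Nat.card D) := Nat.coprime_of_dvd fun t ht h1 h2 => hD.2.1 t ht h2 h1
  have hsup : S ≤ H ⊔ D := by
    refine Grp.le_of_forall_sylow (sup_le hFS hD.1) fun t ht => ?_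
    by_cases htH : t ∣ Nat.card H
    · obtain ⟨V, hV⟩ := Grp.exists_isSylowIn t H
      refine ⟨V, sylowIn_trans hV hFS fun hd => ?_, hV.1.trans le_sup_left⟩
      refine ht.out.ne_one (Nat.eq_one_of_dvd_coprimes hcopF htH ?_)
      rw [← relIndex_mul_relIndex H S M hFS hSM]
      exact hd.trans (dvd_mul_right _ _)
    · obtain ⟨V, hV⟩ := Grp.exists_isSylowIn t D
      exact ⟨V, sylowIn_trans hV hD.1 (hD.2.2 t ht.out htH), hV.1.trans le_sup_right⟩
  have hcompl : Cfsg.IsComplIn H D S := ⟨hFS, hD.1, Grp.inf_eq_bot_of_coprime hHD, fun m hm => by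
    have h1 := hsup hm
    rw [← SetLike.mem_coe, Subgroup.coe_mul_of_right_le_normalizer_left H D
      ((hD.1.trans hSM).trans (le_normalizer_fittingHallOf M))] at h1
    obtain ⟨a, ha, b, hb, e⟩ := h1
    exact ⟨a, ha, b, hb, e.symm⟩⟩
  have hD1 : D ≠ ⊥ := fun e => hne (le_antisymm hFS (hsup.trans (by rw [e, sup_bot_eq])))
  haveI := Fact.mk hqp
  set q := Nat.card ↥(S ⊓ centralizer (K : Set G))
  obtain ⟨D₁, hD₁, -, hDD₁⟩ := Grp.PiHall.exists_ge (π := ({q} : Set ℕ)ᶜ) _ G ⊥ S D rfl bot_le (by simp)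
    inferInstance hD.1 bot_le fun t ht hd e => hD.2.1 t ht hd (Set.mem_singleton_iff.1 e ▸ hqH)
  have hQS : Q ≤ S := hQF.trans hFS
  have hcopQD : (Nat.card Q).Coprime (Nat.card D₁) := by
    obtain ⟨i, hi⟩ := IsPGroup.iff_card.1 hQp
    rw [hi]
    exact (hqp.coprime_iff_not_dvd.2 fun hd => hD₁.2.1 q hqp hd rfl).pow_left i
  have hsup₁ : S ≤ Q ⊔ D₁ := by
    refine Grp.le_of_forall_sylow (sup_le hQS hD₁.1) fun t ht => ?_
    by_cases htr : t = q
    · subst htr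
      exact ⟨Q, ⟨hQS, hQp, hQi⟩, le_sup_left⟩
    · obtain ⟨V, hV⟩ := Grp.exists_isSylowIn t D₁
      exact ⟨V, sylowIn_trans hV hD₁.1 (hD₁.2.2 t ht.out htr), hV.1.trans le_sup_right⟩
  have hcompl₁ : Cfsg.IsComplIn Q D₁ S := ⟨hQS, hD₁.1, Grp.inf_eq_bot_of_coprime hcopQD, fun m hm => by
    have h1 := hsup₁ hm
    rw [← SetLike.mem_coe, Subgroup.coe_mul_of_right_le_normalizer_left Q D₁
      ((hD₁.1.trans hSM).trans hMQ)] at h1
    obtain ⟨a, ha, b, hb, e⟩ := h1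
    exact ⟨a, ha, b, hb, e.symm⟩⟩
  haveI := (hQD D₁ hcompl₁).1
  have hDn : Group.IsNilpotent D := Grp.isNilpotent_of_le hDD₁ inferInstance
  refine ⟨D, hDn, hKD, hcompl, hD1, hall_normalizer_le hG hM hD.1 hDn hD1 ?_⟩
  obtain ⟨hHi, hDi⟩ := complIn_relIndex hcompl
  rw [← relIndex_mul_relIndex D S M hD.1 hSM, hDi]
  refine Nat.Coprime.mul_right hHD.symm (Nat.coprime_of_dvd fun t ht h1 h2 => ?_)
  exact (isPiHallOf_piCore hG hM (alpha_subset_sigma hG hM) Set.Subset.rfl).2.2 t ht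
    (TransHyp.piCoreOf_primes (π := Cfsg.sigma M) (X := M) ht (h1.trans (card_dvd_of_le hD.1))) h2

/-- Types III and IV. -/
theorem typeIII_IV_iff :
    (Cfsg.IsOfTypeIII M ∨ Cfsg.IsOfTypeIV M) ↔
      (K ≠ ⊥ ∧ U = ⊥ ∧ Cfsg.fittingHallOf M ≠ Cfsg.sigmaCore M) := by
  haveI := solvable_of_ne_top hG hM.1
  constructor
  · intro hor
    obtain ⟨W₁, V, W₂, h, hV1, hVN⟩ : ∃ W₁ V W₂ : Subgroup G, Cfsg.IsTypePWith M W₁ V W₂ ∧ V ≠ ⊥ ∧
        normalizer (V : Set G) ≤ M := by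
      rcases hor with ⟨W₁, V, W₂, h, h1, -, -, -, h2⟩ | ⟨W₁, V, W₂, h, h1, -, -, -, h2⟩ <;>
        exact ⟨W₁, V, W₂, h, h1, h2⟩
    have hK1 := kappa_ne_of_typeP hG hM hKU h
    obtain ⟨hc, -, -, hcop⟩ := derived_compl hG hM hKU hK1
    have hU : U = ⊥ := by
      by_contra hU1
      have hF := fittingHallOf_of_U hG hM hKU hU1
      have hVc := h.U_compl
      rw [hF] at hVc
      have hall : ∀ X : Subgroup G, Cfsg.IsComplIn (Cfsg.sigmaCore M) X ⁅M, M⁆ →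
          (Nat.card (Cfsg.sigmaCore M)).Coprime (Nat.card X) →
          Cfsg.IsPiHallOf {t : ℕ | ¬ t ∣ Nat.card (Cfsg.sigmaCore M)} X ⁅M, M⁆ := fun X hX hXc =>
        ⟨hX.2.1, fun t ht hd h1 => ht.ne_one (Nat.eq_one_of_dvd_coprimes hXc h1 hd),
          fun t _ hπ hd => hπ ((complIn_relIndex hX).2 ▸ hd)⟩
      haveI : Group.IsSolvable ↥⁅M, M⁆ := isSolvable_of_le M.commutator_le_self
      obtain ⟨g, hg, e⟩ := Grp.PiHall.conj_eq (hall V hVc (by
        have h1 := (typeP_coprime h).symm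
        rw [← relIndex_mul_relIndex V _ M hVc.2.1 M.commutator_le_self, (complIn_relIndex hVc).2] at h1
        exact h1.coprime_dvd_left (dvd_mul_right _ _))) (hall U hc hcop)
      refine (Cfsg.Agent.S1363.result hG M hM K U hKU hK1).2 fun n hn => ?_
      have hgM : g ∈ M := M.commutator_le_self hg
      have h1 : g⁻¹ * n * g ∈ M := hVN (by
        rw [Grp.mem_normalizer_iff_smul, ← Grp.conj_smul_conj_smul, ← Grp.conj_smul_conj_smul, e,
          Grp.mem_normalizer_iff_smul.1 hn, ← e, Grp.conj_smul_conj_smul, inv_mul_cancel, map_one, one_smul])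
      have h2 := M.mul_mem (M.mul_mem hgM h1) (M.inv_mem hgM)
      rwa [show g * (g⁻¹ * n * g) * g⁻¹ = n by group] at h2
    refine ⟨hK1, hU, fun hF => hV1 (le_bot_iff.1 ((le_inf ?_ le_rfl).trans h.U_compl.2.2.1.le))⟩
    rw [hF]
    refine h.U_compl.2.1.trans (le_of_eq ?_)
    rw [(Cfsg.Agent.S1365.result hG M hM K U hKU hK1).1, hU, bot_sup_eq]
  · rintro ⟨hK1, -, hne⟩
    obtain ⟨D, hDn, hKD, hDc, hD1, hDN⟩ := exists_compl_fitting hG hM hKU hK1 hne
    obtain ⟨-, hTI, hp⟩ := Cfsg.Agent.S1357.result hG M hM K U hKU hne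
    have h := isTypePWith_of hG hM hKU hK1 hDn hKD hDc
    by_cases hab : IsMulCommutative D
    · exact Or.inl ⟨K, D, kStar M K, h, hD1, hp, hTI, hab, hDN⟩
    · exact Or.inr ⟨K, D, kStar M K, h, hD1, hp, hTI, hab, hDN⟩

omit hKU in
/-- `M_s = M_σ`. -/
theorem typeCore_eq : Cfsg.typeCore M = Cfsg.sigmaCore M := by
  obtain ⟨K, U, hKU⟩ := exists_decomp_of_max hG hM
  unfold Cfsg.typeCore
  split_ifs with h
  · obtain ⟨hK1, hU, -⟩ := (typeIII_IV_iff hG hM hKU).1 h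
    rw [(Cfsg.Agent.S1365.result hG M hM K U hKU hK1).1, hU, bot_sup_eq]
  · by_contra hne
    obtain ⟨hU, -, hp⟩ := Cfsg.Agent.S1357.result hG M hM K U hKU hne
    exact h ((typeIII_IV_iff hG hM hKU).2 ⟨fun e => hp.ne_one (by rw [e, Subgroup.card_bot]), hU, hne⟩)

end Cfsg.Agent.Transfer.Loc
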