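import Cfsg.Agent.Lib.Transfer.Local.CoreFitting
import Cfsg.Agent.Lib.Transfer.NormalComplement
import Cfsg.Agent.S1414

/-!
`σ(M) = β(M)` when `K ≠ 1` and `U ≠ 1`, and the meets of `F(M)` with its conjugates.
-/

set_option autoImplicit false
set_option linter.style.haveILetI false
set_option linter.unusedSectionVars false
set_option maxHeartbeats 1000000

namespace Cfsg.Agent.Transfer.Loc

open Subgroup
open scoped commutatorElement Pointwise

universe u

variable {G : Type u} [Group G] [Finite G] (hG : Cfsg.IsMinSimpleOddOrder G) {M : Subgroup G} (hM : IsCoatom M)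
include hG hM

/-- With `K ≠ 1` and `U ≠ 1` every prime of `M_σ` lies in `β(M)`. -/
theorem beta_of_decomp {K U : Subgroup G} (hKU : Cfsg.IsSigmaDecomposition M K U) (hK1 : K ≠ ⊥) (hU1 : U ≠ ⊥)
    {q : ℕ} [hq : Fact q.Prime] (hd : q ∣ Nat.card (Cfsg.sigmaCore M)) : q ∈ Cfsg.beta M := by
  by_contra hβ
  haveI := solvable_of_ne_top hG hM.1
  obtain ⟨hE, hcK, hU⟩ := decomp_compl hG hM hKU
  set S := Cfsg.sigmaCore M with hS
  have hnil := sigmaCore_nilpotent_of_decomp hG hM hKU hU1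
  have hSF : S ≤ Cfsg.fittingOf M :=
    le_fittingOf (TransHyp.piCoreOf_le M) (TransHyp.le_normalizer_piCoreOf M) hnil
  have hqσ : q ∈ Cfsg.sigma M := TransHyp.piCoreOf_primes (π := Cfsg.sigma M) (X := M) hq.out hd
  have hnc := ((Cfsg.Agent.S1414.result hG M hM).2.2.2.2 q hq.out
    (hd.trans (card_dvd_of_le hE.2.1)) hβ).1
  obtain ⟨a, ha⟩ := exists_prime_orderOf_dvd_card' q hd
  have hao : orderOf (a : G) = q := by rw [Subgroup.orderOf_coe, ha]
  have ha1 : (a : G) ≠ 1 := fun e => hq.out.ne_one (by rw [← hao, e, orderOf_one])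
  have haO : (a : G) ∈ O q M :=
    mem_O_of_mem_fittingOf (hSF a.2) (k := 1) (by rw [pow_one, ← hao]; exact pow_orderOf_eq_one _)
  have hOM : M ≤ normalizer (O q M : Set G) := le_normalizer_core' M
  have hUM' : U ≤ ⁅M, M⁆ := (derived_eq_of_decomp hG hM hKU hK1).ge.trans' le_sup_left
  -- `U` centralises `a`
  have hUa : ∀ u ∈ U, u * a = a * u := fun u hu => by
    have huq : (orderOf u).Coprime q := (hq.out.coprime_iff_not_dvd.2 fun h =>
      decomp_U_prime hG hM hKU hq.out (h.trans (Subgroup.orderOf_dvd_natCard _ hu)) hqσ).symm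
    have haM' : (a : G) ∈ ⁅M, M⁆ := sigmaCore_le_derived hG hM a.2
    have h1 : (⟨u, hUM' hu⟩ : ↥⁅M, M⁆) ∈ pResidual q ↥⁅M, M⁆ :=
      mem_pResidual_of_coprime (by rwa [Subgroup.orderOf_mk])
    have h2 : (⁅(⟨u, hUM' hu⟩ : ↥⁅M, M⁆), ⟨a, haM'⟩⁆) ∈ pResidual q ↥⁅M, M⁆ := by
      have hn : (pResidual q ↥⁅M, M⁆).Normal := inferInstance
      have h2 := mul_mem h1 (hn.conj_mem _ (inv_mem h1) ⟨(a : G), haM'⟩)
      simpa only [commutatorElement_def, mul_assoc] using h2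
    have h3 := (mem_pResidual_iff hnc).1 h2
    rw [← Subgroup.orderOf_coe] at h3
    change (orderOf ⁅u, (a : G)⁆).Coprime q at h3
    have h4 : ⁅u, (a : G)⁆ ∈ O q M := by
      rw [commutatorElement_def]
      exact mul_mem (Grp.mem_conj_normalizer (hOM (hE.1 (mem_sup_left hu))) haO) (inv_mem haO)
    obtain ⟨n, hn⟩ := O_isPGroup q M ⟨_, h4⟩
    have h5 : orderOf ⁅u, (a : G)⁆ ∣ q ^ n := orderOf_dvd_of_pow_eq_one (by simpa using congrArg Subtype.val hn)
    have h6 : ⁅u, (a : G)⁆ = 1 := orderOf_eq_one_iff.1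
      (Nat.eq_one_of_dvd_coprimes (h3.pow_right n) dvd_rfl h5)
    exact commutatorElement_eq_one_iff_mul_comm.1 h6
  obtain ⟨p, hp, hpU⟩ := Nat.exists_prime_and_dvd fun e => hU1 (Subgroup.card_eq_one.1 e)
  haveI := Fact.mk hp
  have hσ := decomp_U_prime hG hM hKU hp hpU
  by_cases hr : Cfsg.PRankLE p 1 M
  · obtain ⟨x, hx⟩ := exists_prime_orderOf_dvd_card' p hpU
    refine hU p hp hpU (kappa_of_fixed hG hM hσ hr (zpowers_le.2 (hKU.compl.1 x.2))
      (by rw [Nat.card_zpowers, Subgroup.orderOf_coe, hx]) fun e => ha1 ?_)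
    have : (a : G) ∈ (⊥ : Subgroup G) := e ▸ ⟨a.2, mem_centralizer_iff.2 fun b hb => by
      obtain ⟨i, rfl⟩ := hb
      exact ((show Commute (x : G) a from hUa x x.2).zpow_left i).eq⟩
    simpa using this
  · have hτ := tau2_of_not_rank_one hG hM hσ hr
    obtain ⟨V, hV⟩ := Grp.exists_isSylowIn p (U ⊔ K)
    obtain ⟨A, hAV, hA, hA2⟩ := tau2_plane hG hM hE hτ hV
    have hidx : U.relIndex (U ⊔ K) = Nat.card K :=
      Nat.eq_of_mul_eq_mul_left (Nat.card_pos (α := U)) ((Grp.card_mul_relIndex le_sup_left).trans hcK)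
    have hAU : A ≤ U := fun b hb => by
      refine Grp.HallSys.mem_of_coprime_relIndex (sup_le le_normalizer hKU.normal) (hV.1 (hAV hb)) ?_
      refine Nat.Coprime.coprime_dvd_left (orderOf_dvd_of_pow_eq_one (hA.2 b hb)) ?_
      rw [hidx]
      exact hp.coprime_iff_not_dvd.2 fun h => hU p hp hpU (hKU.hall.2.1 p hp h)
    have h0 := (Cfsg.Agent.S1417.result hG M hM p hτ A ⟨(hAV.trans hV.1).trans hE.1, hA, hA2⟩).2.2.2.1
    refine ha1 (?_ : (a : G) = 1)
    have : (a : G) ∈ (⊥ : Subgroup G) := h0 ▸ ⟨a.2, mem_centralizer_iff.2 fun b hb => hUa b (hAU hb)⟩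
    simpa using this

/-- An element of prime order of `F(M)` with a conjugate under `g ∉ M` in `F(M)` is a `σ`-, not a `β`-element. -/
theorem fitting_meet_prime {g z : G} (hg : g ∉ M) {p : ℕ} [hp : Fact p.Prime] (hz : z ∈ Cfsg.fittingOf M)
    (hzo : orderOf z = p) (hgz : g * z * g⁻¹ ∈ Cfsg.fittingOf M) :
    p ∈ Cfsg.sigma M ∧ p ∉ Cfsg.beta M ∧ z ∈ Cfsg.sigmaCore M := by
  set F := Cfsg.fittingOf M
  have hzpow : z ^ p ^ 1 = 1 := by rw [pow_one, ← hzo]; exact pow_orderOf_eq_one _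
  have hzc : Nat.card (zpowers z) = p := by rw [Nat.card_zpowers, hzo]
  have hwo : orderOf (g * z * g⁻¹) = p := by rw [← hzo]; exact MulEquiv.orderOf_eq (MulAut.conj g) z
  have hσ : p ∈ Cfsg.sigma M := by
    by_contra hσ
    obtain ⟨hYc, -, -⟩ := Cfsg.Agent.S1439.result hG M hM
    set π := {q | q.Prime ∧ q ∉ Cfsg.sigma M}
    set Y := Cfsg.piCoreOf π F
    have key : ∀ w ∈ F, orderOf w = p → w ∈ Y := fun w hw hwo => by
      have h1 : O p M ≤ Y := TransHyp.le_piCoreOf (O_le_fittingOf M)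
        ((fittingOf_le M).trans (le_normalizer_core' M)) fun q hq hqd => ⟨hq, by
          obtain ⟨n, hn⟩ := IsPGroup.iff_card.1 (O_isPGroup p M)
          rw [hn] at hqd
          rwa [(Nat.prime_dvd_prime_iff_eq hq hp.out).1 (hq.dvd_of_dvd_pow hqd)]⟩
      exact h1 (mem_O_of_mem_fittingOf hw (k := 1) (by rw [pow_one, ← hwo]; exact pow_orderOf_eq_one _))
    have hzY := key z hz hzo
    have hwY := key _ hgz hwo
    have heq : zpowers (g * z * g⁻¹) = zpowers z := eq_of_card_cyclic hYc (zpowers_le.2 hwY) (zpowers_le.2 hzY)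
      (by rw [Nat.card_zpowers, hwo, hzc])
    have hMY : M ≤ normalizer (Y : Set G) := le_normalizer_core (le_normalizer_fittingOf M)
    have hMz : M ≤ normalizer (zpowers z : Set G) := fun m hm => by
      rw [Grp.mem_normalizer_iff_smul]
      exact eq_of_card_cyclic hYc ((Subgroup.pointwise_smul_le_pointwise_smul_iff.2 (zpowers_le.2 hzY)).trans
        (Grp.mem_normalizer_iff_smul.1 (hMY hm)).le) (zpowers_le.2 hzY) (Grp.card_conj_smul _ _)
    have hN := normalizer_eq_of_coatom hG hM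
      (fun e => hp.out.ne_one (by rw [← hzc, e, Subgroup.card_bot]))
      (fun e => hM.1 (top_le_iff.1 (e ▸ zpowers_le.2 (fittingOf_le M hz)))) hMz
    refine hg (hN ▸ ?_)
    rw [Grp.mem_normalizer_iff_smul, ← Grp.map_conj_eq_smul, MonoidHom.map_zpowers]
    exact heq
  have hzM : z ∈ M := fittingOf_le M hz
  have hzS : z ∈ Cfsg.sigmaCore M := mem_sigmaCore_of_pi hG hM hzM fun q hq hd => by
    rw [hzo, Nat.prime_dvd_prime_iff_eq hq hp.out] at hd; exact hd ▸ hσ
  refine ⟨hσ, ?_, hzS⟩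
  obtain ⟨E, hE, -⟩ := exists_compl_ge hG hM (U := ⊥) bot_le fun s hs hd => by
    rw [Subgroup.card_bot, Nat.dvd_one] at hd; exact absurd hd hs.ne_one
  refine ((Cfsg.Agent.S1426.result hG M hM E hE).2.2 g⁻¹ fun h => hg (by simpa using M.inv_mem h)).2.1 p hp.out
    (hzc ▸ card_dvd_of_le (zpowers_le.2 ⟨hzS, ⟨g * z * g⁻¹, fittingOf_le M hgz, ?_⟩⟩))
  show MulAut.conj g⁻¹ (g * z * g⁻¹) = z
  rw [MulAut.conj_apply]; group

/-- With `K ≠ 1` and `U ≠ 1` the Fitting subgroup is a TI-subset. -/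
theorem fittingOf_ti_of_decomp {K U : Subgroup G} (hKU : Cfsg.IsSigmaDecomposition M K U) (hK1 : K ≠ ⊥)
    (hU1 : U ≠ ⊥) : Cfsg.IsTISubset (Cfsg.fittingOf M : Set G) := by
  intro g hg x hx hgx
  have hgM : g ∉ M := fun h => hg (le_normalizer_fittingOf M h)
  by_contra hx1
  obtain ⟨r, _, z, hz, hzo, -, -⟩ := exists_prime_zpowers_le hx1
  obtain ⟨i, hi⟩ := mem_zpowers_iff.1 hz
  have hzF : z ∈ Cfsg.fittingOf M := (zpowers_le.2 hx) hz
  obtain ⟨-, hβ, hzS⟩ := fitting_meet_prime hG hM hgM hzF hzo (by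
    rw [← hi, ← conj_zpow]; exact zpow_mem hgx i)
  exact hβ (beta_of_decomp hG hM hKU hK1 hU1 (hzo ▸ Subgroup.orderOf_dvd_natCard _ hzS))

end Cfsg.Agent.Transfer.Loc
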