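import Cfsg.Agent.Lib.Transfer.Local.SupportPrimes
import Cfsg.Agent.S1357
import Cfsg.Agent.S1372
import Cfsg.Agent.S1426
import Cfsg.Agent.S1437

/-!
A support with nonempty `κ` forces a Frobenius group with cyclic complement.
-/

set_option autoImplicit false
set_option linter.style.haveILetI false
set_option linter.unusedSectionVars false
set_option maxHeartbeats 2000000

namespace Cfsg.Agent.Transfer.Loc

open Subgroup
open scoped commutatorElement Pointwise

universe u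

variable {G : Type u} [Group G] [Finite G]

/-- Conjugating a standard factorisation inside its maximal subgroup. -/
theorem decomp_smul {L K U : Subgroup G} (h : Cfsg.IsSigmaDecomposition L K U) {n : G} (hn : n ∈ L) :
    Cfsg.IsSigmaDecomposition L (MulAut.conj n • K) (MulAut.conj n • U) := by
  have hL := Grp.conj_smul_eq_self_of_mem (H := L) hn
  have hS : MulAut.conj n • Cfsg.sigmaCore L = Cfsg.sigmaCore L :=
    Grp.mem_normalizer_iff_smul.1 (TransHyp.le_normalizer_piCoreOf L hn)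
  refine ⟨?_, Grp.PiHall.smul h.hall hL, ?_, smul_le_normalizer h.normal n⟩
  · haveI := h.cyclic
    exact isCyclic_of_surjective _ (Subgroup.equivSMul (MulAut.conj n) K).surjective
  · have hKS : MulAut.conj n • K ⊔ Cfsg.sigmaCore L = MulAut.conj n • (K ⊔ Cfsg.sigmaCore L) := by
      rw [Subgroup.smul_sup, hS]
    rw [hKS]
    refine ⟨(Subgroup.pointwise_smul_le_pointwise_smul_iff.2 h.compl.1).trans hL.le,
      (Subgroup.pointwise_smul_le_pointwise_smul_iff.2 h.compl.2.1).trans hL.le, ?_, fun m hm => ?_⟩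
    · rw [← Subgroup.smul_inf, h.compl.2.2.1, ← Grp.map_conj_eq_smul, Subgroup.map_bot]
    · obtain ⟨a, ha, b, hb, e⟩ := h.compl.2.2.2 (n⁻¹ * m * n) (L.mul_mem (L.mul_mem (L.inv_mem hn) hm) hn)
      refine ⟨MulAut.conj n a, ⟨a, ha, rfl⟩, MulAut.conj n b, ⟨b, hb, rfl⟩, ?_⟩
      rw [← map_mul, ← e, MulAut.conj_apply]
      group

/-- Noncyclic elementary groups. -/
theorem plane_not_cyclic {r : ℕ} [hr : Fact r.Prime] {B : Subgroup G} (hB : Cfsg.IsElementaryAbelian r B)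
    (hB2 : Nat.card B = r ^ 2) : ¬ IsCyclic B := fun hc => by
  haveI := hc
  obtain ⟨w, hw⟩ := IsCyclic.exists_generator (α := B)
  have h1 : orderOf w ∣ r := orderOf_dvd_of_pow_eq_one (Subtype.ext (hB.2 w w.2))
  rw [orderOf_eq_card_of_forall_mem_zpowers hw, hB2] at h1
  have := Nat.le_of_dvd hr.out.pos h1
  nlinarith [hr.out.two_le]

/-- In a nilpotent group an abelian Sylow subgroup meets the derived group trivially. -/
theorem derived_meet_sylow {r : ℕ} [hr : Fact r.Prime] {S R : Subgroup G} (hS : Group.IsNilpotent S)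
    (hR : Grp.IsSylowIn r R S) (hab : IsMulCommutative R) {k : G} (hk : k ∈ ⁅S, S⁆) (hkR : k ∈ R) : k = 1 := by
  set D := Cfsg.piCoreOf {t : ℕ | t ≠ r} S with hD
  have hSD : S ≤ normalizer (D : Set G) := TransHyp.le_normalizer_piCoreOf S
  have hRN : R ≤ normalizer (D : Set G) := hR.1.trans hSD
  have hsup : S ≤ R ⊔ D := by
    refine Grp.le_of_forall_sylow (sup_le hR.1 (TransHyp.piCoreOf_le S)) fun t ht => ?_
    by_cases htr : t = r
    · subst htr; exact ⟨R, hR, le_sup_left⟩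
    · obtain ⟨T, hT⟩ := Grp.exists_isSylowIn t S
      refine ⟨T, hT, le_trans (TransHyp.le_piCoreOf hT.1 (le_normalizer.trans (normalizer_le_sylow hS hT)) ?_) le_sup_right⟩
      intro u hu hd
      rw [eq_of_dvd_pGroup hT.2.1 hu hd]
      exact htr
  have h0 : qimg D ⁅S, S⁆ = ⊥ := by
    have h1 : qimg D S = qimg D R := by
      rw [le_antisymm hsup (sup_le hR.1 (TransHyp.piCoreOf_le S)), qimg_sup hRN le_normalizer, qimg_self, sup_bot_eq]
    rw [qimg_commutator hSD hSD, h1, ← qimg_commutator hRN hRN,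
      commutator_eq_bot_iff_le_centralizer.2 (le_centralizer_iff_isMulCommutative.2 hab)]
    exact (qimg_eq_bot bot_le).2 bot_le
  have h2 : k ∈ R ⊓ D := ⟨hkR, (qimg_eq_bot (S.commutator_le_self.trans hSD)).1 h0 hk⟩
  rwa [Grp.inf_eq_bot_of_coprime, mem_bot] at h2
  obtain ⟨i, hi⟩ := IsPGroup.iff_card.1 hR.2.1
  rw [hi]
  exact (hr.out.coprime_iff_not_dvd.2 fun hd =>
    TransHyp.piCoreOf_primes (π := {t : ℕ | t ≠ r}) (X := S) hr.out hd rfl).pow_left i

/-- A support with nonempty `κ`: `M` is Frobenius with cyclic complement. -/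
theorem support_frobenius (hG : Cfsg.IsMinSimpleOddOrder G) {M : Subgroup G} (hM : IsCoatom M) {x : G}
    (hx : x ∈ Cfsg.sigmaCore M) (hx1 : x ≠ 1) (hxM : ¬ centralizer ({x} : Set G) ≤ M)
    {N : Subgroup G} (hN : IsCoatom N) (hxN : centralizer ({x} : Set G) ≤ N) (hκN : (Cfsg.kappa N).Nonempty) :
    Cfsg.kappa M = ∅ ∧ Cfsg.tau2 M = ∅ ∧
      ∃ E : Subgroup G, Cfsg.IsComplIn E (Cfsg.sigmaCore M) M ∧ IsMulCommutative E := by
  haveI := solvable_of_ne_top hG hM.1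
  haveI := solvable_of_ne_top hG hN.1
  obtain ⟨N', hsup, huniq, -, -, hτx⟩ := support_unique hG hM hx hx1 hxM
  obtain rfl : N = N' := huniq N hN hxN
  obtain ⟨q, _, y, hy, hyo, hyc, hqd⟩ := exists_prime_zpowers_le hx1
  have hqτ := hτx q Fact.out hqd
  have hyS : y ∈ Cfsg.sigmaCore M := (zpowers_le.2 hx) hy
  have hy1 : y ≠ 1 := fun e => (Fact.out : q.Prime).ne_one (by rw [← hyo, e, orderOf_one])
  have hqσ : q ∈ Cfsg.sigma M := TransHyp.piCoreOf_primes (π := Cfsg.sigma M) (X := M) Fact.out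
    (hyo ▸ Subgroup.orderOf_dvd_natCard _ hyS)
  have hCy : centralizer ({y} : Set G) ≤ N := by
    obtain ⟨N₁, hN₁, hNy, -⟩ := support_line hG hM hx hy hyo fun hC => hxM fun c hc => hC (by
      refine mem_centralizer_iff.2 fun w hw => ?_
      obtain ⟨i, rfl⟩ := mem_zpowers_iff.1 ((zpowers_le.2 hy) hw)
      exact ((show Commute c x from mem_centralizer_singleton_iff.1 hc).zpow_right i).eq.symm)
    rw [huniq N₁ hN₁.hN hN₁.le] at hNy
    exact ((centralizer_zpowers_eq y).ge.trans (centralizer_le_normalizer _)).trans hNy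
  have hκM : Cfsg.kappa M = ∅ := kappa_empty_of_tau2 hG hN hκN hqτ hM hqσ
  -- a factorisation of `N` on `M ⊓ N`
  haveI := isSolvable_of_le (inf_le_left : M ⊓ N ≤ M)
  have hMN := hsup.compl
  have hyE : y ∈ M ⊓ N := ⟨TransHyp.piCoreOf_le M hyS, hCy (mem_centralizer_singleton_iff.2 rfl)⟩
  have hqE : q ∣ Nat.card ↥(M ⊓ N) := hyo ▸ Subgroup.orderOf_dvd_natCard _ hyE
  obtain ⟨K₀, U₀, hKU₀⟩ := exists_decomp_of_max hG hN
  obtain ⟨n, hn, hne⟩ := Grp.PiHall.conj_eq (compl_hall hG hN (decomp_compl hG hN hKU₀).1) (compl_hall hG hN hMN)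
  have hKU := decomp_smul hKU₀ hn
  set K := MulAut.conj n • K₀ with hKdef
  set U := MulAut.conj n • U₀ with hUdef
  have hUK : U ⊔ K = M ⊓ N := by rw [hUdef, hKdef, ← Subgroup.smul_sup, hne]
  have hK1 : K ≠ ⊥ := fun e => by
    obtain ⟨p, hp⟩ := hκN
    exact hKU.hall.2.2 p hp.1 hp (by rw [e, Subgroup.relIndex_bot_left]; exact hp.2.1)
  obtain ⟨hUKc, hcard, -⟩ := decomp_compl hG hN hKU
  have hqK : ¬ q ∣ Nat.card K := fun h => hqτ.2.2.2 (kappa_rank_one hG hN (hKU.hall.2.1 q Fact.out h))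
  have hqU : q ∣ Nat.card U := by
    rw [← hUK, hcard] at hqE
    exact ((Fact.out : q.Prime).dvd_mul.1 hqE).resolve_right hqK
  have hU1 : U ≠ ⊥ := fun e => (Fact.out : q.Prime).ne_one (by rwa [e, Subgroup.card_bot, Nat.dvd_one] at hqU)
  obtain ⟨R, hR⟩ : ∃ R : Sylow q U, Grp.IsSylowIn q ((R : Subgroup U).map U.subtype) (M ⊓ N) := by
    obtain ⟨R⟩ : Nonempty (Sylow q U) := inferInstance
    refine ⟨R, sylowIn_trans (Grp.isSylowIn_iff.2 ⟨R, rfl⟩) (hUK ▸ le_sup_left) fun hd => hqK (hd.trans ?_)⟩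
    rw [← hUK]
    exact dvd_of_eq (Nat.eq_of_mul_eq_mul_left (Nat.card_pos (α := U))
      ((Grp.card_mul_relIndex le_sup_left).trans hcard))
  set R' := (R : Subgroup U).map U.subtype
  obtain ⟨A, hAR, hA, hA2⟩ := tau2_plane hG hN hMN hqτ hR
  obtain ⟨E₀, hE₀, -⟩ := exists_compl_ge hG hM (bot_le : (⊥ : Subgroup G) ≤ M) fun s hs hd => by
    rw [Subgroup.card_bot, Nat.dvd_one] at hd; exact absurd hd hs.ne_one
  have hNR : normalizer (R' : Set G) ≤ M := (Cfsg.Agent.S1420.result hG M hM E₀ hE₀).2.2.1 q R' hqσ hR.2.1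
    (hR.1.trans inf_le_left) fun hc => plane_not_cyclic hA hA2 (by haveI := hc; exact Subgroup.isCyclic_of_le hAR)
  obtain ⟨Ns, hpair⟩ := exists_kappaPair hG hN hKU.hall hK1
  obtain ⟨-, hUM, -, -, hKF, hE⟩ :=
    Cfsg.Agent.S1435.result hG N hN K U hKU hK1 hU1 Ns hpair.hMs hpair.dual.symm hpair.hall q hqU R M hM hNR
  set E := M ⊓ Ns with hEdef
  haveI := isSolvable_of_le hE.1
  haveI := solvable_of_ne_top hG hpair.hMs.1
  have hKE : K ≤ E := hKF.trans (fittingOf_le _)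
  obtain ⟨hKp, -, -⟩ := Cfsg.Agent.S1372.result hG N hN K U hKU hK1 hU1
  -- `E` meets `C(y)` trivially
  have hyU : y ∈ U := decomp_le_U hG hN hKU (zpowers_le.2 (hUK ▸ hyE)) (by
    rw [hyc]
    exact (Fact.out : q.Prime).coprime_iff_not_dvd.2 hqK) (mem_zpowers y)
  have hCEy : ∀ e ∈ E, e * y = y * e → e = 1 := by
    intro e he hey
    have heN : e ∈ U ⊔ K := hUK ▸ ⟨hE.1 he, hCy (mem_centralizer_singleton_iff.2 hey)⟩
    rw [← SetLike.mem_coe, Subgroup.coe_mul_of_right_le_normalizer_left U K hKU.normal] at heN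
    obtain ⟨u, hu, k, hk, rfl⟩ := heN
    have hu1 : u ∈ E ⊓ Cfsg.sigmaCore M := by
      refine ⟨?_, hUM hu⟩
      have := E.mul_mem he (E.inv_mem (hKE hk))
      rwa [mul_inv_cancel_right] at this
    rw [hE.2.2.1, mem_bot] at hu1
    subst hu1
    simp only [one_mul] at hey ⊢
    by_contra hk1
    have h1 : y ∈ U ⊓ centralizer ({k} : Set G) := ⟨hyU, mem_centralizer_singleton_iff.2 hey.symm⟩
    rw [(decomp_facts hG hN hKU).2.1 k hk hk1, mem_bot] at h1
    exact hy1 h1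
  -- `E` is abelian
  set Sσ := Cfsg.sigmaCore M with hSσ
  have hSM : Sσ ≤ M := TransHyp.piCoreOf_le M
  have hMS : M ≤ normalizer (Sσ : Set G) := TransHyp.le_normalizer_piCoreOf M
  have hnil : Group.IsNilpotent Sσ := sigmaCore_nilpotent_of_kappa_empty hG hM hκM
  obtain ⟨Q, hQ⟩ := Grp.exists_isSylowIn q Sσ
  have hMQ : M ≤ normalizer (Q : Set G) := hMS.trans (normalizer_le_sylow hnil hQ)
  have hyQ : y ∈ Q := by
    have h1 := hQ.eq_of_le (le_sup_right : Q ≤ zpowers y ⊔ Q) (sup_le (zpowers_le.2 hyS) hQ.1)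
      ((IsPGroup.of_card (n := 1) (hyc.trans (pow_one q).symm) : IsPGroup q (zpowers y)).to_sup_of_normal_right'
        hQ.2.1 ((zpowers_le.2 (hSM hyS)).trans hMQ))
    rw [h1]
    exact mem_sup_left (mem_zpowers y)
  have hQM : Grp.IsSylowIn q Q M := by
    obtain ⟨-, -, hn⟩ := isPiHallOf_piCore hG hM (alpha_subset_sigma hG hM) Set.Subset.rfl
    exact sylowIn_trans hQ hSM (hn q Fact.out hqσ)
  obtain ⟨Q₀, hQ₀⟩ := Grp.isSylowIn_iff.1 hQM
  have hqβ : q ∉ Cfsg.beta M := fun h =>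
    (Cfsg.Agent.S1408.result hG N hN q hqτ.2.1 hqτ.2.2.1 hqτ.2.2.2).1 h.2
  have hQn : Cfsg.IsNarrow q Q := by
    have h1 := narrow_equiv ((Q₀ : Subgroup M).equivMapOfInjective _ M.subtype_injective)
      (sylow_narrow hG hM (hqσ.2.1) hqβ Q₀)
    rwa [hQ₀] at h1
  have hE'Q : ⁅E, E⁆ ≤ centralizer (Q : Set G) := derived_centralizes_narrow hG.1
    (ne_two hG (hqσ.2.1.trans (card_subgroup_dvd_card M))) hQ.2.1 hQn (hE.1.trans hMQ)
    fun hd => compl_prime hG hM hE Fact.out hd hqσ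
  have hEab : IsMulCommutative E := le_centralizer_iff_isMulCommutative.1 (commutator_eq_bot_iff_le_centralizer.1
    ((Subgroup.eq_bot_iff_forall _).2 fun e he =>
      hCEy e (E.commutator_le_self he) (mem_centralizer_iff.1 (hE'Q he) y hyQ).symm))
  refine ⟨hκM, ?_, E, hE, hEab⟩
  -- no `τ₂(M)`-prime
  by_contra hne
  obtain ⟨s, hsτ⟩ := Set.nonempty_iff_ne_empty.2 hne
  haveI := Fact.mk hsτ.1
  have hEC : E ≤ centralizer (E : Set G) := le_centralizer_iff_isMulCommutative.2 hEab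
  obtain ⟨T, hT⟩ := Grp.exists_isSylowIn s E
  obtain ⟨B, hBT, hB, hB2⟩ := tau2_plane hG hM hE hsτ hT
  have hBE := hBT.trans hT.1
  obtain ⟨⟨-, -⟩, ⟨hCBN, hMNB, -⟩, -⟩ := Cfsg.Agent.S1418.result hG M hM E hE s hsτ B ⟨hBE, hB, hB2⟩
  have hCB : centralizer (B : Set G) ≤ E := hCBN.trans hMNB.le
  obtain ⟨W, hBW⟩ := (Grp.elemAb_isPGroup hB).exists_le_sylow
  by_cases hab : IsMulCommutative (W : Subgroup G)
  swap
  · have hall : ∀ W' : Sylow s G, ¬ IsMulCommutative (W' : Subgroup G) := fun W' h => hab (by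
      haveI := h
      exact ⟨⟨fun a b => (W'.equiv W).symm.injective (by rw [map_mul, map_mul]; exact h.is_comm.comm _ _)⟩⟩)
    obtain ⟨-, ⟨hc1, -⟩, -⟩ := Cfsg.Agent.S1419.result hG M hM E hE s hsτ hall B ⟨hBE, hB, hB2⟩
    have h0 : B ⊓ centralizer (Sσ : Set G) = ⊥ := (Subgroup.eq_bot_iff_forall _).2 fun b hb =>
      hCEy b (hBE hb.1) (mem_centralizer_iff.1 hb.2 y hyS).symm
    rw [h0, Subgroup.card_bot] at hc1
    exact hsτ.1.ne_one hc1.symm
  obtain ⟨hWE, -, -⟩ := tau2_sylow_compl hG hM hE hsτ hBE hB hB2 hab hBW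
  have hWNs : (W : Subgroup G) ≤ Ns := hWE.trans inf_le_right
  have hENs : E ≤ Ns := inf_le_right
  have hMNs : Sσ ⊓ Ns = ⊥ := le_bot_iff.1 (le_trans (le_inf (le_inf (inf_le_left.trans hSM) inf_le_right)
    inf_le_left) hE.2.2.1.le)
  by_cases hsN : s ∈ Cfsg.sigma Ns
  swap
  · -- `s ∈ τ₂(N*)`
    have hsτN : s ∈ Cfsg.tau2 Ns := tau2_of_not_rank_one hG hpair.hMs hsN
      (not_prank_of_elem (hBE.trans hENs) hB (by rw [hB2]))
    obtain ⟨K₁, U₁, hKU₁⟩ := exists_decomp_of_max hG hpair.hMs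
    have hK₁ : K₁ ≠ ⊥ := fun e => by
      obtain ⟨p, hp, hpd⟩ := Nat.exists_prime_and_dvd fun e' => hpair.star1 (Subgroup.card_eq_one.1 e')
      have hpκ := hpair.hall.2.1 p hp hpd
      exact hKU₁.hall.2.2 p hp hpκ (by rw [e, Subgroup.relIndex_bot_left]; exact hpκ.2.1)
    obtain ⟨hc, hcard₁, -⟩ := decomp_compl hG hpair.hMs hKU₁
    have hsK₁ : ¬ s ∣ Nat.card K₁ := fun h =>
      hsτN.2.2.2 (kappa_rank_one hG hpair.hMs (hKU₁.hall.2.1 s hsτ.1 h))
    have hsU₁ : s ∣ Nat.card U₁ := by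
      have h1 := dvd_compl_of_dvd hc hsN (dvd_of_not_prank hsτN.2.2.2)
      rw [hcard₁] at h1
      exact (hsτ.1.dvd_mul.1 h1).resolve_right hsK₁
    obtain ⟨R₁⟩ : Nonempty (Sylow s U₁) := inferInstance
    set R₁' := (R₁ : Subgroup U₁).map U₁.subtype
    have hR₁Ns : Grp.IsSylowIn s R₁' Ns := compl_sylow hG hpair.hMs hc
      (hsU₁.trans (card_dvd_of_le le_sup_left)) (sylowIn_trans (Grp.isSylowIn_iff.2 ⟨R₁, rfl⟩) le_sup_left
        fun hd => hsK₁ (hd.trans (dvd_of_eq (Nat.eq_of_mul_eq_mul_left (Nat.card_pos (α := U₁))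
          ((Grp.card_mul_relIndex le_sup_left).trans hcard₁)))))
    have hWsyl : Grp.IsSylowIn s (W : Subgroup G) Ns :=
      ⟨hWNs, W.isPGroup', fun hd => Sylow.not_dvd_index W (hd.trans (relIndex_dvd_index_of_le hWNs))⟩
    obtain ⟨a, ha, hae⟩ := hWsyl.conj hR₁Ns
    obtain ⟨H, hH, hNH⟩ := exists_coatom_normalizer hG (sylow_ne_bot_of_dvd hR₁Ns (dvd_of_not_prank hsτN.2.2.2))
      fun e => hpair.hMs.1 (top_le_iff.1 (e ▸ hR₁Ns.1))
    obtain ⟨L₂, hp₂⟩ := exists_kappaPair hG hpair.hMs hKU₁.hall hK₁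
    obtain ⟨-, -, hmeet, -, -, -⟩ := Cfsg.Agent.S1435.result hG Ns hpair.hMs K₁ U₁ hKU₁ hK₁
      (fun e => hsτ.1.ne_one (by rwa [e, Subgroup.card_bot, Nat.dvd_one] at hsU₁))
      L₂ hp₂.hMs hp₂.dual.symm hp₂.hall s hsU₁ R₁ H hH hNH
    have hle : MulAut.conj a • K ≤ U₁ ⊔ K₁ := hmeet ▸ le_inf
      ((Subgroup.pointwise_smul_le_pointwise_smul_iff.2 (hKE.trans hENs)).trans
        (Grp.conj_smul_eq_self_of_mem ha).le)
      (le_trans (by
        rw [← hae]
        exact smul_le_normalizer (hKE.trans ((hEC.trans (centralizer_le hWE)).trans (centralizer_le_normalizer _))) a) hNH)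
    obtain ⟨r, hr, hrK⟩ := Nat.exists_prime_and_dvd fun e => hK1 (Subgroup.card_eq_one.1 e)
    have h1 : r ∣ Nat.card ↥(U₁ ⊔ K₁) := (Grp.card_conj_smul a K).symm ▸ hrK |>.trans (card_dvd_of_le hle)
    have hrσ : r ∈ Cfsg.sigma Ns := TransHyp.piCoreOf_primes (π := Cfsg.sigma Ns) (X := Ns) hr
      (hrK.trans (card_dvd_of_le hpair.le_sigmaCore_dual))
    exact compl_prime hG hpair.hMs hc hr h1 hrσ
  -- `s ∈ σ(N*)`
  set S' := Cfsg.sigmaCore Ns with hS'
  have hS'N : S' ≤ Ns := TransHyp.piCoreOf_le Ns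
  haveI : Group.IsSolvable S' := isSolvable_of_le hS'N
  have hBS' : B ≤ S' := fun b hb => mem_sigmaCore_of_pi hG hpair.hMs (hENs (hBE hb)) fun t ht hd => by
    rw [eq_of_dvd_pGroup (Grp.elemAb_isPGroup hB) ht (hd.trans (Subgroup.orderOf_dvd_natCard _ hb))]
    exact hsN
  -- the factorisation of `N*` has trivial `U`
  obtain ⟨U₁, hKU₁⟩ : ∃ U₁, Cfsg.IsSigmaDecomposition Ns (kStar N K) U₁ :=
    exists_decomp hG hpair.hMs hpair.cycStar hpair.hall
  have hU₁ : U₁ = ⊥ := by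
    by_contra hU₁
    obtain ⟨-, hTI, hSF⟩ := Cfsg.Agent.S1372.result hG Ns hpair.hMs _ U₁ hKU₁ hpair.star1 hU₁
    obtain ⟨D, hDB, hDi, hDQ⟩ : ∃ D, D ≤ B ∧ D.relIndex B = s ∧ Q ⊓ centralizer (D : Set G) ≠ ⊥ := by
      by_contra hcon
      push Not at hcon
      refine hy1 (mem_bot.1 (Grp.le_of_hyperplanes hB (IsMaxPlane.of_sigma' hG hM hsτ.2.1 (hBE.trans hE.1) hB hB2).ne_bot
        Q (fun hd => ?_) ((hBE.trans hE.1).trans hMQ) (fun D hD hi => (hcon D hD hi).le) hyQ))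
      exact hsτ.2.1 (eq_of_dvd_pGroup hQ.2.1 hsτ.1 hd ▸ hqσ)
    have hD1 : D ≠ ⊥ := fun e => hsτ.1.ne_one (by
      have := card_of_hyperplane hB2 hDB hDi
      rwa [e, Subgroup.card_bot, eq_comm] at this)
    obtain ⟨d, hd, hd1⟩ := (bot_or_exists_ne_one D).resolve_left hD1
    obtain ⟨a, ha, ha1⟩ := (bot_or_exists_ne_one _).resolve_left hDQ
    have haN : a ∉ Ns := fun h => ha1 (mem_bot.1 (hMNs ▸ ⟨hQ.1 ha.1, h⟩))
    have had : a * d * a⁻¹ = d := by
      rw [← mem_centralizer_iff.1 ha.2 d hd, mul_inv_cancel_right]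
    refine hd1 (hTI a (fun h => haN ?_) d (hSF (hBS' (hDB hd))) (had.symm ▸ hSF (hBS' (hDB hd))))
    have h1 : Ns ≤ normalizer (Cfsg.fittingOf Ns : Set G) := le_normalizer_fittingOf Ns
    have h2 : normalizer (Cfsg.fittingOf Ns : Set G) ≠ ⊤ := TransHyp.normalizer_ne_top hG
      (ne_bot_of_le_ne_bot (sigmaCore_ne_bot hG hpair.hMs) hSF)
      fun e => hpair.hMs.1 (top_le_iff.1 (e ▸ fittingOf_le Ns))
    rcases hpair.hMs.le_iff.1 h1 with e | e
    · exact absurd e h2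
    · exact e ▸ h
  obtain ⟨hc₁, -, -⟩ := decomp_compl hG hpair.hMs hKU₁
  rw [hU₁, bot_sup_eq] at hc₁
  have hKS : K ≤ S' := hpair.le_sigmaCore_dual
  have hKKs : kStar N K ≤ centralizer (K : Set G) := inf_le_right
  have hkd : K ≤ ⁅S', S'⁆ :=
    (le_inf hKS (le_centralizer_iff.1 hKKs)).trans (Cfsg.Agent.S1426.result hG Ns hpair.hMs _ hc₁).1
  set r := Nat.card K with hr
  haveI : Fact r.Prime := ⟨hKp⟩
  have hKr : IsPGroup r K := IsPGroup.of_card (n := 1) (by rw [hr, pow_one])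
  by_cases hnS : Group.IsNilpotent S'
  · -- nilpotent: the `r`-part is abelian
    obtain ⟨Rr, hRr, hKRr⟩ := exists_sylowIn_ge hKS hKr
    have hRn : S' ≤ normalizer (Rr : Set G) := le_normalizer.trans (normalizer_le_sylow hnS hRr)
    obtain ⟨Ws, hWs⟩ : ∃ Ws, Grp.IsSylowIn s Ws S' := Grp.exists_isSylowIn s S'
    have hRab : IsMulCommutative Rr := by
      by_cases hrs : r = s
      · have hRNs : Grp.IsSylowIn s Rr Ns := by
          obtain ⟨-, -, hn⟩ := isPiHallOf_piCore hG hpair.hMs (alpha_subset_sigma hG hpair.hMs) Set.Subset.rfl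
          exact sylowIn_trans (hrs ▸ hRr) hS'N (hn s hsτ.1 hsN)
        obtain ⟨-, hidx⟩ := sigma_sylow hG hpair.hMs hsN hRNs
        let RT : Sylow s G := hRNs.2.1.toSylow hidx
        have h1 : IsMulCommutative (RT : Subgroup G) := ⟨⟨fun a b => (RT.equiv W).injective (by
          rw [map_mul, map_mul]; exact hab.is_comm.comm _ _)⟩⟩
        exact h1
      · have hRE : Rr ≤ E := by
          refine le_trans ?_ hCB
          intro a ha
          refine mem_centralizer_iff.2 fun b hb => ?_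
          refine TypeP.commute_of_coprime_orderOf hnS (hBS' hb) (hRr.1 ha) ?_
          refine ((coprime_O (Ne.symm hrs) (Grp.elemAb_isPGroup hB) hRr.2.1).coprime_dvd_left
            (Subgroup.orderOf_dvd_natCard _ hb)).coprime_dvd_right (Subgroup.orderOf_dvd_natCard _ ha)
        exact le_centralizer_iff_isMulCommutative.1 (hRE.trans (hEC.trans (centralizer_le hRE)))
    obtain ⟨k, hk, hk1⟩ := (bot_or_exists_ne_one K).resolve_left hK1
    refine hk1 (derived_meet_sylow hnS hRr hRab (hkd hk) (hKRr hk))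
  · -- the nonnilpotent case
    have hne' : Cfsg.fittingHallOf Ns ≠ S' := fun e => hnS (e ▸ fittingHallOf_nilpotent Ns)
    obtain ⟨-, -, hKp', hrp, -, hrβ, P, hPF, hNP, hPp, hPi, hPD⟩ :=
      Cfsg.Agent.S1437.result hG Ns hpair.hMs _ U₁ hKU₁ hne'
    have e0 : Cfsg.sigmaCore Ns ⊓ centralizer (kStar N K : Set G) = K := hpair.dual
    rw [e0] at hrp hrβ hPp hPi hPD
    have hrs : r ≠ s := fun e => by
      have h1 := Cfsg.Agent.S1408.result hG M hM s hsτ.2.1 hsτ.2.2.1 hsτ.2.2.2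
      exact h1.1 (e ▸ hrβ.2)
    have hPS : P ≤ S' := hPF.trans (fittingHallOf_le_sigmaCore hG hpair.hMs)
    have hPsyl : Grp.IsSylowIn r P S' := ⟨hPS, hPp, hPi⟩
    have hSP : S' ≤ normalizer (P : Set G) := hS'N.trans hNP
    have hKP : K ≤ P := by
      rw [hPsyl.eq_of_le le_sup_right (sup_le hKS hPS) (hKr.to_sup_of_normal_right' hPp (hKS.trans hSP))]
      exact le_sup_left
    have hWS' : (W : Subgroup G) ≤ S' := fun a ha => mem_sigmaCore_of_pi hG hpair.hMs (hWNs ha) fun t ht hd => by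
      rw [eq_of_dvd_pGroup W.isPGroup' ht (hd.trans (Subgroup.orderOf_dvd_natCard _ ha))]; exact hsN
    obtain ⟨D, hDH, -, hWD⟩ := Grp.PiHall.exists_ge (π := ({r} : Set ℕ)ᶜ) _ G ⊥ S' (W : Subgroup G) rfl bot_le
      (by simp) inferInstance hWS' bot_le (fun t ht hd => by
        rw [eq_of_dvd_pGroup W.isPGroup' ht hd]; exact Ne.symm hrs)
    have hrD : ¬ r ∣ Nat.card D := fun h => hDH.2.1 r hKp h rfl
    have hcopPD : (Nat.card P).Coprime (Nat.card D) := by
      obtain ⟨i, hi⟩ := IsPGroup.iff_card.1 hPp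
      rw [hi]
      exact (hKp.coprime_iff_not_dvd.2 hrD).pow_left i
    have hsupPD : S' ≤ P ⊔ D := by
      refine Grp.le_of_forall_sylow (sup_le hPS hDH.1) fun t ht => ?_
      by_cases htr : t = r
      · subst htr
        exact ⟨P, hPsyl, le_sup_left⟩
      · obtain ⟨V, hV⟩ := Grp.exists_isSylowIn t D
        exact ⟨V, sylowIn_trans hV hDH.1 (hDH.2.2 t ht.out htr), hV.1.trans le_sup_right⟩
    have hPDc : Cfsg.IsComplIn P D S' := ⟨hPS, hDH.1, Grp.inf_eq_bot_of_coprime hcopPD, fun m hm => by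
      have h1 := hsupPD hm
      rw [← SetLike.mem_coe, Subgroup.coe_mul_of_right_le_normalizer_left P D (hDH.1.trans hSP)] at h1
      obtain ⟨a, ha, b, hb, e⟩ := h1
      exact ⟨a, ha, b, hb, e.symm⟩⟩
    obtain ⟨hDn, hP₀n, hlt, -, -, -⟩ := hPD D hPDc
    -- `D` centralises `B`, hence lies in `E`
    have hDE : D ≤ E := by
      refine Grp.le_of_forall_sylow (inf_le_left : D ⊓ E ≤ D) (fun t ht => ?_) |>.trans inf_le_right
      obtain ⟨V, hV⟩ := Grp.exists_isSylowIn t D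
      refine ⟨V, hV, le_inf hV.1 ?_⟩
      by_cases hts : t = s
      · subst hts
        have h1 := hV.eq_of_le (le_sup_right : V ≤ (W : Subgroup G) ⊔ V) (sup_le hWD hV.1)
          (W.isPGroup'.to_sup_of_normal_right' hV.2.1 (hWD.trans (le_normalizer.trans (normalizer_le_sylow hDn hV))))
        have h2 : (W : Subgroup G) ⊔ V = W := (W.3 (W.isPGroup'.to_sup_of_normal_right' hV.2.1
          (hWD.trans (le_normalizer.trans (normalizer_le_sylow hDn hV)))) le_sup_left)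
        exact (h1.le.trans h2.le).trans hWE
      · refine le_trans ?_ hCB
        intro a ha
        refine mem_centralizer_iff.2 fun b hb => ?_
        refine TypeP.commute_of_coprime_orderOf hDn (hWD (hBW hb)) (hV.1 ha) ?_
        exact ((coprime_O (Ne.symm hts) (Grp.elemAb_isPGroup hB) hV.2.1).coprime_dvd_left
          (Subgroup.orderOf_dvd_natCard _ hb)).coprime_dvd_right (Subgroup.orderOf_dvd_natCard _ ha)
    set P₀ := P ⊓ centralizer (D : Set G) with hP₀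
    have hKP₀ : K ≤ P₀ := le_inf hKP (hKE.trans (hEC.trans (centralizer_le hDE)))
    obtain ⟨t, ht, htd⟩ := Nat.exists_prime_and_dvd fun e => hpair.star1 (Subgroup.card_eq_one.1 e)
    haveI := Fact.mk ht
    obtain ⟨b, hb⟩ := exists_prime_orderOf_dvd_card' t htd
    have hbo : orderOf (b : G) = t := by rw [Subgroup.orderOf_coe, hb]
    have hb1 : (b : G) ≠ 1 := fun e => ht.ne_one (by rw [← hbo, e, orderOf_one])
    have hbNs : (b : G) ∈ Ns := hpair.hall.1 b.2
    have hSN0 : S' ≤ normalizer (P₀ : Set G) := hS'N.trans hP₀n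
    have hfix : S' ⊓ centralizer ({(b : G)} : Set G) = K :=
      ((Cfsg.Agent.S1430.result hG Ns hpair.hMs _ hpair.hall hpair.star1).1 b b.2 hb1).trans e0
    have hn := nilpotent_qimg_of_fixed (p := t) (b := (b : G)) (by rw [← hbo, pow_orderOf_eq_one]) (N := P₀) (K := S')
      (inf_le_left.trans hPS) hSN0 (hP₀n hbNs) (TransHyp.le_normalizer_piCoreOf Ns hbNs)
      (((compl_coprime hG hpair.hMs hc₁)).coprime_dvd_left (Subgroup.orderOf_dvd_natCard _ b.2))
      (hfix.le.trans hKP₀)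
    have h1 := commutator_le_of_nilpotent_qimg hSN0 hn hPS hDH.1 hcopPD
    haveI := isSolvable_of_le hDH.1
    have h2 := Grp.commutator_sup_fixed D P (hDH.1.trans hSP) hcopPD.symm (Or.inl inferInstance)
    exact absurd (h2.ge.trans (sup_le h1 le_rfl)) hlt.not_ge

end Cfsg.Agent.Transfer.Loc
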