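import Cfsg.Agent.Lib.Transfer.Local.TwistFamily
import Cfsg.Agent.Lib.Char.DadeImages
import Cfsg.Agent.Lib.Char.TypeSupport
import Cfsg.Agent.S1494
import Cfsg.Agent.S1495

/-!
A twisted configuration is impossible: characters of the overgroup coherent with equal degrees.
-/

set_option autoImplicit false
set_option linter.style.haveILetI false
set_option linter.unusedSectionVars false
set_option maxHeartbeats 2000000

namespace Cfsg.Agent.Transfer.Loc

open Subgroup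
open scoped ComplexConjugate Pointwise

universe u

variable {G : Type u} [Group G] [Finite G]

theorem sum_comp_le {ι Z : Type u} [DecidableEq Z] (I : Finset ι) (S : Finset Z) (Φ : ι → Z) (f : Z → ℝ) (N : ℕ)
    (hmem : ∀ i ∈ I, Φ i ∈ S) (hf : ∀ z ∈ S, 0 ≤ f z) (hfib : ∀ z ∈ S, (I.filter fun i => Φ i = z).card ≤ N) :
    ∑ i ∈ I, f (Φ i) ≤ (N : ℝ) * ∑ z ∈ S, f z := by
  rw [← Finset.sum_fiberwise_of_maps_to hmem (fun i => f (Φ i)), Finset.mul_sum]
  refine Finset.sum_le_sum fun z hz => ?_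
  rw [Finset.sum_congr rfl fun i hi => by rw [(Finset.mem_filter.1 hi).2], Finset.sum_const, nsmul_eq_mul]
  exact mul_le_mul_of_nonneg_right (by exact_mod_cast hfib z hz) (hf z hz)

/-- One coset of the local inequality. -/
theorem twist_term {k c b s : ℤ} (hc : 0 ≤ c) (hk : 2 * c ≤ k) (hs : |s| = c) :
    0 ≤ k * b ^ 2 + 2 * b * s ∧ (b ≠ 0 → k - 2 * c ≤ k * b ^ 2 + 2 * b * s) ∧
      (2 ≤ |b| → 2 * k ≤ k * b ^ 2 + 2 * b * s) := by
  have h1 : -(|b| * c) ≤ b * s := by rw [← hs, ← abs_mul]; exact neg_abs_le _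
  have h2 : b ^ 2 = |b| ^ 2 := (sq_abs b).symm
  rw [h2]
  refine ⟨?_, fun hb => ?_, fun hb => ?_⟩
  · rcases eq_or_ne b 0 with rfl | hb
    · simp
    nlinarith [mul_le_mul_of_nonneg_right hk (sq_nonneg |b|),
      mul_nonneg hc (mul_nonneg (abs_nonneg b) (sub_nonneg.2 (Int.one_le_abs hb)))]
  · have hb1 := Int.one_le_abs hb
    nlinarith [mul_nonneg (sub_nonneg.2 hb1) (show 0 ≤ k * (|b| + 1) - 2 * c by
      nlinarith [mul_nonneg (show 0 ≤ k by linarith) (abs_nonneg b)])]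
  · nlinarith [mul_nonneg (show 0 ≤ k by linarith) (mul_nonneg (sub_nonneg.2 hb) (show 0 ≤ |b| + 1 by linarith)),
      mul_nonneg (abs_nonneg b) (sub_nonneg.2 hk)]

/-- The arithmetic at one element of `M_σ`. -/
theorem twist_local {r e k c m : ℕ} [hr : Fact r.Prime] (he : 3 ≤ e) (hme : 2 * e ≤ m) (hm : m = r + 1 ∨ m + 1 = r)
    (hc : 0 < c) (hke : k * e = c * m * (r - 1)) {ι : Type*} (T : Finset ι) (hT : T.card = r - 1) (b s : ι → ℤ)
    (d : ℤ) (hs : ∀ t ∈ T, |s t| = (c : ℤ)) (hcong : ∀ t ∈ T, (r : ℤ) ∣ d - b t - e) :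
    (2 * (e : ℤ) + 1) * k ≤ 2 * ((k : ℤ) * d ^ 2 + ∑ t ∈ T, ((k : ℤ) * b t ^ 2 + 2 * b t * s t)) := by
  have hre : 2 * e ≤ r + 1 := by omega
  have hr1 : 1 ≤ r := hr.out.one_le
  have hk : 2 * c * (r - 1) ≤ k := Nat.le_of_mul_le_mul_right (by
    rw [hke]
    calc 2 * c * (r - 1) * e = c * (2 * e) * (r - 1) := by ring
      _ ≤ c * m * (r - 1) := by gcongr) (show 0 < e by omega)
  have hkZ : 2 * (c : ℤ) * ((r : ℤ) - 1) ≤ k := by
    have := Nat.cast_le (α := ℤ).2 hk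
    push_cast [Nat.cast_sub hr1] at this
    exact this
  have hk2 : 2 * (c : ℤ) ≤ k := le_trans (le_mul_of_one_le_right (by omega) (by omega)) hkZ
  have hterm := fun t (ht : t ∈ T) => twist_term (b := b t) (Int.natCast_nonneg c) hk2 (hs t ht)
  have hsum0 : 0 ≤ ∑ t ∈ T, ((k : ℤ) * b t ^ 2 + 2 * b t * s t) := Finset.sum_nonneg fun t ht => (hterm t ht).1
  have hrZ : 2 * (e : ℤ) ≤ r + 1 := by exact_mod_cast hre
  have heZ : (3 : ℤ) ≤ e := by exact_mod_cast he
  have hk0 : (0 : ℤ) ≤ k := Int.natCast_nonneg k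
  have hTZ : (T.card : ℤ) = (r : ℤ) - 1 := by rw [hT, Nat.cast_sub hr1]; rfl
  by_cases h0 : ∃ t ∈ T, b t = 0
  · obtain ⟨t, ht, hb⟩ := h0
    obtain ⟨j, hj⟩ := hcong t ht
    rw [hb, sub_zero] at hj
    have hd : (e : ℤ) + 1 ≤ d ^ 2 := by
      rcases eq_or_ne j 0 with rfl | hj0
      · rw [mul_zero] at hj; nlinarith
      rcases lt_or_gt_of_ne hj0 with hneg | hpos
      · have : (r : ℤ) * j ≤ -r := by nlinarith
        nlinarith
      · have : (r : ℤ) ≤ r * j := by nlinarith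
        nlinarith
    nlinarith [mul_le_mul_of_nonneg_left hd hk0]
  push Not at h0
  by_cases hd : d = 0
  · have hbig : ∀ t ∈ T, 2 ≤ |b t| := by
      intro t ht
      by_contra hlt
      have h1 : |b t| = 1 := le_antisymm (by omega) (Int.one_le_abs (h0 t ht))
      have h2 := hcong t ht
      rw [hd] at h2
      obtain ⟨j, hj⟩ := h2
      have h3 : (r : ℤ) * j < 0 := by rcases abs_eq (zero_le_one' ℤ) |>.1 h1 with e' | e' <;> omega
      have h4 : j < 0 := by nlinarith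
      have h5 : (r : ℤ) * j ≤ -r := by nlinarith
      rcases abs_eq (zero_le_one' ℤ) |>.1 h1 with e' | e' <;> omega
    have h1 : ((r : ℤ) - 1) * (2 * k) ≤ ∑ t ∈ T, ((k : ℤ) * b t ^ 2 + 2 * b t * s t) := by
      rw [← hTZ, ← nsmul_eq_mul, ← Finset.sum_const]
      exact Finset.sum_le_sum fun t ht => (hterm t ht).2.2 (hbig t ht)
    rw [hd]
    nlinarith
  · have h1 : ((r : ℤ) - 1) * (k - 2 * c) ≤ ∑ t ∈ T, ((k : ℤ) * b t ^ 2 + 2 * b t * s t) := by
      rw [← hTZ, ← nsmul_eq_mul, ← Finset.sum_const]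
      exact Finset.sum_le_sum fun t ht => (hterm t ht).2.1 (h0 t ht)
    have hd2 : (1 : ℤ) ≤ d ^ 2 := by nlinarith [Int.one_le_abs hd, sq_abs d]
    have hkeZ : (k : ℤ) * e = c * m * ((r : ℤ) - 1) := by
      have := congrArg (Nat.cast (R := ℤ)) hke
      push_cast [Nat.cast_sub hr1] at this
      exact this
    have hmZ : 2 * (e : ℤ) ≤ m := by exact_mod_cast hme
    have key : 4 * (c : ℤ) * ((r : ℤ) - 1) ≤ k * (2 * r - 2 * e - 1) := by
      refine le_of_mul_le_mul_right ?_ (show (0 : ℤ) < e by omega)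
      rw [mul_right_comm (k : ℤ), hkeZ]
      nlinarith [mul_nonneg (mul_nonneg (Int.natCast_nonneg c) (show (0 : ℤ) ≤ (r : ℤ) - 1 by omega))
        (show (0 : ℤ) ≤ m * (2 * r - 2 * e - 1) - 4 * e by nlinarith)]
    nlinarith [mul_le_mul_of_nonneg_left hd2 hk0]

variable {M E H O : Subgroup G} {r : ℕ} [hr : Fact r.Prime] {A : Subgroup G} {v : G}

/-- No twisted configuration with few bad elements in `M_σ`. -/
theorem Twist.absurd (h : Twist M E H O r A v) (hnilM : Cfsg.fittingHallOf M = Cfsg.sigmaCore M) {P : Subgroup G}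
    (hP : P ≤ Cfsg.sigmaCore M)
    (hgood : ∀ y ∈ Cfsg.sigmaCore M, y ∉ P → centralizer ({y} : Set G) ≤ M)
    (hidx : r + 2 < P.relIndex (Cfsg.sigmaCore M)) : False := by
  classical
  cases nonempty_fintype G
  haveI : Fintype H := Fintype.ofFinite H
  obtain ⟨U, c, s, hc, hke, hU, hs, hsv⟩ := h.exists_family
  obtain ⟨he3, hme, hcase⟩ := h.moved_facts
  set e := E.relIndex (normalizer (A : Set G))
  set m := (movedLines A r).ncard
  set k := U.card with hkdef
  set Tσ := Cfsg.sigmaCore M with hTσ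
  have hr1 : 1 ≤ r := hr.out.one_le
  have hk5 : 5 ≤ k := by
    by_contra hlt
    push Not at hlt
    have h1 : c * (2 * e) * 4 ≤ c * m * (r - 1) := by gcongr; omega
    have h2 : k * e ≤ 4 * e := by gcongr; omega
    nlinarith
  have hOE : E ≤ normalizer (O : Set G) := h.le_overgroup.trans h.hON
  have hXH : O ⊔ E ≤ H := sup_le h.kernel_le h.le_overgroup
  obtain ⟨K, U', hKU⟩ := exists_decomp_of_max h.hG h.hH
  set A' : Set G := {a | a ∈ O ⊔ E ∧ a ∉ O} with hA'
  have hD : Cfsg.DadeHypothesis A' H (Cfsg.supportR H) := by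
    refine Char.TypeSet.dade h.hG h.hH hKU (fun a ha => h.hat K hKU.hall a ha.1 ha.2) (fun h1 => h1.2 O.one_mem)
      fun x hx a ha => ⟨Grp.mem_conj_normalizer (h.le_normalizer_sup hx) ha.1, fun ho => ha.2 ?_⟩
    have := Grp.mem_conj_normalizer' (h.hON hx) ho
    rwa [show x⁻¹ * (x * a * x⁻¹) * x = a by group] at this
  set R := Cfsg.supportR H with hR
  have hU1 : ∀ ξ ∈ U, ξ 1 = (e : ℂ) := fun ξ hξ => (hU ξ hξ).2.2.1 1 O.one_mem
  obtain ⟨F, hF, hFb, hFn⟩ := Char.DadeImg.exists_images hD U hk5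
    (fun ξ hξ => ⟨(hU ξ hξ).1, hU1 ξ hξ, (hU ξ hξ).2.2.2⟩) (fun ξ hξ η hη x hx => by
      by_cases hxX : (x : G) ∈ O ⊔ E
      · have hxO : (x : G) ∈ O := by_contra fun hn => hx ⟨hxX, hn⟩
        rw [(hU ξ hξ).2.2.1 x hxO, (hU η hη).2.2.1 x hxO]
      · rw [(hU ξ hξ).2.1 x hxX, (hU η hη).2.1 x hxX])
  -- the elements of the line
  have hvE : v ∈ E := h.hAE h.hvA
  have hv1 : v ≠ 1 := fun e' => hr.out.ne_one (by rw [← h.hvo, e', orderOf_one])
  set T : Finset G := Finset.univ.filter (fun t => t ∈ zpowers v ∧ t ≠ 1) with hT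
  have hmemT : ∀ t, t ∈ T ↔ t ∈ zpowers v ∧ t ≠ 1 := fun t => by simp [hT]
  have hTcard : T.card = r - 1 := by
    have e1 : T = (Finset.univ.filter (fun t => t ∈ zpowers v)).erase 1 := by
      ext t; simp [hT, and_comm]
    rw [e1, Finset.card_erase_of_mem (by simp), ← Fintype.card_subtype, ← Nat.card_eq_fintype_card,
      Nat.card_zpowers, h.hvo]
  have hTz : ∀ t ∈ T, zpowers t = zpowers v := fun t ht => by
    obtain ⟨ht, ht1⟩ := (hmemT t).1 ht
    refine Subgroup.eq_of_le_of_card_ge (zpowers_le.2 ht) ?_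
    rw [Nat.card_zpowers, Nat.card_zpowers, h.hvo]
    refine le_of_eq (orderOf_eq_prime ?_ ht1).symm
    exact h.elem.2 t ((zpowers_le.2 h.hvA) ht)
  have hTo : ∀ t ∈ T, orderOf t = r := fun t ht => by rw [← Nat.card_zpowers, hTz t ht, Nat.card_zpowers, h.hvo]
  have hTC : ∀ t ∈ T, centralizer ({t} : Set G) = centralizer ({v} : Set G) := fun t ht => by
    rw [← centralizer_zpowers_eq, hTz t ht, centralizer_zpowers_eq]
  have hTA : ∀ t ∈ T, t ∈ A' := fun t ht => by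
    have htE : t ∈ E := (zpowers_le.2 hvE) ((hmemT t).1 ht).1
    refine ⟨mem_sup_right htE, fun hto => ((hmemT t).1 ht).2 ?_⟩
    rw [← mem_bot, ← h.disj]
    exact ⟨hto, htE⟩
  have hTR : ∀ t ∈ T, R t = Tσ := by
    intro t ht
    have hex : ¬ centralizer ({t} : Set G) ≤ H ∧
        ∃! L : Subgroup G, IsCoatom L ∧ centralizer ({t} : Set G) ≤ L := by
      rw [hTC t ht]
      exact ⟨h.hnot, M, ⟨h.hM, h.hCv⟩, fun L hL => h.uniq L hL.1 hL.2⟩
    show Cfsg.supportR H t = Tσ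
    unfold Cfsg.supportR
    rw [dif_pos hex]
    have h1 := Classical.choose_spec hex.2.exists
    rw [h.uniq _ h1.1 (by rw [← hTC t ht]; exact h1.2), hnilM, hTC t ht]
    exact inf_eq_left.2 fun y hy => mem_centralizer_singleton_iff.2 (mem_centralizer_iff.1 h.hvS y hy)
  -- elements of `M_σ` avoid the support
  have hoffσ : ∀ y ∈ Tσ, y ∉ Char.Dade.supp A' R := by
    rintro y hy ⟨a, ⟨haX, haO⟩, u, hu, x, hx⟩
    have ha : a ∈ A' := ⟨haX, haO⟩
    have hcomm : Commute a u := (mem_centralizer_singleton_iff.1 (hD.le_centralizer a ha hu)).symm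
    have hcop : (orderOf a).Coprime (orderOf u) :=
      (((hD.coprime a ha a ha).coprime_dvd_right (Subgroup.orderOf_dvd_natCard _
        (show a ∈ H ⊓ centralizer ({a} : Set G) from ⟨hD.subset ha, mem_centralizer_singleton_iff.2 rfl⟩))
        ).coprime_dvd_left (Subgroup.orderOf_dvd_natCard _ hu)).symm
    have hdvd : orderOf a ∣ orderOf y := by
      have h1 : orderOf (a * u) = orderOf y := by rw [← hx, Char.Dade.orderOf_conj]
      rw [← h1, hcomm.orderOf_mul_eq_mul_orderOf_of_coprime hcop]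
      exact Dvd.intro _ rfl
    refine haO ?_
    obtain ⟨w, hw, hwO⟩ : ∃ w ∈ E, a * w⁻¹ ∈ O := by
      have h1 := haX
      rw [← SetLike.mem_coe, Subgroup.coe_mul_of_right_le_normalizer_left O E hOE] at h1
      obtain ⟨o, ho, w, hw, e'⟩ := h1
      exact ⟨w, hw, by rw [← e']; simpa using ho⟩
    have hpow : ∀ i : ℕ, a ^ i * (w ^ i)⁻¹ ∈ O := by
      intro i
      induction i with
      | zero => simp
      | succ i ih =>
        rw [show a ^ (i + 1) * (w ^ (i + 1))⁻¹ =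
          (a ^ i * (w ^ i)⁻¹) * (w ^ i * (a * w⁻¹) * (w ^ i)⁻¹) by rw [pow_succ, pow_succ]; group]
        exact O.mul_mem ih (Grp.mem_conj_normalizer (hOE (E.pow_mem hw i)) hwO)
    have hw1 : w = 1 := by
      have h1 := hpow (orderOf y)
      rw [orderOf_dvd_iff_pow_eq_one.1 hdvd, one_mul, inv_mem_iff] at h1
      have h2 : w ^ orderOf y ∈ O ⊓ E := ⟨h1, E.pow_mem hw _⟩
      rw [h.disj, mem_bot] at h2
      refine orderOf_eq_one_iff.1 (Nat.eq_one_of_dvd_coprimes (Nat.coprime_of_dvd fun p hp hp1 hp2 => ?_)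
        (orderOf_dvd_of_pow_eq_one h2) dvd_rfl)
      exact compl_prime h.hG h.hM h.hE hp (hp2.trans (Subgroup.orderOf_dvd_natCard _ hw))
        (TransHyp.piCoreOf_primes (π := Cfsg.sigma M) (X := M) hp (hp1.trans (Subgroup.orderOf_dvd_natCard _ hy)))
    rw [hw1, inv_one, mul_one] at hwO
    exact hwO
  -- integers
  have hbex : ∀ t : G, t ∈ T → ∀ y ∈ Tσ, ∃ b : ℤ, ∀ ξ ∈ U, F ξ (t * y) = Cfsg.extendByZero H ξ t + b := by
    intro t ht y hy
    have htH : t ∈ H := hD.subset (hTA t ht)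
    obtain ⟨b, hb⟩ := hFb ⟨t, htH⟩ (hTA t ht) y (by rw [hTR t ht]; exact hy)
    exact ⟨b, fun ξ hξ => by rw [hb ξ hξ, Char.extendByZero_of_mem _ htH]⟩
  choose! b hb using hbex
  have hnex : ∀ y : G, y ∈ Tσ → ∃ n : ℤ, ∀ ξ ∈ U, F ξ y = n := fun y hy => hFn y (hoffσ y hy)
  choose! d hd using hnex
  set sG : G → ℤ := fun a => if ha : a ∈ H then s ⟨a, ha⟩ else 0 with hsG
  have hsT : ∀ t ∈ T, |sG t| = (c : ℤ) := fun t ht => by
    have htH : t ∈ H := hD.subset (hTA t ht)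
    simp only [hsG, dif_pos htH]
    exact hsv ⟨t, htH⟩ ((hmemT t).1 ht).1 ((hmemT t).1 ht).2
  -- congruences
  obtain ⟨ξ₀, hξ₀⟩ := Finset.card_pos.1 (by omega : 0 < U.card)
  have hcong : ∀ t ∈ T, ∀ y ∈ Tσ, (r : ℤ) ∣ d y - b t y - e := by
    intro t ht y hy
    have htH : t ∈ H := hD.subset (hTA t ht)
    have hcom : t * y = y * t := by
      have := (hTC t ht).ge (mem_centralizer_singleton_iff.2 (mem_centralizer_iff.1 h.hvS y hy))
      exact (mem_centralizer_singleton_iff.1 this).symm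
    obtain ⟨ω₁, hω₁, e1⟩ := Cfsg.Agent.S1494.result (F ξ₀) (hF ξ₀ hξ₀).1 r hr.out t y (hTo t ht) hcom
    obtain ⟨ω₂, hω₂, e2⟩ := Cfsg.Agent.S1494.result ξ₀
      (Char.IsGenChar.of_isCharacter (Char.IsIrr.isCharacter (hU ξ₀ hξ₀).1)) r hr.out
      (⟨t, htH⟩ : H) 1 (by rw [Subgroup.orderOf_mk, hTo t ht]) (by rw [mul_one, one_mul])
    rw [mul_one, hU1 ξ₀ hξ₀] at e2
    rw [hb t ht y hy ξ₀ hξ₀, hd y hy ξ₀ hξ₀, Char.extendByZero_of_mem _ htH] at e1
    refine Cfsg.Agent.S1495.result _ hr.out (d y - b t y - e) (ω₂ - ω₁) (hω₂.sub hω₁) ?_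
    push_cast
    linear_combination e2 - e1
  -- the norms
  let Φ : G → ℝ := fun g => ∑ ξ ∈ U, ‖F ξ g‖ ^ 2
  let base : G → ℝ := fun a => ∑ ξ ∈ U, ‖Cfsg.extendByZero H ξ a‖ ^ 2
  have hΦ0 : ∀ g, 0 ≤ Φ g := fun g => Finset.sum_nonneg fun ξ _ => sq_nonneg _
  have hΦc : ∀ g x : G, Φ (x * g * x⁻¹) = Φ g := fun g x => Finset.sum_congr rfl fun ξ hξ => by
    rw [Char.IsGenChar.classFun (hF ξ hξ).1 g x]
  have hnorm1 : ∀ {X : Type u} [Group X] [Fintype X] (α : X → ℂ), Cfsg.classInner α α = 1 →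
      ∑ g : X, ‖α g‖ ^ 2 = (Nat.card X : ℝ) := by
    intro X _ _ α hα
    rw [Char.classInner_self, Complex.ofReal_eq_one, inv_mul_eq_one₀ (Nat.cast_ne_zero.2 Nat.card_pos.ne')] at hα
    exact hα.symm
  have hΦsum : ∑ g : G, Φ g = (k : ℝ) * Nat.card G := by
    show ∑ g : G, ∑ ξ ∈ U, _ = _
    rw [Finset.sum_comm, Finset.sum_congr rfl fun ξ hξ => hnorm1 (F ξ) (hF ξ hξ).2, Finset.sum_const, nsmul_eq_mul]
  have hval : ∀ a (ha : a ∈ A') (u : G) (b' : ℤ), (∀ ξ ∈ U, F ξ (a * u) = Cfsg.extendByZero H ξ a + b') →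
      Φ (a * u) = base a + ((k : ℤ) * b' ^ 2 + 2 * b' * sG a : ℤ) := by
    intro a ha u b' hb'
    have haH : a ∈ H := hD.subset ha
    have h1 := congrArg Complex.re (hs ⟨a, haH⟩ ha.1 ha.2).1
    rw [Complex.re_sum, Complex.intCast_re] at h1
    show ∑ ξ ∈ U, _ = _
    rw [Finset.sum_congr rfl fun ξ hξ => (by
      rw [hb' ξ hξ, ← Complex.normSq_eq_norm_sq, ← Complex.normSq_eq_norm_sq, Complex.normSq_add,
        Complex.normSq_intCast, map_intCast, Char.extendByZero_of_mem _ haH, Complex.mul_re,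
        Complex.intCast_re, Complex.intCast_im]
      ring : ‖F ξ (a * u)‖ ^ 2 =
        ‖Cfsg.extendByZero H ξ a‖ ^ 2 + ((b' : ℝ) ^ 2 + 2 * (b' : ℝ) * (ξ ⟨a, haH⟩).re)),
      Finset.sum_add_distrib, Finset.sum_add_distrib, Finset.sum_const, nsmul_eq_mul, ← Finset.mul_sum, h1]
    simp only [hsG, dif_pos haH, base]
    push_cast
    ring
  set As : Finset G := @Finset.filter G (fun a => a ∈ A') (fun _ => Classical.propDecidable _) Finset.univ with hAs
  let ext : G → ℝ := fun a => (Nat.card (R a) : ℝ)⁻¹ *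
    ∑ u ∈ Finset.univ.filter (fun u : G => u ∈ R a), (Φ (a * u) - base a)
  have hsplit : ∀ a : G, (Nat.card (R a) : ℝ)⁻¹ * ∑ u ∈ Finset.univ.filter (fun u : G => u ∈ R a), Φ (a * u) =
      base a + ext a := fun a => by
    simp only [ext, Finset.sum_sub_distrib, Finset.sum_const, nsmul_eq_mul, ← Fintype.card_subtype,
      ← Nat.card_eq_fintype_card, mul_sub]
    rw [inv_mul_cancel_left₀ (Nat.cast_ne_zero.2 Nat.card_pos.ne')]
    ring
  have hext0 : ∀ a ∈ As, 0 ≤ ext a := by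
    intro a ha
    replace ha : a ∈ A' := by simpa [hAs] using ha
    have haH : a ∈ H := hD.subset ha
    refine mul_nonneg (by positivity) (Finset.sum_nonneg fun u hu => ?_)
    obtain ⟨b', hb'⟩ := hFb ⟨a, haH⟩ ha u (by simpa using hu)
    rw [hval a ha u b' fun ξ hξ => by rw [hb' ξ hξ, Char.extendByZero_of_mem _ haH], add_sub_cancel_left]
    have h1 := (hs ⟨a, haH⟩ ha.1 ha.2).2
    have h2 : 0 ≤ (k : ℤ) * b' ^ 2 + 2 * b' * sG a := by
      simp only [hsG, dif_pos haH]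
      rcases eq_or_ne b' 0 with rfl | hb0
      · simp
      nlinarith [neg_abs_le (b' * s ⟨a, haH⟩), abs_mul b' (s ⟨a, haH⟩), sq_abs b',
        mul_le_mul_of_nonneg_left h1 (abs_nonneg b'),
        mul_nonneg (Int.natCast_nonneg k) (mul_nonneg (abs_nonneg b') (sub_nonneg.2 (Int.one_le_abs hb0)))]
    exact_mod_cast h2
  have hextc : ∀ a ∈ As, ∀ x ∈ H, ext (x * a * x⁻¹) = ext a := by
    intro a ha x hx
    replace ha : a ∈ A' := by simpa [hAs] using ha
    simp only [ext, Char.Dade.card_H_conj hD ha hx]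
    congr 1
    refine Finset.sum_nbij' (fun u => x⁻¹ * u * x) (fun u => x * u * x⁻¹) (fun u hu => ?_) (fun u hu => ?_)
      (fun u _ => by group) (fun u _ => by group) fun u _ => ?_
    · have h1 := Char.Dade.conj_mem_H hD (hD.conj_mem x hx a ha) (H.inv_mem hx)
        (show u ∈ R (x * a * x⁻¹) by simpa using hu)
      rw [inv_inv, show x⁻¹ * (x * a * x⁻¹) * x = a by group] at h1
      simpa using h1
    · simpa using Char.Dade.conj_mem_H hD ha hx (show u ∈ R a by simpa using hu)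
    · rw [← hΦc (a * (x⁻¹ * u * x)) x, show x * (a * (x⁻¹ * u * x)) * x⁻¹ = x * a * x⁻¹ * u by group]
      congr 1
      refine Finset.sum_congr rfl fun ξ hξ => ?_
      have haH : a ∈ H := hD.subset ha
      rw [Char.extendByZero_of_mem _ (H.mul_mem (H.mul_mem hx haH) (H.inv_mem hx)), Char.extendByZero_of_mem _ haH,
        ← Char.IsIrr.classFun (hU ξ hξ).1 ⟨a, haH⟩ ⟨x, hx⟩]
      rfl
  have hcH : (Nat.card H : ℝ) = (e : ℝ) * (Nat.card O * Nat.card E) := by
    have h1 := relIndex_mul_relIndex (⊥ : Subgroup G) (O ⊔ E) H bot_le hXH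
    have h2 := Grp.card_sup_mul_card_inf (H := E) (N := O) hOE
    rw [sup_comm E O, inf_comm E O, h.disj, Subgroup.card_bot, mul_one] at h2
    rw [relIndex_bot_left, relIndex_bot_left, h.relIndex_eq, h2] at h1
    rw [← h1]; push_cast; ring
  have hbase : ∑ a ∈ As, base a = (k : ℝ) * (Nat.card H - Nat.card O * (e : ℝ) ^ 2) := by
    show ∑ a ∈ As, ∑ ξ ∈ U, _ = _
    rw [Finset.sum_comm, Finset.sum_congr rfl (g := fun _ => (Nat.card H : ℝ) - Nat.card O * (e : ℝ) ^ 2)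
      fun ξ hξ => ?_, Finset.sum_const, nsmul_eq_mul]
    have h1 := hnorm1 ξ (Char.classInner_self_irr (hU ξ hξ).1)
    rw [hAs, Char.Dade.sum_subgroup_extend hD]
    have h2 : ∀ a : H, (if (a : G) ∈ A' then ‖Cfsg.extendByZero H ξ (a : G)‖ ^ 2 else 0) =
        ‖ξ a‖ ^ 2 - if (a : G) ∈ O then (e : ℝ) ^ 2 else 0 := by
      intro a
      rw [Char.extendByZero_apply]
      by_cases hX : (a : G) ∈ O ⊔ E
      · by_cases hO : (a : G) ∈ O
        · rw [if_neg fun hA => hA.2 hO, if_pos hO, (hU ξ hξ).2.2.1 a hO]; simp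
        · rw [if_pos ⟨hX, hO⟩, if_neg hO, sub_zero]
      · rw [if_neg fun hA => hX hA.1, if_neg fun hO => hX (mem_sup_left hO), (hU ξ hξ).2.1 a hX]; simp
    refine (Finset.sum_congr rfl (g := fun a : H => ‖ξ a‖ ^ 2 - if (a : G) ∈ O then (e : ℝ) ^ 2 else 0)
      fun a _ => by convert h2 a).trans ?_
    rw [Finset.sum_sub_distrib, h1, ← Finset.sum_filter, Finset.sum_const,
      nsmul_eq_mul, ← Fintype.card_subtype, ← Nat.card_eq_fintype_card]
    congr 3
    exact Nat.card_congr ⟨fun a => ⟨a.1, a.2⟩, fun o => ⟨⟨o, h.kernel_le o.2⟩, o.2⟩, fun _ => rfl, fun _ => rfl⟩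
  have hline : (Nat.card H : ℝ) * ∑ t ∈ T, ext t ≤ (Nat.card E : ℝ) * ∑ a ∈ As, ext a := by
    have h1 := sum_comp_le ((Finset.univ : Finset H) ×ˢ T) As (fun p => (p.1 : G) * p.2 * (p.1 : G)⁻¹) ext
      (Nat.card E) (fun p hp => by
        simpa [hAs] using hD.conj_mem p.1 p.1.2 p.2 (hTA _ (Finset.mem_product.1 hp).2))
      hext0 fun z _ => ?_
    · rw [Finset.sum_product, Finset.sum_congr rfl fun (x : H) _ => Finset.sum_congr rfl fun t ht =>
        hextc t (by simpa [hAs] using hTA t ht) x x.2, Finset.sum_const, Finset.card_univ, nsmul_eq_mul,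
        ← Nat.card_eq_fintype_card] at h1
      exact h1
    · set S := ((Finset.univ : Finset H) ×ˢ T).filter fun p => (p.1 : G) * p.2 * (p.1 : G)⁻¹ = z
      rcases S.eq_empty_or_nonempty with hS | ⟨p₀, hp₀⟩
      · simp [hS]
      have hkey : ∀ p ∈ S, (p₀.1 : G)⁻¹ * p.1 ∈ E ∧ p.2 = (p.1 : G)⁻¹ * z * p.1 := by
        intro p hp
        simp only [S, Finset.mem_filter, Finset.mem_product] at hp hp₀
        refine ⟨?_, by rw [← hp.2]; group⟩
        set g := (p₀.1 : G)⁻¹ * p.1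
        have hg : g * p.2 * g⁻¹ = p₀.2 := by
          calc g * p.2 * g⁻¹ = (p₀.1 : G)⁻¹ * ((p.1 : G) * p.2 * (p.1 : G)⁻¹) * p₀.1 := by simp only [g]; group
            _ = _ := by rw [hp.2, ← hp₀.2]; group
        have hgn : g ∈ normalizer (zpowers v : Set G) := by
          rw [← hTz p.2 hp.1.2]
          refine mem_normalizer_zpowers ?_
          rw [hg, hTz p.2 hp.1.2]
          exact ((hmemT _).1 hp₀.1.2).1
        obtain ⟨i, hi⟩ := exists_nat_pow_conj hgn
        have hle : centralizer ({v} : Set G) ≤ MulAut.conj g • M := by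
          intro x hx
          refine ⟨g⁻¹ * x * g, h.hCv (mem_centralizer_singleton_iff.2 ?_), by
            show MulAut.conj g (g⁻¹ * x * g) = x
            simp [MulAut.conj_apply]; group⟩
          have hx' : Commute x (g * v * g⁻¹) :=
            hi ▸ (show Commute x v from mem_centralizer_singleton_iff.1 hx).pow_right i
          calc g⁻¹ * x * g * v = g⁻¹ * (x * (g * v * g⁻¹)) * g := by group
            _ = g⁻¹ * ((g * v * g⁻¹) * x) * g := by rw [hx'.eq]
            _ = v * (g⁻¹ * x * g) := by group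
        have hgM : g ∈ M := mem_of_conj_smul_eq h.hG h.hM (h.uniq _ (isCoatom_conj h.hG h.hM g) hle)
        rw [← h.meet]
        exact ⟨hgM, H.mul_mem (H.inv_mem p₀.1.2) p.1.2⟩
      have h2 := Finset.card_le_card_of_injOn (s := S) (t := Finset.univ.filter fun g : G => g ∈ E)
        (fun p => (p₀.1 : G)⁻¹ * p.1) (fun p hp => by simpa using (hkey p hp).1) fun p hp q hq e' => by
        have e1 : p.1 = q.1 := Subtype.ext (mul_left_cancel e')
        exact Prod.ext e1 (by rw [(hkey p hp).2, (hkey q hq).2, e1])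
      rwa [← Fintype.card_subtype, ← Nat.card_eq_fintype_card] at h2
  set Y : Finset G :=
    Finset.univ.filter (fun y => y ∈ Tσ ∧ y ≠ 1 ∧ centralizer ({y} : Set G) ≤ M) with hY
  have hmemY : ∀ y, y ∈ Y ↔ y ∈ Tσ ∧ y ≠ 1 ∧ centralizer ({y} : Set G) ≤ M := fun y => by simp [hY]
  set off : Finset G := Finset.univ.filter (fun g => g ∉ Char.Dade.supp A' R) with hoffdef
  have hoffY : (Nat.card G : ℝ) * ∑ y ∈ Y, Φ y ≤ (Nat.card M : ℝ) * ∑ g ∈ off, Φ g := by
    have h1 := sum_comp_le ((Finset.univ : Finset G) ×ˢ Y) off (fun p => p.1 * p.2 * p.1⁻¹) Φ (Nat.card M)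
      (fun p hp => by
        have h2 := hoffσ _ ((hmemY _).1 (Finset.mem_product.1 hp).2).1
        simp only [hoffdef, Finset.mem_filter, Finset.mem_univ, true_and]
        refine fun h3 => h2 ?_
        have h4 := Char.Dade.mem_supp_conj h3 p.1⁻¹
        rwa [show p.1⁻¹ * (p.1 * p.2 * p.1⁻¹) * p.1⁻¹⁻¹ = p.2 by group] at h4)
      (fun g _ => hΦ0 g) fun z _ => ?_
    · rw [Finset.sum_product, Finset.sum_congr rfl fun x _ => Finset.sum_congr rfl fun y _ => hΦc y x,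
        Finset.sum_const, Finset.card_univ, nsmul_eq_mul, ← Nat.card_eq_fintype_card] at h1
      exact h1
    · set S := ((Finset.univ : Finset G) ×ˢ Y).filter fun p => p.1 * p.2 * p.1⁻¹ = z
      rcases S.eq_empty_or_nonempty with hS | ⟨p₀, hp₀⟩
      · simp [hS]
      have hkey : ∀ p ∈ S, p₀.1⁻¹ * p.1 ∈ M ∧ p.2 = p.1⁻¹ * z * p.1 := by
        intro p hp
        simp only [S, Finset.mem_filter, Finset.mem_product] at hp hp₀
        refine ⟨?_, by rw [← hp.2]; group⟩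
        have hg : (p₀.1⁻¹ * p.1) * p.2 * (p₀.1⁻¹ * p.1)⁻¹ = p₀.2 := by
          calc _ = p₀.1⁻¹ * (p.1 * p.2 * p.1⁻¹) * p₀.1 := by group
            _ = _ := by rw [hp.2, ← hp₀.2]; group
        obtain ⟨hy, hy1, hyC⟩ := (hmemY _).1 hp.1.2
        obtain ⟨x, hx, hgx⟩ := Char.TypeSet.core_fusion h.hG h.hM hy hy1
          (by rw [hg]; exact TransHyp.piCoreOf_le M ((hmemY _).1 hp₀.1.2).1)
        exact (M.mul_mem_cancel_right (hyC hx)).1 hgx
      have h2 := Finset.card_le_card_of_injOn (s := S) (t := Finset.univ.filter fun g : G => g ∈ M)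
        (fun p => p₀.1⁻¹ * p.1) (fun p hp => by simpa using (hkey p hp).1) fun p hp q hq e' => by
        have e1 : p.1 = q.1 := mul_left_cancel e'
        exact Prod.ext e1 (by rw [(hkey p hp).2, (hkey q hq).2, e1])
      rwa [← Fintype.card_subtype, ← Nat.card_eq_fintype_card] at h2
  -- combine
  have hsupp : (Nat.card G : ℝ)⁻¹ * ∑ g ∈ Finset.univ.filter (fun g => g ∈ Char.Dade.supp A' R), Φ g =
      (Nat.card H : ℝ)⁻¹ * ∑ a ∈ As, (base a + ext a) := by
    rw [Finset.sum_filter, Char.Dade.average hD (fun g => if g ∈ Char.Dade.supp A' R then Φ g else 0)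
      (fun g x => by
        by_cases hg : g ∈ Char.Dade.supp A' R
        · rw [if_pos hg, if_pos (Char.Dade.mem_supp_conj hg x), hΦc]
        · rw [if_neg hg, if_neg fun h3 => hg (by simpa [mul_assoc] using Char.Dade.mem_supp_conj h3 x⁻¹)])
      (fun g hg => if_neg hg)]
    congr 1
    refine Finset.sum_congr rfl fun a ha => ?_
    rw [← hsplit a]
    congr 1
    refine Finset.sum_congr rfl fun u hu => ?_
    exact if_pos (Char.Dade.mem_supp_coset (by simpa [hAs] using ha) (by simpa using hu))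
  set Ts : Finset G := Finset.univ.filter (fun y => y ∈ Tσ) with hTs
  have hextT : ∀ t ∈ T, (Nat.card Tσ : ℝ) * ext t =
      ((∑ y ∈ Ts, ((k : ℤ) * b t y ^ 2 + 2 * b t y * sG t) : ℤ) : ℝ) := by
    intro t ht
    simp only [ext, hTR t ht]
    rw [mul_inv_cancel_left₀ (Nat.cast_ne_zero.2 Nat.card_pos.ne'), Int.cast_sum]
    refine Finset.sum_congr rfl fun y hy => ?_
    rw [hval t (hTA t ht) y (b t y) fun ξ hξ => hb t ht y (by simpa [hTs] using hy) ξ hξ, add_sub_cancel_left]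
  have hY' : ∀ y ∈ Y, Φ y = ((k : ℤ) * d y ^ 2 : ℤ) := by
    intro y hy
    show ∑ ξ ∈ U, _ = _
    rw [Finset.sum_congr rfl fun ξ hξ => by
      rw [hd y ((hmemY y).1 hy).1 ξ hξ, ← Complex.normSq_eq_norm_sq, Complex.normSq_intCast],
      Finset.sum_const, nsmul_eq_mul]
    push_cast
    ring
  have hTM : (Nat.card M : ℝ) = (Nat.card E : ℝ) * (Nat.card Tσ : ℝ) := by
    have h2 := (complIn_card h.hE).symm
    rw [h2]; push_cast; rfl
  have hmain : (Nat.card Tσ : ℝ) * ∑ t ∈ T, ext t + ∑ y ∈ Y, Φ y ≤ (k : ℝ) * e * Nat.card Tσ := by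
    have hG0 : (0 : ℝ) < Nat.card G := Nat.cast_pos.2 Nat.card_pos
    have hE0 : (0 : ℝ) < Nat.card E := Nat.cast_pos.2 Nat.card_pos
    have hO0 : (0 : ℝ) < Nat.card O := Nat.cast_pos.2 Nat.card_pos
    have hT0 : (0 : ℝ) < Nat.card Tσ := Nat.cast_pos.2 Nat.card_pos
    have he0 : (0 : ℝ) < e := by exact_mod_cast (show 0 < e by omega)
    have hsplit2 := Finset.sum_filter_add_sum_filter_not Finset.univ (fun g => g ∈ Char.Dade.supp A' R) Φ
    rw [← hoffdef, hΦsum] at hsplit2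
    rw [Finset.sum_add_distrib, hbase, inv_mul_eq_iff_eq_mul₀ hG0.ne'] at hsupp
    rw [hsupp] at hsplit2
    rw [hcH] at hline hsplit2
    rw [hTM] at hoffY
    set L := ∑ t ∈ T, ext t
    set W := ∑ a ∈ As, ext a
    set Z := ∑ g ∈ off, Φ g
    set V := ∑ y ∈ Y, Φ y
    field_simp at hsplit2
    have h1 : (Nat.card O : ℝ) * e * L ≤ W := by nlinarith
    have h2 : (Nat.card G : ℝ) * (W + V * (Nat.card O * e) / Nat.card Tσ) ≤
        (Nat.card G : ℝ) * ((k : ℝ) * Nat.card O * (e : ℝ) ^ 2) := by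
      have h3 : (Nat.card G : ℝ) * V * (Nat.card O * e) / Nat.card Tσ ≤ Nat.card E * Z * (Nat.card O * e) := by
        rw [div_le_iff₀ hT0]
        nlinarith [mul_le_mul_of_nonneg_right hoffY (mul_pos hO0 he0).le]
      rw [mul_add, ← mul_div_assoc, ← mul_assoc]
      nlinarith
    have h4 := le_of_mul_le_mul_left h2 hG0
    have h5 : W * Nat.card Tσ + V * (Nat.card O * e) ≤ (k : ℝ) * Nat.card O * (e : ℝ) ^ 2 * Nat.card Tσ := by
      have := mul_le_mul_of_nonneg_right h4 hT0.le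
      rwa [add_mul, div_mul_cancel₀ _ hT0.ne'] at this
    refine le_of_mul_le_mul_right ?_ (mul_pos hO0 he0)
    nlinarith [mul_le_mul_of_nonneg_right h1 hT0.le]
  have hmainZ : ∑ y ∈ Y, ((k : ℤ) * d y ^ 2 + ∑ t ∈ T, ((k : ℤ) * b t y ^ 2 + 2 * b t y * sG t)) ≤
      (k : ℤ) * e * Nat.card Tσ := by
    rw [Finset.mul_sum, Finset.sum_congr rfl hextT, Finset.sum_congr rfl hY', ← Int.cast_sum, ← Int.cast_sum,
      ← Int.cast_add] at hmain
    have h1 : (∑ t ∈ T, ∑ y ∈ Ts, ((k : ℤ) * b t y ^ 2 + 2 * b t y * sG t)) + ∑ y ∈ Y, (k : ℤ) * d y ^ 2 ≤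
        (k : ℤ) * e * Nat.card Tσ := by
      have : (((k : ℤ) * e * Nat.card Tσ : ℤ) : ℝ) = (k : ℝ) * e * Nat.card Tσ := by push_cast; rfl
      rw [← this] at hmain
      exact Int.cast_le.1 hmain
    refine le_trans ?_ h1
    rw [Finset.sum_add_distrib, add_comm, Finset.sum_comm]
    refine add_le_add (Finset.sum_le_sum fun t ht => ?_) le_rfl
    refine Finset.sum_le_sum_of_subset_of_nonneg (fun y hy => by simpa [hTs] using ((hmemY y).1 hy).1) fun y hy _ => ?_
    exact (twist_term (Int.natCast_nonneg c) (by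
      have h2 : 2 * c ≤ k := Nat.le_of_mul_le_mul_right (by
        rw [hke]
        calc 2 * c * e = c * (2 * e) * 1 := by ring
          _ ≤ c * m * (r - 1) := by gcongr; omega) (show 0 < e by omega)
      exact_mod_cast h2) (hsT t ht)).1
  have hlow : ∀ y ∈ Y, (2 * (e : ℤ) + 1) * k ≤
      2 * ((k : ℤ) * d y ^ 2 + ∑ t ∈ T, ((k : ℤ) * b t y ^ 2 + 2 * b t y * sG t)) := fun y hy =>
    twist_local he3 hme hcase hc hke T hTcard (fun t => b t y) sG (d y) hsT
      fun t ht => hcong t ht y ((hmemY y).1 hy).1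
  have h6 : (2 * (e : ℤ) + 1) * k * Y.card ≤ 2 * ((k : ℤ) * e * Nat.card Tσ) := by
    rw [mul_comm _ (Y.card : ℤ), ← nsmul_eq_mul, ← Finset.sum_const]
    refine (Finset.sum_le_sum hlow).trans ?_
    rw [← Finset.mul_sum]
    linarith
  have hYcard : Nat.card Tσ ≤ Y.card + Nat.card P := by
    have h7 : Ts ⊆ Y ∪ Finset.univ.filter (fun y : G => y ∈ P) := fun y hy => by
      simp only [hTs, Finset.mem_filter, Finset.mem_univ, true_and] at hy
      by_cases hyP : y ∈ P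
      · simp [hyP]
      · exact Finset.mem_union_left _ ((hmemY y).2 ⟨hy, fun e' => hyP (e' ▸ P.one_mem), hgood y hy hyP⟩)
    have h8 := (Finset.card_le_card h7).trans (Finset.card_union_le _ _)
    simpa [hTs, Fintype.card_subtype, Nat.card_eq_fintype_card] using h8
  have hn : Nat.card Tσ = P.relIndex Tσ * Nat.card P := by
    have h1 := relIndex_mul_relIndex (⊥ : Subgroup G) P Tσ bot_le hP
    rw [relIndex_bot_left, relIndex_bot_left] at h1
    rw [← h1, mul_comm]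
  set n := P.relIndex Tσ
  have hn2 : 2 * e + 2 ≤ n := by omega
  have h7 : (2 * (e : ℤ) + 1) * Y.card ≤ 2 * e * Nat.card Tσ := by
    refine le_of_mul_le_mul_left ?_ (show (0 : ℤ) < k by omega)
    linarith
  have hY2 : (Nat.card Tσ : ℤ) ≤ Y.card + Nat.card P := by exact_mod_cast hYcard
  have hn3 : (Nat.card Tσ : ℤ) = n * Nat.card P := by exact_mod_cast hn
  have hP0 : (0 : ℤ) < Nat.card P := by exact_mod_cast Nat.card_pos
  have hn4 : (2 * (e : ℤ) + 2) ≤ n := by exact_mod_cast hn2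
  nlinarith [mul_le_mul_of_nonneg_right hn4 hP0.le]

end Cfsg.Agent.Transfer.Loc
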