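import Cfsg.Agent.Lib.Transfer.Local.NonTI
import Cfsg.Agent.Lib.Transfer.Local.TwistCount
import Cfsg.Agent.Lib.Transfer.Local.SupportKappa
import Cfsg.Agent.S1421
import Cfsg.Agent.S1438
import Cfsg.Agent.S1545

/-!
Type I: the `p'`-core of a maximal subgroup whose core is not a TI-subgroup and has nonabelian Sylow `p`-subgroup.
-/

set_option autoImplicit false
set_option linter.style.haveILetI false
set_option linter.unusedSectionVars false
set_option maxHeartbeats 2000000

namespace Cfsg.Agent.Transfer.Loc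

open Subgroup
open scoped commutatorElement Pointwise

universe u

variable {G : Type u} [Group G] [Finite G]

theorem mem_of_pow_coprime {K : Subgroup G} {a : G} {n : ℕ} (hn : a ^ n ∈ K) (hcop : n.Coprime (orderOf a)) :
    a ∈ K := by
  obtain ⟨m, hm⟩ := exists_pow_eq_self_of_coprime hcop
  exact hm ▸ K.pow_mem hn m

/-- Two commuting cyclic subgroups of coprime order span a cyclic subgroup. -/
theorem isCyclic_sup_comm {B X : Subgroup G} (hB : IsCyclic B) (hX : IsCyclic X) (hc : B ≤ centralizer (X : Set G))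
    (hcop : (Nat.card B).Coprime (Nat.card X)) : IsCyclic ↥(B ⊔ X) := by
  obtain ⟨⟨b, hb⟩, hbg⟩ := IsCyclic.exists_generator (α := B)
  obtain ⟨⟨t, ht⟩, htg⟩ := IsCyclic.exists_generator (α := X)
  have hbt : Commute b t := (mem_centralizer_iff.1 (hc hb) t ht).symm
  have hBb : B ≤ zpowers b := fun a ha => by
    obtain ⟨i, hi⟩ := mem_zpowers_iff.1 (hbg ⟨a, ha⟩)
    exact ⟨i, by simpa using congrArg Subtype.val hi⟩
  have hXt : X ≤ zpowers t := fun a ha => by
    obtain ⟨i, hi⟩ := mem_zpowers_iff.1 (htg ⟨a, ha⟩)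
    exact ⟨i, by simpa using congrArg Subtype.val hi⟩
  have hbB : b ^ Nat.card B = 1 := orderOf_dvd_iff_pow_eq_one.1 (Subgroup.orderOf_dvd_natCard _ hb)
  have htX : t ^ Nat.card X = 1 := orderOf_dvd_iff_pow_eq_one.1 (Subgroup.orderOf_dvd_natCard _ ht)
  have h1 : b ∈ zpowers (b * t) := mem_of_pow_coprime (n := Nat.card X) (by
      rw [show b ^ Nat.card X = (b * t) ^ Nat.card X by rw [hbt.mul_pow, htX, mul_one]]
      exact npow_mem_zpowers _ _) (hcop.symm.coprime_dvd_right (Subgroup.orderOf_dvd_natCard _ hb))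
  have h2 : t ∈ zpowers (b * t) := mem_of_pow_coprime (n := Nat.card B) (by
      rw [show t ^ Nat.card B = (b * t) ^ Nat.card B by rw [hbt.mul_pow, hbB, one_mul]]
      exact npow_mem_zpowers _ _) (hcop.coprime_dvd_right (Subgroup.orderOf_dvd_natCard _ ht))
  exact Subgroup.isCyclic_of_le (sup_le (hBb.trans (zpowers_le.2 h1)) (hXt.trans (zpowers_le.2 h2)))

variable (hG : Cfsg.IsMinSimpleOddOrder G) {M : Subgroup G} (hM : IsCoatom M)
include hG hM

namespace NonTIData

variable {p : ℕ} [hp : Fact p.Prime] {P : Subgroup G} (h : NonTIData M p P) (hna : ¬ IsMulCommutative P)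
include h hna

/-- Subgroups of `M_σ` of order prime to `p` are cyclic. -/
theorem cyclic_of_coprime {B : Subgroup G} (hB : B ≤ Cfsg.sigmaCore M) (hcop : (Nat.card B).Coprime p) :
    IsCyclic B := by
  haveI : Group.IsNilpotent B := Grp.isNilpotent_of_le hB h.hnil
  haveI : IsZGroup B := ⟨fun q hq T => by
    haveI := Fact.mk hq
    set T' := (T : Subgroup B).map B.subtype
    have hTp : IsPGroup q T' := T.isPGroup'.map _
    have e : ↥(T : Subgroup B) ≃* ↥T' := (T : Subgroup B).equivMapOfInjective _ B.subtype_injective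
    rcases eq_or_ne T' ⊥ with h0 | h0
    · haveI : IsCyclic T' := by rw [h0]; infer_instance
      exact isCyclic_of_surjective _ e.symm.surjective
    have hqp : q ≠ p := fun e' => by
      subst e'
      exact hq.ne_one (Nat.eq_one_of_dvd_coprimes hcop
        ((dvd_card_of_pGroup hTp h0).trans (card_dvd_of_le (map_subtype_le _))) dvd_rfl)
    obtain ⟨Q, hQ⟩ := Grp.exists_isSylowIn q (Cfsg.sigmaCore M)
    haveI := (h.others q ⟨hq⟩ hqp Q hQ).2.2 hna
    haveI : IsCyclic T' := Subgroup.isCyclic_of_le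
      (le_of_pgroup_nilpotent h.hnil hQ ((map_subtype_le _).trans hB) hTp)
    exact isCyclic_of_surjective _ e.symm.surjective⟩
  infer_instance

/-- An element of prime order `r ∈ τ₂(M)` centralising `P` centralises `M_σ`. -/
theorem gap {z : G} (hz : z ∈ Cfsg.sigmaCore M) (hzo : orderOf z = p) (hC : ¬ centralizer ({z} : Set G) ≤ M)
    {r : ℕ} [hr : Fact r.Prime] (hτ : r ∈ Cfsg.tau2 M) {v : G} (hvM : v ∈ M) (hvo : orderOf v = r)
    (hvP : v ∈ centralizer (P : Set G)) : v ∈ centralizer (Cfsg.sigmaCore M : Set G) := by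
  set S := Cfsg.sigmaCore M with hSdef
  have hSM : S ≤ M := TransHyp.piCoreOf_le M
  have hz1 : z ≠ 1 := fun e => hp.out.ne_one (by rw [← hzo, e, orderOf_one])
  have hzP : z ∈ P := (le_of_pgroup_nilpotent h.hnil h.sylow (zpowers_le.2 hz)
    (IsPGroup.of_card (n := 1) (by rw [Nat.card_zpowers, hzo, pow_one]))) (mem_zpowers z)
  suffices hle : S ≤ centralizer (zpowers v : Set G) from le_centralizer_iff.1 hle (mem_zpowers v)
  refine (Grp.le_of_forall_sylow (inf_le_left : S ⊓ centralizer (zpowers v : Set G) ≤ S)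
    fun q hq => ?_).trans inf_le_right
  obtain ⟨Q, hQ⟩ := Grp.exists_isSylowIn q S
  refine ⟨Q, hQ, le_inf hQ.1 (le_centralizer_iff.1 (zpowers_le.2 ?_))⟩
  by_cases hqp : q = p
  · subst hqp
    exact centralizer_le (le_of_pgroup_nilpotent h.hnil h.sylow hQ.1 hQ.2.1) hvP
  rcases eq_or_ne Q ⊥ with hQ1 | hQ1
  · rw [hQ1]; exact mem_centralizer_iff.2 fun x hx => by rw [mem_bot.1 hx, one_mul, mul_one]
  have hd : q ∣ Nat.card S := (dvd_card_of_pGroup hQ.2.1 hQ1).trans (card_dvd_of_le hQ.1)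
  obtain ⟨-, hMQ⟩ := h.sylow_M hG hM hQ hd
  haveI hQc : IsCyclic Q := (h.others q hq hqp Q hQ).2.2 hna
  haveI : IsMulCommutative Q := IsCyclic.isMulCommutative
  have hrσ : r ∉ Cfsg.sigma M := hτ.2.1
  have hqr : q ≠ r := fun e => hrσ (e ▸ TransHyp.piCoreOf_primes (π := Cfsg.sigma M) (X := M) hq.out hd)
  refine centralizes_of_omZ hQ.2.1 (zpowers_le.2 (hMQ hvM)) ?_ ?_ (mem_zpowers v)
  · obtain ⟨i, hi⟩ := IsPGroup.iff_card.1 hQ.2.1
    rw [hi, Nat.card_zpowers, hvo]
    exact ((Nat.coprime_primes hr.out hq.out).2 hqr.symm).pow_right i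
  by_contra hne
  set W := omZ q Q with hWdef
  have hWc : Nat.card W = q := le_antisymm
    (card_le_prime_of_cyclic (Subgroup.isCyclic_of_le (omZ_le Q)) (omZ_elem Q).2)
    (Nat.le_of_dvd Nat.card_pos (dvd_card_of_pGroup (hQ.2.1.to_le (omZ_le Q)) (omZ_ne_bot hQ.2.1 hQ1)))
  obtain ⟨N, hsup, -, -, -, hτz⟩ := support_unique hG hM hz hz1 hC
  haveI := solvable_of_ne_top hG hsup.hN.1
  haveI := solvable_of_ne_top hG hM.1
  haveI := isSolvable_of_le (inf_le_left : M ⊓ N ≤ M)
  have hκN : Cfsg.kappa N = ∅ := by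
    by_contra hne'
    have h1 := (support_frobenius hG hM hz hz1 hC hsup.hN hsup.le (Set.nonempty_iff_ne_empty.2 hne')).2.1
    rw [h1] at hτ
    exact hτ
  have hpτ : p ∈ Cfsg.tau2 N := hτz p hp.out (by rw [hzo])
  -- the Sylow `p`-subgroups of `G` are nonabelian
  obtain ⟨hPM, -⟩ := h.sylow_M hG hM h.sylow (h.dvd_card hG hM)
  obtain ⟨-, hidx⟩ := sigma_sylow hG hM h.memσ hPM
  set PG : Sylow p G := h.sylow.2.1.toSylow hidx
  have hnaG : ∀ S' : Sylow p G, ¬ IsMulCommutative (S' : Subgroup G) := fun S' hc => hna (by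
    haveI := hc
    have h1 : IsMulCommutative (PG : Subgroup G) :=
      ⟨⟨fun a b => (PG.equiv S').injective (by rw [map_mul, map_mul]; exact hc.is_comm.comm _ _)⟩⟩
    exact h1)
  obtain ⟨TA, hTA⟩ := Grp.exists_isSylowIn p (M ⊓ N)
  obtain ⟨A, hAT, hA, hA2⟩ := tau2_plane hG hsup.hN hsup.compl hpτ hTA
  have hτN : Cfsg.tau2 N = {p} :=
    (Cfsg.Agent.S1419.result hG N hsup.hN (M ⊓ N) hsup.compl p hpτ hnaG A ⟨hAT.trans hTA.1, hA, hA2⟩).1
  set Nσ := Cfsg.sigmaCore N with hNσdef
  have hfree : ∀ (s : ℕ) (Y : Subgroup G), s.Prime → Y ≤ M ⊓ N → Nat.card Y = s → s ≠ p →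
      Nσ ⊓ centralizer (Y : Set G) = ⊥ := by
    intro s Y hs hY hYc hsp
    haveI := Fact.mk hs
    obtain ⟨y, hyY, hy1, hgen⟩ := exists_generator_line hYc
    rw [← hgen, centralizer_zpowers_eq]
    by_contra hne'
    have hyo : orderOf y = s := by rw [← Nat.card_zpowers, hgen, hYc]
    have hsdiv : ∀ t : ℕ, t.Prime → t ∣ orderOf y → t = s := fun t ht hd' => by
      rw [hyo] at hd'; exact (Nat.prime_dvd_prime_iff_eq ht hs).1 hd'
    rcases fixed_primes_cases hG hsup.hN (hY hyY).2 hy1 (fun t ht hd' => compl_prime hG hsup.hN hsup.compl ht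
        (hd'.trans (Subgroup.orderOf_dvd_natCard _ (hY hyY)))) hne' with h1 | h1
    · exact (hκN ▸ h1 s hs hyo.symm.dvd :)
    · have h2 := h1 s hs hyo.symm.dvd
      rw [hτN, Set.mem_singleton_iff] at h2
      exact hsp h2
  have hWMN : W ≤ M ⊓ N := le_inf ((omZ_le Q).trans (hQ.1.trans hSM)) fun x hx => hsup.le
    (mem_centralizer_singleton_iff.2 (TypeP.commute_of_coprime_orderOf h.hnil (hQ.1 (omZ_le Q hx)) hz
      (((coprime_O hqp hQ.2.1 (IsPGroup.of_card (n := 1) (show Nat.card (zpowers z) = p ^ 1 by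
        rw [Nat.card_zpowers, hzo, pow_one]))).coprime_dvd_left
          (Subgroup.orderOf_dvd_natCard _ (omZ_le Q hx))).coprime_dvd_right
            (Subgroup.orderOf_dvd_natCard _ (mem_zpowers z)))))
  have hvN : v ∈ M ⊓ N :=
    ⟨hvM, hsup.le (mem_centralizer_singleton_iff.2 (mem_centralizer_iff.1 hvP z hzP).symm)⟩
  have hvc : Nat.card (zpowers v) = r := by rw [Nat.card_zpowers, hvo]
  have hvW : zpowers v ≤ normalizer (W : Set G) :=
    zpowers_le.2 (((normalizer_le_omZ (p := q) Q)) (hMQ hvM))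
  have hmeet : W ⊓ zpowers v = ⊥ := Grp.inf_eq_bot_of_coprime (by
    rw [hWc, hvc]; exact (Nat.coprime_primes hq.out hr.out).2 hqr)
  have hUEle : W ⊔ zpowers v ≤ M ⊓ N := sup_le hWMN (zpowers_le.2 hvN)
  have hcopN : (Nat.card Nσ).Coprime (Nat.card (M ⊓ N : Subgroup G)) := Nat.coprime_of_dvd fun t ht h1 h2 =>
    compl_prime hG hsup.hN hsup.compl ht h2 (TransHyp.piCoreOf_primes (π := Cfsg.sigma N) (X := N) ht h1)
  have hform := Cfsg.Agent.S1545.result W (zpowers v) Nσ (fun e => hq.out.ne_one (by rw [← hWc, e, card_bot]))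
    (fun e => hr.out.ne_one (by rw [← hvc, e, card_bot])) hmeet
    (fun e he u hu => Grp.mem_conj_normalizer (hvW he) hu)
    (fun e he he1 u hu hcomm => by
      by_contra hu1
      refine hne (zpowers_le.2 (mem_centralizer_iff.2 fun w hw => ?_))
      have hw' : w ∈ zpowers u := (zpowers_eq_of_prime hWc hu hu1).ge hw
      have hv' : v ∈ zpowers e := (zpowers_eq_of_prime hvc he he1).ge (mem_zpowers v)
      obtain ⟨i, rfl⟩ := mem_zpowers_iff.1 hw'
      obtain ⟨j, rfl⟩ := mem_zpowers_iff.1 hv'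
      exact ((show Commute u e from hcomm.symm).zpow_zpow i j).eq)
    (fun x hx y hy => Grp.mem_conj_normalizer (TransHyp.le_normalizer_piCoreOf N (hUEle hx).2) hy)
    (Grp.inf_eq_bot_of_coprime (hcopN.coprime_dvd_right (card_dvd_of_le hUEle)))
    (isSolvable_of_le (TransHyp.piCoreOf_le N)) (hcopN.coprime_dvd_right (card_dvd_of_le hUEle))
  have h1 : Nσ ⊓ centralizer (zpowers v : Set G) = ⊥ :=
    hfree r _ hr.out (zpowers_le.2 hvN) hvc (fun e => hrσ (e ▸ h.memσ))
  have h2 : Nσ ⊓ centralizer (W : Set G) = ⊥ := hfree q W hq.out hWMN hWc hqp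
  have h3 : Nσ ⊓ centralizer ((W ⊔ zpowers v : Subgroup G) : Set G) = ⊥ :=
    le_bot_iff.1 ((inf_le_inf_left _ (centralizer_le (SetLike.coe_subset_coe.2 (le_sup_left : W ≤ W ⊔ zpowers v)))).trans h2.le)
  rw [h1, h2, h3, card_bot, one_pow, one_mul, one_mul] at hform
  exact sigmaCore_ne_bot hG hsup.hN (Subgroup.card_eq_one.1 hform)

/-- Elements of prime power order `r ∈ τ₂(M)` centralising `P` centralise `M_σ`. -/
theorem centralizes {z : G} (hz : z ∈ Cfsg.sigmaCore M) (hzo : orderOf z = p) (hC : ¬ centralizer ({z} : Set G) ≤ M)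
    (hκ : Cfsg.kappa M = ∅) {r : ℕ} [hr : Fact r.Prime] (hτ : r ∈ Cfsg.tau2 M) {x : G} (hxM : x ∈ M) {i : ℕ}
    (hxo : orderOf x = r ^ i) (hxP : x ∈ centralizer (P : Set G)) : x ∈ centralizer (Cfsg.sigmaCore M : Set G) := by
  haveI := solvable_of_ne_top hG hM.1
  set S := Cfsg.sigmaCore M with hSdef
  match i with
  | 0 =>
    rw [pow_zero, orderOf_eq_one_iff] at hxo
    rw [hxo]; exact one_mem _
  | 1 => exact h.gap hG hM hna hz hzo hC hτ hxM (by rw [hxo, pow_one]) hxP
  | j + 2 =>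
    by_cases hPS : S ≤ P
    · exact centralizer_le hPS hxP
    exfalso
    set t := x ^ r ^ j with ht
    have hto : orderOf t = r ^ 2 := by
      rw [ht, orderOf_pow_of_dvd (pow_ne_zero _ hr.out.ne_zero) (hxo ▸ pow_dvd_pow r (by omega)), hxo,
        Nat.pow_div (by omega) hr.out.pos]
      congr 1
      omega
    set v := t ^ r with hvdef
    have hvo : orderOf v = r := by
      rw [hvdef, orderOf_pow_of_dvd hr.out.ne_zero (hto ▸ dvd_pow_self r two_ne_zero), hto, sq,
        Nat.mul_div_cancel _ hr.out.pos]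
    have htM : t ∈ M := M.pow_mem hxM _
    have hvS : v ∈ centralizer (S : Set G) := h.gap hG hM hna hz hzo hC hτ (M.pow_mem htM _) hvo
      ((centralizer (P : Set G)).pow_mem ((centralizer (P : Set G)).pow_mem hxP _) _)
    by_cases habel : ∀ S' : Sylow r G, IsMulCommutative (S' : Subgroup G)
    · -- abelian Sylow subgroups: a twisted configuration
      obtain ⟨E, H, O, A, htw⟩ := exists_twist hG hM hκ (h.derived_le_fitting hG hM) h.hH hτ habel
        (M.pow_mem htM _) hvo hvS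
      refine htw.absurd h.hH h.sylow.1 (fun y hy hyP => by_contra fun hyC => hyP ?_) ?_
      · refine (le_of_pgroup_nilpotent h.hnil h.sylow (zpowers_le.2 hy) (isPGroup_of_primes fun s hs hd => ?_))
          (mem_zpowers y)
        by_contra hsp
        haveI := Fact.mk hs
        rw [Nat.card_zpowers] at hd
        set w := y ^ (orderOf y / s) with hw
        have hwo : orderOf w = s := orderOf_pow_orderOf_div (orderOf_pos y).ne' hd
        have hwS : w ∈ S := S.pow_mem hy _
        have hwC : ¬ centralizer ({w} : Set G) ≤ M := fun hle => hyC fun c hc => hle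
          (mem_centralizer_singleton_iff.2 ((show Commute c y from mem_centralizer_singleton_iff.1 hc).pow_right _).eq)
        obtain ⟨Q, hQ⟩ := Grp.exists_isSylowIn s S
        haveI := (h.others s ⟨hs⟩ hsp Q hQ).2.2 hna
        refine (support_sylows hG hM h.hnil hwS hwo hwC hQ).2.2.1 fun B _ hB => ?_
        rw [pow_one]
        exact card_le_prime_of_cyclic inferInstance fun b hb => hB b hb
      · show r + 2 < P.relIndex S
        have hPle : Nat.card P < Nat.card S := by
          refine lt_of_le_of_ne (Nat.le_of_dvd Nat.card_pos (card_dvd_of_le h.sylow.1)) fun e => hPS ?_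
          exact (Subgroup.eq_of_le_of_card_ge h.sylow.1 e.ge).ge
        have hmul : Nat.card P * P.relIndex S = Nat.card S := Grp.card_mul_relIndex h.sylow.1
        have hn1 : P.relIndex S ≠ 1 := fun e => by rw [e, mul_one] at hmul; omega
        obtain ⟨q, hq, hqd⟩ := Nat.exists_prime_and_dvd hn1
        haveI := Fact.mk hq
        have hqp : q ≠ p := fun e => h.sylow.2.2 (e ▸ hqd)
        have hqS : q ∣ Nat.card S := hqd.trans (Dvd.intro_left _ hmul)
        obtain ⟨Z, hZc, hZS, hMZ, -⟩ := h.exists_line hG hM hna hqS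
        have hfix : S ⊓ centralizer (A : Set G) = ⊥ := (Cfsg.Agent.S1417.result hG M hM r hτ A
          ⟨htw.hAE.trans htw.hE.1, htw.elem, htw.card⟩).2.2.2.1
        obtain ⟨a, haA, haZ⟩ := SetLike.not_le_iff_exists.1 fun hle : A ≤ centralizer (Z : Set G) =>
          hq.ne_one (by
            rw [← hZc, show Z = ⊥ from le_bot_iff.1 ((le_inf hZS (le_centralizer_iff.1 hle)).trans hfix.le),
              card_bot])
        have ha1 : a ≠ 1 := fun e => haZ (e ▸ one_mem _)
        have hao : orderOf a = r := orderOf_eq_prime (htw.elem.2 a haA) ha1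
        have hdvd : r ∣ q - 1 := by
          have h1 := exponent_dvd_pred (U₀ := zpowers a) hZc
            (zpowers_le.2 (hMZ (htw.hE.1 (htw.hAE haA)))) fun u hu hu1 y hy hc => by
              by_contra hy1
              refine haZ (mem_centralizer_iff.2 fun w hw => ?_)
              have hac : Nat.card (zpowers a) = r := by rw [Nat.card_zpowers, hao]
              have hw' : w ∈ zpowers y := (zpowers_eq_of_prime hZc hy hy1).ge hw
              have ha' : a ∈ zpowers u := (zpowers_eq_of_prime hac hu hu1).ge (mem_zpowers a)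
              obtain ⟨i, rfl⟩ := mem_zpowers_iff.1 hw'
              obtain ⟨j, rfl⟩ := mem_zpowers_iff.1 ha'
              exact ((show Commute y u from hc.symm).zpow_zpow i j).eq
          rwa [IsCyclic.exponent_eq_card, Nat.card_zpowers, hao] at h1
        have hr2 : r ≠ 2 := ne_two hG (hvo ▸ orderOf_dvd_natCard v)
        have hq2 : q ≠ 2 := ne_two hG (hqS.trans (card_subgroup_dvd_card S))
        obtain ⟨c, hc⟩ := hdvd
        have hc1 : c ≠ 0 := fun e => by rw [e, mul_zero] at hc; have := hq.two_le; omega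
        have hc2 : c ≠ 1 := fun e => by
          rw [e, mul_one] at hc
          exact Nat.not_even_iff_odd.2 (hr.out.odd_of_ne_two hr2)
            (hc ▸ Nat.Odd.sub_odd (hq.odd_of_ne_two hq2) odd_one)
        have h2r : r * 2 ≤ r * c := Nat.mul_le_mul_left r (by omega)
        have hqn : q ≤ P.relIndex S := Nat.le_of_dvd (Nat.pos_of_ne_zero fun e => by
          rw [e, mul_zero] at hmul; exact Nat.card_pos.ne' hmul.symm) hqd
        have := hr.out.two_le
        omega
    · -- nonabelian Sylow subgroups: no elements of order `r²` over the fixed line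
      push Not at habel
      obtain ⟨S₀, hS₀⟩ := habel
      have hna' : ∀ S' : Sylow r G, ¬ IsMulCommutative (S' : Subgroup G) := fun S' hc => hS₀
        ⟨⟨fun a b => (S₀.equiv S').injective (by rw [map_mul, map_mul]; exact hc.is_comm.comm _ _)⟩⟩
      obtain ⟨E, hE, htE⟩ := exists_compl_ge hG hM (zpowers_le.2 htM) fun s hs hd => by
        rw [Nat.card_zpowers, hto] at hd
        rw [(Nat.prime_dvd_prime_iff_eq hs hr.out).1 (hs.dvd_of_dvd_pow hd)]
        exact hτ.2.1
      haveI := isSolvable_of_le hE.1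
      obtain ⟨T, hT, htT⟩ := exists_sylowIn_ge htE
        (IsPGroup.of_card (n := 2) (by rw [Nat.card_zpowers, hto]) : IsPGroup r (zpowers t))
      obtain ⟨A, hAT, hA, hA2⟩ := tau2_plane hG hM hE hτ hT
      have hAE : A ≤ E := hAT.trans hT.1
      obtain ⟨A₀, hexc⟩ := exists_exc hG hM (hAE.trans hE.1) hA hA2 hτ.2.1
      have hTM : Grp.IsSylowIn r T M := compl_sylow hG hM hE
        ((hA2 ▸ dvd_pow_self r two_ne_zero : r ∣ Nat.card A).trans (card_dvd_of_le hAE)) hT
      obtain ⟨SG, hTS⟩ := hT.2.1.exists_le_sylow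
      have hvA : v ∈ A := (Cfsg.Agent.S1418.result hG M hM E hE r hτ A ⟨hAE, hA, hA2⟩).1.2 (zpowers v)
        (zpowers_le.2 (E.pow_mem (htE (mem_zpowers t)) _)) (by rw [Nat.card_zpowers, hvo]) (mem_zpowers v)
      obtain ⟨-, ⟨hC₀, -⟩, -⟩ := Cfsg.Agent.S1419.result hG M hM E hE r hτ hna' A ⟨hAE, hA, hA2⟩
      have hA₀le : A₀ ≤ A ⊓ centralizer (S : Set G) := le_inf hexc.hA₀
        (le_centralizer_iff.1 (hexc.lines_facts (hAT.trans hTS) (hna' SG)).1)
      have hvA₀ : v ∈ A₀ := by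
        rw [Subgroup.eq_of_le_of_card_ge hA₀le (by rw [hC₀, hexc.hA₀c])]
        exact ⟨hvA, hvS⟩
      have h1 := hexc.not_pow (hAT.trans hTS) (hna' SG) hTM hAT hTS (htT (mem_zpowers t)) hvA₀
      have h2 := orderOf_dvd_of_pow_eq_one h1
      rw [hto] at h2
      exact absurd (Nat.le_of_dvd hr.out.pos h2) (by nlinarith [hr.out.two_le])

/-- The `p'`-core of `M` is cyclic. -/
theorem pPrimeCore_cyclic {z : G} (hz : z ∈ Cfsg.sigmaCore M) (hzo : orderOf z = p)
    (hC : ¬ centralizer ({z} : Set G) ≤ M) (hκ : Cfsg.kappa M = ∅) : IsCyclic (Cfsg.pPrimeCore p M) := by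
  haveI := solvable_of_ne_top hG hM.1
  set S := Cfsg.sigmaCore M with hSdef
  have hSM : S ≤ M := TransHyp.piCoreOf_le M
  have hdp : p ∣ Nat.card S := h.dvd_card hG hM
  obtain ⟨hPM, hMP⟩ := h.sylow_M hG hM h.sylow hdp
  have hP1 : P ≠ ⊥ := sylow_ne_bot_of_dvd h.sylow hdp
  obtain ⟨⟨X, hXc, hXτ, hX⟩, -⟩ := Cfsg.Agent.S1438.result hG M hM P h.sylow.1 hP1 (by
    obtain ⟨i, hi⟩ := IsPGroup.iff_card.1 h.sylow.2.1
    rw [hi]
    exact (hp.out.coprime_iff_not_dvd.2 h.sylow.2.2).pow_left i)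
  have hXle : X ≤ M ⊓ centralizer (P : Set G) := hX ▸ le_sup_right
  haveI := isSolvable_of_le (hXle.trans inf_le_left)
  have hXS : X ≤ centralizer (S : Set G) := by
    refine (Grp.le_of_forall_sylow (inf_le_left : X ⊓ centralizer (S : Set G) ≤ X) fun r hr => ?_).trans inf_le_right
    obtain ⟨T, hT⟩ := Grp.exists_isSylowIn r X
    refine ⟨T, hT, le_inf hT.1 fun x hx => ?_⟩
    rcases eq_or_ne x 1 with rfl | hx1
    · exact one_mem _
    obtain ⟨i, hi⟩ := IsPGroup.iff_orderOf.1 hT.2.1 ⟨x, hx⟩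
    rw [Subgroup.orderOf_mk] at hi
    have hrd : r ∣ Nat.card X := (dvd_card_of_pGroup hT.2.1 fun e => hx1 (mem_bot.1 (e ▸ hx))).trans
      (card_dvd_of_le hT.1)
    exact h.centralizes hG hM hna hz hzo hC hκ (hXτ r hr.out hrd) (hXle (hT.1 hx)).1 hi (hXle (hT.1 hx)).2
  set O := O' p M with hOdef
  have hOM : O ≤ M := TransHyp.piCoreOf_le M
  have hOP : O ≤ centralizer (P : Set G) := by
    refine commutator_eq_bot_iff_le_centralizer.1 (le_bot_iff.1 ?_)
    refine (le_inf (Grp.commutator_le_left_of_le_normalizer (hPM.1.trans (le_normalizer_core' M)))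
      ?_).trans (Grp.inf_eq_bot_of_coprime ?_).le (b := O ⊓ P)
    · rw [commutator_comm]
      exact Grp.commutator_le_left_of_le_normalizer (hOM.trans hMP)
    · obtain ⟨i, hi⟩ := IsPGroup.iff_card.1 h.sylow.2.1
      rw [hi]
      exact (O'_coprime M).pow_right i
  haveI hBc : IsCyclic ↥(O ⊓ S) := h.cyclic_of_coprime hG hM hna inf_le_right
    ((O'_coprime M).coprime_dvd_left (card_dvd_of_le inf_le_left))
  have hcopSX : ∀ c ∈ S, ∀ t ∈ X, (orderOf c).Coprime (orderOf t) := fun c hc t ht =>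
    Nat.coprime_of_dvd fun q hq h1 h2 => (hXτ q hq (h2.trans (Subgroup.orderOf_dvd_natCard _ ht))).2.1
      (TransHyp.piCoreOf_primes (π := Cfsg.sigma M) (X := M) hq (h1.trans (Subgroup.orderOf_dvd_natCard _ hc)))
  have hO : O ≤ (O ⊓ S) ⊔ X := by
    intro x hx
    have hx' : x ∈ (S ⊓ centralizer (P : Set G)) ⊔ X := hX ▸ (⟨hOM hx, hOP hx⟩ : x ∈ M ⊓ centralizer (P : Set G))
    have hXN : X ≤ normalizer ((S ⊓ centralizer (P : Set G) : Subgroup G) : Set G) := Grp.le_normalizer_inf'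
      ((hXle.trans inf_le_left).trans (TransHyp.le_normalizer_piCoreOf M)) ((hXle.trans inf_le_right).trans le_normalizer)
    rw [← SetLike.mem_coe, Subgroup.coe_mul_of_right_le_normalizer_left _ X hXN] at hx'
    obtain ⟨c, hc, t, ht, rfl⟩ := hx'
    have hct : Commute c t := mem_centralizer_iff.1 (hXS ht) c hc.1
    refine mul_mem_sup ⟨mem_of_pow_coprime (n := orderOf t) ?_ (hcopSX c hc.1 t ht).symm, hc.1⟩ ht
    have h1 := O.pow_mem hx (orderOf t)
    rwa [hct.mul_pow, pow_orderOf_eq_one, mul_one] at h1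
  haveI : IsCyclic ↥((O ⊓ S) ⊔ X) := isCyclic_sup_comm hBc hXc
    (inf_le_right.trans (le_centralizer_iff.1 hXS)) (Nat.coprime_of_dvd fun q hq h1 h2 =>
      (hXτ q hq h2).2.1 (TransHyp.piCoreOf_primes (π := Cfsg.sigma M) (X := M) hq
        (h1.trans (card_dvd_of_le inf_le_right))))
  haveI : IsCyclic O := Subgroup.isCyclic_of_le hO
  have e : ↥(Cfsg.pPrimeCore p M) ≃* ↥((Cfsg.pPrimeCore p M).map M.subtype) :=
    (Cfsg.pPrimeCore p M).equivMapOfInjective _ M.subtype_injective
  haveI : IsCyclic ↥((Cfsg.pPrimeCore p M).map M.subtype) := O'_eq (r := p) M ▸ (inferInstance : IsCyclic O)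
  exact isCyclic_of_surjective _ e.symm.surjective

end NonTIData

end Cfsg.Agent.Transfer.Loc
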