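import Cfsg.Agent.Lib.Transfer.Local.KappaPrivate
import Cfsg.Agent.Lib.Transfer.Local.PlaneCentral
import Cfsg.Agent.Lib.Transfer.Local.TauTwoHall
import Cfsg.Agent.Lib.Grp.FpfPrime
import Cfsg.Agent.S1417

/-!
`σ(M)` determines `M` up to conjugacy.
-/

set_option autoImplicit false
set_option linter.style.haveILetI false
set_option linter.unusedSectionVars false
set_option maxHeartbeats 1000000

namespace Cfsg.Agent.Transfer.Loc

open Subgroup
open scoped commutatorElement Pointwise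

universe u

variable {G : Type u} [Group G] [Finite G] (hG : Cfsg.IsMinSimpleOddOrder G) {M : Subgroup G} (hM : IsCoatom M)
include hG hM

/-- `M' < M`. -/
theorem derived_lt : ⁅M, M⁆ < M := by
  haveI := solvable_of_ne_top hG hM.1
  have hM1 : M ≠ ⊥ := by
    rintro rfl
    obtain ⟨p, hp, hd⟩ := Nat.exists_prime_and_dvd (n := Nat.card G) (fun e => hM.1 (by
      haveI := (Nat.card_eq_one_iff_unique.1 e).1
      exact Subsingleton.elim _ _))
    haveI := Fact.mk hp
    obtain ⟨x, hx⟩ := exists_prime_orderOf_dvd_card' (G := G) p hd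
    have hne : zpowers x ≠ ⊥ := fun e => hp.ne_one (by
      rw [← hx, ← Nat.card_zpowers, e, Subgroup.card_bot])
    have htop := hM.2 _ (bot_lt_iff_ne_bot.2 hne)
    exact ne_top_of_pGroup hG (IsPGroup.of_card (n := 1) (by rw [Nat.card_zpowers, hx, pow_one]) : IsPGroup p (zpowers x)) htop
  haveI : Nontrivial M := (Subgroup.nontrivial_iff_ne_bot M).2 hM1
  have h := Group.IsSolvable.commutator_lt_top_of_nontrivial M
  rw [← M.range_subtype, MonoidHom.range_eq_map, ← map_commutator, map_subtype_lt_map_subtype]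
  exact h

/-- A complement of `M_σ` in `M` is not trivial. -/
theorem sigmaCore_lt : Cfsg.sigmaCore M < M := (sigmaCore_le_derived hG hM).trans_lt (derived_lt hG hM)

/-- With `κ(M)` empty the core `M_σ` is nilpotent. -/
theorem sigmaCore_nilpotent_of_kappa_empty (hκ : Cfsg.kappa M = ∅) : Group.IsNilpotent (Cfsg.sigmaCore M) := by
  haveI := solvable_of_ne_top hG hM.1
  obtain ⟨E, hE, -⟩ := exists_compl_ge hG hM (U := ⊥) bot_le fun s hs hd => by
    rw [Subgroup.card_bot, Nat.dvd_one] at hd; exact absurd hd hs.ne_one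
  have hE1 : Nat.card E ≠ 1 := fun e => (sigmaCore_lt hG hM).ne (Subgroup.eq_of_le_of_card_ge
    (TransHyp.piCoreOf_le M) (by rw [← compl_card hE, e, one_mul]))
  obtain ⟨p, hp, hpd⟩ := Nat.exists_prime_and_dvd hE1
  haveI := Fact.mk hp
  have hσ := compl_prime hG hM hE hp hpd
  by_cases h1 : Cfsg.PRankLE p 1 M
  · obtain ⟨x, hx⟩ := exists_prime_orderOf_dvd_card' (G := E) p hpd
    have hxM : (x : G) ∈ M := hE.1 x.2
    have hXc : Nat.card (zpowers (x : G)) = p := by rw [Nat.card_zpowers, Subgroup.orderOf_coe, hx]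
    refine Grp.isNilpotent_of_fpf (p := p) (b := (x : G)) (by rw [← hx, ← Subgroup.orderOf_coe, pow_orderOf_eq_one])
      (TransHyp.le_normalizer_piCoreOf M hxM) ?_
    by_contra hne
    have hmem : p ∈ Cfsg.kappa M := kappa_of_fixed hG hM hσ h1 (zpowers_le.2 hxM) hXc fun e => hne (by
      refine le_bot_iff.1 (le_trans (le_inf inf_le_left ?_) e.le)
      refine inf_le_right.trans fun y hy => mem_centralizer_iff.2 fun c hc => ?_
      obtain ⟨i, rfl⟩ := hc
      exact ((show Commute (x : G) y from (mem_centralizer_singleton_iff.1 hy).symm).zpow_left i).eq)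
    rw [hκ] at hmem
    exact hmem
  · have hτ := tau2_of_not_rank_one hG hM hσ h1
    obtain ⟨V, hV⟩ := Grp.exists_isSylowIn p E
    obtain ⟨A, hAV, hA, hA2⟩ := tau2_plane hG hM hE hτ hV
    exact (Cfsg.Agent.S1417.result hG M hM p hτ A ⟨(hAV.trans hV.1).trans hE.1, hA, hA2⟩).1

/-- Maximal subgroups sharing a `σ`-prime are conjugate. -/
theorem sigma_conj_of_common {H : Subgroup G} (hH : IsCoatom H) {p : ℕ} [hp : Fact p.Prime]
    (hpM : p ∈ Cfsg.sigma M) (hpH : p ∈ Cfsg.sigma H) : ∃ g : G, H = MulAut.conj g • M := by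
  by_contra hno
  push Not at hno
  by_cases hκ : Cfsg.kappa M = ∅
  · obtain ⟨Q, hQ⟩ := Grp.exists_isSylowIn p M
    obtain ⟨g, hg⟩ := exists_conj_le hG hH hpH hQ.2.1
    exact hno g⁻¹ (by
      rw [← sigma_sylow_unique hG hM (isCoatom_conj hG hH g) (sigmaCore_nilpotent_of_kappa_empty hG hM hκ) hpM
        (sigma_smul hG hH hpH g) hQ hg, Grp.conj_smul_conj_smul, inv_mul_cancel, map_one, one_smul])
  · exact kappa_sigma_disjoint hG hM hH hno (Set.nonempty_iff_ne_empty.2 hκ) hpM hpH

omit hM in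
/-- Every prime of `G` is in some `σ`. -/
theorem exists_sigma {p : ℕ} [hp : Fact p.Prime] (hd : p ∣ Nat.card G) :
    ∃ M : Subgroup G, IsCoatom M ∧ p ∈ Cfsg.sigma M := by
  obtain ⟨S⟩ : Nonempty (Sylow p G) := inferInstance
  have hS1 : (S : Subgroup G) ≠ ⊥ := S.ne_bot_of_dvd_card hd
  obtain ⟨M, hM, hN⟩ := exists_coatom_normalizer hG hS1 (ne_top_of_pGroup hG S.isPGroup')
  have hSM : (S : Subgroup G) ≤ M := le_normalizer.trans hN
  refine ⟨M, hM, hp.out, (dvd_card_of_pGroup S.isPGroup' hS1).trans (card_dvd_of_le hSM), S.subtype hSM, ?_⟩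
  rwa [show ((S.subtype hSM : Sylow p M) : Subgroup M).map M.subtype = (S : Subgroup G) by
    rw [Sylow.coe_subtype, Subgroup.map_subgroupOf_eq_of_le hSM]]

end Cfsg.Agent.Transfer.Loc
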