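import Cfsg.Agent.Lib.Transfer.Local.Compl
import Cfsg.Agent.Lib.Transfer.Local.Beta
import Cfsg.Agent.Lib.Transfer.Local.AlphaCentral
import Cfsg.Agent.Lib.Fus.ElemChain
import Cfsg.Agent.Lib.Grp.Frattini
import Cfsg.Agent.Lib.Grp.Baer
import Cfsg.Agent.S1392
import Cfsg.Agent.S1394
import Cfsg.Agent.S1395
import Cfsg.Agent.S1396
import Cfsg.Agent.S1414
import Cfsg.Agent.S1454

/-!
Maximal elementary planes: transitivity on invariant subgroups, invariant Sylow subgroups for `σ`-primes,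
and operators on narrow groups.
-/

set_option autoImplicit false
set_option linter.style.haveILetI false
set_option linter.unusedSectionVars false
set_option maxHeartbeats 1000000

namespace Cfsg.Agent.Transfer.Loc

open Subgroup
open scoped commutatorElement Pointwise

universe u

variable {G : Type u} [Group G] [Finite G] {p q : ℕ} [hp : Fact p.Prime] [hq : Fact q.Prime]

omit [Finite G] hp hq in
theorem zpowers_elem {x : G} (hx : x ^ p = 1) : Cfsg.IsElementaryAbelian p (zpowers x) :=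
  ⟨inferInstance, fun a ha => by
    obtain ⟨i, rfl⟩ := ha
    show (x ^ i) ^ p = 1
    rw [← zpow_natCast, ← zpow_mul, mul_comm, zpow_mul, zpow_natCast, hx, one_zpow]⟩

omit hq in
theorem dvd_card_of_pGroup {X : Subgroup G} (hX : IsPGroup p X) (h : X ≠ ⊥) : p ∣ Nat.card X := by
  obtain ⟨n, hn⟩ := IsPGroup.iff_card.1 hX
  rcases Nat.eq_zero_or_pos n with rfl | h0
  · exact absurd (card_eq_one.1 (by simpa using hn)) h
  · exact (dvd_pow_self p h0.ne').trans (dvd_of_eq hn.symm)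

omit hq in
theorem zpowers_eq_of_prime {L : Subgroup G} (hL : Nat.card L = p) {x : G} (hx : x ∈ L) (hx1 : x ≠ 1) :
    zpowers x = L := by
  refine Subgroup.eq_of_le_of_card_ge (zpowers_le.2 hx) ?_
  rw [hL, Nat.card_zpowers]
  rcases (Nat.dvd_prime hp.out).1 (hL ▸ L.orderOf_dvd_natCard hx) with h | h
  · exact absurd (orderOf_eq_one_iff.1 h) hx1
  · exact h.ge

omit hq in
theorem elem_of_card_prime {L : Subgroup G} (hL : Nat.card L = p) : Cfsg.IsElementaryAbelian p L :=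
  ⟨by haveI := isCyclic_of_prime_card hL; exact IsCyclic.isMulCommutative,
    fun a ha => orderOf_dvd_iff_pow_eq_one.1 (hL ▸ L.orderOf_dvd_natCard ha)⟩

/-- A `p`-element normalising a subgroup of order `p` centralises it. -/
theorem centralizes_line {L : Subgroup G} (hL : Nat.card L = p) {y : G} {k : ℕ} (hy : y ^ p ^ k = 1)
    (hyn : y ∈ normalizer (L : Set G)) : y ∈ centralizer (L : Set G) := by
  haveI : IsCyclic L := isCyclic_of_prime_card hL
  set α := L.normalizerMonoidHom ⟨y, hyn⟩ with hα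
  have h1 : orderOf α ∣ p ^ k := orderOf_dvd_of_pow_eq_one (by
    rw [hα, ← map_pow, show (⟨y, hyn⟩ : normalizer (L : Set G)) ^ p ^ k = 1 from Subtype.ext (by simpa using hy), map_one])
  have h2 : orderOf α ∣ Nat.totient p := by
    rw [← hL]
    exact (_root_.orderOf_dvd_natCard α).trans (dvd_of_eq (IsCyclic.card_mulAut L))
  have h3 : (p ^ k).Coprime (Nat.totient p) := by
    rw [Nat.totient_prime hp.out]
    exact Nat.Coprime.pow_left k ((hp.out.coprime_iff_not_dvd).2 fun hd =>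
      absurd (Nat.le_of_dvd (by have := hp.out.one_lt; omega) hd) (by have := hp.out.pos; omega))
  have h4 : α = 1 := orderOf_eq_one_iff.1 (Nat.eq_one_of_dvd_coprimes h3 h1 h2)
  have h5 : (⟨y, hyn⟩ : normalizer (L : Set G)) ∈ L.normalizerMonoidHom.ker := h4
  rwa [normalizerMonoidHom_ker] at h5

/-- The elements of order dividing `p` of the centre of `P`. -/
def omZ (p : ℕ) (P : Subgroup G) : Subgroup G where
  carrier := {x | x ∈ P ∧ x ∈ centralizer (P : Set G) ∧ x ^ p = 1}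
  one_mem' := ⟨one_mem _, one_mem _, one_pow _⟩
  mul_mem' := fun {a b} ha hb => ⟨mul_mem ha.1 hb.1, mul_mem ha.2.1 hb.2.1, by
    rw [(show Commute a b from mem_centralizer_iff.1 hb.2.1 a ha.1).mul_pow, ha.2.2, hb.2.2, one_mul]⟩
  inv_mem' := fun {a} ha => ⟨inv_mem ha.1, inv_mem ha.2.1, by rw [inv_pow, ha.2.2, inv_one]⟩

omit [Finite G] hp hq in
theorem omZ_le (P : Subgroup G) : omZ p P ≤ P := fun _ h => h.1

omit [Finite G] hp hq in
theorem omZ_le_centralizer (P : Subgroup G) : omZ p P ≤ centralizer (P : Set G) := fun _ h => h.2.1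

omit [Finite G] hp hq in
theorem omZ_elem (P : Subgroup G) : Cfsg.IsElementaryAbelian p (omZ p P) :=
  ⟨⟨⟨fun a b => Subtype.ext (mem_centralizer_iff.1 b.2.2.1 a a.2.1)⟩⟩, fun _ h => h.2.2⟩

omit hq in
theorem omZ_ne_bot {P : Subgroup G} (hP : IsPGroup p P) (h : P ≠ ⊥) : omZ p P ≠ ⊥ := by
  haveI : Nontrivial P := (nontrivial_iff_ne_bot _).2 h
  haveI := hP.center_nontrivial
  obtain ⟨z, hz⟩ := exists_prime_orderOf_dvd_card' (G := center P) p (by
    obtain ⟨n, hn0, hn⟩ := (hP.to_subgroup (center P)).nontrivial_iff_card.1 inferInstance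
    rw [hn]; exact dvd_pow_self p hn0.ne')
  intro e
  have hz' : orderOf ((z : P) : G) = p := by rw [Subgroup.orderOf_coe, Subgroup.orderOf_coe, hz]
  have hmem : ((z : P) : G) ∈ omZ p P := ⟨(z : P).2,
    mem_centralizer_iff.2 fun y hy => congrArg Subtype.val (mem_center_iff.1 z.2 ⟨y, hy⟩),
    hz' ▸ pow_orderOf_eq_one _⟩
  rw [e, mem_bot] at hmem
  rw [hmem, orderOf_one] at hz'
  exact hp.out.ne_one hz'.symm

omit [Finite G] hp hq in
theorem conj_mem_omZ {P : Subgroup G} {g x : G} (hg : g ∈ normalizer (P : Set G)) (hx : x ∈ omZ p P) :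
    g * x * g⁻¹ ∈ omZ p P := by
  refine ⟨(Subgroup.mem_normalizer_iff.1 hg x).1 hx.1, mem_centralizer_iff.2 fun y hy => ?_, by
    rw [← MulAut.conj_apply, ← map_pow, hx.2.2, map_one]⟩
  have h1 : g⁻¹ * y * g ∈ P := Grp.mem_conj_normalizer' hg hy
  have h2 := mem_centralizer_iff.1 hx.2.1 _ h1
  calc y * (g * x * g⁻¹) = g * (g⁻¹ * y * g * x) * g⁻¹ := by group
    _ = g * (x * (g⁻¹ * y * g)) * g⁻¹ := by rw [h2]
    _ = g * x * g⁻¹ * y := by group

omit hp hq in
theorem normalizer_le_omZ (P : Subgroup G) : normalizer (P : Set G) ≤ normalizer (omZ p P : Set G) := by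
  intro g hg
  refine Subgroup.mem_normalizer_iff.2 fun x => ⟨conj_mem_omZ hg, fun h => ?_⟩
  have := conj_mem_omZ (g := g⁻¹) (inv_mem hg) h
  simpa [mul_assoc] using this

omit [Finite G] hp hq in
/-- An elementary plane contained in no larger elementary abelian subgroup. -/
def IsMaxPlane (p : ℕ) (A : Subgroup G) : Prop :=
  Cfsg.IsElementaryAbelian p A ∧ Nat.card A = p ^ 2 ∧
    ∀ B : Subgroup G, Cfsg.IsElementaryAbelian p B → A ≤ B → B = A

namespace IsMaxPlane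

variable {A : Subgroup G}

omit hp hq in
theorem elem (hA : IsMaxPlane p A) : Cfsg.IsElementaryAbelian p A := hA.1

omit hp hq in
theorem card (hA : IsMaxPlane p A) : Nat.card A = p ^ 2 := hA.2.1

omit hq in
theorem ne_bot (hA : IsMaxPlane p A) : A ≠ ⊥ := fun e => by
  have h := hA.card
  rw [e, Subgroup.card_bot] at h
  exact absurd h.symm (Nat.one_lt_pow two_ne_zero hp.out.one_lt).ne'

omit hq in
theorem dvd_card (hA : IsMaxPlane p A) : p ∣ Nat.card A := hA.card ▸ dvd_pow_self p two_ne_zero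

omit hq in
theorem dvd_card_group (hA : IsMaxPlane p A) : p ∣ Nat.card G := hA.dvd_card.trans (card_subgroup_dvd_card A)

omit hp hq in
theorem le_centralizer (hA : IsMaxPlane p A) : A ≤ centralizer (A : Set G) :=
  le_centralizer_iff_isMulCommutative.2 hA.elem.1

omit hq in
theorem not_cyclic (hA : IsMaxPlane p A) : ¬ IsCyclic A := fun h =>
  absurd (hA.card ▸ card_le_prime_of_cyclic h hA.elem.2 : p ^ 2 ≤ p) (by have := hp.out.one_lt; nlinarith)

omit hp hq in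
theorem mem (hA : IsMaxPlane p A) {x : G} (hx : x ^ p = 1) (hc : x ∈ centralizer (A : Set G)) : x ∈ A := by
  have h := hA.2.2 (A ⊔ zpowers x) (Fus.isElementaryAbelian_sup hA.elem (zpowers_elem hx) fun a ha b hb => by
    obtain ⟨i, rfl⟩ := hb
    exact ((show Commute a x from mem_centralizer_iff.1 hc a ha).zpow_right i).eq) le_sup_left
  exact h.le (mem_sup_right (mem_zpowers x))

omit hp hq in
theorem omZ_le_self (hA : IsMaxPlane p A) {P : Subgroup G} (hAP : A ≤ P) : omZ p P ≤ A := fun _ hx =>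
  hA.mem hx.2.2 (centralizer_le hAP hx.2.1)

omit hp hq in
theorem smul (hA : IsMaxPlane p A) (g : G) : IsMaxPlane p (MulAut.conj g • A) := by
  have key : ∀ (B : Subgroup G) (h : G), Cfsg.IsElementaryAbelian p B → Cfsg.IsElementaryAbelian p (MulAut.conj h • B) := by
    intro B h hB
    refine ⟨by haveI := hB.1; exact Subgroup.map_isMulCommutative _ _, ?_⟩
    rintro _ ⟨b, hb, rfl⟩
    show (MulAut.conj h b) ^ p = 1
    rw [← map_pow, hB.2 b hb, map_one]
  refine ⟨key A g hA.elem, by rw [Grp.card_conj_smul, hA.card], fun B hB hle => ?_⟩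
  have h1 : A ≤ MulAut.conj g⁻¹ • B := by
    have := Subgroup.pointwise_smul_le_pointwise_smul_iff (a := MulAut.conj g⁻¹) |>.2 hle
    rwa [Grp.conj_smul_conj_smul, inv_mul_cancel, map_one, one_smul] at this
  rw [← hA.2.2 _ (key B g⁻¹ hB) h1, Grp.conj_smul_conj_smul, mul_inv_cancel, map_one, one_smul]

omit hq in
theorem of_sigma' (hG : Cfsg.IsMinSimpleOddOrder G) {M : Subgroup G} (hM : IsCoatom M) (hpσ : p ∉ Cfsg.sigma M)
    (hAM : A ≤ M) (hA : Cfsg.IsElementaryAbelian p A) (hA2 : Nat.card A = p ^ 2) : IsMaxPlane p A :=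
  ⟨hA, hA2, fun _ hB hAB => (Subgroup.eq_of_le_of_card_ge hAB
    ((sigma'_rank_two hG hM hpσ hAM hA hA2.ge hB hAB).trans hA2.ge)).symm⟩

omit hq in
theorem hyp (hG : Cfsg.IsMinSimpleOddOrder G) (hA : IsMaxPlane p A) : Cfsg.TransitivityHypothesis A :=
  Cfsg.Agent.S1396.result hG p hA.dvd_card_group A (Grp.elemAb_isPGroup hA.elem) hA.elem.1
    (Or.inl ⟨fun x hx => ⟨fun h => hA.mem h hx, fun h => hA.elem.2 x h⟩, fun _ hH => proper_pLength hG p hH⟩)

theorem not_dvd (hA : IsMaxPlane p A) (hqp : q ≠ p) : ¬ q ∣ Nat.card A := fun h =>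
  hqp ((Nat.prime_dvd_prime_iff_eq hq.out hp.out).1 (hq.out.dvd_of_dvd_pow (hA.card ▸ h)))

omit hp in
theorem coprime_of_pGroup (hA : IsMaxPlane p A) {X : Subgroup G} (h : ¬ p ∣ Nat.card X) [Fact p.Prime] :
    (Nat.card A).Coprime (Nat.card X) := by
  rw [hA.card]
  exact Nat.Coprime.pow_left 2 ((Fact.out : p.Prime).coprime_iff_not_dvd.2 h)

end IsMaxPlane

omit hp in
theorem exists_maxInv {A R : Subgroup G} (hR : IsPGroup q R) (hAR : A ≤ normalizer (R : Set G)) :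
    ∃ Q ∈ Cfsg.maxInvSubgroups ⊤ A ({q} : Set ℕ), R ≤ Q := by
  obtain ⟨n, hn⟩ := IsPGroup.iff_card.1 hR
  have hRm : R ∈ Cfsg.invSubgroups ⊤ A ({q} : Set ℕ) :=
    ⟨le_top, fun r hr hd => (Nat.prime_dvd_prime_iff_eq hr hq.out).1 (hr.dvd_of_dvd_pow (hn ▸ hd)), hAR⟩
  obtain ⟨Q, hRQ, hQ⟩ := (Set.toFinite (Cfsg.invSubgroups ⊤ A ({q} : Set ℕ))).exists_le_maximal hRm
  exact ⟨Q, ⟨hQ.1, fun T hT hQT => le_antisymm (hQ.2 hT hQT) hQT⟩, hRQ⟩

omit [Finite G] hp hq in
theorem maxInv_props [Finite G] {A Q : Subgroup G} (h : Q ∈ Cfsg.maxInvSubgroups ⊤ A ({q} : Set ℕ)) :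
    IsPGroup q Q ∧ A ≤ normalizer (Q : Set G) :=
  ⟨isPGroup_of_primes fun _ hr hd => h.1.2.1 _ hr hd, h.1.2.2⟩

omit hp in
theorem maxInv_of_sylow {A Q : Subgroup G} (hQ : IsPGroup q Q) (hidx : ¬ q ∣ Q.index)
    (hAQ : A ≤ normalizer (Q : Set G)) : Q ∈ Cfsg.maxInvSubgroups ⊤ A ({q} : Set ℕ) := by
  obtain ⟨n, hn⟩ := IsPGroup.iff_card.1 hQ
  refine ⟨⟨le_top, fun r hr hd => (Nat.prime_dvd_prime_iff_eq hr hq.out).1 (hr.dvd_of_dvd_pow (hn ▸ hd)), hAQ⟩,
    fun T hT hQT => ?_⟩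
  exact (hQ.toSylow hidx).3 (isPGroup_of_primes fun r hr hd => hT.2.1 r hr hd) hQT

/-- Maximal invariant subgroups meeting a common proper overgroup are conjugate under the centraliser. -/
theorem IsMaxPlane.conj_meet (hG : Cfsg.IsMinSimpleOddOrder G) {A : Subgroup G} (hA : IsMaxPlane p A) (hqp : q ≠ p)
    {Q₁ Q₂ H : Subgroup G} (h₁ : Q₁ ∈ Cfsg.maxInvSubgroups ⊤ A ({q} : Set ℕ))
    (h₂ : Q₂ ∈ Cfsg.maxInvSubgroups ⊤ A ({q} : Set ℕ)) (hH : H ≠ ⊤) (hAH : A ≤ H) (hH₁ : H ⊓ Q₁ ≠ ⊥)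
    (hH₂ : H ⊓ Q₂ ≠ ⊥) : ∃ k ∈ centralizer (A : Set G), Q₂ = MulAut.conj k • Q₁ := by
  obtain ⟨k, hk, e⟩ := Cfsg.Agent.S1392.result hG A (hA.hyp hG) q hq.out (hA.not_dvd hqp) Q₁ Q₂ h₁ h₂ H hH hAH hH₁ hH₂
  exact ⟨k, TransHyp.piCoreOf_le _ hk, e⟩

theorem IsMaxPlane.conj_of_dvd (hG : Cfsg.IsMinSimpleOddOrder G) {A : Subgroup G} (hA : IsMaxPlane p A) (hqp : q ≠ p)
    (hqC : q ∣ Nat.card (centralizer (A : Set G))) :
    ∀ Q₁ ∈ Cfsg.maxInvSubgroups ⊤ A ({q} : Set ℕ), ∀ Q₂ ∈ Cfsg.maxInvSubgroups ⊤ A ({q} : Set ℕ),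
      ∃ k ∈ Cfsg.piCoreOf (Cfsg.primesNotDvd (Nat.card A)) (centralizer (A : Set G)),
        Q₂ = Q₁.map (MulAut.conj k).toMonoidHom := by
  refine Cfsg.Agent.S1394.result hG A (hA.hyp hG) ?_ q hq.out (hA.not_dvd hqp) hqC
  intro h
  exact not_prank_of_elem (K := A ⊓ centralizer (A : Set G)) (le_inf le_rfl hA.le_centralizer) hA.elem
    hA.card.ge (h p hp.out)

omit hq in
theorem IsMaxPlane.not_beta {A : Subgroup G} (hA : IsMaxPlane p A) (H : Subgroup G) : p ∉ Cfsg.beta H := by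
  rintro ⟨-, -, -, h⟩
  obtain ⟨T, hT⟩ := (Grp.elemAb_isPGroup hA.elem).exists_le_sylow
  obtain ⟨B, -, hB, hlt⟩ := h T A hT hA.elem hA.card
  exact hlt.ne (hA.2.2 B hB hlt.le).symm

/-- Invariant Sylow subgroups for the primes in `σ`. -/
theorem IsMaxPlane.inv_sylow (hG : Cfsg.IsMinSimpleOddOrder G) {A : Subgroup G} (hA : IsMaxPlane p A)
    {H : Subgroup G} (hH : IsCoatom H) (hAH : A ≤ H) (hσ : q ∈ Cfsg.sigma H) (hqp : q ≠ p)
    {R : Subgroup G} (hR : IsPGroup q R) (hRH : R ≤ H) (hAR : A ≤ normalizer (R : Set G)) :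
    ∃ Q, Grp.IsSylowIn q Q H ∧ A ≤ normalizer (Q : Set G) ∧ R ≤ Q ∧
      Q ∈ Cfsg.maxInvSubgroups ⊤ A ({q} : Set ℕ) := by
  haveI := solvable_of_ne_top hG hH.1
  set S := Cfsg.sigmaCore H with hS
  have hnc := ((Cfsg.Agent.S1414.result hG H hH).2.2.2.2 p hp.out (hA.dvd_card.trans (card_dvd_of_le hAH))
    (hA.not_beta H)).2.1
  obtain ⟨N, hN, hNd, j, hj⟩ := hasNormalPComplement_iff_exists.1 hnc
  haveI := hN
  set O := O' p S with hO
  have hle : N.map S.subtype ≤ O := by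
    rw [hO, O'_eq]
    exact map_mono (Grp.le_pPrimeCore inferInstance (hp.out.coprime_iff_not_dvd.2 hNd).symm)
  have hbig : ∀ T : Subgroup G, IsPGroup q T → T ≤ H → T ≤ O := by
    intro T hT hTH
    obtain ⟨T', hT', -, hTT'⟩ := Grp.exists_invariant_sylow_ge ⊥ H bot_le (by simp) (Or.inl inferInstance) hTH hT bot_le
    have hT'S : T' ≤ S := sylow_le_piCore hG hH (alpha_subset_sigma hG hH) le_rfl hσ hT'
    intro x hx
    obtain ⟨i, hi⟩ := hT'.2.1 ⟨x, hTT' hx⟩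
    have hx' : x ^ q ^ i = 1 := by simpa using congrArg Subtype.val hi
    refine hle ⟨⟨x, hT'S (hTT' hx)⟩, ?_, rfl⟩
    rw [SetLike.mem_coe, ← QuotientGroup.eq_one_iff, ← orderOf_eq_one_iff]
    refine Nat.eq_one_of_dvd_coprimes (a := q ^ i) (b := p ^ j)
      (Nat.Coprime.pow _ _ ((Nat.coprime_primes hq.out hp.out).2 hqp)) ?_ ?_
    · refine orderOf_dvd_of_pow_eq_one ?_
      rw [← QuotientGroup.mk_pow, show (⟨x, hT'S (hTT' hx)⟩ : ↥S) ^ q ^ i = 1 from Subtype.ext (by simpa using hx')]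
      rfl
    · rw [← hj, Subgroup.index_eq_card]; exact orderOf_dvd_natCard _
  have hOH : O ≤ H := (O'_le p S).trans (TransHyp.piCoreOf_le H)
  have hAO : A ≤ normalizer (O : Set G) := le_normalizer_core (hAH.trans (TransHyp.le_normalizer_piCoreOf H))
  have hcop : (Nat.card A).Coprime (Nat.card O) := by
    rw [hA.card]; exact ((O'_coprime S).pow_right 2).symm
  obtain ⟨Q, hQ, hAQ, hRQ⟩ := Grp.exists_invariant_sylow_ge A O hAO hcop
    (Or.inr (isSolvable_of_le hOH)) (hbig R hR hRH) hR hAR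
  obtain ⟨S₀, hS₀⟩ := Grp.exists_isSylowIn q H
  have hS₀O : Grp.IsSylowIn q S₀ O := ⟨hbig S₀ hS₀.2.1 hS₀.1, hS₀.2.1, fun hd =>
    hS₀.2.2 ((hd.trans (Dvd.intro _ rfl)).trans
      (dvd_of_eq (relIndex_mul_relIndex S₀ O H (hbig S₀ hS₀.2.1 hS₀.1) hOH)))⟩
  obtain ⟨n, hn, e⟩ := hS₀O.conj hQ
  have hQH : Grp.IsSylowIn q Q H := e ▸ hS₀.smul (Grp.conj_smul_eq_self_of_mem (hOH hn))
  exact ⟨Q, hQH, hAQ, hRQ, maxInv_of_sylow hQH.2.1 (sigma_sylow hG hH hσ hQH).2 hAQ⟩

omit hp hq in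
/-- Derived operators on a narrow `r`-group act as an `r`-group. -/
theorem le_centralizer_of_narrow {r s : ℕ} [Fact r.Prime] [Fact s.Prime] (hr2 : r ≠ 2) (hsr : s ≠ r)
    {Q N S : Subgroup G} (hQ : IsPGroup r Q) (hn : Cfsg.IsNarrow r Q) (hNQ : N ≤ normalizer (Q : Set G))
    [Group.IsSolvable N] (hodd : Odd (Nat.card N)) (hSN : S ≤ ⁅N, N⁆) (hS : IsPGroup s S) :
    S ≤ centralizer (Q : Set G) := by
  haveI : Finite (MulAut Q) := Finite.of_injective (fun e => (e : Q → Q)) DFunLike.coe_injective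
  let Γ := Q ⋊[MonoidHom.id (MulAut Q)] MulAut Q
  haveI : Finite Γ := Finite.of_equiv _ SemidirectProduct.equivProd.symm
  let f : N →* Γ := SemidirectProduct.inr.comp (Q.normalizerMonoidHom.comp (inclusion hNQ))
  set Q' := (SemidirectProduct.inl : Q →* Γ).range
  haveI : (Q' : Subgroup Γ).Normal := by
    show (SemidirectProduct.inl : Q →* Γ).range.Normal
    rw [SemidirectProduct.range_inl_eq_ker_rightHom]; infer_instance
  let eQ : Q ≃* Q' := MonoidHom.ofInjective SemidirectProduct.inl_injective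
  have hfaith : f.range ⊓ centralizer (Q' : Set Γ) = ⊥ := by
    rw [eq_bot_iff]
    rintro y ⟨⟨x, rfl⟩, hyC⟩
    rw [mem_bot]
    refine (congrArg (SemidirectProduct.inr : MulAut Q →* Γ) (MulEquiv.ext fun v => ?_)).trans (map_one _)
    apply SemidirectProduct.inl_injective (φ := MonoidHom.id (MulAut Q))
    show (SemidirectProduct.inl ((MonoidHom.id (MulAut Q)) (Q.normalizerMonoidHom (inclusion hNQ x)) v) : Γ) = _
    rw [SemidirectProduct.inl_aut, map_inv]
    exact mul_inv_eq_iff_eq_mul.2 (mem_centralizer_iff.1 hyC _ ⟨v, rfl⟩).symm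
  haveI : Group.IsSolvable f.range := Group.isSolvable_of_surjective f.rangeRestrict_surjective
  obtain ⟨⟨hder, -⟩, -, -⟩ := Cfsg.Agent.S1454.result r hr2 Q' f.range (hQ.of_equiv eQ) (narrow_equiv eQ hn)
    (by rw [normalizer_eq_top]; exact le_top) inferInstance
    (hodd.of_dvd_nat (Subgroup.card_range_dvd f)) hfaith
  intro x hx
  have hxN : x ∈ N := N.commutator_le_self (hSN hx)
  have hxd : (⟨x, hxN⟩ : N) ∈ commutator N := by
    obtain ⟨y, hy, e⟩ := (derived_eq_map N).le (hSN hx)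
    rwa [show (⟨x, hxN⟩ : N) = y from Subtype.ext e.symm]
  have h1 : f.rangeRestrict ⟨x, hxN⟩ ∈ Cfsg.pCore r f.range := by
    refine hder ?_
    have h2 : (commutator N).map f.rangeRestrict ≤ commutator f.range := by
      rw [_root_.commutator_def, Subgroup.map_commutator]
      exact Subgroup.commutator_mono le_top le_top
    exact h2 (mem_map_of_mem _ hxd)
  have h3 : f.rangeRestrict ⟨x, hxN⟩ = 1 := by
    rw [← orderOf_eq_one_iff]
    obtain ⟨i, hi⟩ := hS ⟨x, hx⟩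
    obtain ⟨j, hj⟩ := Grp.pCore_isPGroup ⟨_, h1⟩
    refine Nat.eq_one_of_dvd_coprimes (a := s ^ i) (b := r ^ j)
      (Nat.Coprime.pow _ _ ((Nat.coprime_primes Fact.out Fact.out).2 hsr)) ?_ ?_
    · refine orderOf_dvd_of_pow_eq_one ?_
      rw [← map_pow, show (⟨x, hxN⟩ : N) ^ s ^ i = 1 from Subtype.ext (by simpa using congrArg Subtype.val hi), map_one]
    · exact orderOf_dvd_of_pow_eq_one (by simpa using congrArg Subtype.val hj)
  have h4 : Q.normalizerMonoidHom (inclusion hNQ ⟨x, hxN⟩) = 1 :=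
    SemidirectProduct.inr_injective (φ := MonoidHom.id (MulAut Q))
      ((congrArg Subtype.val h3).trans (map_one _).symm)
  have h5 : inclusion hNQ ⟨x, hxN⟩ ∈ Q.normalizerMonoidHom.ker := h4
  rw [normalizerMonoidHom_ker] at h5
  exact h5

end Cfsg.Agent.Transfer.Loc
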