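import Cfsg.Agent.Lib.Transfer.Local.QImg
import Cfsg.Agent.Lib.Transfer.PLengthOne
import Cfsg.Agent.Lib.Grp.Frattini
import Cfsg.Agent.Lib.Grp.Coprime

/-!
Consequences of `p`-length one, and cores of subgroups with trivial opposite core.
-/

set_option autoImplicit false
set_option linter.style.haveILetI false
set_option linter.unusedSectionVars false

namespace Cfsg.Agent.Transfer.Loc

open Subgroup
open scoped commutatorElement

universe u

variable {G : Type u} [Group G] [Finite G] {p : ℕ} [hp : Fact p.Prime]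

theorem comm_le {A B H : Subgroup G} (hA : A ≤ H) (hB : B ≤ H) : ⁅A, B⁆ ≤ H :=
  (Subgroup.commutator_mono hA hB).trans H.commutator_le_self

theorem pLengthLE_one_of_normal {N : Subgroup G} [N.Normal] (hN : IsPGroup p N) (h : ¬ p ∣ N.index) :
    Cfsg.PLengthLE p 1 G := by
  obtain ⟨m, hm⟩ := IsPGroup.iff_card.1 hN
  have h1 : N ≤ Grp.uSer p G (1 + 1) :=
    Grp.le_uSer_succ_odd odd_one inferInstance (S := ⊥) bot_le ⟨m, by rw [relIndex_bot_left, hm]⟩
  have h0 : Cfsg.PLengthLE p 0 (G ⧸ N) := by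
    show Grp.uSer p (G ⧸ N) (2 * 0 + 1) = ⊤
    refine top_le_iff.1 (Grp.le_uSer_succ_even Even.zero inferInstance (S := ⊥) bot_le ?_)
    rwa [relIndex_bot_left, Subgroup.card_top, ← Subgroup.index_eq_card]
  simpa using Grp.pLengthLE_extension N (a := 1) (b := 0) (h1.trans (Grp.uSer_mono (by omega))) h0

/-- In a group of `p`-length one, commutators of a `p'`-group with a normalising `p`-group centralise every
normal `p`-subgroup. -/
theorem key_commutator (h : Cfsg.PLengthLE p 1 G) {W Q S : Subgroup G} [hWn : W.Normal] (hW : IsPGroup p W)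
    (hQ : (Nat.card Q).Coprime p) (hS : IsPGroup p S) (hSQ : S ≤ normalizer (Q : Set G)) :
    ⁅⁅Q, S⁆, W⁆ = ⊥ := by
  haveI := Grp.pPrimeCore_isNormal (p := p) (G := G)
  set K := Cfsg.pPrimeCore p G
  set f := QuotientGroup.mk' K
  set M := Cfsg.pCore p (G ⧸ K)
  haveI : M.Normal := Grp.pCore_isNormal
  have hSM : S.map f ≤ M := by
    obtain ⟨n, hn⟩ := IsPGroup.iff_card.1 (hS.map f)
    exact Grp.le_of_coprime_index (hn ▸ ((hp.out.coprime_iff_not_dvd.2 (Transfer.PLengthOne.index_pCore h)).pow_left n))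
  have hK : ⁅Q, S⁆ ≤ K := by
    rw [← QuotientGroup.ker_mk' K, ← Subgroup.map_eq_bot_iff, Subgroup.map_commutator, eq_bot_iff]
    obtain ⟨n, hn⟩ := IsPGroup.iff_card.1 (Grp.pCore_isPGroup (p := p) (G := G ⧸ K))
    have hbot : Q.map f ⊓ M = ⊥ := Grp.inf_eq_bot_of_coprime (by
      rw [hn]; exact (hQ.coprime_dvd_left (card_map_dvd Q f)).pow_right n)
    rw [← hbot]
    exact le_inf (Grp.commutator_le_left_of_le_normalizer ((map_mono hSQ).trans (le_normalizer_map f)))
      ((Subgroup.commutator_mono le_rfl hSM).trans (Subgroup.commutator_le_right _ _))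
  obtain ⟨n, hn⟩ := IsPGroup.iff_card.1 hW
  rw [eq_bot_iff, ← Grp.inf_eq_bot_of_coprime (H := K) (K := W) (by
    rw [hn]; exact (Grp.pPrimeCore_coprime (p := p) (G := G)).pow_right n)]
  exact (Subgroup.commutator_mono hK le_rfl).trans (Subgroup.commutator_le_inf _ _)

theorem key_in {H W Q S : Subgroup G} (h : Cfsg.PLengthLE p 1 ↥H) (hWH : W ≤ H)
    (hWn : H ≤ normalizer (W : Set G)) (hW : IsPGroup p W) (hQH : Q ≤ H) (hQ : (Nat.card Q).Coprime p)
    (hSH : S ≤ H) (hS : IsPGroup p S) (hSQ : S ≤ normalizer (Q : Set G)) : ⁅⁅Q, S⁆, W⁆ = ⊥ := by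
  haveI : (W.subgroupOf H).Normal := normal_subgroupOf_of_le_normalizer hWn
  have h1 := key_commutator h (W := W.subgroupOf H) (Q := Q.subgroupOf H) (S := S.subgroupOf H)
    (hW.of_equiv (subgroupOfEquivOfLe hWH).symm)
    (by rw [Nat.card_congr (subgroupOfEquivOfLe hQH).toEquiv]; exact hQ)
    (hS.of_equiv (subgroupOfEquivOfLe hSH).symm) (Grp.PiHall.subgroupOf_le_normalizer H hSQ)
  have h2 := congrArg (Subgroup.map H.subtype) h1
  rwa [Subgroup.map_commutator, Subgroup.map_commutator, map_subgroupOf_eq_of_le hWH,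
    map_subgroupOf_eq_of_le hQH, map_subgroupOf_eq_of_le hSH, Subgroup.map_bot] at h2

/-- A group of `p`-length one with trivial `p'`-core has a normal Sylow `p`-subgroup. -/
theorem index_O_of_pLength {H : Subgroup G} (h : Cfsg.PLengthLE p 1 ↥H) (h0 : O' p H = ⊥) :
    ¬ p ∣ (O p H).relIndex H := by
  haveI := Grp.pPrimeCore_isNormal (p := p) (G := ↥H)
  haveI := Grp.pCore_isNormal (p := p) (G := ↥H ⧸ Cfsg.pPrimeCore p ↥H)
  set f := QuotientGroup.mk' (Cfsg.pPrimeCore p ↥H)
  have hK : Cfsg.pPrimeCore p ↥H = ⊥ := by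
    rw [← Subgroup.map_eq_bot_iff_of_injective _ H.subtype_injective, ← O'_eq]; exact h0
  set M := (Cfsg.pCore p (↥H ⧸ Cfsg.pPrimeCore p ↥H)).comap f
  have hMp : IsPGroup p M := (Grp.pCore_isPGroup).comap_of_injective f (by
    rw [← MonoidHom.ker_eq_bot_iff, QuotientGroup.ker_mk', hK])
  have hle : M.map H.subtype ≤ O p H := le_O (map_subtype_le _) (map_normal_le_normalizer M) (hMp.map _)
  intro hd
  refine Transfer.PLengthOne.index_pCore h ?_
  have h1 := hd.trans (Subgroup.relIndex_dvd_of_le_left H hle)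
  rwa [Subgroup.relIndex, subgroupOf, comap_map_eq_self_of_injective H.subtype_injective,
    Subgroup.index_comap_of_surjective _ (QuotientGroup.mk'_surjective _)] at h1

theorem pLengthLE_of_qimg {N H : Subgroup G} (hNH : N ≤ H) (hH : H ≤ normalizer (N : Set G))
    (hN : (Nat.card N).Coprime p) (h : Cfsg.PLengthLE p 1 ↥(qimg N H)) : Cfsg.PLengthLE p 1 ↥H := by
  haveI : (N.subgroupOf H).Normal := normal_subgroupOf_of_le_normalizer hH
  obtain ⟨φ, hφ, hk⟩ := exists_qhom (N := N) (A := H) hH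
  have e : ↥H ⧸ N.subgroupOf H ≃* ↥(qimg N H) :=
    (QuotientGroup.quotientMulEquivOfEq hk.symm).trans (QuotientGroup.quotientKerEquivOfSurjective φ hφ)
  have h1 : Cfsg.PLengthLE p 1 (↥H ⧸ N.subgroupOf H) :=
    Grp.pLengthLE_of_surjective e.symm.toMonoidHom e.symm.surjective h
  simpa using Grp.pLengthLE_extension (N.subgroupOf H) (a := 0) (b := 1) (Grp.le_uSer_succ_even Even.zero inferInstance
    (S := ⊥) bot_le (by
      rw [relIndex_bot_left, Nat.card_congr (subgroupOfEquivOfLe hNH).toEquiv]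
      exact hp.out.coprime_iff_not_dvd.1 hN.symm)) h1

theorem centralizer_O_le {H : Subgroup G} [Group.IsSolvable H] (h0 : O' p H = ⊥) :
    H ⊓ centralizer (O p H : Set G) ≤ O p H := by
  have hF : Cfsg.fittingOf H ≤ O p H := by
    rw [fittingOf_eq]
    refine iSup_le fun s => ?_
    haveI := Fact.mk s.2
    by_cases hs : (s : ℕ) = p
    · rw [hs]
    · refine le_trans (le_of_eq ?_) bot_le
      rw [eq_bot_iff, ← h0]
      refine le_O' (O_le _ H) (le_normalizer_core' H) ?_
      obtain ⟨n, hn⟩ := IsPGroup.iff_card.1 (O_isPGroup (s : ℕ) H)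
      rw [hn]; exact Nat.Coprime.pow_left n ((Nat.coprime_primes s.2 hp.out).2 hs)
  exact (inf_le_inf_left H (centralizer_le hF)).trans ((centralizer_fittingOf_le H).trans hF)

theorem centralizer_O'_le {H : Subgroup G} [Group.IsSolvable H] (h0 : O p H = ⊥) :
    H ⊓ centralizer (O' p H : Set G) ≤ O' p H := by
  have hF : Cfsg.fittingOf H ≤ O' p H := by
    rw [fittingOf_eq]
    refine iSup_le fun s => ?_
    haveI := Fact.mk s.2
    by_cases hs : (s : ℕ) = p
    · rw [hs, h0]; exact bot_le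
    · refine le_O' (O_le _ H) (le_normalizer_core' H) ?_
      obtain ⟨n, hn⟩ := IsPGroup.iff_card.1 (O_isPGroup (s : ℕ) H)
      rw [hn]; exact Nat.Coprime.pow_left n ((Nat.coprime_primes s.2 hp.out).2 hs)
  exact (inf_le_inf_left H (centralizer_le hF)).trans ((centralizer_fittingOf_le H).trans hF)

/-- The Frattini subgroup of a subgroup is normalised by its normaliser. -/
theorem normalizer_le_normalizer_frattini (P : Subgroup G) :
    normalizer (P : Set G) ≤ normalizer (((frattini ↥P).map P.subtype : Subgroup G) : Set G) := by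
  intro g hg
  set α := P.normalizerMonoidHom ⟨g, hg⟩ with hα
  have hchar : ∀ β : P ≃* P, ∀ x ∈ frattini ↥P, β x ∈ frattini ↥P := fun β x hx => by
    have := (Subgroup.characteristic_iff_le_comap.1 (inferInstance : (frattini ↥P).Characteristic) β) hx
    exact this
  refine Subgroup.mem_normalizer_iff.2 fun y => ⟨?_, ?_⟩
  · rintro ⟨x, hx, rfl⟩
    exact ⟨α x, hchar α x hx, rfl⟩
  · rintro ⟨x, hx, e⟩
    refine ⟨α.symm x, hchar α.symm x hx, ?_⟩
    have h1 : (α (α.symm x) : G) = g * (α.symm x : G) * g⁻¹ := rfl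
    rw [MulEquiv.apply_symm_apply] at h1
    simp only [Subgroup.coe_subtype] at e ⊢
    exact mul_left_cancel (mul_right_cancel (h1.symm.trans e))

/-- A coprime operator trivial modulo the Frattini subgroup is trivial. -/
theorem le_centralizer_of_mod_frattini {A P : Subgroup G} (hA : A ≤ normalizer (P : Set G))
    (hcop : (Nat.card A).Coprime (Nat.card P)) (hs : Group.IsSolvable A ∨ Group.IsSolvable P)
    (h : ⁅P, A⁆ ≤ (frattini ↥P).map P.subtype) : A ≤ centralizer (P : Set G) := by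
  have hsup := Grp.commutator_sup_fixed A P hA hcop hs
  have htop : (P ⊓ centralizer (A : Set G)).subgroupOf P ⊔ frattini ↥P = ⊤ := by
    apply map_injective P.subtype_injective
    rw [Subgroup.map_sup, map_subgroupOf_eq_of_le inf_le_left, ← MonoidHom.range_eq_map, range_subtype]
    refine le_antisymm (sup_le inf_le_left (map_subtype_le _)) (hsup.ge.trans ?_)
    rw [sup_comm]; exact sup_le_sup_left h _
  have hc := frattini_nongenerating htop
  rw [Subgroup.subgroupOf_eq_top] at hc
  exact le_centralizer_iff.1 (hc.trans inf_le_right)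

/-- A coprime operator centralising a Sylow `p`-subgroup of a group with trivial `p'`-core centralises it. -/
theorem eq_bot_of_fixed_sylow {H R S : Subgroup G} [Group.IsSolvable H] (hRH : R ≤ normalizer (H : Set G))
    (h0 : O' p H = ⊥) (hS : Grp.IsSylowIn p S H) (hSR : ⁅S, R⁆ = ⊥) (hHR : ⁅H, R⁆ = H) : H = ⊥ := by
  set M := O p H
  have hMS : M ≤ S := by
    have hp' : IsPGroup p ↥(M ⊔ S) :=
      (O_isPGroup p H).to_sup_of_normal_left' hS.2.1 (hS.1.trans (le_normalizer_core' H))
    rw [hS.eq_of_le le_sup_right (sup_le (O_le p H) hS.1) hp']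
    exact le_sup_left
  have hMR : ⁅M, R⁆ = ⊥ := le_bot_iff.1 (hSR ▸ Subgroup.commutator_mono hMS le_rfl)
  have h1 : ⁅⁅R, M⁆, H⁆ = ⊥ := by rw [Subgroup.commutator_comm R M, hMR, commutator_bot_left]
  have h2 : ⁅⁅M, H⁆, R⁆ = ⊥ := le_bot_iff.1 (hMR ▸ Subgroup.commutator_mono
    (Grp.commutator_le_left_of_le_normalizer (le_normalizer_core' H)) le_rfl)
  have h3 := Subgroup.commutator_commutator_eq_bot_of_rotate h1 h2
  rw [hHR] at h3
  have hHS : H ≤ S := (le_inf le_rfl (commutator_eq_bot_iff_le_centralizer.1 h3)).trans ((centralizer_O_le h0).trans hMS)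
  rw [← hHR, eq_bot_iff]
  exact (Subgroup.commutator_mono hHS le_rfl).trans hSR.le

end Cfsg.Agent.Transfer.Loc
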