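import Cfsg.Agent.Lib.Transfer.Local.Bender

/-!
Bender: invariant subgroups of a solvable group normalised by part of the Fitting subgroup of a
maximal local subgroup.
-/

set_option autoImplicit false
set_option linter.style.haveILetI false
set_option linter.unusedSectionVars false

namespace Cfsg.Agent.Transfer.Loc

open Subgroup
open scoped commutatorElement Pointwise

universe u

theorem invariant_core {Γ : Type u} [Group Γ] [Finite Γ] (R Q : Subgroup Γ) [Group.IsSolvable R] (q : ℕ)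
    [Fact q.Prime] (π : Set ℕ) (hπp : ∀ p ∈ π, p.Prime) (hπne : π.Nonempty) (hqπ : q ∉ π) (Zf Mf : ℕ → Subgroup Γ)
    (hQ : IsPGroup q Q) (hQR : Q ≤ R) (hcore : ∀ r : ℕ, r.Prime → r ∉ π → O r R = ⊥)
    (hMR : ∀ p ∈ π, Mf p ≤ normalizer (R : Set Γ)) (hMQ : ∀ p ∈ π, Mf p ≤ normalizer (Q : Set Γ))
    (hMp : ∀ p ∈ π, (Nat.card (Mf p)).Coprime p) (hMq : ∀ p ∈ π, (Nat.card (Mf p)).Coprime q)
    (hZp : ∀ p ∈ π, IsPGroup p (Zf p)) (hZR : ∀ p ∈ π, Zf p ≤ normalizer (R : Set Γ))
    (hZM : ∀ p ∈ π, Zf p ≤ centralizer (Mf p : Set Γ))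
    (ha : ∀ p ∈ π, ∀ v ∈ O p R ⊓ centralizer (Zf p : Set Γ), ∀ a ∈ Mf p, ∀ b ∈ Mf p,
      b * (v * a * v⁻¹ * a⁻¹) = (v * a * v⁻¹ * a⁻¹) * b)
    (hb : ∀ p ∈ π, Q ⊓ centralizer (Mf p : Set Γ) = ⊥) : Q = ⊥ := by
  have key : ∀ p ∈ π, Q ≤ centralizer (O p R : Set Γ) := by
    intro p hp
    haveI := Fact.mk (hπp p hp)
    set V := O p R with hV
    set A := Mf p with hA
    have hAV : A ≤ normalizer (V : Set Γ) := le_normalizer_core (hMR p hp)
    set U := V ⊓ centralizer (Zf p : Set Γ) with hU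
    have hAU : A ≤ normalizer (U : Set Γ) := Grp.le_normalizer_inf' hAV
      ((le_centralizer_iff.1 (hZM p hp)).trans le_normalizer)
    have hVp : IsPGroup p V := O_isPGroup p R
    have hcop : (Nat.card A).Coprime (Nat.card U) := by
      obtain ⟨n, hn⟩ := IsPGroup.iff_card.1 (hVp.to_le (inf_le_left : U ≤ V))
      rw [hn]; exact (hMp p hp).pow_right n
    have h2 : ⁅⁅U, A⁆, A⁆ = ⊥ := by
      rw [commutator_eq_bot_iff_le_centralizer, commutator_le]
      intro v hv a ha'
      rw [commutatorElement_def]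
      exact mem_centralizer_iff.2 fun b hb => ha p hp v hv a ha' b hb
    have hAUC : A ≤ centralizer (U : Set Γ) := Grp.le_centralizer_of_series A U ⁅U, A⁆ hAU hcop
      (Or.inr (by haveI := (hVp.to_le (inf_le_left : U ≤ V)).isNilpotent; infer_instance)) le_rfl h2
    have hAC : A ≤ centralizer (V : Set Γ) := Grp.thompson_PQ (Zf p) A (hZp p hp) (hMp p hp) (hZM p hp) V hVp
      (le_normalizer_core (hZR p hp)) hAV (le_centralizer_iff.1 hAUC)
    have hcopQ : (Nat.card A).Coprime (Nat.card Q) := by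
      obtain ⟨n, hn⟩ := IsPGroup.iff_card.1 hQ
      rw [hn]; exact (hMq p hp).pow_right n
    have hQA : ⁅Q, A⁆ = Q := by
      have h := Grp.commutator_sup_fixed A Q (hMQ p hp) hcopQ
        (Or.inr (by haveI := hQ.isNilpotent; infer_instance))
      rwa [hb p hp, sup_bot_eq] at h
    have hAV1 : ⁅A, V⁆ = ⊥ := commutator_eq_bot_iff_le_centralizer.2 hAC
    have hVQ : ⁅V, Q⁆ ≤ V := Grp.commutator_le_left_of_le_normalizer (hQR.trans (le_normalizer_core' R))
    have h3 : ⁅⁅Q, A⁆, V⁆ = ⊥ := by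
      refine commutator_commutator_eq_bot_of_rotate ?_ ?_
      · rw [hAV1, commutator_bot_left]
      · refine le_bot_iff.1 ((commutator_mono hVQ le_rfl).trans ?_)
        rw [commutator_comm, hAV1]
    rw [hQA] at h3
    exact commutator_eq_bot_iff_le_centralizer.1 h3
  have hQF : Q ≤ Cfsg.fittingOf R := by
    refine le_trans ?_ (centralizer_fittingOf_le R)
    refine le_inf hQR ?_
    rw [le_centralizer_iff, fittingOf_eq]
    refine iSup_le fun r => ?_
    by_cases hr : (r : ℕ) ∈ π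
    · exact le_centralizer_iff.1 (key r hr)
    · rw [hcore r r.2 hr]; exact bot_le
  refine eq_bot_iff.2 fun x hx => ?_
  obtain ⟨k, hk⟩ := hQ ⟨x, hx⟩
  have := mem_O_of_mem_fittingOf (r := q) (k := k) (hQF hx) (congrArg Subtype.val hk)
  rwa [hcore q Fact.out hqπ] at this

variable {G : Type u} [Group G] [Finite G]

/-- A coset of `N` fixed by a coprime group contains a fixed element. -/
theorem fixed_rep {A N : Subgroup G} (hAN : A ≤ normalizer (N : Set G))
    (hcop : (Nat.card A).Coprime (Nat.card N)) (hsolv : Group.IsSolvable A ∨ Group.IsSolvable N) {k : G}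
    (hk : k ∈ normalizer (N : Set G)) (hfix : ∀ a ∈ A, a * k * a⁻¹ * k⁻¹ ∈ N) :
    ∃ c ∈ centralizer (A : Set G), k⁻¹ * c ∈ N := by
  have hle : MulAut.conj k⁻¹ • A ≤ N ⊔ A := by
    intro b hb
    rw [Grp.mem_smul_conj, inv_inv] at hb
    obtain ⟨a, ha, rfl⟩ : ∃ a ∈ A, k⁻¹ * a * k = b := ⟨_, hb, by group⟩
    have h1 := Grp.mem_conj_normalizer' hk (hfix a ha)
    convert Subgroup.mul_mem_sup (S := N) (T := A) h1 ha using 1
    group
  obtain ⟨n, hn, hn'⟩ := Grp.exists_conj_of_le_sup hAN hle (Grp.card_conj_smul _ _) hcop.symm hsolv.symm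
  have hcA : k * n ∈ normalizer (A : Set G) := Grp.mem_normalizer_iff_smul.mpr (by
    rw [← Grp.conj_smul_conj_smul, hn', Grp.conj_smul_conj_smul, mul_inv_cancel, map_one, one_smul])
  refine ⟨k * n, mem_centralizer_iff.2 fun a ha => ?_, by simpa using hn⟩
  have h1 : a * (k * n) * a⁻¹ * (k * n)⁻¹ ∈ A ⊓ N := by
    refine ⟨?_, ?_⟩
    · rw [show a * (k * n) * a⁻¹ * (k * n)⁻¹ = a * ((k * n) * a⁻¹ * (k * n)⁻¹) by group]
      exact A.mul_mem ha (Grp.mem_conj_normalizer hcA (A.inv_mem ha))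
    · rw [show a * (k * n) * a⁻¹ * (k * n)⁻¹ = (a * k * a⁻¹ * k⁻¹) * (k * (a * n * a⁻¹ * n⁻¹) * k⁻¹) by group]
      exact N.mul_mem (hfix a ha) (Grp.mem_conj_normalizer hk
        (N.mul_mem (Grp.mem_conj_normalizer (hAN ha) hn) (N.inv_mem hn)))
  rw [Cfsg.Agent.Grp.inf_eq_bot_of_coprime hcop, mem_bot, mul_inv_eq_one, mul_inv_eq_iff_eq_mul] at h1
  exact h1

/-- The setting of Bender's lemma. -/
structure Setup (H M R : Subgroup G) : Prop where
  loc : ∀ t : ℕ, t.Prime → O t H ≠ ⊥ → centralizer (Z t H : Set G) ≤ H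
  two : 2 ≤ (Nat.card (Cfsg.fittingOf H)).primeFactors.card
  hM : M ≤ Cfsg.fittingOf H
  hCM : Cfsg.fittingOf H ⊓ centralizer (M : Set G) ≤ M
  solv : Group.IsSolvable R
  hMR : M ≤ normalizer (R : Set G)
  hXR : H ⊓ centralizer (Cfsg.fittingOf H : Set G) ≤ normalizer (R : Set G)

variable {H M R : Subgroup G}

local notation "πF" => Cfsg.primesNotDvd (Nat.card (Cfsg.fittingOf H))

theorem Setup.Z_le (hS : Setup H M R) {t : ℕ} [Fact t.Prime] : Z t H ≤ M :=
  (le_inf (inf_le_left.trans (O_le_fittingOf H))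
    ((Z_centralizes_fittingOf H).trans (centralizer_le hS.hM))).trans hS.hCM

/-- An invariant subgroup of order prime to `F(H)` inside `H ⊓ R` is trivial. -/
theorem Setup.triv (hS : Setup H M R) {Y : Subgroup G} (hYR : Y ≤ R) (hYH : Y ≤ H) (hMY : M ≤ normalizer (Y : Set G))
    (hY : ∀ r : ℕ, r.Prime → r ∣ Nat.card Y → r ∈ πF) : Y = ⊥ := by
  set F := Cfsg.fittingOf H with hF
  have hcop : (Nat.card Y).Coprime (Nat.card F) := Nat.coprime_of_dvd fun r hr h1 h2 => (hY r hr h1).2 h2
  have hFn := le_normalizer_fittingOf H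
  have hYM : Y ≤ centralizer (M : Set G) := fun y hy => mem_centralizer_iff.2 fun m hm => by
    have h1 : y * m * y⁻¹ * m⁻¹ ∈ Y ⊓ F := by
      refine ⟨?_, F.mul_mem ((Subgroup.mem_normalizer_iff.1 (hFn (hYH hy)) m).1 (hS.hM hm)) (F.inv_mem (hS.hM hm))⟩
      rw [show y * m * y⁻¹ * m⁻¹ = y * (m * y⁻¹ * m⁻¹) by group]
      exact Y.mul_mem hy ((Subgroup.mem_normalizer_iff.1 (hMY hm) y⁻¹).1 (Y.inv_mem hy))
    rw [Cfsg.Agent.Grp.inf_eq_bot_of_coprime hcop, mem_bot, mul_inv_eq_one, mul_inv_eq_iff_eq_mul] at h1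
    exact h1.symm
  have hMC : M ≤ F ⊓ centralizer (Y : Set G) := le_inf hS.hM (le_centralizer_iff.1 hYM)
  have hYF : Y ≤ centralizer (F : Set G) := Cfsg.Agent.S1442.result F Y (fittingOf_isNilpotent H) (hYH.trans hFn) hcop
    (((inf_le_inf_left F (centralizer_le hMC)).trans hS.hCM).trans hMC)
  set X := H ⊓ centralizer (F : Set G) with hX
  set S := R ⊓ X with hSdef
  have hYS : Y ≤ S := le_inf hYR (le_inf hYH hYF)
  haveI : Group.IsSolvable S := Grp.isSolvable_of_le (inf_le_left : S ≤ R) hS.solv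
  have hXS : X ≤ normalizer (S : Set G) := Grp.le_normalizer_inf' hS.hXR le_normalizer
  have hHX : H ≤ normalizer (X : Set G) := Grp.le_normalizer_inf' le_normalizer
    (hFn.trans normalizer_le_normalizer_centralizer)
  have hO : ∀ r : ℕ, r.Prime → O r S ≤ F := by
    intro r hr
    haveI := Fact.mk hr
    have h1 : O r S ≤ O r X := le_O ((O_le r S).trans inf_le_right) (le_normalizer_core hXS) (O_isPGroup r S)
    exact h1.trans ((le_O ((O_le r X).trans inf_le_left) (le_normalizer_core hHX) (O_isPGroup r X)).trans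
      (O_le_fittingOf H))
  have hFS : Cfsg.fittingOf S ≤ F := by
    rw [fittingOf_eq]; exact iSup_le fun r => hO r r.2
  have hSF : S ≤ F := by
    refine le_trans ?_ hFS
    refine le_trans ?_ (centralizer_fittingOf_le S)
    exact le_inf le_rfl ((inf_le_right.trans inf_le_right).trans (centralizer_le hFS))
  have h2 : Y ≤ Y ⊓ F := le_inf le_rfl (hYS.trans hSF)
  rwa [Cfsg.Agent.Grp.inf_eq_bot_of_coprime hcop, le_bot_iff] at h2

theorem Setup.le_core (hS : Setup H M R) {q : ℕ} [hq : Fact q.Prime] (hqF : ¬ q ∣ Nat.card (Cfsg.fittingOf H))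
    {Q : Subgroup G} (hQR : Q ≤ R) (hQ : IsPGroup q Q) (hMQ : M ≤ normalizer (Q : Set G)) :
    Q ≤ Cfsg.piCoreOf πF R := by
  set F := Cfsg.fittingOf H with hF
  set Ov := Cfsg.piCoreOf πF R with hOv
  set N := normalizer (Ov : Set G) with hN
  have hRN : R ≤ N := le_normalizer_core' R
  have hMN : M ≤ N := le_normalizer_core hS.hMR
  haveI : (Ov.subgroupOf N).Normal := normal_subgroupOf_of_le_normalizer le_rfl
  set f := QuotientGroup.mk' (Ov.subgroupOf N) with hf
  have hfs : Function.Surjective f := QuotientGroup.mk'_surjective _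
  haveI hRs : Group.IsSolvable (R.subgroupOf N) := by
    haveI := hS.solv
    exact Group.isSolvable_of_surjective (f := (subgroupOfEquivOfLe hRN).symm.toMonoidHom)
      (subgroupOfEquivOfLe hRN).symm.surjective
  haveI : Group.IsSolvable ((R.subgroupOf N).map f) :=
    Group.isSolvable_of_surjective (f.subgroupMap_surjective (R.subgroupOf N))
  let Mc : ℕ → Subgroup G := fun p => M ⊓ O' p F
  let π : Set ℕ := {p | p.Prime ∧ p ∣ Nat.card F}
  have hqπ : q ∉ π := fun h => hqF h.2
  have hOvπ : ∀ r : ℕ, r.Prime → r ∣ Nat.card Ov → r ∈ πF := fun r hr hd => TransHyp.piCoreOf_primes hr hd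
  have hcopF : ∀ {A : Subgroup G}, A ≤ F → (Nat.card A).Coprime (Nat.card Ov) := fun {A} hA =>
    Nat.coprime_of_dvd fun r hr h1 h2 => (hOvπ r hr h2).2 (h1.trans (card_dvd_of_le hA))
  have hZA : ∀ t : ℕ, t.Prime → IsPGroup t (Z t H) := fun t _ => (O_isPGroup t H).to_le inf_le_left
  have himg : ∀ {A : Subgroup G}, A ≤ N → ∀ {v : N}, f v ∈ centralizer ((A.subgroupOf N).map f : Set (N ⧸ Ov.subgroupOf N)) →
      ∀ a ∈ A, a * (v : G) * a⁻¹ * (v : G)⁻¹ ∈ Ov := by
    intro A hA v hv a ha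
    have h1 : f (⟨a, hA ha⟩ * v * ⟨a, hA ha⟩⁻¹ * v⁻¹) = 1 := by
      rw [map_mul, map_mul, map_mul, mem_centralizer_iff.1 hv (f ⟨a, hA ha⟩) (mem_map_of_mem f ha), map_inv, map_inv,
        mul_inv_cancel_right, mul_inv_cancel]
    exact mem_subgroupOf.1 ((QuotientGroup.eq_one_iff _).1 h1)
  have key : (Q.subgroupOf N).map f = ⊥ := by
    refine invariant_core ((R.subgroupOf N).map f) _ q π (fun p hp => hp.1) ?_ hqπ
      (fun p => ((Z p H).subgroupOf N).map f) (fun p => ((Mc p).subgroupOf N).map f) ?_ ?_ ?_ ?_ ?_ ?_ ?_ ?_ ?_ ?_ ?_ ?_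
    · obtain ⟨p, hp⟩ := Finset.card_pos.1 (lt_of_lt_of_le (by norm_num) hS.two)
      exact ⟨p, (Nat.mem_primeFactors.1 hp).1, (Nat.mem_primeFactors.1 hp).2.1⟩
    · exact (hQ.of_equiv (subgroupOfEquivOfLe (hQR.trans hRN)).symm).map f
    · exact map_mono (comap_mono hQR)
    · -- the `p'`-core of the quotient
      intro r hr hrπ
      haveI := Fact.mk hr
      set Rb := (R.subgroupOf N).map f
      set W := ((O r Rb).comap f).map N.subtype with hW
      have hWR : W ≤ R := by
        rintro _ ⟨w, hw, rfl⟩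
        obtain ⟨r', hr', e⟩ := O_le r Rb hw
        have h1 : (r' : G)⁻¹ * w ∈ Ov := mem_subgroupOf.1 (QuotientGroup.eq.1 e)
        have := R.mul_mem (mem_subgroupOf.1 hr') (TransHyp.piCoreOf_le R h1)
        rwa [mul_inv_cancel_left] at this
      have hWn : R ≤ normalizer (W : Set G) := by
        intro x hx
        have hx' : f ⟨x, hRN hx⟩ ∈ normalizer (O r Rb : Set (N ⧸ Ov.subgroupOf N)) :=
          le_normalizer_core' Rb (mem_map_of_mem f (mem_subgroupOf.2 hx))
        rw [Subgroup.mem_normalizer_iff]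
        intro y
        constructor
        · rintro ⟨w, hw, rfl⟩
          refine ⟨⟨x, hRN hx⟩ * w * ⟨x, hRN hx⟩⁻¹, ?_, rfl⟩
          rw [SetLike.mem_coe, mem_comap, map_mul, map_mul, map_inv]
          exact (Subgroup.mem_normalizer_iff.1 hx' (f w)).1 hw
        · rintro ⟨w, hw, e⟩
          refine ⟨⟨x, hRN hx⟩⁻¹ * w * ⟨x, hRN hx⟩, ?_, ?_⟩
          · rw [SetLike.mem_coe, mem_comap, map_mul, map_mul, map_inv]
            refine (Subgroup.mem_normalizer_iff.1 hx' _).2 ?_
            have := mem_comap.1 hw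
            simpa [mul_assoc] using this
          · simp only [coe_subtype] at e
            simp [e, mul_assoc]
      have hWπ : W ≤ Ov := by
        refine TransHyp.le_piCoreOf hWR hWn fun s hs hd => ⟨hs, fun hsF => ?_⟩
        haveI := Fact.mk hs
        obtain ⟨⟨x, hxW⟩, hx⟩ := exists_prime_orderOf_dvd_card' s hd
        rw [Subgroup.orderOf_mk] at hx
        obtain ⟨w, hw, hwx⟩ := hxW
        have hws : w ^ s = 1 := by
          refine Subtype.ext ?_
          rw [coe_pow, coe_one, show (w : G) = x from hwx, ← hx, pow_orderOf_eq_one]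
        have h1 : f w = 1 := by
          have hd1 : orderOf (f w) ∣ s := orderOf_dvd_of_pow_eq_one (by rw [← map_pow, hws, map_one])
          obtain ⟨j, hj⟩ := (O_isPGroup r Rb) ⟨f w, hw⟩
          have hd2 : orderOf (f w) ∣ r ^ j := orderOf_dvd_of_pow_eq_one (congrArg Subtype.val hj)
          refine orderOf_eq_one_iff.1 (Nat.eq_one_of_dvd_coprimes ?_ hd1 hd2)
          exact ((Nat.coprime_primes hs hr).2 fun e => hrπ (e ▸ ⟨hs, hsF⟩)).pow_right j
        have hxO : x ∈ Ov := hwx ▸ mem_subgroupOf.1 ((QuotientGroup.eq_one_iff w).1 h1)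
        have hsd : orderOf x ∣ Nat.card Ov := orderOf_dvd_natCard Ov hxO
        rw [hx] at hsd
        exact (hOvπ s hs hsd).2 hsF
      refine eq_bot_iff.2 fun z hz => ?_
      obtain ⟨w, rfl⟩ := hfs z
      exact (QuotientGroup.eq_one_iff w).2 (hWπ ⟨w, hz, rfl⟩)
    · intro p _
      exact (map_mono (fun a ha => by
        rw [Subgroup.mem_normalizer_iff]
        intro y
        simpa [mem_subgroupOf] using Subgroup.mem_normalizer_iff.1 (hS.hMR ha.1) (y : G))).trans (le_normalizer_map f)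
    · intro p _
      exact (map_mono (fun a ha => by
        rw [Subgroup.mem_normalizer_iff]
        intro y
        simpa [mem_subgroupOf] using Subgroup.mem_normalizer_iff.1 (hMQ ha.1) (y : G))).trans (le_normalizer_map f)
    · intro p hp
      haveI := Fact.mk hp.1
      refine Nat.Coprime.coprime_dvd_left (card_map_dvd _ f) ?_
      rw [Nat.card_congr (subgroupOfEquivOfLe (inf_le_left.trans hMN : Mc p ≤ N)).toEquiv]
      exact (O'_coprime F).coprime_dvd_left (card_dvd_of_le inf_le_right)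
    · intro p _
      refine Nat.Coprime.coprime_dvd_left (card_map_dvd _ f) ?_
      rw [Nat.card_congr (subgroupOfEquivOfLe (inf_le_left.trans hMN : Mc p ≤ N)).toEquiv]
      exact ((hq.out.coprime_iff_not_dvd.2 hqF).symm).coprime_dvd_left (card_dvd_of_le (inf_le_left.trans hS.hM))
    · intro p hp
      haveI := Fact.mk hp.1
      exact ((hZA p hp.1).of_equiv (subgroupOfEquivOfLe (hS.Z_le.trans hMN)).symm).map f
    · intro p hp
      haveI := Fact.mk hp.1
      exact (map_mono (fun a ha => by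
        rw [Subgroup.mem_normalizer_iff]
        intro y
        simpa [mem_subgroupOf] using Subgroup.mem_normalizer_iff.1 (hS.hMR (hS.Z_le ha)) (y : G))).trans
          (le_normalizer_map f)
    · intro p hp
      haveI := Fact.mk hp.1
      rintro _ ⟨z, hz, rfl⟩
      refine mem_centralizer_iff.2 ?_
      rintro _ ⟨a, ha, rfl⟩
      rw [← map_mul, ← map_mul]
      exact congrArg f (Subtype.ext (mem_centralizer_iff.1 (Z_centralizes_fittingOf H hz) a (hS.hM ha.1)))
    · -- commutators of fixed points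
      intro p hp v hv a ha b hb
      haveI := Fact.mk hp.1
      obtain ⟨hvO, hvC⟩ := hv
      obtain ⟨v', hv', rfl⟩ := O_le p _ hvO
      obtain ⟨c, hc, hc'⟩ := fixed_rep (A := Z p H) (N := Ov) (hS.Z_le.trans hMN) (hcopF (hS.Z_le.trans hS.hM))
        (Or.inl (by haveI := (hZA p hp.1).isNilpotent; infer_instance)) (v'.2)
        (himg (hS.Z_le.trans hMN) hvC)
      have hcN : c ∈ N := by
        have := N.mul_mem v'.2 (le_normalizer hc')
        rwa [mul_inv_cancel_left] at this
      have hfc : f v' = f ⟨c, hcN⟩ := QuotientGroup.eq.2 (mem_subgroupOf.2 hc')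
      have hcH : c ∈ H := hS.loc p hp.1 (O_ne_bot_of_dvd hp.2) hc
      obtain ⟨a', ha', rfl⟩ := ha
      obtain ⟨b', hb', rfl⟩ := hb
      set w : N := ⟨c, hcN⟩ * a' * ⟨c, hcN⟩⁻¹ * a'⁻¹ with hw
      have hwF : (w : G) ∈ F := F.mul_mem
        ((Subgroup.mem_normalizer_iff.1 (le_normalizer_fittingOf H hcH) _).1 (hS.hM ha'.1)) (F.inv_mem (hS.hM ha'.1))
      have hfw : f v' * f a' * (f v')⁻¹ * (f a')⁻¹ = f w := by
        rw [hfc, hw, map_mul, map_mul, map_mul, map_inv, map_inv]
      rw [hfw]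
      have hwV : f w ∈ O p ((R.subgroupOf N).map f) := by
        rw [← hfw, show f v' * f a' * (f v')⁻¹ * (f a')⁻¹ = f v' * (f a' * (f v')⁻¹ * (f a')⁻¹) by group]
        refine Subgroup.mul_mem _ hvO ((Subgroup.mem_normalizer_iff.1 ?_ _).1 (Subgroup.inv_mem _ hvO))
        refine le_normalizer_core ?_ (mem_map_of_mem f ha')
        exact (map_mono (fun a ha => by
          rw [Subgroup.mem_normalizer_iff]
          intro y
          simpa [mem_subgroupOf] using Subgroup.mem_normalizer_iff.1 (hS.hMR ha.1) (y : G))).trans (le_normalizer_map f)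
      obtain ⟨e, m, hm, hem⟩ := Nat.exists_eq_pow_mul_and_not_dvd (orderOf_pos (w : G)).ne' p hp.1.ne_one
      have hwm : (w : G) ^ m ∈ O p H := mem_O_of_mem_fittingOf (pow_mem hwF m) (k := e)
        (by rw [← pow_mul, mul_comm m, ← hem, pow_orderOf_eq_one])
      have hcomm : (w : G) ^ m ∈ centralizer (O' p F : Set G) := by
        refine commute_of_coprime (A := O p H) (B := O' p F) ?_ ?_ ?_ hwm
        · exact (O_le p H).trans (le_normalizer_core (le_normalizer_fittingOf H))
        · exact ((O'_le p F).trans (fittingOf_le H)).trans (le_normalizer_core' H)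
        · obtain ⟨n, hn⟩ := IsPGroup.iff_card.1 (O_isPGroup p H)
          rw [hn]; exact (O'_coprime F).symm.pow_left n
      have h1 : (f w) ^ m ∈ centralizer ({f b'} : Set (N ⧸ Ov.subgroupOf N)) := by
        rw [mem_centralizer_singleton_iff, ← map_pow, ← map_mul, ← map_mul]
        exact congrArg f (Subtype.ext (by simpa using (mem_centralizer_iff.1 hcomm b' hb'.2).symm))
      obtain ⟨j, hj⟩ := O_isPGroup p _ ⟨f w, hwV⟩
      have hcop : (orderOf (f w)).Coprime m :=
        Nat.Coprime.coprime_dvd_left (orderOf_dvd_of_pow_eq_one (congrArg Subtype.val hj))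
          (((hp.1.coprime_iff_not_dvd).2 hm).pow_left j)
      exact (mem_centralizer_singleton_iff.1 (Transfer.mem_of_pow_mem h1 hcop)).symm
    · -- fixed points in `Q`
      intro p hp
      obtain ⟨t, ht, htp⟩ := Finset.exists_mem_ne hS.two p
      haveI := Fact.mk (Nat.mem_primeFactors.1 ht).1
      haveI := Fact.mk hp.1
      have hZMc : Z t H ≤ Mc p := le_inf hS.Z_le (le_O' (inf_le_left.trans (O_le_fittingOf H))
        (le_trans ?_ (centralizer_le_normalizer _)) ?_)
      · refine eq_bot_iff.2 ?_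
        rintro _ ⟨⟨k, hk, rfl⟩, hkC⟩
        have hkQ : (k : G) ∈ Q := hk
        have hfix : ∀ a ∈ Z t H, a * (k : G) * a⁻¹ * (k : G)⁻¹ ∈ Q ⊓ Ov := fun a ha =>
          ⟨Q.mul_mem ((Subgroup.mem_normalizer_iff.1 (hMQ (hS.Z_le ha)) _).1 hkQ) (Q.inv_mem hkQ),
            himg (inf_le_left.trans hMN : Mc p ≤ N) hkC a (hZMc ha)⟩
        obtain ⟨c, hc, hc'⟩ := fixed_rep (A := Z t H) (N := Q ⊓ Ov)
          (Grp.le_normalizer_inf' (hS.Z_le.trans hMQ) (hS.Z_le.trans hMN))
          ((hcopF (hS.Z_le.trans hS.hM)).coprime_dvd_right (card_dvd_of_le inf_le_right))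
          (Or.inl (by haveI := (hZA t Fact.out).isNilpotent; infer_instance))
          (Grp.le_normalizer_inf' le_normalizer (hQR.trans hRN) hkQ) hfix
        have hcQ : c ∈ Q := by
          have := Q.mul_mem hkQ hc'.1
          rwa [mul_inv_cancel_left] at this
        have hY : Q ⊓ centralizer (Z t H : Set G) = ⊥ := by
          refine hS.triv (inf_le_left.trans hQR)
            (inf_le_right.trans (hS.loc t Fact.out (O_ne_bot_of_dvd (Nat.mem_primeFactors.1 ht).2.1)))
            (Grp.le_normalizer_inf' hMQ ?_) fun r hr hd => ⟨hr, fun h => hqF ?_⟩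
          · exact (le_centralizer_iff.1 ((Z_centralizes_fittingOf H).trans (centralizer_le hS.hM))).trans le_normalizer
          · obtain ⟨n, hn⟩ := IsPGroup.iff_card.1 hQ
            have := hr.dvd_of_dvd_pow (hn ▸ hd.trans (card_dvd_of_le inf_le_left))
            rwa [(Nat.prime_dvd_prime_iff_eq hr hq.out).1 this] at h
        have : c ∈ (⊥ : Subgroup G) := hY ▸ ⟨hcQ, hc⟩
        rw [mem_bot.1 this, mul_one] at hc'
        exact (QuotientGroup.eq_one_iff k).2 (mem_subgroupOf.2 (by simpa using Ov.inv_mem hc'.2))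
      · exact le_centralizer_iff.1 (Z_centralizes_fittingOf H)
      · obtain ⟨n, hn⟩ := IsPGroup.iff_card.1 (hZA t Fact.out)
        rw [hn]; exact ((Nat.coprime_primes Fact.out hp.1).2 htp).pow_left n
  intro x hx
  have h1 : f ⟨x, hRN (hQR hx)⟩ ∈ (Q.subgroupOf N).map f := mem_map_of_mem f (mem_subgroupOf.2 hx)
  rw [key, mem_bot] at h1
  exact mem_subgroupOf.1 ((QuotientGroup.eq_one_iff _).1 h1)

end Cfsg.Agent.Transfer.Loc
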