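import Cfsg.Agent.Lib.Transfer.Local.Beta
import Cfsg.Agent.Lib.Transfer.Burnside
import Cfsg.Agent.Lib.Transfer.CyclicSylow

/-!
The complement `E` of `M_σ` in a maximal subgroup `M`.
-/

set_option autoImplicit false
set_option linter.style.haveILetI false
set_option linter.unusedSectionVars false

namespace Cfsg.Agent.Transfer.Loc

open Subgroup
open scoped commutatorElement Pointwise

universe u

variable {G : Type u} [Group G] [Finite G]

theorem prankLE_mono {p k : ℕ} {A B : Subgroup G} (h : A ≤ B) (hB : Cfsg.PRankLE p k B) : Cfsg.PRankLE p k A := by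
  intro C hC hCe
  haveI := hC
  have h1 := hB (C.map (inclusion h)) (Subgroup.map_isMulCommutative _ _) (by
    rintro _ ⟨c, hc, rfl⟩
    rw [← map_pow, hCe c hc, map_one])
  rwa [card_map_of_injective (inclusion_injective h)] at h1

/-- A cyclic Sylow subgroup meeting the derived subgroup lies in it. -/
theorem cyclic_sylow_le_commutator {X : Type u} [Group X] [Finite X] {p : ℕ} [Fact p.Prime] (T : Sylow p X)
    [IsCyclic (T : Subgroup X)] (h : (T : Subgroup X) ⊓ commutator X ≠ ⊥) : (T : Subgroup X) ≤ commutator X := by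
  have hab := (Transfer.abelian_sylow_inf_commutator T (letI := IsCyclic.commGroup (α := (T : Subgroup X));
    ⟨⟨fun a b => mul_comm a b⟩⟩)).1
  set N := normalizer ((T : Subgroup X) : Set X)
  have hle : ⁅(T : Subgroup X), N⁆ ≤ (T : Subgroup X) := Grp.commutator_le_left_of_le_normalizer le_rfl
  rcases eq_or_lt_of_le hle with e | hlt
  · exact e.ge.trans (Subgroup.commutator_mono le_top le_top)
  refine absurd (le_bot_iff.1 ?_) h
  have hNC : N ≤ centralizer ((T : Subgroup X) : Set X) := fun m hm => by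
    refine Transfer.CyclicSyl.mem_centralizer_of_normalizer T hm (Or.inr ⟨_, hlt, fun x hx => ?_⟩)
    rw [← commutatorElement_def, Subgroup.commutator_comm]
    exact commutator_mem_commutator hm hx
  rw [inf_comm]
  exact hab.trans (commutator_eq_bot_iff_le_centralizer.2 (le_centralizer_iff.1 hNC)).le

variable (hG : Cfsg.IsMinSimpleOddOrder G) {M E : Subgroup G} (hM : IsCoatom M)
  (hE : Cfsg.IsComplIn E (Cfsg.sigmaCore M) M)
include hG hM hE

omit hG hM in
theorem compl_le : E ≤ M := hE.1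

omit hG hM in
theorem sigma_le_normalizer : M ≤ normalizer (Cfsg.sigmaCore M : Set G) := TransHyp.le_normalizer_piCoreOf M

omit hG hM in
theorem compl_sup : E ⊔ Cfsg.sigmaCore M = M := le_antisymm (sup_le hE.1 hE.2.1) fun m hm => by
  obtain ⟨a, ha, b, hb, rfl⟩ := hE.2.2.2 m hm
  exact Subgroup.mul_mem_sup ha hb

omit hG hM in
theorem compl_card : Nat.card E * Nat.card (Cfsg.sigmaCore M) = Nat.card M := by
  have h := Grp.card_sup_mul_card_inf (H := E) (N := Cfsg.sigmaCore M) (hE.1.trans (sigma_le_normalizer hE))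
  rw [compl_sup hE, hE.2.2.1, Subgroup.card_bot, mul_one] at h
  exact h.symm

theorem compl_prime {q : ℕ} (hq : q.Prime) (hd : q ∣ Nat.card E) : q ∉ Cfsg.sigma M := by
  intro hσ
  have hH := isPiHallOf_piCore hG hM (alpha_subset_sigma hG hM) (le_refl (Cfsg.sigma M))
  have e : (Cfsg.sigmaCore M).relIndex M = Nat.card E := Nat.eq_of_mul_eq_mul_left
    (Nat.card_pos (α := Cfsg.sigmaCore M)) ((Grp.card_mul_relIndex hE.2.1).trans ((compl_card hE).symm.trans (mul_comm _ _)))
  exact hH.2.2 q hq hσ (hd.trans (dvd_of_eq e.symm))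

theorem compl_coprime : (Nat.card E).Coprime (Nat.card (Cfsg.sigmaCore M)) :=
  Nat.coprime_of_dvd fun q hq h1 h2 =>
    compl_prime hG hM hE hq h1 (TransHyp.piCoreOf_primes (π := Cfsg.sigma M) (X := M) hq h2)

theorem compl_prankLE {p : ℕ} [hp : Fact p.Prime] : Cfsg.PRankLE p 2 E := by
  by_contra h
  obtain ⟨B, hB, hBe, hB3⟩ := exists_elem_of_not_prank h
  have hpα : p ∈ Cfsg.alpha M := ⟨hp.out, not_prank_of_elem (hB.trans hE.1) hBe hB3⟩
  refine compl_prime hG hM hE hp.out ?_ (alpha_subset_sigma hG hM hpα)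
  obtain ⟨n, hn⟩ := IsPGroup.iff_card.1 (Grp.elemAb_isPGroup hBe)
  rcases Nat.eq_zero_or_pos n with rfl | h0
  · rw [hn, pow_zero] at hB3
    exact absurd hB3 (not_le.2 (Nat.one_lt_pow (by norm_num) hp.out.one_lt))
  · exact ((dvd_pow_self p h0.ne').trans (dvd_of_eq hn.symm)).trans (card_dvd_of_le hB)

/-- Sylow subgroups of `E` are Sylow subgroups of `M`. -/
theorem compl_sylow {p : ℕ} [hp : Fact p.Prime] (hpE : p ∣ Nat.card E) {S : Subgroup G} (hS : Grp.IsSylowIn p S E) :
    Grp.IsSylowIn p S M := by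
  refine ⟨hS.1.trans hE.1, hS.2.1, fun hd => ?_⟩
  rw [← Subgroup.relIndex_mul_relIndex S E M hS.1 hE.1] at hd
  rcases hp.out.dvd_mul.1 hd with h | h
  · exact hS.2.2 h
  · have e : E.relIndex M = Nat.card (Cfsg.sigmaCore M) := Nat.eq_of_mul_eq_mul_left
      (Nat.card_pos (α := E)) ((Grp.card_mul_relIndex hE.1).trans (compl_card hE).symm)
    exact hp.out.ne_one (Nat.eq_one_of_dvd_coprimes (compl_coprime hG hM hE) hpE (h.trans (dvd_of_eq e)))

omit hG hM in
/-- The projection of `E` to `M/M_σ`. -/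
theorem compl_qimg : qimg (Cfsg.sigmaCore M) E = qimg (Cfsg.sigmaCore M) M := by
  have h := congrArg (qimg (Cfsg.sigmaCore M)) (compl_sup hE)
  rwa [qimg_sup (hE.1.trans (sigma_le_normalizer hE)) le_normalizer, qimg_self, sup_bot_eq] at h

theorem compl_derived_nilpotent : Group.IsNilpotent ↥⁅E, E⁆ := by
  set K := Cfsg.piCore (Cfsg.sigma M) M with hK
  haveI : K.Normal := Cfsg.piCore_normal _ _
  haveI := derived_quotient_nilpotent hG hM (alpha_subset_sigma hG hM)
  have hle : ∀ x : ↥⁅E, E⁆, (x : G) ∈ M := fun x => hE.1 (E.commutator_le_self x.2)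
  set E' := E.subgroupOf M
  have hmap : ∀ x : ↥⁅E, E⁆, QuotientGroup.mk' K ⟨x, hle x⟩ ∈ commutator (↥M ⧸ K) := by
    intro x
    have h1 : (x : G) ∈ Subgroup.map M.subtype ⁅E', E'⁆ := by
      rw [Subgroup.map_commutator, map_subgroupOf_eq_of_le hE.1]; exact x.2
    obtain ⟨y, hy, hyx⟩ := h1
    have h2 : y = ⟨x, hle x⟩ := Subtype.ext hyx
    rw [← h2]
    have h3 := mem_map_of_mem (QuotientGroup.mk' K) hy
    rw [Subgroup.map_commutator] at h3
    exact Subgroup.commutator_mono le_top le_top h3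
  let φ : ↥⁅E, E⁆ →* ↥(commutator (↥M ⧸ K)) :=
    MonoidHom.mk' (fun x => ⟨QuotientGroup.mk' K ⟨x, hle x⟩, hmap x⟩) fun a b =>
      Subtype.ext (map_mul (QuotientGroup.mk' K) ⟨a, hle a⟩ ⟨b, hle b⟩)
  refine Transfer.CN.isNilpotent_of_injective φ ((injective_iff_map_eq_one φ).2 fun x hx => ?_) inferInstance
  have h1 : (⟨x, hle x⟩ : M) ∈ K := (QuotientGroup.eq_one_iff _).1 (congrArg Subtype.val hx)
  have h2 : (x : G) ∈ E ⊓ Cfsg.sigmaCore M := ⟨E.commutator_le_self x.2, ⟨_, h1, rfl⟩⟩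
  rw [hE.2.2.1, mem_bot] at h2
  exact Subtype.ext h2

theorem compl_dvd_derived {p : ℕ} [hp : Fact p.Prime] (hpσ : p ∉ Cfsg.sigma M) (hd : p ∣ Nat.card ↥⁅M, M⁆) :
    p ∣ Nat.card ↥⁅E, E⁆ := by
  set N := Cfsg.sigmaCore M
  have hN : M ≤ normalizer (N : Set G) := sigma_le_normalizer hE
  have hNM : N ≤ ⁅M, M⁆ := sigmaCore_le_derived hG hM
  rw [← card_qimg hNM (M.commutator_le_self.trans hN), qimg_commutator hN hN, ← compl_qimg hE,
    ← qimg_commutator (hE.1.trans hN) (hE.1.trans hN)] at hd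
  rcases hp.out.dvd_mul.1 hd with h | h
  · exact absurd (TransHyp.piCoreOf_primes (π := Cfsg.sigma M) (X := M) hp.out h) hpσ
  · exact h.trans (card_qimg_dvd (E.commutator_le_self.trans (hE.1.trans hN)))

/-- For a prime of rank one outside `σ(M)` dividing `|M'|` the Sylow subgroups of `E` lie in `E'`. -/
theorem compl_tau3_le {p : ℕ} [hp : Fact p.Prime] (hτ : p ∈ Cfsg.tau3 M) {T : Subgroup G} (hT : Grp.IsSylowIn p T E) :
    IsCyclic T ∧ T ≤ ⁅E, E⁆ := by
  have hd := compl_dvd_derived hG hM hE hτ.2.1 hτ.2.2.1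
  have hpG : p ∣ Nat.card G := hd.trans (card_subgroup_dvd_card _)
  have hTc : IsCyclic T := by
    by_contra hc
    exact not_prank_one_of_not_cyclic hG (ne_two hG hpG) hT.2.1 hc (prankLE_mono (hT.1.trans hE.1) hτ.2.2.2)
  refine ⟨hTc, ?_⟩
  obtain ⟨S, hS⟩ := Grp.isSylowIn_iff.1 hT
  haveI : IsCyclic (S : Subgroup E) := by
    subst hS
    exact isCyclic_of_surjective _ ((S : Subgroup E).equivMapOfInjective E.subtype E.subtype_injective).symm.surjective
  have hne : (S : Subgroup E) ⊓ commutator E ≠ ⊥ := by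
    intro e
    have hd' : p ∣ Nat.card (commutator E) := by
      rwa [← card_map_of_injective E.subtype_injective, ← derived_eq_map E]
    have h1 := Nat.le_of_dvd (Nat.mul_pos Nat.card_pos Nat.card_pos)
      (Grp.card_sup_dvd_mul (H := (S : Subgroup E)) (N := commutator E) (by rw [Subgroup.normalizer_eq_top]; exact le_top))
    have h2 := Grp.card_sup_mul_card_inf_normal (H := (S : Subgroup E)) (N := commutator E)
    rw [e, Subgroup.card_bot, mul_one] at h2
    refine S.not_dvd_index ?_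
    have h3 : Nat.card ↥((S : Subgroup E) ⊔ commutator E) ∣ Nat.card E := card_subgroup_dvd_card _
    rw [h2, ← Subgroup.card_mul_index (S : Subgroup E)] at h3
    exact hd'.trans ((Nat.mul_dvd_mul_iff_left Nat.card_pos).1 h3)
  have h := map_mono (f := E.subtype) (cyclic_sylow_le_commutator S hne)
  rw [← derived_eq_map E] at h
  exact hS.ge.trans h

end Cfsg.Agent.Transfer.Loc
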