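import Cfsg.Agent.Lib.Transfer.NarrowAut
import Cfsg.Agent.Lib.Transfer.Local.AlphaCentral
import Cfsg.Agent.Lib.Invol.RankOne

/-!
A `p`-group with a maximal elementary plane is narrow; Sylow subgroups for non-ideal primes.
-/

set_option autoImplicit false
set_option linter.style.haveILetI false
set_option linter.unusedSectionVars false

namespace Cfsg.Agent.Transfer.Loc

open Subgroup
open scoped commutatorElement Pointwise

universe u

variable {p : ℕ} [hp : Fact p.Prime]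

/-- In a `p`-group of rank at least three a maximal elementary plane is not central, and the centraliser of
each of its noncentral elements is the product of a group of order `p` and a cyclic group. -/
theorem maxPlane_cent {R : Type u} [Group R] [Finite R] (hp2 : p ≠ 2) (hR : IsPGroup p R)
    (hr : ¬ Cfsg.PRankLE p 2 R) {E : Subgroup R} (hEe : Cfsg.IsElementaryAbelian p E) (hE2 : Nat.card E = p ^ 2)
    (hEmax : ∀ B : Subgroup R, Cfsg.IsElementaryAbelian p B → E ≤ B → B = E) :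
    ¬ E ≤ center R ∧ ∀ x ∈ E, x ∉ center R → ∃ R₁ : Subgroup R, Nat.card (zpowers x) = p ∧ IsCyclic R₁ ∧
      zpowers x ⊓ R₁ = ⊥ ∧ (∀ a ∈ zpowers x, ∀ b ∈ R₁, a * b = b * a) ∧
      zpowers x ⊔ R₁ = centralizer (zpowers x : Set R) := by
  obtain ⟨hET, hZ1, -, -, hTi⟩ := Cfsg.Agent.S1453.result p hp2 hR hr E hEe hE2 hEmax
  set T := centralizer ((closure {x : R | x ∈ Subgroup.upperCentralSeries R 2 ∧ x ^ p = 1} : Subgroup R) : Set R)
  set Z₁ := closure {x : R | x ∈ center R ∧ x ^ p = 1} with hZ₁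
  have hZc : Z₁ ≤ center R := (closure_le _).2 fun x hx => hx.1
  haveI : IsCyclic Z₁ := isCyclic_of_prime_card (p := p) hZ1
  have hZe : Cfsg.IsElementaryAbelian p Z₁ := by
    letI := IsCyclic.commGroup (α := Z₁)
    exact ⟨⟨⟨fun a b => mul_comm a b⟩⟩, fun a ha => orderOf_dvd_iff_pow_eq_one.1 (hZ1 ▸ Z₁.orderOf_dvd_natCard ha)⟩
  have hext : ∀ B : Subgroup R, Cfsg.IsElementaryAbelian p B → (∀ a ∈ E, ∀ b ∈ B, a * b = b * a) → B ≤ E :=
    fun B hB hc => (le_sup_right : B ≤ E ⊔ B).trans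
      (hEmax _ (Cfsg.Agent.Fus.isElementaryAbelian_sup hEe hB hc) le_sup_left).le
  have hZE : Z₁ ≤ E := hext Z₁ hZe fun a _ b hb => mem_center_iff.1 (hZc hb) a
  have hZT : Z₁ ≤ T := hZc.trans (Subgroup.center_le_centralizer _)
  have hETZ : E ⊓ T = Z₁ := by
    refine (Subgroup.eq_of_le_of_card_ge (le_inf hZE hZT) ?_).symm
    rw [hZ1]
    obtain ⟨n, hn⟩ := IsPGroup.iff_card.1 ((hR.to_subgroup E).to_le (inf_le_left : E ⊓ T ≤ E))
    by_contra hlt
    have h2 : 2 ≤ n := by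
      by_contra hn2
      exact hlt (hn ▸ (Nat.pow_le_pow_right hp.out.pos (by omega : n ≤ 1)).trans (pow_one p).le)
    exact hET ((Subgroup.eq_of_le_of_card_ge inf_le_left (by rw [hE2, hn]; exact Nat.pow_le_pow_right hp.out.pos h2)).ge.trans
      inf_le_right)
  refine ⟨fun h => hET (le_trans (fun e he => (subset_closure ⟨h he, hEe.2 e he⟩ : e ∈ Z₁)) hZT), fun x hx hxc => ?_⟩
  have hxT : x ∉ T := fun h => hxc (hZc (hETZ.le ⟨hx, h⟩))
  have hxp : x ^ p = 1 := hEe.2 x hx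
  have hxo : orderOf x = p := orderOf_eq_prime hxp fun e => hxT (e ▸ one_mem T)
  set R₀ := zpowers x with hR₀
  set C := centralizer (R₀ : Set R) with hC
  have hR₀E : R₀ ≤ E := zpowers_le.2 hx
  have hR₀c : Nat.card R₀ = p := by rw [hR₀, Nat.card_zpowers, hxo]
  have hgen : R₀ ⊔ Z₁ = E := by
    refine Subgroup.eq_of_le_of_card_ge (sup_le hR₀E hZE) ?_
    obtain ⟨n, hn⟩ := IsPGroup.iff_card.1 ((hR.to_subgroup E).to_le (sup_le hR₀E hZE))
    rw [hE2, hn]
    refine Nat.pow_le_pow_right hp.out.pos ?_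
    by_contra hn2
    have h1 : Nat.card ↥(R₀ ⊔ Z₁) ≤ p := hn ▸ (Nat.pow_le_pow_right hp.out.pos (by omega : n ≤ 1)).trans (pow_one p).le
    have h2 : Z₁ = R₀ ⊔ Z₁ := Subgroup.eq_of_le_of_card_ge le_sup_right (h1.trans hZ1.ge)
    exact hxT (hZT (h2.ge (mem_sup_left (mem_zpowers x))))
  obtain ⟨z, hz, hz1⟩ := (Subgroup.bot_or_exists_ne_one Z₁).resolve_left fun e => by
    rw [e, Subgroup.card_bot] at hZ1
    exact hp.out.ne_one hZ1.symm
  have hzC : z ∈ C ⊓ T := ⟨mem_centralizer_iff.2 fun y _ => mem_center_iff.1 (hZc hz) y, hZT hz⟩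
  have hcyc : IsCyclic ↥(C ⊓ T) := by
    refine Invol.isCyclic_of_pow_eq_one_mem (hR.to_subgroup _) hp2 (z := ⟨z, hzC⟩)
      (mem_center_iff.2 fun y => Subtype.ext (mem_center_iff.1 (hZc hz) y)) (Subtype.ext (hZe.2 z hz)) fun y hy => ?_
    have hy' : (y : R) ^ p = 1 := by rw [← coe_pow, hy, coe_one]
    have hye : Cfsg.IsElementaryAbelian p (zpowers (y : R)) := ⟨inferInstance, fun a ha => by
      obtain ⟨i, rfl⟩ := ha
      show ((y : R) ^ i) ^ p = 1
      rw [← zpow_natCast, ← zpow_mul, mul_comm, zpow_mul, zpow_natCast, hy', one_zpow]⟩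
    have hyE : (y : R) ∈ E := by
      refine hext _ hye (fun a ha b hb => ?_) (mem_zpowers _)
      obtain ⟨i, rfl⟩ := hb
      have h1 : E ≤ centralizer ({(y : R)} : Set R) := by
        rw [← hgen]
        refine sup_le (fun w hw => ?_) fun w hw => ?_
        · exact mem_centralizer_singleton_iff.2 (mem_centralizer_iff.1 y.2.1 w hw)
        · exact mem_centralizer_singleton_iff.2 (mem_center_iff.1 (hZc hw) _).symm
      exact ((show Commute a (y : R) from mem_centralizer_singleton_iff.1 (h1 ha)).zpow_right i).eq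
    have h2 : (y : R) ∈ Z₁ := hETZ.le ⟨hyE, y.2.2⟩
    have h3 : zpowers z = Z₁ := Subgroup.eq_of_le_of_card_ge (zpowers_le.2 hz) (by
      rw [hZ1, Nat.card_zpowers, orderOf_eq_prime (hZe.2 z hz) hz1])
    rw [← h3] at h2
    obtain ⟨i, hi⟩ := h2
    exact ⟨i, Subtype.ext (by simpa using hi)⟩
  refine ⟨C ⊓ T, hR₀c, hcyc, ?_, fun a ha b hb => mem_centralizer_iff.1 hb.1 a ha, ?_⟩
  · rw [eq_bot_iff]
    intro w hw
    rw [mem_bot]
    by_contra hw1
    have h1 : zpowers w = R₀ := Subgroup.eq_of_le_of_card_ge (zpowers_le.2 hw.1) (by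
      rw [hR₀c, Nat.card_zpowers, orderOf_eq_prime (hEe.2 w (hR₀E hw.1)) hw1])
    exact hxT ((zpowers_le.2 hw.2.2 : zpowers w ≤ T) (h1.ge (mem_zpowers x)))
  · have hR₀C : R₀ ≤ C := le_centralizer_iff_isMulCommutative.2 inferInstance
    refine le_antisymm (sup_le hR₀C inf_le_left) fun c hc => ?_
    haveI : T.Normal := by
      refine Subgroup.normal_of_index_eq_minFac_card ?_
      rw [hTi]
      obtain ⟨n, hn⟩ := IsPGroup.iff_card.1 hR
      have hn0 : n ≠ 0 := fun h => hp.out.ne_one (by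
        have h4 := Subgroup.index_dvd_card T
        rw [hTi, hn, h, pow_zero] at h4
        exact Nat.dvd_one.1 h4)
      rw [hn, Nat.pow_minFac hn0, hp.out.minFac_eq]
    haveI : IsCyclic (R ⧸ T) := isCyclic_of_prime_card (p := p) (by rw [← Subgroup.index_eq_card, hTi])
    have hxT' : QuotientGroup.mk' T x ≠ 1 := fun e => hxT ((QuotientGroup.eq_one_iff x).1 e)
    have hzp : zpowers (QuotientGroup.mk' T x) = ⊤ :=
      zpowers_eq_top_of_prime_card (p := p) (by rw [← Subgroup.index_eq_card, hTi]) hxT'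
    obtain ⟨i, hi⟩ := (hzp.ge (Subgroup.mem_top (QuotientGroup.mk' T c)) : QuotientGroup.mk' T c ∈ zpowers _)
    have hxi : x ^ i ∈ R₀ := ⟨i, rfl⟩
    have h4 : (x ^ i)⁻¹ * c ∈ C ⊓ T := by
      refine ⟨C.mul_mem (C.inv_mem (hR₀C hxi)) hc, QuotientGroup.eq.1 ?_⟩
      exact (map_zpow (QuotientGroup.mk' T) x i).trans hi
    have := Subgroup.mul_mem_sup hxi h4
    rwa [mul_inv_cancel_left] at this

theorem narrow_of_maxPlane {R : Type u} [Group R] [Finite R] (hp2 : p ≠ 2) (hR : IsPGroup p R)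
    (hr : ¬ Cfsg.PRankLE p 2 R) (hE : Narrow.HasMaxPlane p R) : Cfsg.IsNarrow p R := by
  obtain ⟨E, hEe, hE2, hEmax⟩ := hE
  obtain ⟨hc, h⟩ := maxPlane_cent hp2 hR hr hEe hE2 hEmax
  obtain ⟨x, hx, hxc⟩ := SetLike.not_le_iff_exists.1 hc
  obtain ⟨R₁, h0, h1, h2, h3, h4⟩ := h x hx hxc
  exact Or.inr ⟨zpowers x, R₁, h0, h1, h2, h3, h4⟩

theorem prankLE_equiv {R R' : Type*} [Group R] [Group R'] (e : R ≃* R') {k : ℕ} (h : Cfsg.PRankLE p k R) :
    Cfsg.PRankLE p k R' := by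
  intro B hB hBe
  haveI := hB
  have h1 := h (B.map e.symm.toMonoidHom) (Subgroup.map_isMulCommutative B e.symm.toMonoidHom) (fun a ha => by
    obtain ⟨b, hb, rfl⟩ := ha
    rw [← map_pow, hBe b hb, map_one])
  rwa [card_map_of_injective e.symm.injective] at h1

theorem narrow_equiv {R R' : Type u} [Group R] [Group R'] (e : R ≃* R') (h : Cfsg.IsNarrow p R) :
    Cfsg.IsNarrow p R' := by
  rcases h with h | ⟨R₀, R₁, h0, h1, h2, h3, h4⟩
  · exact Or.inl (prankLE_equiv e h)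
  haveI := h1
  refine Or.inr ⟨R₀.map e.toMonoidHom, R₁.map e.toMonoidHom, by rw [card_map_of_injective e.injective, h0],
    isCyclic_of_surjective _ (R₁.equivMapOfInjective e.toMonoidHom e.injective).surjective,
    by rw [← Subgroup.map_inf _ _ _ e.injective, h2, Subgroup.map_bot], ?_, ?_⟩
  · rintro _ ⟨a, ha, rfl⟩ _ ⟨b, hb, rfl⟩
    rw [← map_mul, ← map_mul, h3 a ha b hb]
  · rw [← Subgroup.map_sup, h4]
    refine le_antisymm ?_ fun y hy => ⟨e.symm y, mem_centralizer_iff.2 fun a ha => ?_, e.apply_symm_apply y⟩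
    · rintro _ ⟨c, hc, rfl⟩
      refine mem_centralizer_iff.2 ?_
      rintro _ ⟨a, ha, rfl⟩
      rw [← map_mul, ← map_mul, mem_centralizer_iff.1 hc a ha]
    · apply e.injective
      rw [map_mul, map_mul, e.apply_symm_apply]
      exact mem_centralizer_iff.1 hy _ ⟨a, ha, rfl⟩

/-- Sylow subgroups of a maximal subgroup for primes outside `β` are narrow. -/
theorem sylow_narrow {G : Type u} [Group G] [Finite G] (hG : Cfsg.IsMinSimpleOddOrder G) {M : Subgroup G}
    (hM : IsCoatom M) (hpM : p ∣ Nat.card M) (hβ : p ∉ Cfsg.beta M) (S : Sylow p M) :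
    Cfsg.IsNarrow p ↥(S : Subgroup M) := by
  by_cases hr : Cfsg.PRankLE p 2 ↥(S : Subgroup M)
  · exact Or.inl hr
  set S' := (S : Subgroup M).map M.subtype with hS'
  have e₁ : ↥(S : Subgroup M) ≃* ↥S' := (S : Subgroup M).equivMapOfInjective _ M.subtype_injective
  have hr' : ¬ Cfsg.PRankLE p 2 ↥S' := fun h => hr (prankLE_equiv e₁.symm h)
  obtain ⟨B, hB, hBe, hB3⟩ := exists_elem_of_not_prank hr'
  have hrM : ¬ Cfsg.PRankLE p 2 M := not_prank_of_elem (hB.trans (map_subtype_le _)) hBe hB3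
  have hα : p ∈ Cfsg.alpha M := ⟨hp.out, hrM⟩
  have hrG : ¬ Cfsg.PRankLE p 2 G := fun h => by
    haveI := hBe.1
    have h1 := h B hBe.1 hBe.2
    exact absurd (hB3.trans h1) (not_le.2 (Nat.pow_lt_pow_right hp.out.one_lt (by norm_num)))
  have hS : Grp.IsSylowIn p S' M := Grp.isSylowIn_iff.2 ⟨S, rfl⟩
  obtain ⟨P, A, hAP, hA, hA2, hAmax⟩ : ∃ (P : Sylow p G) (A : Subgroup G), A ≤ (P : Subgroup G) ∧
      Cfsg.IsElementaryAbelian p A ∧ Nat.card A = p ^ 2 ∧
      ∀ D : Subgroup G, D ≤ (P : Subgroup G) → Cfsg.IsElementaryAbelian p D → ¬ A < D := by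
    by_contra hno
    push Not at hno
    exact hβ ⟨hα, hp.out, hrG, hno⟩
  have hp2 : p ≠ 2 := ne_two hG (hpM.trans (card_subgroup_dvd_card M))
  let T : Sylow p G := hS.2.1.toSylow (sigma_sylow hG hM (alpha_subset_sigma hG hM hα) hS).2
  have e₂ : ↥(P : Subgroup G) ≃* ↥S' := Sylow.equiv P T
  have hplane : Narrow.HasMaxPlane p ↥(P : Subgroup G) := by
    haveI := hA.1
    refine ⟨A.subgroupOf P, ⟨inferInstance, fun a ha => Subtype.ext (hA.2 _ ha)⟩,
      by rw [Nat.card_congr (subgroupOfEquivOfLe hAP).toEquiv, hA2], fun D hD hle => ?_⟩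
    haveI := hD.1
    refine le_antisymm ?_ hle
    by_contra hnle
    refine hAmax (D.map (P : Subgroup G).subtype) (map_subtype_le _) ⟨Subgroup.map_isMulCommutative _ _, ?_⟩
      (lt_of_le_of_ne ((map_subgroupOf_eq_of_le hAP).ge.trans (map_mono hle)) fun e => hnle ?_)
    · rintro _ ⟨d, hd, rfl⟩
      exact congrArg Subtype.val (hD.2 d hd)
    · intro d hd
      show (d : G) ∈ A
      rw [e]
      exact mem_map_of_mem _ hd
  exact narrow_equiv (e₂.trans e₁.symm)
    (narrow_of_maxPlane hp2 P.isPGroup' (fun h => hr' (prankLE_equiv e₂ h)) hplane)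

end Cfsg.Agent.Transfer.Loc
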