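import Cfsg.Agent.Lib.Transfer.Local.MaxPLength
import Cfsg.Agent.S1461

/-!
Fusion in a Sylow subgroup of a minimal simple group of odd order.
-/

set_option autoImplicit false
set_option linter.style.haveILetI false
set_option linter.unusedSectionVars false

namespace Cfsg.Agent.Transfer.Loc

open Subgroup
open scoped commutatorElement Pointwise

universe u

variable {G : Type u} [Group G] [Finite G] {p : ℕ} [hp : Fact p.Prime]

/-- A nontrivial Sylow subgroup is a Sylow subgroup for a `σ`-prime of a maximal subgroup. -/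
theorem exists_sigma_coatom (hG : Cfsg.IsMinSimpleOddOrder G) (P : Sylow p G) (h1 : (P : Subgroup G) ≠ ⊥) :
    ∃ M : Subgroup G, ∃ hPM : (P : Subgroup G) ≤ M, IsCoatom M ∧ normalizer ((P : Subgroup G) : Set G) ≤ M ∧
      p ∈ Cfsg.sigma M ∧ Grp.IsSylowIn p (P : Subgroup G) M := by
  obtain ⟨M, hM, hNM⟩ := exists_coatom_normalizer hG h1 (ne_top_of_pGroup hG P.isPGroup')
  have hPM : (P : Subgroup G) ≤ M := le_normalizer.trans hNM
  have hS : Grp.IsSylowIn p (P : Subgroup G) M := ⟨hPM, P.isPGroup', fun hd =>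
    P.not_dvd_index (hd.trans (Subgroup.relIndex_dvd_index_of_le hPM))⟩
  obtain ⟨T, hT⟩ := Grp.isSylowIn_iff.1 hS
  refine ⟨M, hPM, hM, hNM, ⟨hp.out, ?_, T, hT.symm ▸ hNM⟩, hS⟩
  obtain ⟨n, hn⟩ := IsPGroup.iff_card.1 P.isPGroup'
  rcases Nat.eq_zero_or_pos n with rfl | h0
  · exact absurd (card_eq_one.1 (show Nat.card (P : Subgroup G) = 1 by rw [hn, pow_zero])) h1
  · exact ((dvd_pow_self p h0.ne').trans (dvd_of_eq hn.symm)).trans (card_dvd_of_le hPM)

/-- The normaliser of a Sylow subgroup controls fusion of its subgroups. -/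
theorem sylow_conj (hG : Cfsg.IsMinSimpleOddOrder G) (P : Sylow p G) {Q : Subgroup G} {x : G}
    (hQ : Q ≤ (P : Subgroup G)) (hx : MulAut.conj x • Q ≤ (P : Subgroup G)) :
    ∃ y ∈ normalizer ((P : Subgroup G) : Set G), MulAut.conj x • Q = MulAut.conj y • Q := by
  rcases eq_or_ne (P : Subgroup G) ⊥ with h1 | h1
  · refine ⟨1, one_mem _, ?_⟩
    have hQ1 : Q = ⊥ := le_bot_iff.1 (h1 ▸ hQ)
    rw [hQ1, Subgroup.smul_bot, Subgroup.smul_bot]
  obtain ⟨M, hPM, hM, hNM, hσ, -⟩ := exists_sigma_coatom hG P h1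
  obtain ⟨m, hm, c, hc, rfl⟩ := sigma_conj_factor hG hM hσ (P.isPGroup'.to_le hQ) (hQ.trans hPM) (hx.trans hPM)
  have hcQ : MulAut.conj c • Q = Q :=
    Grp.mem_normalizer_iff_smul.1 (centralizer_le_normalizer _ hc)
  rw [← Grp.conj_smul_conj_smul, hcQ] at hx ⊢
  haveI := solvable_of_ne_top hG hM.1
  let S : Sylow p M := P.subtype hPM
  have hS : (S : Subgroup M) = (P : Subgroup G).subgroupOf M := rfl
  obtain ⟨-, hfus, -⟩ := Cfsg.Agent.S1461.result (G := M) p (coatom_pLength hG hM p) S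
  obtain ⟨g, hg, d, hd, hgd⟩ := hfus ((Q.subgroupOf M : Subgroup M) : Set M) ⟨m, hm⟩
    (fun y hy => by rw [hS]; exact hQ hy)
    (by
      rintro _ ⟨y, hy, rfl⟩
      rw [hS]
      exact hx (Subgroup.smul_mem_pointwise_smul (y : G) (MulAut.conj m) Q hy))
  refine ⟨g, ?_, ?_⟩
  · rw [Grp.mem_normalizer_iff_smul]
    have h2 := congrArg (Subgroup.map M.subtype) (Grp.mem_normalizer_iff_smul.1 hg)
    rwa [← Grp.conj_smul_map, hS, map_subgroupOf_eq_of_le hPM] at h2
  · have hdQ : MulAut.conj (d : G) • Q = Q := by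
      refine Grp.mem_normalizer_iff_smul.1 (centralizer_le_normalizer _ (mem_centralizer_iff.2 fun y hy => ?_))
      exact congrArg Subtype.val (mem_centralizer_iff.1 hd ⟨y, hPM (hQ hy)⟩ hy)
    rw [show m = (g : G) * d from (congrArg Subtype.val hgd).symm, ← Grp.conj_smul_conj_smul, hdQ]

/-- A subgroup of the Sylow subgroup normalised by its normaliser is weakly closed. -/
theorem sylow_weakly_closed (hG : Cfsg.IsMinSimpleOddOrder G) (P : Sylow p G) {Q : Subgroup G} {x : G}
    (hQ : Q ≤ (P : Subgroup G)) (hN : normalizer ((P : Subgroup G) : Set G) ≤ normalizer (Q : Set G))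
    (hx : MulAut.conj x • Q ≤ (P : Subgroup G)) : MulAut.conj x • Q = Q := by
  obtain ⟨y, hy, e⟩ := sylow_conj hG P hQ hx
  rw [e]
  exact Grp.mem_normalizer_iff_smul.1 (hN hy)

theorem sylow_le_derived_normalizer (hG : Cfsg.IsMinSimpleOddOrder G) (P : Sylow p G) :
    (P : Subgroup G) ≤ ⁅normalizer ((P : Subgroup G) : Set G), normalizer ((P : Subgroup G) : Set G)⁆ := by
  rcases eq_or_ne (P : Subgroup G) ⊥ with h1 | h1
  · rw [h1]; exact bot_le
  obtain ⟨M, hPM, hM, hNM, hσ, hS⟩ := exists_sigma_coatom hG P h1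
  haveI := solvable_of_ne_top hG hM.1
  let S : Sylow p M := P.subtype hPM
  obtain ⟨hder, -, -⟩ := Cfsg.Agent.S1461.result (G := M) p (coatom_pLength hG hM p) S
  have hc : (S : Subgroup M) ≤ commutator M := by
    intro y hy
    have h2 : (y : G) ∈ Subgroup.map M.subtype ⁅(⊤ : Subgroup M), (⊤ : Subgroup M)⁆ := by
      rw [Subgroup.map_commutator, ← MonoidHom.range_eq_map, range_subtype]
      exact sylow_le_derived hG hM hσ hS hy
    obtain ⟨z, hz, hzy⟩ := h2
    rw [← M.subtype_injective hzy]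
    exact hz
  have h := map_mono (f := M.subtype) (hder hc)
  rw [Subgroup.map_commutator] at h
  have hn : (normalizer ((S : Subgroup M) : Set M)).map M.subtype ≤ normalizer ((P : Subgroup G) : Set G) := by
    refine (le_normalizer_map M.subtype).trans (le_of_eq ?_)
    rw [show (S : Subgroup M) = (P : Subgroup G).subgroupOf M from rfl, map_subgroupOf_eq_of_le hPM]
  refine le_trans ?_ (h.trans (Subgroup.commutator_mono hn hn))
  rw [show (S : Subgroup M) = (P : Subgroup G).subgroupOf M from rfl, map_subgroupOf_eq_of_le hPM]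

end Cfsg.Agent.Transfer.Loc
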