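import Cfsg.Agent.Lib.Transfer.Local.PlaneKey
import Cfsg.Agent.Lib.Transfer.Local.Narrow
import Cfsg.Agent.Lib.Grp.FpfPrime
import Cfsg.Agent.S1412

/-!
A maximal subgroup containing the normaliser of a line of a maximal plane for a prime outside `σ`.
-/

set_option autoImplicit false
set_option linter.style.haveILetI false
set_option linter.unusedSectionVars false
set_option maxHeartbeats 1000000

namespace Cfsg.Agent.Transfer.Loc

open Subgroup
open scoped commutatorElement Pointwise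

universe u

variable {G : Type u} [Group G] [Finite G] {p q : ℕ} [hp : Fact p.Prime] [hq : Fact q.Prime]

omit [Finite G] hp hq in
theorem smul_le_normalizer {X Y : Subgroup G} (h : X ≤ normalizer (Y : Set G)) (g : G) :
    MulAut.conj g • X ≤ normalizer ((MulAut.conj g • Y : Subgroup G) : Set G) :=
  (map_mono h).trans (le_normalizer_map _)

omit [Finite G] hp hq in
theorem smul_centralizer_le {X Y : Subgroup G} (h : X ≤ centralizer (Y : Set G)) (g : G) :
    MulAut.conj g • X ≤ centralizer ((MulAut.conj g • Y : Subgroup G) : Set G) := by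
  rintro _ ⟨x, hx, rfl⟩
  refine mem_centralizer_iff.2 ?_
  rintro _ ⟨y, hy, rfl⟩
  show MulAut.conj g y * MulAut.conj g x = MulAut.conj g x * MulAut.conj g y
  rw [← map_mul, ← map_mul, mem_centralizer_iff.1 (h hx) y hy]

omit hq in
theorem exists_sylowIn_ge {K U : Subgroup G} [Group.IsSolvable K] (hUK : U ≤ K) (hU : IsPGroup p U) :
    ∃ X, Grp.IsSylowIn p X K ∧ U ≤ X := by
  obtain ⟨X, hX, -, hUX⟩ := Grp.exists_invariant_sylow_ge ⊥ K bot_le (by simp) (Or.inl inferInstance) hUK hU bot_le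
  exact ⟨X, hX, hUX⟩

omit hq in
theorem not_normalizer_le {M P : Subgroup G} (hpM : p ∣ Nat.card M) (hσ : p ∉ Cfsg.sigma M)
    (hP : Grp.IsSylowIn p P M) : ¬ normalizer (P : Set G) ≤ M := by
  intro h
  obtain ⟨T, rfl⟩ := Grp.isSylowIn_iff.1 hP
  exact hσ ⟨hp.out, hpM, T, h⟩

omit hq in
theorem not_dvd_sigmaCore {M : Subgroup G} (hσ : p ∉ Cfsg.sigma M) : ¬ p ∣ Nat.card (Cfsg.sigmaCore M) :=
  fun h => hσ (TransHyp.piCoreOf_primes (π := Cfsg.sigma M) (X := M) hp.out h)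

omit hp in
theorem sylow_ne_bot_of_dvd {K X : Subgroup G} (hX : Grp.IsSylowIn q X K) (h : q ∣ Nat.card K) : X ≠ ⊥ := fun e =>
  hX.2.2 (by rw [e, relIndex_bot_left]; exact h)

omit hq in
theorem card_of_hyperplane {A D : Subgroup G} (hA : Nat.card A = p ^ 2) (hD : D ≤ A) (hi : D.relIndex A = p) :
    Nat.card D = p := by
  have h := Grp.card_mul_relIndex hD
  rw [hi, hA, pow_two] at h
  exact Nat.eq_of_mul_eq_mul_right hp.out.pos h

variable (hG : Cfsg.IsMinSimpleOddOrder G) {M : Subgroup G} (hM : IsCoatom M) {A : Subgroup G}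
  (hA : IsMaxPlane p A)
include hG hM hA

/-- An invariant Sylow subgroup of a conjugate of `M` meeting, together with one of `M`, a proper overgroup of the
plane comes from `M` itself. -/
theorem class_lemma (hCA : centralizer (A : Set G) ≤ M) (hσ : q ∈ Cfsg.sigma M) (hqp : q ≠ p) {g : G}
    {Q Q₁ H : Subgroup G} (hQ : Grp.IsSylowIn q Q M) (hAQ : A ≤ normalizer (Q : Set G))
    (hQ₁ : Grp.IsSylowIn q Q₁ M) (hAQ' : A ≤ normalizer ((MulAut.conj g • Q₁ : Subgroup G) : Set G))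
    (hH : H ≠ ⊤) (hAH : A ≤ H) (hH₁ : H ⊓ Q ≠ ⊥) (hH₂ : H ⊓ MulAut.conj g • Q₁ ≠ ⊥) : g ∈ M := by
  obtain ⟨k, hk, e⟩ := hA.conj_meet hG hqp (maxInv_of_sylow hQ.2.1 (sigma_sylow hG hM hσ hQ).2 hAQ)
    (maxInv_of_sylow (hQ₁.2.1.map _)
      (by
        show ¬ q ∣ (Q₁.map (MulAut.conj g).toMonoidHom).index
        rw [Subgroup.index_map_of_bijective (MulAut.conj g).bijective]
        exact (sigma_sylow hG hM hσ hQ₁).2) hAQ') hH hAH hH₁ hH₂
  refine sigma_sylow_trans hG hM hσ hQ₁ ?_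
  rw [show MulAut.conj g • Q₁ = MulAut.conj k • Q from e, ← Grp.conj_smul_eq_self_of_mem (hCA hk)]
  exact Subgroup.pointwise_smul_le_pointwise_smul_iff.2 hQ.1

omit hq in
/-- An invariant subgroup of `M_σ` meets an invariant Sylow subgroup of `M`. -/
theorem exists_meet (hAM : A ≤ M) (hpσ : p ∉ Cfsg.sigma M) {X : Subgroup G} (hX : X ≤ Cfsg.sigmaCore M)
    (hAX : A ≤ normalizer (X : Set G)) (hX1 : X ≠ ⊥) :
    ∃ q, Fact q.Prime ∧ q ∈ Cfsg.sigma M ∧ q ≠ p ∧
      ∃ Q, Grp.IsSylowIn q Q M ∧ A ≤ normalizer (Q : Set G) ∧ Q ⊓ X ≠ ⊥ := by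
  haveI := solvable_of_ne_top hG hM.1
  have hne : Nat.card X ≠ 1 := fun h => hX1 (card_eq_one.1 h)
  obtain ⟨q, hq, hqX⟩ := Nat.exists_prime_and_dvd hne
  haveI := Fact.mk hq
  have hσ : q ∈ Cfsg.sigma M :=
    TransHyp.piCoreOf_primes (π := Cfsg.sigma M) (X := M) hq (hqX.trans (card_dvd_of_le hX))
  have hqp : q ≠ p := fun e => hpσ (e ▸ hσ)
  have hXM : X ≤ M := hX.trans (TransHyp.piCoreOf_le M)
  have hcop : (Nat.card A).Coprime (Nat.card X) :=
    hA.coprime_of_pGroup fun h => not_dvd_sigmaCore hpσ (h.trans (card_dvd_of_le hX))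
  obtain ⟨R, hR, hAR⟩ := Grp.exists_invariant_sylow A X hAX hcop (Or.inr (isSolvable_of_le hXM)) q
  obtain ⟨Q, hQ, hAQ, hRQ, -⟩ := hA.inv_sylow hG hM hAM hσ hqp hR.2.1 (hR.1.trans hXM) hAR
  exact ⟨q, ‹_›, hσ, hqp, Q, hQ, hAQ, ne_bot_of_le_ne_bot (sylow_ne_bot_of_dvd hR hqX) (le_inf hRQ hR.1)⟩

omit hq in
/-- A plane whose centraliser lies in `M` does not centralise `M_σ`. -/
theorem plane_not_fixing (hAM : A ≤ M) (hpσ : p ∉ Cfsg.sigma M) (hCA : centralizer (A : Set G) ≤ M) :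
    ¬ A ≤ centralizer (Cfsg.sigmaCore M : Set G) := by
  intro hfix
  haveI := solvable_of_ne_top hG hM.1
  obtain ⟨P, hP, hAP⟩ := exists_sylowIn_ge hAM (Grp.elemAb_isPGroup hA.elem)
  obtain ⟨g, hg, hgM⟩ := SetLike.not_le_iff_exists.1
    (not_normalizer_le (hA.dvd_card.trans (card_dvd_of_le hAM)) hpσ hP)
  obtain ⟨q, _, hσ, hqp, Q, hQ, hAQ, hQS⟩ := exists_meet hG hM hA hAM hpσ le_rfl
    (hAM.trans (TransHyp.le_normalizer_piCoreOf M)) (sigmaCore_ne_bot hG hM)
  have hA'M : MulAut.conj g⁻¹ • A ≤ M := by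
    refine le_trans ?_ hP.1
    rw [← Grp.mem_normalizer_iff_smul.1 (inv_mem hg)]
    exact Subgroup.pointwise_smul_le_pointwise_smul_iff.2 hAP
  obtain ⟨Q₁, hQ₁, hAQ₁, -, -⟩ := (hA.smul g⁻¹).inv_sylow hG hM hA'M hσ hqp
    (IsPGroup.of_bot (p := q)) bot_le (fun a _ => mem_normalizer_iff.2 fun x => by simp)
  have hAQ' : A ≤ normalizer ((MulAut.conj g • Q₁ : Subgroup G) : Set G) := by
    have h := smul_le_normalizer hAQ₁ g
    rwa [Grp.conj_smul_conj_smul, mul_inv_cancel, map_one, one_smul] at h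
  set Q' := MulAut.conj g • Q₁ with hQ'
  have hbot : Q' ≤ ⊥ := by
    refine Grp.le_of_hyperplanes hA.elem hA.ne_bot Q' ?_ hAQ' fun D hD hi => ?_
    · intro hd
      obtain ⟨n, hn⟩ := IsPGroup.iff_card.1 hQ₁.2.1
      rw [hQ', Grp.card_conj_smul, hn] at hd
      exact hqp ((Nat.prime_dvd_prime_iff_eq hp.out Fact.out).1 (hp.out.dvd_of_dvd_pow hd)).symm
    · rw [le_bot_iff]
      by_contra hne
      have hD1 : D ≠ ⊥ := fun e => hp.out.ne_one (by
        rw [← card_of_hyperplane hA.card hD hi, e, Subgroup.card_bot])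
      refine hgM (class_lemma hG hM hA hCA hσ hqp hQ hAQ hQ₁ hAQ' (centralizer_ne_top' hG hD1)
        (hA.le_centralizer.trans (centralizer_le hD)) ?_ (by rwa [inf_comm]))
      exact ne_bot_of_le_ne_bot hQS (le_inf (inf_le_right.trans
        ((le_centralizer_iff.1 hfix).trans (centralizer_le hD))) inf_le_left)
  have hQ₁1 : Q₁ ≠ ⊥ := sylow_ne_bot_of_dvd hQ₁ hσ.2.1
  exact hQ₁1 (card_eq_one.1 (by rw [← Grp.card_conj_smul g Q₁]; exact card_eq_one.2 (le_bot_iff.1 hbot)))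

omit hG hM hA

/-- `M` contains the normaliser of a line `A₀` of a maximal plane `A ≤ M`, for `p ∉ σ(M)`. -/
structure Exc (M : Subgroup G) (p : ℕ) (A A₀ : Subgroup G) : Prop where
  hG : Cfsg.IsMinSimpleOddOrder G
  hM : IsCoatom M
  hσ : p ∉ Cfsg.sigma M
  hAM : A ≤ M
  hA : IsMaxPlane p A
  hA₀ : A₀ ≤ A
  hA₀c : Nat.card A₀ = p
  hN : normalizer (A₀ : Set G) ≤ M

namespace Exc

variable {A₀ : Subgroup G} (h : Exc M p A A₀)
include h

omit hp hq in
theorem centralizer_le_M : centralizer (A : Set G) ≤ M :=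
  ((centralizer_le h.hA₀).trans (centralizer_le_normalizer _)).trans h.hN

omit hq in
theorem dvd_M : p ∣ Nat.card M := h.hA.dvd_card.trans (card_dvd_of_le h.hAM)

omit hq in
theorem not_normalizer {P : Subgroup G} (hP : Grp.IsSylowIn p P M) : ¬ normalizer (P : Set G) ≤ M :=
  not_normalizer_le h.dvd_M h.hσ hP

omit hq in
/-- The plane is central in the Sylow subgroups containing it. -/
theorem central {P : Subgroup G} (hP : Grp.IsSylowIn p P M) (hAP : A ≤ P) : P ≤ centralizer (A : Set G) := by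
  haveI := solvable_of_ne_top h.hG h.hM.1
  by_contra hne
  set Z := omZ p P with hZdef
  have hP1 : P ≠ ⊥ := ne_bot_of_le_ne_bot h.hA.ne_bot hAP
  have hZA : Z ≤ A := h.hA.omZ_le_self hAP
  have hZc : Nat.card Z = p := by
    obtain ⟨j, hj, e⟩ := (Nat.dvd_prime_pow hp.out).1 (h.hA.card ▸ card_dvd_of_le hZA)
    interval_cases j
    · exact absurd (card_eq_one.1 (by simpa using e)) (omZ_ne_bot hP.2.1 hP1)
    · simpa using e
    · exfalso
      refine hne (le_centralizer_iff.1 ?_)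
      rw [← Subgroup.eq_of_le_of_card_ge hZA (by rw [h.hA.card, e])]
      exact omZ_le_centralizer P
  obtain ⟨g, hg, hgM⟩ := SetLike.not_le_iff_exists.1 (h.not_normalizer hP)
  have hgZ : g ∈ normalizer (Z : Set G) := normalizer_le_omZ P hg
  have hZne : Z ≠ A₀ := fun e => hgM (h.hN (e ▸ hgZ))
  obtain ⟨z₀, hz₀, hz₀1⟩ := (Subgroup.bot_or_exists_ne_one A₀).resolve_left fun e =>
    hp.out.ne_one (by rw [← h.hA₀c, e, Subgroup.card_bot])
  have hA₀Z : z₀ ∉ Z := fun hz => hZne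
    ((zpowers_eq_of_prime hZc hz hz₀1).symm.trans (zpowers_eq_of_prime h.hA₀c hz₀ hz₀1))
  have hsup : A₀ ⊔ Z = A := by
    refine Subgroup.eq_of_le_of_card_ge (sup_le h.hA₀ hZA) ?_
    obtain ⟨j, hj, e⟩ := (Nat.dvd_prime_pow hp.out).1 (h.hA.card ▸ card_dvd_of_le (sup_le h.hA₀ hZA))
    rw [h.hA.card, e]
    refine Nat.pow_le_pow_right hp.out.pos ?_
    by_contra hj2
    have h1 : Nat.card ↥(A₀ ⊔ Z) ≤ p :=
      e ▸ (Nat.pow_le_pow_right hp.out.pos (by omega : j ≤ 1)).trans (pow_one p).le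
    exact hA₀Z ((Subgroup.eq_of_le_of_card_ge (le_sup_right : Z ≤ A₀ ⊔ Z) (h1.trans hZc.ge)).ge (mem_sup_left hz₀))
  have hA0p : IsPGroup p A₀ := IsPGroup.of_card (n := 1) (by rw [h.hA₀c, pow_one])
  have hcomm : ∀ a ∈ A, ∀ b ∈ A, a * b = b * a := fun a ha b hb => mem_centralizer_iff.1 (h.hA.le_centralizer hb) a ha
  have hmem : ∀ x ∈ A, ∃ i : ℤ, ∃ w ∈ Z, x = z₀ ^ i * w := by
    intro x hx
    rw [← hsup, ← SetLike.mem_coe, Subgroup.coe_mul_of_left_le_normalizer_right A₀ Z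
      ((h.hA₀.trans h.hA.le_centralizer).trans ((centralizer_le hZA).trans (centralizer_le_normalizer _)))] at hx
    obtain ⟨a, ha, w, hw, rfl⟩ := hx
    rw [SetLike.mem_coe, ← zpowers_eq_of_prime h.hA₀c hz₀ hz₀1] at ha
    obtain ⟨i, rfl⟩ := ha
    exact ⟨i, w, hw, rfl⟩
  -- an element of `P` moving `A₀` along `Z`
  have hlt : P ⊓ centralizer (A : Set G) < P :=
    lt_of_le_of_ne inf_le_left fun e => hne (e.ge.trans inf_le_right)
  obtain ⟨y, ⟨hyP, hyN⟩, hyC⟩ := SetLike.exists_of_lt (exists_grow hP.2.1 hlt)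
  have hyC' : y ∉ centralizer (A : Set G) := fun hc => hyC ⟨hyP, hc⟩
  have hconj : ∀ a ∈ A, y * a * y⁻¹ ∈ A := fun a ha => h.hA.mem
    (by rw [← MulAut.conj_apply, ← map_pow, h.hA.elem.2 a ha, map_one])
    ((mem_normalizer_iff.1 hyN a).1 ⟨hAP ha, h.hA.le_centralizer ha⟩).2
  have hyZ : ∀ w ∈ Z, y * w = w * y := fun w hw => mem_centralizer_iff.1 (omZ_le_centralizer P hw) y hyP
  set z := y * z₀ * y⁻¹ * z₀⁻¹ with hzdef
  have hzA : z ∈ A := mul_mem (hconj _ (h.hA₀ hz₀)) (inv_mem (h.hA₀ hz₀))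
  have hact : y * z₀ * y⁻¹ = z * z₀ := by rw [hzdef, inv_mul_cancel_right]
  have hz1 : z ≠ 1 := fun e => hyC' (mem_centralizer_iff.2 fun a ha => by
    obtain ⟨i, w, hw, rfl⟩ := hmem a ha
    rw [e, one_mul] at hact
    have h1 : Commute z₀ y := by
      show z₀ * y = y * z₀
      nth_rw 1 [← hact]
      group
    exact ((h1.zpow_left i).mul_left (show Commute y w from hyZ w hw).symm).eq)
  obtain ⟨k, hk⟩ := hP.2.1 ⟨y, hyP⟩
  have hyk : y ^ p ^ k = 1 := by simpa using congrArg Subtype.val hk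
  have hzZ : z ∈ Z := by
    by_contra hzZ
    obtain ⟨i, w, hw, hzw⟩ := hmem z hzA
    have hcz : Nat.card (zpowers z) = p := by
      rw [Nat.card_zpowers, orderOf_eq_prime (h.hA.elem.2 z hzA) hz1]
    have hyz : y ∈ normalizer (zpowers z : Set G) := by
      have h1 : y * z * y⁻¹ = z ^ (i + 1) := by
        conv_lhs => rw [hzw]
        have h2 : Commute z z₀ := hcomm z hzA z₀ (h.hA₀ hz₀)
        calc y * (z₀ ^ i * w) * y⁻¹ = (y * z₀ * y⁻¹) ^ i * (y * w * y⁻¹) := by rw [conj_zpow]; group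
          _ = z ^ i * (z₀ ^ i * w) := by
            rw [hact, h2.mul_zpow, hyZ w hw, mul_inv_cancel_right, mul_assoc]
          _ = z ^ (i + 1) := by rw [← hzw, zpow_add_one]
      rw [Grp.mem_normalizer_iff_smul]
      refine Subgroup.eq_of_le_of_card_ge ?_ (by rw [Grp.card_conj_smul])
      rintro _ ⟨_, ⟨j, rfl⟩, rfl⟩
      show MulAut.conj y (z ^ j) ∈ zpowers z
      rw [map_zpow, MulAut.conj_apply, h1, ← zpow_mul]
      exact zpow_mem (mem_zpowers z) _
    have hyc := mem_centralizer_iff.1 (centralizes_line hcz hyk hyz) z (mem_zpowers z)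
    have h3 : y ∈ centralizer (A : Set G) := by
      refine mem_centralizer_iff.2 fun a ha => ?_
      have hA' : zpowers z ⊔ Z = A := by
        refine Subgroup.eq_of_le_of_card_ge (sup_le (zpowers_le.2 hzA) hZA) ?_
        obtain ⟨j, hj, e⟩ := (Nat.dvd_prime_pow hp.out).1 (h.hA.card ▸ card_dvd_of_le (sup_le (zpowers_le.2 hzA) hZA))
        rw [h.hA.card, e]
        refine Nat.pow_le_pow_right hp.out.pos ?_
        by_contra hj2
        have h4 : Nat.card ↥(zpowers z ⊔ Z) ≤ p :=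
          e ▸ (Nat.pow_le_pow_right hp.out.pos (by omega : j ≤ 1)).trans (pow_one p).le
        exact hzZ ((Subgroup.eq_of_le_of_card_ge (le_sup_right : Z ≤ zpowers z ⊔ Z) (h4.trans hZc.ge)).ge
          (mem_sup_left (mem_zpowers z)))
      have hle : zpowers z ⊔ Z ≤ centralizer ({y} : Set G) := sup_le
        (zpowers_le.2 (mem_centralizer_singleton_iff.2 hyc)) fun w hw => mem_centralizer_singleton_iff.2 (hyZ w hw).symm
      exact mem_centralizer_singleton_iff.1 (hle (hA'.ge ha))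
    exact hyC' h3
  have hpow : ∀ n : ℕ, y ^ n * z₀ * (y ^ n)⁻¹ = z ^ n * z₀ := by
    intro n
    induction n with
    | zero => simp
    | succ n ih =>
      have h5 : y * z ^ n * y⁻¹ = z ^ n := by rw [hyZ _ (pow_mem hzZ n), mul_inv_cancel_right]
      calc y ^ (n + 1) * z₀ * (y ^ (n + 1))⁻¹ = y * (y ^ n * z₀ * (y ^ n)⁻¹) * y⁻¹ := by rw [pow_succ']; group
        _ = (y * z ^ n * y⁻¹) * (y * z₀ * y⁻¹) := by rw [ih]; group
        _ = z ^ (n + 1) * z₀ := by rw [h5, hact, pow_succ]; exact (mul_assoc _ _ _).symm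
  have hzgen : zpowers z = Z := zpowers_eq_of_prime hZc hzZ hz1
  -- the lines other than `Z` have normalisers in `M`
  have hlines : ∀ L : Subgroup G, L ≤ A → Nat.card L = p → L ≠ Z → normalizer (L : Set G) ≤ M := by
    intro L hLA hLc hLZ
    obtain ⟨l, hl, hl1⟩ := (Subgroup.bot_or_exists_ne_one L).resolve_left fun e =>
      hp.out.ne_one (by rw [← hLc, e, Subgroup.card_bot])
    obtain ⟨i, w, hw, hlw⟩ := hmem l (hLA hl)
    have hi : ¬ (p : ℤ) ∣ i := fun ⟨c, hc⟩ => hLZ (by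
      rw [← zpowers_eq_of_prime hLc hl hl1]
      refine zpowers_eq_of_prime hZc ?_ hl1
      rw [hlw, hc, zpow_mul, zpow_natCast, h.hA.elem.2 _ (h.hA₀ hz₀), one_zpow, one_mul]
      exact hw)
    obtain ⟨a, b, hab⟩ := ((Prime.coprime_iff_not_dvd (Nat.prime_iff_prime_int.1 hp.out)).2 hi).symm
    have hwa : w ^ a ∈ zpowers z := hzgen.ge (zpow_mem hw a)
    obtain ⟨n, hn⟩ := (Submonoid.mem_powers_iff _ _).1 (mem_powers_iff_mem_zpowers.2 hwa)
    have hla : l ^ a = y ^ n * z₀ * (y ^ n)⁻¹ := by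
      rw [hpow, hlw, (show Commute (z₀ ^ i) w from hcomm _ (zpow_mem (h.hA₀ hz₀) i) _ (hZA hw)).mul_zpow, ← zpow_mul,
        show i * a = 1 + (p : ℤ) * (-b) by linear_combination hab, zpow_add, zpow_one, zpow_mul, zpow_natCast,
        h.hA.elem.2 _ (h.hA₀ hz₀), one_zpow, mul_one, hn]
      exact hcomm _ (h.hA₀ hz₀) _ (zpow_mem (hZA hw) a)
    have hL : MulAut.conj (y ^ n) • A₀ = L := by
      refine Subgroup.eq_of_le_of_card_ge ?_ (by rw [Grp.card_conj_smul, hLc, h.hA₀c])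
      rw [← zpowers_eq_of_prime h.hA₀c hz₀ hz₀1]
      rintro _ ⟨_, ⟨j, rfl⟩, rfl⟩
      show MulAut.conj (y ^ n) (z₀ ^ j) ∈ L
      rw [map_zpow, MulAut.conj_apply, ← hla, ← zpow_mul]
      exact zpow_mem hl _
    intro x hx
    have hyM : y ^ n ∈ M := pow_mem (hP.1 hyP) n
    have h6 : (y ^ n)⁻¹ * x * y ^ n ∈ normalizer (A₀ : Set G) := by
      rw [Grp.mem_normalizer_iff_smul, ← Grp.conj_smul_conj_smul, ← Grp.conj_smul_conj_smul, hL,
        Grp.mem_normalizer_iff_smul.1 hx, ← hL, Grp.conj_smul_conj_smul, inv_mul_cancel, map_one, one_smul]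
    have h7 := M.mul_mem (M.mul_mem hyM (h.hN h6)) (inv_mem hyM)
    rwa [show y ^ n * ((y ^ n)⁻¹ * x * y ^ n) * (y ^ n)⁻¹ = x by group] at h7
  -- `Z` centralises `M_σ`
  have hA'M : MulAut.conj g⁻¹ • A ≤ M := by
    refine le_trans ?_ hP.1
    rw [← Grp.mem_normalizer_iff_smul.1 (inv_mem hg)]
    exact Subgroup.pointwise_smul_le_pointwise_smul_iff.2 hAP
  have hkey : ∀ (s : ℕ) [Fact s.Prime], s ∈ Cfsg.sigma M → s ≠ p → ∀ Q Q₁ : Subgroup G, Grp.IsSylowIn s Q M →
      A ≤ normalizer (Q : Set G) → Grp.IsSylowIn s Q₁ M →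
      A ≤ normalizer ((MulAut.conj g • Q₁ : Subgroup G) : Set G) → Z ≤ centralizer (Q₁ : Set G) := by
    intro s hs hσ hsp Q Q₁ hQ hAQ hQ₁ hAQ'
    have hQ1 : Q ≠ ⊥ := sylow_ne_bot_of_dvd hQ hσ.2.1
    have hle : MulAut.conj g • Q₁ ≤ centralizer (Z : Set G) := by
      refine Grp.le_of_hyperplanes h.hA.elem h.hA.ne_bot _ ?_ hAQ' fun D hD hi => ?_
      · intro hd
        obtain ⟨n, hn⟩ := IsPGroup.iff_card.1 hQ₁.2.1
        rw [Grp.card_conj_smul, hn] at hd
        exact hsp ((Nat.prime_dvd_prime_iff_eq hp.out hs.out).1 (hp.out.dvd_of_dvd_pow hd)).symm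
      · rcases eq_or_ne D Z with e | e
        · rw [e]; exact inf_le_right
        · by_contra hne2
          refine hgM (class_lemma h.hG h.hM h.hA h.centralizer_le_M hσ hsp hQ hAQ hQ₁ hAQ' h.hM.1 h.hAM
            (by rwa [inf_eq_right.2 hQ.1]) fun hb => hne2 ?_)
          refine le_trans (le_trans ?_ hb.le) bot_le
          exact le_inf (inf_le_right.trans ((centralizer_le_normalizer _).trans
            (hlines D hD (card_of_hyperplane h.hA.card hD hi) e))) inf_le_left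
    have h8 := smul_centralizer_le hle g⁻¹
    rw [Grp.conj_smul_conj_smul, inv_mul_cancel, map_one, one_smul,
      Grp.mem_normalizer_iff_smul.1 (inv_mem hgZ)] at h8
    exact le_centralizer_iff.1 h8
  have hpick : ∀ (s : ℕ) [Fact s.Prime], s ∈ Cfsg.sigma M → s ≠ p →
      ∃ Q Q₁ : Subgroup G, Grp.IsSylowIn s Q M ∧ A ≤ normalizer (Q : Set G) ∧ Grp.IsSylowIn s Q₁ M ∧
        A ≤ normalizer ((MulAut.conj g • Q₁ : Subgroup G) : Set G) := by
    intro s hs hσ hsp
    obtain ⟨Q, hQ, hAQ, -, -⟩ := h.hA.inv_sylow h.hG h.hM h.hAM hσ hsp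
      (IsPGroup.of_bot (p := s)) bot_le (fun a _ => mem_normalizer_iff.2 fun x => by simp)
    obtain ⟨Q₁, hQ₁, hAQ₁, -, -⟩ := (h.hA.smul g⁻¹).inv_sylow h.hG h.hM hA'M hσ hsp
      (IsPGroup.of_bot (p := s)) bot_le (fun a _ => mem_normalizer_iff.2 fun x => by simp)
    refine ⟨Q, Q₁, hQ, hAQ, hQ₁, ?_⟩
    have h9 := smul_le_normalizer hAQ₁ g
    rwa [Grp.conj_smul_conj_smul, mul_inv_cancel, map_one, one_smul] at h9
  have hZS : Cfsg.sigmaCore M ≤ centralizer (Z : Set G) := by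
    refine (Grp.le_of_forall_sylow (inf_le_left : Cfsg.sigmaCore M ⊓ centralizer (Z : Set G) ≤ Cfsg.sigmaCore M)
      fun s hs => ?_).trans inf_le_right
    by_cases hd : s ∣ Nat.card (Cfsg.sigmaCore M)
    · have hσ : s ∈ Cfsg.sigma M := TransHyp.piCoreOf_primes (π := Cfsg.sigma M) (X := M) hs.out hd
      have hsp : s ≠ p := fun e => h.hσ (e ▸ hσ)
      obtain ⟨Q, Q₁, hQ, hAQ, hQ₁, hAQ'⟩ := hpick s hσ hsp
      have hQS : Q₁ ≤ Cfsg.sigmaCore M := sylow_le_piCore h.hG h.hM (alpha_subset_sigma h.hG h.hM) le_rfl hσ hQ₁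
      refine ⟨Q₁, ⟨hQS, hQ₁.2.1, fun hd' => hQ₁.2.2 ?_⟩,
        le_inf hQS (le_centralizer_iff.1 (hkey s hσ hsp Q Q₁ hQ hAQ hQ₁ hAQ'))⟩
      rw [← Subgroup.relIndex_mul_relIndex Q₁ _ M hQS (TransHyp.piCoreOf_le M)]
      exact hd'.mul_right _
    · exact ⟨⊥, ⟨bot_le, IsPGroup.of_bot, by rwa [relIndex_bot_left]⟩, bot_le⟩
  obtain ⟨s, _, hσ, hsp, -⟩ := exists_meet h.hG h.hM h.hA h.hAM h.hσ le_rfl
    (h.hAM.trans (TransHyp.le_normalizer_piCoreOf M)) (sigmaCore_ne_bot h.hG h.hM)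
  obtain ⟨Q, Q₁, hQ, hAQ, hQ₁, hAQ'⟩ := hpick s hσ hsp
  have hgQ : MulAut.conj g • Q₁ ≤ centralizer (Z : Set G) := by
    have h10 := smul_centralizer_le (le_centralizer_iff.1 (hkey s hσ hsp Q Q₁ hQ hAQ hQ₁ hAQ')) g
    rwa [Grp.mem_normalizer_iff_smul.1 hgZ] at h10
  refine hgM (class_lemma h.hG h.hM h.hA h.centralizer_le_M hσ hsp hQ hAQ hQ₁ hAQ'
    (centralizer_ne_top' h.hG (fun e => hp.out.ne_one (by rw [← hZc, e, Subgroup.card_bot])))
    (h.hA.le_centralizer.trans (centralizer_le hZA)) ?_ ?_)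
  · rw [inf_eq_right.2 ((sylow_le_piCore h.hG h.hM (alpha_subset_sigma h.hG h.hM) le_rfl hσ hQ).trans hZS)]
    exact sylow_ne_bot_of_dvd hQ hσ.2.1
  · rw [inf_eq_right.2 hgQ]
    exact fun e => sylow_ne_bot_of_dvd hQ₁ hσ.2.1
      (card_eq_one.1 (by rw [← Grp.card_conj_smul g Q₁]; exact card_eq_one.2 e))

omit hq in
theorem mem_of_pow {P : Subgroup G} (hP : Grp.IsSylowIn p P M) (hAP : A ≤ P) {x : G} (hx : x ∈ P) (hxp : x ^ p = 1) :
    x ∈ A := h.hA.mem hxp (h.central hP hAP hx)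

omit hq in
theorem omZ_eq {P : Subgroup G} (hP : Grp.IsSylowIn p P M) (hAP : A ≤ P) : omZ p P = A :=
  le_antisymm (h.hA.omZ_le_self hAP)
    fun a ha => ⟨hAP ha, le_centralizer_iff.1 (h.central hP hAP) ha, h.hA.elem.2 a ha⟩

omit hq in
theorem sylow_normalizer_le {P : Subgroup G} (hP : Grp.IsSylowIn p P M) (hAP : A ≤ P) :
    normalizer (P : Set G) ≤ normalizer (A : Set G) := by
  have := normalizer_le_omZ (p := p) P
  rwa [h.omZ_eq hP hAP] at this

omit hq in
theorem exists_g : ∃ g ∈ normalizer (A : Set G), g ∉ M := by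
  haveI := solvable_of_ne_top h.hG h.hM.1
  obtain ⟨P, hP, hAP⟩ := exists_sylowIn_ge h.hAM (Grp.elemAb_isPGroup h.hA.elem)
  obtain ⟨g, hg, hgM⟩ := SetLike.not_le_iff_exists.1 (h.not_normalizer hP)
  exact ⟨g, h.sylow_normalizer_le hP hAP hg, hgM⟩

omit hq in
/-- The Sylow subgroups over the plane are abelian. -/
theorem abelian {P : Subgroup G} (hP : Grp.IsSylowIn p P M) (hAP : A ≤ P) : IsMulCommutative P := by
  obtain ⟨S, hPS⟩ := hP.2.1.exists_le_sylow
  have heq : P = (S : Subgroup G) ⊓ M := hP.eq_of_le (le_inf hPS hP.1) inf_le_right (S.isPGroup'.to_le inf_le_left)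
  have hSA : (S : Subgroup G) ⊓ centralizer (A₀ : Set G) ≤ P := by
    rw [heq]; exact le_inf inf_le_left (inf_le_right.trans ((centralizer_le_normalizer _).trans h.hN))
  have hPA : P ≤ centralizer (A₀ : Set G) := (h.central hP hAP).trans (centralizer_le h.hA₀)
  obtain ⟨z₀, hz₀, hz₀1⟩ := (Subgroup.bot_or_exists_ne_one A₀).resolve_left fun e =>
    hp.out.ne_one (by rw [← h.hA₀c, e, Subgroup.card_bot])
  have hz₀S : z₀ ∈ (S : Subgroup G) := hPS (hAP (h.hA₀ hz₀))
  have hp2 : p ≠ 2 := ne_two h.hG h.hA.dvd_card_group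
  have hcentral : z₀ ∈ centralizer ((S : Subgroup G) : Set G) → A ≤ centralizer ((S : Subgroup G) : Set G) := by
    intro hc
    have hSP : (S : Subgroup G) ≤ P := by
      refine le_trans (le_inf le_rfl (le_centralizer_iff.1 ?_)) hSA
      rw [← zpowers_eq_of_prime h.hA₀c hz₀ hz₀1]
      exact zpowers_le.2 hc
    exact le_centralizer_iff.1 (hSP.trans (h.central hP hAP))
  have hcomm : ∀ a ∈ P, ∀ b ∈ P, a * b = b * a := by
    by_cases hr : Cfsg.PRankLE p 2 (S : Subgroup G)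
    · rcases Cfsg.Agent.S1412.result h.hG p S hr with hab | ⟨S₁, S₂, hsup, hc12, hna, hc3, -, hcyc, hom⟩
      · intro a ha b hb
        exact congrArg Subtype.val (hab.is_comm.comm ⟨a, hPS ha⟩ ⟨b, hPS hb⟩)
      haveI := hcyc
      have hS12 : S₁ ≤ centralizer (S₂ : Set G) := fun a ha => mem_centralizer_iff.2 fun b hb => (hc12 a ha b hb).symm
      have hS22 : ∀ b ∈ S₂, ∀ d ∈ S₂, b * d = d * b := fun b hb d hd =>
        congrArg Subtype.val ((IsCyclic.isMulCommutative (α := S₂)).is_comm.comm ⟨b, hb⟩ ⟨d, hd⟩)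
      have hdec : ∀ x ∈ (S : Subgroup G), ∃ a ∈ S₁, ∃ b ∈ S₂, x = a * b := by
        intro x hx
        rw [← hsup, ← SetLike.mem_coe, Subgroup.coe_mul_of_left_le_normalizer_right S₁ S₂
          (hS12.trans (centralizer_le_normalizer _))] at hx
        obtain ⟨a, ha, b, hb, rfl⟩ := hx
        exact ⟨a, ha, b, hb, rfl⟩
      have hcan : ∀ a ∈ S₁, ∀ b ∈ S₂, ∀ c ∈ S₁, ∀ d ∈ S₂,
          (a * b) * (c * d) = (c * d) * (a * b) → a * c = c * a := by
        intro a ha b hb c hc d hd e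
        have e1 : (a * b) * (c * d) = a * c * (b * d) := by
          rw [mul_assoc, ← mul_assoc b c d, ← hc12 c hc b hb]; group
        have e2 : (c * d) * (a * b) = c * a * (b * d) := by
          rw [mul_assoc, ← mul_assoc d a b, ← hc12 a ha d hd, hS22 b hb d hd]; group
        rw [e1, e2] at e
        exact mul_right_cancel e
      have hZS₂ : S₁ ⊓ centralizer (S₁ : Set G) ≤ S₂ := by
        rw [← hom]; exact (closure_le _).2 fun x hx => hx.1
      obtain ⟨a, ha, b, hb, he⟩ := hdec z₀ hz₀S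
      have haZ : a ∉ centralizer (S₁ : Set G) := by
        intro hac
        refine h.hA.not_cyclic ?_
        have hA2 : A ≤ S₂ := by
          have hz : z₀ ∈ centralizer ((S : Subgroup G) : Set G) := by
            refine mem_centralizer_iff.2 fun x hx => ?_
            obtain ⟨c, hc, d, hd, rfl⟩ := hdec x hx
            have hbd : b * d = d * b := hS22 b hb d hd
            rw [he]
            calc c * d * (a * b) = c * (d * a) * b := by group
              _ = c * (a * d) * b := by rw [hc12 a ha d hd]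
              _ = (c * a) * (d * b) := by group
              _ = (a * c) * (b * d) := by rw [mem_centralizer_iff.1 hac c hc, hbd]
              _ = a * (c * b) * d := by group
              _ = a * (b * c) * d := by rw [hc12 c hc b hb]
              _ = a * b * (c * d) := by group
          intro x hx
          obtain ⟨c, hc, d, hd, rfl⟩ := hdec x (hPS (hAP hx))
          refine mul_mem (hZS₂ ⟨hc, mem_centralizer_iff.2 fun c' hc' => ?_⟩) hd
          have h11 := mem_centralizer_iff.1 (hcentral hz hx) c' (hsup.le (mem_sup_left hc'))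
          have h12 := hcan c' hc' 1 (one_mem _) c hc d hd (by rw [mul_one]; exact h11)
          exact h12
        haveI := hcyc
        exact isCyclic_of_injective (inclusion hA2) (inclusion_injective hA2)
      set W := S₁ ⊓ centralizer ({a} : Set G) with hW
      have hWne : W ≠ S₁ := fun e => haZ (mem_centralizer_iff.2 fun c hc =>
        mem_centralizer_singleton_iff.1 (e.ge hc).2)
      have hWc : ∀ c ∈ W, ∀ c' ∈ W, c * c' = c' * c := by
        obtain ⟨j, hj, e⟩ := (Nat.dvd_prime_pow hp.out).1 (hc3 ▸ card_dvd_of_le (inf_le_left : W ≤ S₁))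
        intro c hc c' hc'
        interval_cases j
        · have hW1 : W = ⊥ := Subgroup.card_eq_one.1 (e.trans (pow_zero p))
          rw [hW1, mem_bot] at hc hc'
          rw [hc, hc']
        · haveI : IsCyclic W := isCyclic_of_prime_card (p := p) (e.trans (pow_one p))
          exact congrArg Subtype.val ((IsCyclic.isMulCommutative (α := W)).is_comm.comm ⟨c, hc⟩ ⟨c', hc'⟩)
        · exact congrArg Subtype.val ((IsPGroup.commutative_of_card_eq_prime_sq e) ⟨c, hc⟩ ⟨c', hc'⟩)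
        · exact absurd (Subgroup.eq_of_le_of_card_ge inf_le_left (by rw [hc3, e])) hWne
      intro x hx y hy
      obtain ⟨c, hc, d, hd, rfl⟩ := hdec x (hPS hx)
      obtain ⟨c', hc', d', hd', rfl⟩ := hdec y (hPS hy)
      have hin : ∀ c ∈ S₁, ∀ d ∈ S₂, c * d ∈ P → c ∈ W := fun c hc d hd hcd =>
        ⟨hc, mem_centralizer_singleton_iff.2 (hcan c hc d hd a ha b hb
          (by rw [← he]; exact (mem_centralizer_iff.1 (hPA hcd) z₀ hz₀).symm))⟩
      have e3 := hWc c (hin c hc d hd hx) c' (hin c' hc' d' hd' hy)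
      calc c * d * (c' * d') = c * (d * c') * d' := by group
        _ = c * (c' * d) * d' := by rw [hc12 c' hc' d hd]
        _ = (c * c') * (d * d') := by group
        _ = (c' * c) * (d' * d) := by rw [e3, hS22 d hd d' hd']
        _ = c' * (c * d') * d := by group
        _ = c' * (d' * c) * d := by rw [hc12 c hc d' hd']
        _ = c' * d' * (c * d) := by group
    · have hAS : A ≤ (S : Subgroup G) := hAP.trans hPS
      haveI := h.hA.elem.1
      set E := A.subgroupOf (S : Subgroup G) with hE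
      have hEmax : ∀ B : Subgroup (S : Subgroup G), Cfsg.IsElementaryAbelian p B → E ≤ B → B = E := by
        intro B hB hle
        haveI := hB.1
        have h1 : B.map (S : Subgroup G).subtype = A := h.hA.2.2 _ ⟨Subgroup.map_isMulCommutative _ _, by
          rintro _ ⟨d, hd, rfl⟩
          exact congrArg Subtype.val (hB.2 d hd)⟩ ((map_subgroupOf_eq_of_le hAS).ge.trans (map_mono hle))
        rw [← comap_map_eq_self_of_injective (S : Subgroup G).subtype_injective B, h1]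
        rfl
      obtain ⟨hnc, hcent⟩ := maxPlane_cent hp2 S.isPGroup' hr (E := E)
        ⟨inferInstance, fun a ha => Subtype.ext (h.hA.elem.2 _ ha)⟩
        (by rw [Nat.card_congr (subgroupOfEquivOfLe hAS).toEquiv, h.hA.card]) hEmax
      have hzc : (⟨z₀, hz₀S⟩ : (S : Subgroup G)) ∉ center (S : Subgroup G) := by
        intro hc
        refine hnc fun e he => mem_center_iff.2 fun s => Subtype.ext ?_
        exact mem_centralizer_iff.1 (hcentral (mem_centralizer_iff.2 fun s hs =>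
          congrArg Subtype.val (mem_center_iff.1 hc ⟨s, hs⟩)) (show (e : G) ∈ A from he)) s s.2
      obtain ⟨R₁, -, hcyc, -, hc01, hsup⟩ := hcent ⟨z₀, hz₀S⟩ (show z₀ ∈ A from h.hA₀ hz₀) hzc
      haveI := hcyc
      have hab : centralizer (zpowers (⟨z₀, hz₀S⟩ : (S : Subgroup G)) : Set (S : Subgroup G)) ≤
          centralizer (centralizer (zpowers (⟨z₀, hz₀S⟩ : (S : Subgroup G)) : Set (S : Subgroup G)) : Set (S : Subgroup G)) := by
        rw [← hsup]
        refine sup_le (le_centralizer_iff.1 (sup_le ?_ ?_)) (le_centralizer_iff.1 (sup_le ?_ ?_))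
        · exact le_centralizer_iff_isMulCommutative.2 inferInstance
        · exact fun b hb => mem_centralizer_iff.2 fun a ha => hc01 a ha b hb
        · exact fun a ha => mem_centralizer_iff.2 fun b hb => (hc01 a ha b hb).symm
        · exact le_centralizer_iff_isMulCommutative.2 IsCyclic.isMulCommutative
      have hin : ∀ x (hx : x ∈ P), (⟨x, hPS hx⟩ : (S : Subgroup G)) ∈
          centralizer (zpowers (⟨z₀, hz₀S⟩ : (S : Subgroup G)) : Set (S : Subgroup G)) := fun x hx =>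
        mem_centralizer_iff.2 fun c hc => by
          obtain ⟨i, rfl⟩ := hc
          exact Subtype.ext (mem_centralizer_iff.1 (hPA hx) _ (by simpa using zpow_mem hz₀ i))
      intro x hx y hy
      exact congrArg Subtype.val (mem_centralizer_iff.1 (hab (hin y hy)) _ (hin x hx))
  exact ⟨⟨fun a b => Subtype.ext (hcomm a a.2 b b.2)⟩⟩

omit hq in
/-- The plane acts freely on `M_σ`. -/
theorem fixed_plane : Cfsg.sigmaCore M ⊓ centralizer (A : Set G) = ⊥ := by
  by_contra hne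
  obtain ⟨g, hg, hgM⟩ := h.exists_g
  have hA' := Grp.mem_normalizer_iff_smul.1 hg
  obtain ⟨q, _, hσ, hqp, Q, hQ, hAQ, hQX⟩ := exists_meet h.hG h.hM h.hA h.hAM h.hσ
    (X := Cfsg.sigmaCore M ⊓ centralizer (A : Set G)) inf_le_left
    (Grp.le_normalizer_inf' (h.hAM.trans (TransHyp.le_normalizer_piCoreOf M)) (h.hA.le_centralizer.trans le_normalizer)) hne
  refine hgM (class_lemma h.hG h.hM h.hA h.centralizer_le_M hσ hqp hQ hAQ hQ
    (by have := smul_le_normalizer hAQ g; rwa [hA'] at this)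
    (centralizer_ne_top' h.hG h.hA.ne_bot) h.hA.le_centralizer
    (ne_bot_of_le_ne_bot hQX (le_inf (inf_le_right.trans inf_le_right) inf_le_left)) ?_)
  have h1 := smul_centralizer_le (le_refl (centralizer (A : Set G))) g
  rw [hA'] at h1
  refine ne_bot_of_le_ne_bot ?_ (le_inf
    ((Subgroup.pointwise_smul_le_pointwise_smul_iff.2 (inf_le_right.trans inf_le_right :
      Q ⊓ (Cfsg.sigmaCore M ⊓ centralizer (A : Set G)) ≤ centralizer (A : Set G))).trans h1)
    (Subgroup.pointwise_smul_le_pointwise_smul_iff.2 (inf_le_left :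
      Q ⊓ (Cfsg.sigmaCore M ⊓ centralizer (A : Set G)) ≤ Q)))
  exact fun e => hQX (card_eq_one.1 (by rw [← Grp.card_conj_smul g]; exact card_eq_one.2 e))

omit hq in
theorem fixed_conj {g : G} (hg : g ∈ normalizer (A : Set G)) (hgM : g ∉ M) :
    Cfsg.sigmaCore M ⊓ centralizer ((MulAut.conj g • A₀ : Subgroup G) : Set G) = ⊥ := by
  by_contra hne
  have hA' := Grp.mem_normalizer_iff_smul.1 hg
  have hLA : MulAut.conj g • A₀ ≤ A := by
    have := Subgroup.pointwise_smul_le_pointwise_smul_iff (a := MulAut.conj g) |>.2 h.hA₀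
    rwa [hA'] at this
  obtain ⟨q, _, hσ, hqp, Q, hQ, hAQ, hQX⟩ := exists_meet h.hG h.hM h.hA h.hAM h.hσ
    (X := Cfsg.sigmaCore M ⊓ centralizer ((MulAut.conj g • A₀ : Subgroup G) : Set G)) inf_le_left
    (Grp.le_normalizer_inf' (h.hAM.trans (TransHyp.le_normalizer_piCoreOf M))
      ((h.hA.le_centralizer.trans (centralizer_le hLA)).trans le_normalizer)) hne
  refine hgM (class_lemma h.hG h.hM h.hA h.centralizer_le_M hσ hqp hQ hAQ hQ
    (by have := smul_le_normalizer hAQ g; rwa [hA'] at this)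
    (H := MulAut.conj g • M) (isCoatom_conj h.hG h.hM g).1
    (hA'.ge.trans (Subgroup.pointwise_smul_le_pointwise_smul_iff.2 h.hAM)) ?_ ?_)
  · refine ne_bot_of_le_ne_bot hQX (le_inf ((inf_le_right.trans inf_le_right).trans ?_) inf_le_left)
    have h1 := smul_centralizer_le (le_refl (centralizer ((MulAut.conj g • A₀ : Subgroup G) : Set G))) g⁻¹
    rw [Grp.conj_smul_conj_smul, inv_mul_cancel, map_one, one_smul] at h1
    have h2 := Subgroup.pointwise_smul_le_pointwise_smul_iff (a := MulAut.conj g) |>.2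
      (h1.trans ((centralizer_le_normalizer _).trans h.hN))
    rwa [Grp.conj_smul_conj_smul, mul_inv_cancel, map_one, one_smul] at h2
  · rw [inf_eq_right.2 (Subgroup.pointwise_smul_le_pointwise_smul_iff.2 hQ.1)]
    exact fun e => sylow_ne_bot_of_dvd hQ hσ.2.1
      (card_eq_one.1 (by rw [← Grp.card_conj_smul g Q]; exact card_eq_one.2 e))

omit hq in
/-- Two lines generating the plane act freely on `M_σ`. -/
theorem free_lines : ∃ L₁ L₂ : Subgroup G, L₁ ≤ A ∧ L₂ ≤ A ∧ Nat.card L₁ = p ∧ Nat.card L₂ = p ∧ L₁ ⊔ L₂ = A ∧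
    Cfsg.sigmaCore M ⊓ centralizer (L₁ : Set G) = ⊥ ∧ Cfsg.sigmaCore M ⊓ centralizer (L₂ : Set G) = ⊥ := by
  obtain ⟨g, hg, hgM⟩ := h.exists_g
  have hle : ∀ {x : G}, x ∈ normalizer (A : Set G) → MulAut.conj x • A₀ ≤ A := by
    intro x hx
    have := Subgroup.pointwise_smul_le_pointwise_smul_iff (a := MulAut.conj x) |>.2 h.hA₀
    rwa [Grp.mem_normalizer_iff_smul.1 hx] at this
  set L₁ := MulAut.conj g • A₀ with hL₁
  set L₂ := MulAut.conj g⁻¹ • A₀ with hL₂
  have hc₁ : Nat.card L₁ = p := by rw [hL₁, Grp.card_conj_smul, h.hA₀c]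
  have hc₂ : Nat.card L₂ = p := by rw [hL₂, Grp.card_conj_smul, h.hA₀c]
  refine ⟨L₁, L₂, hle hg, hle (inv_mem hg), hc₁, hc₂, ?_, h.fixed_conj hg hgM,
    h.fixed_conj (inv_mem hg) fun h' => hgM (by simpa using inv_mem h')⟩
  have hne : L₁ ≠ L₂ := by
    intro e
    have h2 : g * g ∈ M := h.hN (by
      rw [Grp.mem_normalizer_iff_smul, ← Grp.conj_smul_conj_smul, ← hL₁, e, hL₂, Grp.conj_smul_conj_smul,
        mul_inv_cancel, map_one, one_smul])
    obtain ⟨m, hm⟩ : Odd (orderOf g) := h.hG.1.of_dvd_nat (_root_.orderOf_dvd_natCard g)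
    refine hgM ?_
    have h3 : g = (g * g) ^ (m + 1) := by
      rw [← pow_two, ← pow_mul, show 2 * (m + 1) = orderOf g + 1 by omega, pow_succ, pow_orderOf_eq_one, one_mul]
    rw [h3]
    exact pow_mem h2 _
  refine Subgroup.eq_of_le_of_card_ge (sup_le (hle hg) (hle (inv_mem hg))) ?_
  obtain ⟨j, hj, e⟩ := (Nat.dvd_prime_pow hp.out).1
    (h.hA.card ▸ card_dvd_of_le (sup_le (hle hg) (hle (inv_mem hg))))
  rw [h.hA.card, e]
  refine Nat.pow_le_pow_right hp.out.pos ?_
  by_contra hj2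
  have h4 : Nat.card ↥(L₁ ⊔ L₂) ≤ p := e ▸ (Nat.pow_le_pow_right hp.out.pos (by omega : j ≤ 1)).trans (pow_one p).le
  exact hne ((Subgroup.eq_of_le_of_card_ge le_sup_left (h4.trans hc₁.ge)).trans
    (Subgroup.eq_of_le_of_card_ge le_sup_right (h4.trans hc₂.ge)).symm)

omit hq in
theorem nilpotent : Group.IsNilpotent (Cfsg.sigmaCore M) := by
  obtain ⟨L₁, -, hL₁, -, hc₁, -, -, hfix, -⟩ := h.free_lines
  obtain ⟨b, hb, hb1⟩ := (Subgroup.bot_or_exists_ne_one L₁).resolve_left fun e =>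
    hp.out.ne_one (by rw [← hc₁, e, Subgroup.card_bot])
  refine Grp.isNilpotent_of_fpf (h.hA.elem.2 b (hL₁ hb))
    (TransHyp.le_normalizer_piCoreOf M (h.hAM (hL₁ hb))) ?_
  rw [eq_bot_iff]
  refine le_trans (le_inf inf_le_left (inf_le_right.trans ?_)) hfix.le
  rw [← zpowers_eq_of_prime hc₁ hb hb1]
  intro x hx
  refine mem_centralizer_iff.2 fun c hc => ?_
  obtain ⟨i, rfl⟩ := hc
  exact ((show Commute b x from (mem_centralizer_singleton_iff.1 hx).symm).zpow_left i).eq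

end Exc

end Cfsg.Agent.Transfer.Loc
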