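import Cfsg.Agent.Lib.Transfer.Local.SigmaPartition
import Cfsg.Agent.Lib.Transfer.TypeP
import Cfsg.Agent.S1439

/-!
The largest normal nilpotent Hall subgroup `M_F` lies in `M_σ`.
-/

set_option autoImplicit false
set_option linter.style.haveILetI false
set_option linter.unusedSectionVars false
set_option maxHeartbeats 1000000

namespace Cfsg.Agent.Transfer.Loc

open Subgroup
open scoped commutatorElement Pointwise

universe u

variable {G : Type u} [Group G] [Finite G]

theorem fittingHallOf_le (M : Subgroup G) : Cfsg.fittingHallOf M ≤ M := map_subtype_le _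

theorem le_normalizer_fittingHallOf (M : Subgroup G) : M ≤ normalizer (Cfsg.fittingHallOf M : Set G) :=
  map_normal_le_normalizer _

theorem fittingHallOf_le_fitting (M : Subgroup G) : Cfsg.fittingHallOf M ≤ Cfsg.fittingOf M :=
  map_mono (sSup_le_sSup fun _ hN => ⟨hN.1, hN.2.1⟩)

theorem fittingHallOf_nilpotent (M : Subgroup G) : Group.IsNilpotent (Cfsg.fittingHallOf M) := by
  haveI := fittingOf_isNilpotent M
  exact Grp.isNilpotent_of_le (fittingHallOf_le_fitting M) inferInstance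

/-- A nilpotent normal Hall subgroup of `M` lies in `M_F`. -/
theorem le_fittingHallOf {M N : Subgroup G} (hN : N ≤ M) (hMN : M ≤ normalizer (N : Set G))
    (hnil : Group.IsNilpotent N) (hcop : (Nat.card N).Coprime (N.relIndex M)) : N ≤ Cfsg.fittingHallOf M := by
  rw [← Subgroup.map_subgroupOf_eq_of_le hN]
  refine map_mono (le_sSup ⟨(normal_subgroupOf_iff_le_normalizer hN).2 hMN, ?_, ?_⟩)
  · exact Group.nilpotent_of_mulEquiv (subgroupOfEquivOfLe hN).symm
  · rwa [Nat.card_congr (subgroupOfEquivOfLe hN).toEquiv]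

variable (hG : Cfsg.IsMinSimpleOddOrder G) {M : Subgroup G} (hM : IsCoatom M)
include hG hM

/-- The primes of `M_F` lie in `σ(M)`. -/
theorem fittingHallOf_primes {p : ℕ} [hp : Fact p.Prime] (hd : p ∣ Nat.card (Cfsg.fittingHallOf M)) :
    p ∈ Cfsg.sigma M := by
  by_contra hσ
  haveI := solvable_of_ne_top hG hM.1
  set F := Cfsg.fittingOf M
  set H := Cfsg.fittingHallOf M
  obtain ⟨hYc, hYτ, -⟩ := Cfsg.Agent.S1439.result hG M hM
  set Y := Cfsg.piCoreOf {q | q.Prime ∧ q ∉ Cfsg.sigma M} F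
  obtain ⟨T, hT⟩ := Grp.exists_isSylowIn p H
  have hTM : Grp.IsSylowIn p T M := by
    refine ⟨hT.1.trans (fittingHallOf_le M), hT.2.1, fun hd' => ?_⟩
    rw [← Subgroup.relIndex_mul_relIndex T H M hT.1 (fittingHallOf_le M)] at hd'
    rcases hp.out.dvd_mul.1 hd' with h | h
    · exact hT.2.2 h
    · exact hp.out.not_dvd_one ((TypeP.fittingHallOf_coprime M).symm.coprime_dvd_left h |>.coprime_dvd_right hd ▸
        (Nat.dvd_gcd dvd_rfl dvd_rfl))
  have hT1 : T ≠ ⊥ := fun e => hT.2.2 (by rw [e, Subgroup.relIndex_bot_left]; exact hd)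
  set P := O p M
  have hTP : T ≤ P := fun x hx => by
    obtain ⟨k, hk⟩ := hT.2.1 ⟨x, hx⟩
    exact mem_O_of_mem_fittingOf (fittingHallOf_le_fitting M (hT.1 hx)) (by
      simpa using congrArg Subtype.val hk)
  have hPp : IsPGroup p P := O_isPGroup p M
  have hPT : P = T := (hTM.eq_of_le hTP (O_le p M) hPp).symm
  have hPY : P ≤ Y := TransHyp.le_piCoreOf (O_le_fittingOf M)
    ((fittingOf_le M).trans (le_normalizer_core' M)) fun q hq hqd => ⟨hq, by
      obtain ⟨n, hn⟩ := IsPGroup.iff_card.1 hPp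
      rw [hn] at hqd
      rwa [(Nat.prime_dvd_prime_iff_eq hq hp.out).1 (hq.dvd_of_dvd_pow hqd)]⟩
  have hTY : T ≤ Y := hTP.trans hPY
  have hτ := hYτ p hp.out ((dvd_card_of_pGroup hT.2.1 hT1).trans (card_dvd_of_le hTY))
  haveI := hYc
  haveI : IsCyclic T := Subgroup.isCyclic_of_le hTY
  refine hτ.2.2.2 ?_
  by_contra h
  obtain ⟨D, hDM, hD, hD2⟩ := exists_elem_of_not_prank h
  have hle : D ⊔ T = T := (hTM.eq_of_le le_sup_right (sup_le hDM hTM.1)
    ((Grp.elemAb_isPGroup hD).to_sup_of_normal_right' hT.2.1 (hDM.trans (hPT ▸ le_normalizer_core' M)))).symm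
  have hDc : IsCyclic D :=
    isCyclic_of_surjective _ (subgroupOfEquivOfLe (le_sup_left.trans hle.le : D ≤ T)).surjective
  have h3 := card_le_prime_of_cyclic hDc hD.2
  have h4 : p < p ^ (1 + 1) := by
    calc p = p ^ 1 := (pow_one p).symm
      _ < p ^ (1 + 1) := Nat.pow_lt_pow_right hp.out.one_lt (by norm_num)
  omega

/-- `M_F ≤ M_σ`. -/
theorem fittingHallOf_le_sigmaCore : Cfsg.fittingHallOf M ≤ Cfsg.sigmaCore M :=
  TransHyp.le_piCoreOf (fittingHallOf_le M) (le_normalizer_fittingHallOf M) fun _ hq hd =>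
    haveI := Fact.mk hq
    fittingHallOf_primes hG hM hd

/-- A nilpotent `M_σ` is `M_F`. -/
theorem fittingHallOf_eq_sigmaCore (hnil : Group.IsNilpotent (Cfsg.sigmaCore M)) :
    Cfsg.fittingHallOf M = Cfsg.sigmaCore M := by
  refine le_antisymm (fittingHallOf_le_sigmaCore hG hM)
    (le_fittingHallOf (TransHyp.piCoreOf_le M) (TransHyp.le_normalizer_piCoreOf M) hnil ?_)
  refine Nat.coprime_of_dvd fun p hp h1 h2 => ?_
  exact (isPiHallOf_piCore hG hM (alpha_subset_sigma hG hM) Set.Subset.rfl).2.2 p hp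
    (TransHyp.piCoreOf_primes (π := Cfsg.sigma M) (X := M) hp h1) h2

end Cfsg.Agent.Transfer.Loc
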