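import Cfsg.Agent.Lib.Grp.HallHigmanFaithful
import Cfsg.Agent.Lib.Grp.Signalizer
import Cfsg.Agent.Lib.Grp.Coprime
import Cfsg.Agent.Lib.Grp.CoprimeHall
import Cfsg.Agent.Lib.Transfer.Local.Bender
import Cfsg.Agent.Lib.Transfer.FrobeniusFormula

/-!
Fixed points of an operator of prime order permuting the hyperplane centralisers of an elementary group.
-/

set_option autoImplicit false
set_option linter.style.haveILetI false
set_option linter.unusedSectionVars false

namespace Cfsg.Agent.Transfer.Loc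

open Subgroup
open scoped commutatorElement Pointwise

universe u

variable {G : Type u} [Group G] [Finite G]

theorem commutator_le_centralizer_of_cyclic {W A B : Subgroup G} (hW : IsCyclic W)
    (hA : A ≤ normalizer (W : Set G)) (hB : B ≤ normalizer (W : Set G)) : ⁅A, B⁆ ≤ centralizer (W : Set G) := by
  rw [Subgroup.commutator_le]
  intro a ha b hb
  have hab : ∀ α β : MulAut W, α * β = β * α := fun α β => MulEquiv.ext fun x => by
    obtain ⟨g, hg⟩ := hW.exists_generator
    obtain ⟨m, hm⟩ := Subgroup.mem_zpowers_iff.1 (hg (α g))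
    obtain ⟨n, hn⟩ := Subgroup.mem_zpowers_iff.1 (hg (β g))
    obtain ⟨i, rfl⟩ := Subgroup.mem_zpowers_iff.1 (hg x)
    show α (β (g ^ i)) = β (α (g ^ i))
    rw [map_zpow, map_zpow, map_zpow, map_zpow, ← hm, ← hn, map_zpow, map_zpow, ← hm, ← hn, ← zpow_mul,
      ← zpow_mul, ← zpow_mul, ← zpow_mul, ← mul_assoc, ← mul_assoc, mul_comm m n]
  have h : (⁅(⟨a, hA ha⟩ : normalizer (W : Set G)), ⟨b, hB hb⟩⁆ : normalizer (W : Set G)) ∈
      W.normalizerMonoidHom.ker := by
    rw [MonoidHom.mem_ker, map_commutatorElement, commutatorElement_eq_one_iff_mul_comm, hab]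
  rw [normalizerMonoidHom_ker] at h
  exact h

theorem isCyclic_of_le_zgroup {p : ℕ} [hp : Fact p.Prime] {H K : Subgroup G} (hZ : IsZGroup H) (hKH : K ≤ H)
    (hK : IsPGroup p K) : IsCyclic K := by
  obtain ⟨T, hT⟩ := (hK.of_equiv (subgroupOfEquivOfLe hKH).symm).exists_le_sylow
  haveI := hZ.isZGroup p hp.out T
  haveI : IsCyclic (K.subgroupOf H) := isCyclic_of_injective (Subgroup.inclusion hT) (Subgroup.inclusion_injective hT)
  exact isCyclic_of_surjective _ (subgroupOfEquivOfLe hKH).surjective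

theorem card_le_prime_of_cyclic {p : ℕ} [hp : Fact p.Prime] {K : Subgroup G} (hK : IsCyclic K)
    (he : ∀ x ∈ K, x ^ p = 1) : Nat.card K ≤ p := by
  obtain ⟨g, hg⟩ := hK.exists_generator
  have h1 : Nat.card K = orderOf g := by
    rw [← Nat.card_zpowers, (Subgroup.eq_top_iff' _).mpr hg, Subgroup.card_top]
  rw [h1]
  exact orderOf_le_of_pow_eq_one hp.out.pos (Subtype.ext (by simpa using he g g.2))

/-- An operator of prime order has fixed points on a module whenever it acts nontrivially on a `q`-group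
of operators. -/
theorem exists_fixed_of_not_le {p q r : ℕ} [Fact p.Prime] [Fact q.Prime] [Fact r.Prime]
    (hpq : p ≠ q) (hpr : p ≠ r) (hqr : q ≠ r) (hq2 : q ≠ 2) {X Q V : Subgroup G} (hX : Nat.card X = r)
    (hQ : IsPGroup q Q) (hXQ : X ≤ normalizer (Q : Set G)) (hV : Cfsg.IsElementaryAbelian p V)
    (hXV : X ≤ normalizer (V : Set G)) (hQV : Q ≤ normalizer (V : Set G))
    (hne : ¬ ⁅Q, X⁆ ≤ centralizer (V : Set G)) : V ⊓ centralizer (X : Set G) ≠ ⊥ := by
  intro hfix
  set f : normalizer (V : Set G) →* MulAut V := V.normalizerMonoidHom with hf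
  have hker : ∀ y : normalizer (V : Set G), f y = 1 → (y : G) ∈ centralizer (V : Set G) := fun y hy => by
    have h : y ∈ V.normalizerMonoidHom.ker := hy
    rw [normalizerMonoidHom_ker] at h
    exact h
  let S := V ⋊[MonoidHom.id (MulAut V)] MulAut V
  haveI : Finite (MulAut V) := Finite.of_injective (fun e => (e : V → V)) DFunLike.coe_injective
  haveI : Finite S := Finite.of_equiv _ SemidirectProduct.equivProd.symm
  set X' := ((X.subgroupOf (normalizer (V : Set G))).map f).map (SemidirectProduct.inr : MulAut V →* S) with hX'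
  set Q' := ((Q.subgroupOf (normalizer (V : Set G))).map f).map (SemidirectProduct.inr : MulAut V →* S) with hQ'
  set V' := (SemidirectProduct.inl : V →* S).range with hV'
  haveI : V'.Normal := by rw [hV', SemidirectProduct.range_inl_eq_ker_rightHom]; infer_instance
  have hXQ' : X' ≤ normalizer (Q' : Set S) :=
    (map_mono ((map_mono (Cfsg.Agent.Grp.PiHall.subgroupOf_le_normalizer _ hXQ)).trans (le_normalizer_map f))).trans
      (le_normalizer_map _)
  have hne' : ⁅Q', X'⁆ ≠ ⊥ := by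
    intro e
    refine hne (Subgroup.commutator_le.2 fun a ha b hb => ?_)
    refine hker ⁅(⟨a, hQV ha⟩ : normalizer (V : Set G)), ⟨b, hXV hb⟩⁆ (SemidirectProduct.inr_injective (φ := MonoidHom.id (MulAut V)) ?_)
    have h1 : (SemidirectProduct.inr (f ⁅(⟨a, hQV ha⟩ : normalizer (V : Set G)), ⟨b, hXV hb⟩⁆) : S) ∈ ⁅Q', X'⁆ := by
      rw [map_commutatorElement, map_commutatorElement]
      exact commutator_mem_commutator (mem_map_of_mem _ (mem_map_of_mem _ ha)) (mem_map_of_mem _ (mem_map_of_mem _ hb))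
    rw [e, mem_bot] at h1
    rw [h1, map_one]
  have hXcard : Nat.card X' = r := by
    have h1 : Nat.card X' ∣ r := by
      rw [hX', card_map_of_injective SemidirectProduct.inr_injective]
      exact (card_map_dvd _ _).trans (dvd_of_eq ((Nat.card_congr (subgroupOfEquivOfLe hXV).toEquiv).trans hX))
    refine ((Nat.dvd_prime (Fact.out : r.Prime)).1 h1).resolve_left fun e => hne' ?_
    rw [card_eq_one.1 e, commutator_bot_right]
  have hQp : IsPGroup q Q' := ((hQ.of_equiv (subgroupOfEquivOfLe hQV).symm).map _).map _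
  have hV'e : Cfsg.IsElementaryAbelian p V' := by
    refine ⟨⟨⟨?_⟩⟩, ?_⟩
    · rintro ⟨_, a, rfl⟩ ⟨_, b, rfl⟩
      haveI := hV.1
      exact Subtype.ext (by simp only [MulMemClass.coe_mul, ← map_mul, mul_comm' a b])
    · rintro _ ⟨a, rfl⟩
      rw [← map_pow, show a ^ p = 1 from Subtype.ext (by rw [coe_pow, coe_one]; exact hV.2 a a.2), map_one]
  have hfaith : Q' ⊓ centralizer (V' : Set S) = ⊥ := by
    rw [eq_bot_iff]
    rintro y ⟨hy, hyC⟩
    obtain ⟨α, -, rfl⟩ := hy
    rw [mem_bot, show α = 1 from MulEquiv.ext fun v => ?_, map_one]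
    apply SemidirectProduct.inl_injective (φ := MonoidHom.id (MulAut V))
    show (SemidirectProduct.inl ((MonoidHom.id (MulAut V)) α v) : S) = SemidirectProduct.inl v
    rw [SemidirectProduct.inl_aut, map_inv]
    exact mul_inv_eq_iff_eq_mul.2 (mem_centralizer_iff.1 hyC _ ⟨v, rfl⟩).symm
  refine Cfsg.Agent.Grp.exists_fixed_of_faithful hpq hpr hqr X' Q' V' hXcard hQp hXQ' hne' hV'e
    (by rw [normalizer_eq_top]; exact le_top) (by rw [normalizer_eq_top]; exact le_top) hfaith
    (fun h => absurd h hq2) ?_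
  rw [eq_bot_iff]
  rintro y ⟨⟨v, rfl⟩, hyC⟩
  have hv : (v : G) ∈ V ⊓ centralizer (X : Set G) := by
    refine ⟨v.2, mem_centralizer_iff.2 fun x hx => ?_⟩
    have h1 := mem_centralizer_iff.1 hyC _ (mem_map_of_mem (SemidirectProduct.inr : MulAut V →* S)
      (mem_map_of_mem f (show (⟨x, hXV hx⟩ : normalizer (V : Set G)) ∈ X.subgroupOf _ from hx)))
    have h2 : f ⟨x, hXV hx⟩ v = v := by
      apply SemidirectProduct.inl_injective (φ := MonoidHom.id (MulAut V))
      show (SemidirectProduct.inl ((MonoidHom.id (MulAut V)) (f ⟨x, hXV hx⟩) v) : S) = _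
      rw [SemidirectProduct.inl_aut, map_inv, h1, mul_inv_cancel_right]
    have h3 : x * v * x⁻¹ = v := congrArg Subtype.val h2
    exact mul_inv_eq_iff_eq_mul.1 h3
  rw [hfix, mem_bot] at hv
  rw [mem_bot, show v = 1 from Subtype.ext hv, map_one]

section Hyperplanes

variable {p q : ℕ} [hp : Fact p.Prime] [hq : Fact q.Prime] {P A : Subgroup G}
  (hP : Cfsg.IsElementaryAbelian p P) (hA : Cfsg.IsElementaryAbelian q A) (hpq : p ≠ q)
  (hAP : A ≤ normalizer (P : Set G)) (hfix : P ⊓ centralizer (A : Set G) = ⊥)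
include hP hA hpq hAP hfix

omit hP hA hpq hAP hfix hp in
theorem sup_eq_of_hyperplane {D Y : Subgroup G} (hD : D ≤ A) (hi : D.relIndex A = q) (hY : Y ≤ A) (h : ¬ Y ≤ D) :
    D ⊔ Y = A := by
  have hle : D ⊔ Y ≤ A := sup_le hD hY
  have hmul := relIndex_mul_relIndex D (D ⊔ Y) A le_sup_left hle
  rw [hi] at hmul
  rcases (Nat.dvd_prime hq.out).1 (Dvd.intro _ hmul) with e | e
  · exact absurd (le_sup_right.trans (relIndex_eq_one.1 e)) h
  · rw [e] at hmul
    exact le_antisymm hle (relIndex_eq_one.1 (Nat.eq_of_mul_eq_mul_left hq.out.pos (hmul.trans (mul_one q).symm)))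

omit hfix in
theorem coprime_hyperplane {D : Subgroup G} (hD : D ≤ A) : (Nat.card D).Coprime (Nat.card P) := by
  obtain ⟨m, hm⟩ := IsPGroup.iff_card.1 ((Grp.elemAb_isPGroup hA).to_le hD)
  obtain ⟨n, hn⟩ := IsPGroup.iff_card.1 (Grp.elemAb_isPGroup hP)
  rw [hm, hn]
  exact Nat.Coprime.pow m n ((Nat.coprime_primes hq.out hp.out).2 hpq.symm)

omit hfix in
theorem inf_commutator_eq_bot {D : Subgroup G} (hD : D ≤ A) :
    (P ⊓ centralizer (D : Set G)) ⊓ ⁅P, D⁆ = ⊥ := by
  haveI := hP.1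
  exact Grp.abelian_commutator_inf_fixed D P (hD.trans hAP) (coprime_hyperplane hP hA hpq hAP hD)

/-- The centraliser of one hyperplane is moved by another. -/
theorem fixed_le_commutator {D D' : Subgroup G} (hD : D ≤ A) (hD' : D' ≤ A) (hi : D.relIndex A = q)
    (hne : ¬ D' ≤ D) : P ⊓ centralizer (D' : Set G) ≤ ⁅P, D⁆ := by
  set W := P ⊓ centralizer (D' : Set G) with hW
  have hDW : D ≤ normalizer (W : Set G) := fun a ha => Subgroup.mem_normalizer_iff.2 fun y =>
    and_congr (Subgroup.mem_normalizer_iff.1 (hAP (hD ha)) y)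
      (Subgroup.mem_normalizer_iff.1 (normalizer_le_normalizer_centralizer
        (centralizer_le_normalizer _ (mem_centralizer_iff.2 fun b hb =>
          (Grp.elemAb_comm hA b (hD' hb) a (hD ha))))) y)
  haveI : Group.IsNilpotent D := ((Grp.elemAb_isPGroup hA).to_le hD).isNilpotent
  have h := Grp.commutator_sup_fixed D W hDW
    ((coprime_hyperplane hP hA hpq hAP hD).coprime_dvd_right (card_dvd_of_le inf_le_left)) (Or.inl inferInstance)
  rw [← h]
  refine sup_le (commutator_mono inf_le_left le_rfl) (le_trans ?_ bot_le)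
  rw [← hfix, ← sup_eq_of_hyperplane hD hi hD' hne, Transfer.FrobFix.centralizer_sup]
  exact le_inf (inf_le_left.trans inf_le_left) (le_inf inf_le_right (inf_le_left.trans inf_le_right))

/-- A hyperplane moved by an operator of prime order contributes to its fixed points. -/
theorem exists_orbit_fixed {r : ℕ} [hr : Fact r.Prime] {X : Subgroup G} (hX : Nat.card X = r)
    (hXA : X ≤ normalizer (A : Set G)) (hXP : X ≤ normalizer (P : Set G))
    {D : Subgroup G} (hD : D ≤ A) (hi : D.relIndex A = q) (hmove : ¬ X ≤ normalizer (D : Set G)) :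
    ∀ w ∈ P ⊓ centralizer (D : Set G), ∃ c ∈ P ⊓ centralizer (X : Set G), w⁻¹ * c ∈ ⁅P, D⁆ ∧
      ∀ T : Subgroup G, (∀ x ∈ X, x * w * x⁻¹ ∈ T) → c ∈ T := by
  classical
  intro w hw
  obtain ⟨z, hz⟩ : ∃ z : G, zpowers z = X := by
    obtain ⟨x, hx⟩ := isCyclic_iff_exists_zpowers_eq_top.mp (isCyclic_of_prime_card hX : IsCyclic X)
    refine ⟨x, ?_⟩
    have h1 := congrArg (Subgroup.map X.subtype) hx
    rwa [MonoidHom.map_zpowers, ← MonoidHom.range_eq_map, Subgroup.range_subtype] at h1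
  have hzo : orderOf z = r := by rw [← Nat.card_zpowers, hz, hX]
  have hzX : z ∈ X := hz ▸ mem_zpowers z
  letI : CommGroup P := { (inferInstance : Group P) with mul_comm := fun a b => hP.1.is_comm.comm a b }
  let g : ℕ → P := fun i => ⟨z ^ i * w * (z ^ i)⁻¹,
    (Subgroup.mem_normalizer_iff.1 (hXP (X.pow_mem hzX i)) w).1 hw.1⟩
  set c : P := ∏ i ∈ Finset.range r, g i with hc
  have hterm : ∀ i, 0 < i → i < r → ((g i : P) : G) ∈ ⁅P, D⁆ := by
    intro i hi0 hir
    set D' := MulAut.conj (z ^ i) • D with hD'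
    have hD'A : D' ≤ A := by
      rw [hD', ← Grp.mem_normalizer_iff_smul.1 (hXA (X.pow_mem hzX i))]
      exact Subgroup.pointwise_smul_le_pointwise_smul_iff.2 hD
    have hne : ¬ D' ≤ D := by
      intro hle
      refine hmove ?_
      have hN : z ^ i ∈ normalizer (D : Set G) :=
        Grp.mem_normalizer_iff_smul.2 (Subgroup.eq_of_le_of_card_ge hle (Grp.card_conj_smul _ _).ge)
      rw [← hz, zpowers_le]
      have hcop : (orderOf z).Coprime i := by
        rw [hzo]; exact hr.out.coprime_iff_not_dvd.2 fun hd => absurd (Nat.le_of_dvd hi0 hd) (not_le.2 hir)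
      obtain ⟨m, hm⟩ := exists_pow_eq_self_of_coprime hcop.symm
      rw [← hm]
      exact pow_mem hN m
    refine fixed_le_commutator hP hA hpq hAP hfix hD hD'A hi hne ⟨(g i).2, mem_centralizer_iff.2 fun y hy => ?_⟩
    rw [SetLike.mem_coe, hD', Grp.mem_smul_conj] at hy
    have h1 := mem_centralizer_iff.1 hw.2 _ hy
    show y * (z ^ i * w * (z ^ i)⁻¹) = z ^ i * w * (z ^ i)⁻¹ * y
    calc y * (z ^ i * w * (z ^ i)⁻¹) = z ^ i * ((z ^ i)⁻¹ * y * z ^ i * w) * (z ^ i)⁻¹ := by group
      _ = z ^ i * (w * ((z ^ i)⁻¹ * y * z ^ i)) * (z ^ i)⁻¹ := by rw [h1]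
      _ = z ^ i * w * (z ^ i)⁻¹ * y := by group
  refine ⟨c, ⟨c.2, ?_⟩, ?_, fun T hT => ?_⟩
  · -- the product is fixed
    let e : P →* P :=
      { toFun := fun y => ⟨z * y * z⁻¹, (Subgroup.mem_normalizer_iff.1 (hXP hzX) y).1 y.2⟩
        map_one' := Subtype.ext (by simp)
        map_mul' := fun a b => Subtype.ext (by simp [mul_assoc]) }
    have heg : ∀ i, e (g i) = g (i + 1) := fun i => Subtype.ext (by
      show z * (z ^ i * w * (z ^ i)⁻¹) * z⁻¹ = z ^ (i + 1) * w * (z ^ (i + 1))⁻¹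
      rw [pow_succ']; group)
    have hgr : g r = g 0 := Subtype.ext (by
      show z ^ r * w * (z ^ r)⁻¹ = z ^ 0 * w * (z ^ 0)⁻¹
      rw [← hzo, pow_orderOf_eq_one, pow_zero])
    have hec : e c = c := by
      rw [hc, map_prod, Finset.prod_congr rfl fun i _ => heg i]
      have h1 := (Finset.prod_range_succ' g r).symm.trans (Finset.prod_range_succ g r)
      rw [hgr] at h1
      exact mul_right_cancel h1
    show (c : G) ∈ centralizer (X : Set G)
    rw [← hz, ← Cfsg.Agent.Grp.centralizer_singleton_eq_zpowers z, mem_centralizer_iff]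
    intro y hy
    rw [Set.mem_singleton_iff.1 hy]
    exact mul_inv_eq_iff_eq_mul.1 (congrArg Subtype.val hec)
  · obtain ⟨r', hr'⟩ : ∃ r', r = r' + 1 := ⟨r - 1, (Nat.succ_pred_eq_of_pos hr.out.pos).symm⟩
    rw [hc, hr', Finset.prod_range_succ']
    have h0 : ((g 0 : P) : G) = w := by show z ^ 0 * w * (z ^ 0)⁻¹ = w; simp
    rw [Subgroup.coe_mul, h0]
    have hmem : ((∏ k ∈ Finset.range r', g (k + 1) : P) : G) ∈ ⁅P, D⁆ := by
      have : (∏ k ∈ Finset.range r', g (k + 1)) ∈ (⁅P, D⁆).subgroupOf P :=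
        Subgroup.prod_mem _ fun k hk => mem_subgroupOf.2 (hterm (k + 1) (Nat.succ_pos k) (by
          rw [Finset.mem_range] at hk; omega))
      exact this
    set y := (∏ k ∈ Finset.range r', g (k + 1) : P)
    rw [show w⁻¹ * ((y : G) * w) = y by
      rw [show (y : G) * w = w * y from congrArg Subtype.val (mul_comm y ⟨w, hw.1⟩), inv_mul_cancel_left]]
    exact hmem
  · have : c ∈ T.subgroupOf P := Subgroup.prod_mem _ fun k _ => mem_subgroupOf.2 (hT _ (X.pow_mem hzX k))
    exact this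

/-- A moved hyperplane has a small centraliser. -/
theorem card_orbit_fixed_le {r : ℕ} [hr : Fact r.Prime] {X : Subgroup G} (hX : Nat.card X = r)
    (hXA : X ≤ normalizer (A : Set G)) (hXP : X ≤ normalizer (P : Set G))
    {D : Subgroup G} (hD : D ≤ A) (hi : D.relIndex A = q) (hmove : ¬ X ≤ normalizer (D : Set G)) :
    Nat.card ↥(P ⊓ centralizer (D : Set G)) ≤ Nat.card ↥(P ⊓ centralizer (X : Set G)) := by
  choose f hf hf' _ using exists_orbit_fixed hP hA hpq hAP hfix hX hXA hXP hD hi hmove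
  refine Nat.card_le_card_of_injective (fun w => (⟨f w w.2, hf w w.2⟩ : ↥(P ⊓ centralizer (X : Set G)))) ?_
  intro v w hvw
  have hvw' : f v v.2 = f w w.2 := congrArg Subtype.val hvw
  have h1 : (v : G)⁻¹ * w ∈ (P ⊓ centralizer (D : Set G)) ⊓ ⁅P, D⁆ := by
    refine ⟨(P ⊓ centralizer (D : Set G)).mul_mem (Subgroup.inv_mem _ v.2) w.2, ?_⟩
    have := (⁅P, D⁆).mul_mem (hf' v v.2) (Subgroup.inv_mem _ (hf' w w.2))
    rwa [hvw', mul_inv_rev, inv_inv, mul_assoc, mul_inv_cancel_left] at this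
  rw [inf_commutator_eq_bot hP hA hpq hAP hD, mem_bot, inv_mul_eq_one] at h1
  exact Subtype.ext h1

end Hyperplanes

end Cfsg.Agent.Transfer.Loc
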