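import Cfsg.Agent.Lib.Transfer.Local.TauTwoFree
import Cfsg.Agent.Lib.Transfer.Local.SigmaDecomp
import Cfsg.Agent.Lib.Grp.FpfPrime
import Cfsg.Agent.S1415

/-!
The primes in `κ(M)` and the two shapes of a Hall `κ(M)`-subgroup.
-/

set_option autoImplicit false
set_option linter.style.haveILetI false
set_option linter.unusedSectionVars false
set_option maxHeartbeats 1000000

namespace Cfsg.Agent.Transfer.Loc

open Subgroup
open scoped commutatorElement Pointwise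

universe u

variable {G : Type u} [Group G] [Finite G]

/-- A nontrivial element has a power of prime order. -/
theorem exists_prime_zpowers_le {x : G} (hx : x ≠ 1) :
    ∃ (q : ℕ) (_ : Fact q.Prime) (z : G), z ∈ zpowers x ∧ orderOf z = q ∧ Nat.card (zpowers z) = q ∧
      q ∣ orderOf x := by
  obtain ⟨q, hq, hqd⟩ := Nat.exists_prime_and_dvd (n := Nat.card (zpowers x)) fun e => hx (by
    rw [← orderOf_eq_one_iff, ← Nat.card_zpowers, e])
  haveI := Fact.mk hq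
  obtain ⟨z, hz⟩ := exists_prime_orderOf_dvd_card' (G := zpowers x) q hqd
  exact ⟨q, ‹_›, z, z.2, by rw [Subgroup.orderOf_coe, hz], by rw [Nat.card_zpowers, Subgroup.orderOf_coe, hz],
    by rwa [← Nat.card_zpowers]⟩

variable (hG : Cfsg.IsMinSimpleOddOrder G) {M : Subgroup G} (hM : IsCoatom M)
include hG hM

/-- Primes with cyclic Sylow subgroups have rank one. -/
theorem kappa_rank_one {p : ℕ} [hp : Fact p.Prime] (hκ : p ∈ Cfsg.kappa M) : Cfsg.PRankLE p 1 M := by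
  haveI := solvable_of_ne_top hG hM.1
  by_contra h
  obtain ⟨D, hDM, hD, hD2⟩ := exists_elem_of_not_prank h
  obtain ⟨T, hT, hDT⟩ := exists_sylowIn_ge hDM (Grp.elemAb_isPGroup hD)
  obtain ⟨P, rfl⟩ := Grp.isSylowIn_iff.1 hT
  haveI := (hκ.2.2.2 P).1
  haveI : IsCyclic ↥((P : Subgroup M).map M.subtype) :=
    isCyclic_of_surjective _ ((P : Subgroup M).equivMapOfInjective M.subtype M.subtype_injective).surjective
  have hDc : IsCyclic D :=
    isCyclic_of_surjective _ (subgroupOfEquivOfLe hDT).surjective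
  have h3 := card_le_prime_of_cyclic hDc hD.2
  have h4 : p < p ^ (1 + 1) := by
    calc p = p ^ 1 := (pow_one p).symm
      _ < p ^ (1 + 1) := Nat.pow_lt_pow_right hp.out.one_lt (by norm_num)
  omega

/-- `κ(M) ⊆ τ₁(M) ∪ τ₃(M)`. -/
theorem tau_of_kappa {p : ℕ} [hp : Fact p.Prime] (hκ : p ∈ Cfsg.kappa M) : p ∈ Cfsg.tau1 M ∨ p ∈ Cfsg.tau3 M := by
  have hr := kappa_rank_one hG hM hκ
  by_cases hd : p ∣ Nat.card ↥⁅M, M⁆
  · exact Or.inr ⟨hp.out, hκ.2.2.1, hd, hr⟩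
  · exact Or.inl ⟨hp.out, hκ.2.2.1, hκ.2.1, hd, hr⟩

/-- Fixed points of a conjugate. -/
theorem fixed_conj_ne_bot {X : Subgroup G} {m : G} (hm : m ∈ M)
    (h : Cfsg.sigmaCore M ⊓ centralizer (X : Set G) ≠ ⊥) :
    Cfsg.sigmaCore M ⊓ centralizer ((MulAut.conj m • X : Subgroup G) : Set G) ≠ ⊥ := by
  obtain ⟨y, hy, hy1⟩ := (bot_or_exists_ne_one _).resolve_left h
  intro e
  have h2 : m * y * m⁻¹ ∈ Cfsg.sigmaCore M ⊓ centralizer ((MulAut.conj m • X : Subgroup G) : Set G) := by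
    refine ⟨Grp.mem_conj_normalizer (TransHyp.le_normalizer_piCoreOf M hm) hy.1, mem_centralizer_iff.2 ?_⟩
    rintro _ ⟨w, hw, rfl⟩
    show MulAut.conj m w * MulAut.conj m y = MulAut.conj m y * MulAut.conj m w
    rw [← map_mul, ← map_mul, mem_centralizer_iff.1 hy.2 w hw]
  rw [e, mem_bot, conj_eq_one_iff] at h2
  exact hy1 h2

/-- Every subgroup of order `p ∈ κ(M)` has fixed points. -/
theorem kappa_fixed {p : ℕ} [hp : Fact p.Prime] (hκ : p ∈ Cfsg.kappa M) {X : Subgroup G} (hXM : X ≤ M)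
    (hX : Nat.card X = p) : Cfsg.sigmaCore M ⊓ centralizer (X : Set G) ≠ ⊥ := by
  haveI := solvable_of_ne_top hG hM.1
  obtain ⟨P⟩ : Nonempty (Sylow p M) := inferInstance
  obtain ⟨-, x, hxP, hx1, y, hy, hy1, hxy⟩ := hκ.2.2.2 P
  obtain ⟨q, _, z, hz, -, hzc, hqd⟩ := exists_prime_zpowers_le (x := (x : G)) fun e => hx1 (Subtype.ext e)
  obtain ⟨k, hk⟩ := P.2 ⟨x, hxP⟩
  have hqp : q = p := by
    have h : q ∣ p ^ k := hqd.trans (orderOf_dvd_of_pow_eq_one (show (x : G) ^ p ^ k = 1 by simpa using congrArg Subtype.val (congrArg Subtype.val hk)))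
    exact (Nat.prime_dvd_prime_iff_eq (Fact.out (p := q.Prime)) hp.out).1 ((Fact.out (p := q.Prime)).dvd_of_dvd_pow h)
  subst hqp
  obtain ⟨m, hm, e⟩ := prime_sub_conj hG (kappa_rank_one hG hM hκ)
    (zpowers_le.2 ((zpowers_le.2 x.2) hz) : zpowers z ≤ M) hXM hzc hX
  rw [← e]
  refine fixed_conj_ne_bot hG hM hm fun e' => hy1 ?_
  rw [← mem_bot, ← e']
  refine ⟨hy, mem_centralizer_iff.2 fun w hw => ?_⟩
  obtain ⟨i, rfl⟩ := (zpowers_le.2 hz) hw
  exact ((show Commute (x : G) y from hxy).zpow_left i).eq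

/-- A rank one `σ(M)'`-prime with fixed points lies in `κ(M)`. -/
theorem kappa_of_fixed {p : ℕ} [hp : Fact p.Prime] (hσ : p ∉ Cfsg.sigma M) (hr : Cfsg.PRankLE p 1 M)
    {X : Subgroup G} (hXM : X ≤ M) (hX : Nat.card X = p)
    (hfix : Cfsg.sigmaCore M ⊓ centralizer (X : Set G) ≠ ⊥) : p ∈ Cfsg.kappa M := by
  haveI := solvable_of_ne_top hG hM.1
  have hpM : p ∣ Nat.card M := hX ▸ card_dvd_of_le hXM
  refine ⟨hp.out, hpM, hσ, fun P => ⟨?_, ?_⟩⟩
  · haveI := cyclic_of_rank_one hG (P.2.map M.subtype) (map_subtype_le _) hr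
    exact isCyclic_of_surjective _
      ((P : Subgroup M).equivMapOfInjective M.subtype M.subtype_injective).symm.surjective
  · have hdP : p ∣ Nat.card (P : Subgroup M) := P.dvd_card_of_dvd_card hpM
    obtain ⟨z, hz⟩ := exists_prime_orderOf_dvd_card' (G := (P : Subgroup M)) p hdP
    have hzc : Nat.card (zpowers ((z : M) : G)) = p := by
      rw [Nat.card_zpowers, Subgroup.orderOf_coe, Subgroup.orderOf_coe, hz]
    obtain ⟨m, hm, e⟩ := prime_sub_conj hG hr hXM (zpowers_le.2 (z : M).2) hX hzc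
    obtain ⟨y, hy, hy1⟩ := (bot_or_exists_ne_one _).resolve_left (e ▸ fixed_conj_ne_bot hG hM hm hfix)
    refine ⟨z, z.2, fun h => ?_, y, hy.1, hy1, mem_centralizer_iff.1 hy.2 _ (mem_zpowers _)⟩
    exact hp.out.ne_one (hz.symm.trans (orderOf_eq_one_iff.2 (Subtype.ext h)))

variable {E : Subgroup G} (hE : Cfsg.IsComplIn E (Cfsg.sigmaCore M) M)
include hE

/-- A `τ₃`-prime in `κ(M)` gives an irregular configuration. -/
theorem irregular_of_kappa {p : ℕ} [hp : Fact p.Prime] (hκ : p ∈ Cfsg.kappa M) (hτ : p ∈ Cfsg.tau3 M)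
    {P : Subgroup G} (hPE : P ≤ E) (hP : Nat.card P = p) : ∃ L, Irregular M E L p P := by
  obtain ⟨L, hL, hNL⟩ := exists_coatom_normalizer hG (K := P)
    (fun e => hp.out.ne_one (hP.symm.trans (by rw [e, Subgroup.card_bot])))
    fun e => hM.1 (top_le_iff.1 (e ▸ hPE.trans hE.1))
  exact ⟨L, hG, hM, hE, hτ, hPE, hP, kappa_fixed hG hM hκ (hPE.trans hE.1) hP, hL, hNL⟩

omit hE in
/-- In the irregular case every prime of `E` is in `κ(M)`, with the same fixed points. -/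
theorem irregular_all {L P : Subgroup G} {p : ℕ} [hp : Fact p.Prime] (h : Irregular M E L p P) {X : Subgroup G}
    {q : ℕ} [hq : Fact q.Prime] (hXE : X ≤ E) (hX : Nat.card X = q) :
    q ∈ Cfsg.kappa M ∧ Cfsg.sigmaCore M ⊓ centralizer (X : Set G) = Cfsg.sigmaCore M ⊓ centralizer (P : Set G) := by
  have hqσ : q ∉ Cfsg.sigma M := compl_prime hG hM h.hE hq.out (hX ▸ card_dvd_of_le hXE)
  have hq1 : Cfsg.PRankLE q 1 M := h.rank_one hqσ
  have hXM : X ≤ M := hXE.trans h.hE.1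
  have hWX : Cfsg.sigmaCore M ⊓ centralizer (P : Set G) ≤ centralizer (X : Set G) :=
    le_centralizer_iff.1 (hXE.trans h.compl_centralizes)
  have hfix : Cfsg.sigmaCore M ⊓ centralizer (X : Set G) ≠ ⊥ := ne_bot_of_le_ne_bot h.hfix (le_inf inf_le_left hWX)
  refine ⟨kappa_of_fixed hG hM hqσ hq1 hXM hX hfix, le_antisymm (le_inf inf_le_left ?_) (le_inf inf_le_left hWX)⟩
  by_cases hd : q ∣ Nat.card ↥⁅M, M⁆
  · obtain ⟨L', hL'⟩ := irregular_of_kappa hG hM h.hE (kappa_of_fixed hG hM hqσ hq1 hXM hX hfix)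
      ⟨hq.out, hqσ, hd, hq1⟩ hXE hX
    exact (le_centralizer_iff.1 (h.hPE.trans hL'.compl_centralizes))
  · have hτ : q ∈ Cfsg.tau1 M := ⟨hq.out, hqσ, hX ▸ card_dvd_of_le hXM, hd, hq1⟩
    exact cent_tau1 hG hM hτ hXM hX (h.hPE.trans h.hE.1) h.hP
      (le_centralizer_iff.1 (h.prime_centralizes hτ hXE hX)) h.hτ.2.1

omit hE in
/-- Either some `τ₃`-line is irregular or `κ(M) ⊆ τ₁(M)`. -/
theorem kappa_cases {E : Subgroup G} (hE : Cfsg.IsComplIn E (Cfsg.sigmaCore M) M) :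
    (∃ (p : ℕ) (_ : Fact p.Prime) (P L : Subgroup G), Irregular M E L p P) ∨ Cfsg.kappa M ⊆ Cfsg.tau1 M := by
  refine or_iff_not_imp_right.2 fun h => ?_
  obtain ⟨p, hκ, hτ⟩ := Set.not_subset.1 h
  haveI := Fact.mk hκ.1
  have hτ3 := (tau_of_kappa hG hM hκ).resolve_left hτ
  obtain ⟨z, hz⟩ := exists_prime_orderOf_dvd_card' (G := E) p (dvd_compl_of_dvd hE hκ.2.2.1 hκ.2.1)
  have hzc : Nat.card (zpowers (z : G)) = p := by rw [Nat.card_zpowers, Subgroup.orderOf_coe, hz]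
  obtain ⟨L, hL⟩ := irregular_of_kappa hG hM hE hκ hτ3 (zpowers_le.2 z.2) hzc
  exact ⟨p, ‹_›, _, L, hL⟩

/-- The fixed points of a `τ₁`-subgroup of prime order of a cyclic `τ₁`-group are fixed by all of it. -/
theorem tau1_uniform {K : Subgroup G} (hKc : IsCyclic K) (hKE : K ≤ E)
    (hKτ : ∀ s : ℕ, s.Prime → s ∣ Nat.card K → s ∈ Cfsg.tau1 M) {R : Subgroup G} {r : ℕ} [hr : Fact r.Prime]
    (hRK : R ≤ K) (hR : Nat.card R = r) :
    Cfsg.sigmaCore M ⊓ centralizer (R : Set G) = Cfsg.sigmaCore M ⊓ centralizer (K : Set G) := by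
  haveI := hKc
  have hab : K ≤ centralizer (K : Set G) :=
    le_centralizer_iff_isMulCommutative.2 IsCyclic.isMulCommutative
  refine le_antisymm (le_inf inf_le_left ?_) (inf_le_inf_left _ (centralizer_le hRK))
  exact cent_tau1_sub hG hM (hKτ r hr.out (hR ▸ card_dvd_of_le hRK)) ((hRK.trans hKE).trans hE.1) hR
    (hKE.trans hE.1) (hab.trans (centralizer_le hRK))
    fun s hs hd => ⟨(hKτ s hs hd).2.1, (hKτ s hs hd).2.2.2.2⟩

/-- If `∅ ≠ κ(M) ⊆ τ₁(M)` then `κ(M) = τ₁(M)`. -/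
theorem kappa_eq_tau1 (hsub : Cfsg.kappa M ⊆ Cfsg.tau1 M) (hne : (Cfsg.kappa M).Nonempty) :
    Cfsg.kappa M = Cfsg.tau1 M := by
  refine Set.Subset.antisymm hsub fun q hq => ?_
  haveI := solvable_of_ne_top hG hM.1
  haveI := isSolvable_of_le hE.1
  obtain ⟨p, hp⟩ := hne
  haveI := Fact.mk hp.1
  haveI := Fact.mk hq.1
  obtain ⟨E₁, hE₁⟩ := Grp.PiHall.exists_piHall (Cfsg.tau1 M) E
  have hcyc := (Cfsg.Agent.S1415.result hG M hM E hE).2.1 E₁ hE₁
  have hdvd : ∀ s : ℕ, s.Prime → s ∈ Cfsg.tau1 M → s ∣ Nat.card E₁ := fun s hs hτ => by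
    haveI := Fact.mk hs
    have h := dvd_compl_of_dvd hE hτ.2.1 hτ.2.2.1
    rw [← Grp.card_mul_relIndex hE₁.1] at h
    exact (hs.dvd_mul.1 h).resolve_right (hE₁.2.2 s hs hτ)
  obtain ⟨a, ha⟩ := exists_prime_orderOf_dvd_card' (G := E₁) p (hdvd p hp.1 (hsub hp))
  obtain ⟨b, hb⟩ := exists_prime_orderOf_dvd_card' (G := E₁) q (hdvd q hq.1 hq)
  have hac : Nat.card (zpowers (a : G)) = p := by rw [Nat.card_zpowers, Subgroup.orderOf_coe, ha]
  have hbc : Nat.card (zpowers (b : G)) = q := by rw [Nat.card_zpowers, Subgroup.orderOf_coe, hb]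
  have h1 := kappa_fixed hG hM hp ((zpowers_le.2 a.2).trans (hE₁.1.trans hE.1)) hac
  rw [tau1_uniform hG hM hE hcyc hE₁.1 hE₁.2.1 (zpowers_le.2 a.2) hac,
    ← tau1_uniform hG hM hE hcyc hE₁.1 hE₁.2.1 (zpowers_le.2 b.2) hbc] at h1
  exact kappa_of_fixed hG hM hq.2.1 hq.2.2.2.2 ((zpowers_le.2 b.2).trans (hE₁.1.trans hE.1)) hbc h1

/-- A `κ`-element of prime order commutes with no other prime order element of `E` when `κ(M) ⊆ τ₁(M)`. -/
theorem kappa_regular (hsub : Cfsg.kappa M ⊆ Cfsg.tau1 M) {R X : Subgroup G} {r s : ℕ} [hr : Fact r.Prime]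
    [hs : Fact s.Prime] (hRE : R ≤ E) (hR : Nat.card R = r) (hrκ : r ∈ Cfsg.kappa M) (hXE : X ≤ E)
    (hX : Nat.card X = s) (hXR : X ≤ centralizer (R : Set G)) : s ∈ Cfsg.kappa M := by
  haveI := solvable_of_ne_top hG hM.1
  haveI := isSolvable_of_le hE.1
  have hsσ : s ∉ Cfsg.sigma M := compl_prime hG hM hE hs.out (hX ▸ card_dvd_of_le hXE)
  have hfix := kappa_fixed hG hM hrκ (hRE.trans hE.1) hR
  by_cases hs1 : Cfsg.PRankLE s 1 M
  · exact kappa_of_fixed hG hM hsσ hs1 (hXE.trans hE.1) hX (ne_bot_of_le_ne_bot hfix (le_inf inf_le_left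
      (cent_tau1 hG hM (hsub hrκ) (hRE.trans hE.1) hR (hXE.trans hE.1) hX hXR hsσ)))
  · exfalso
    have hτs := tau2_of_not_rank_one hG hM hsσ hs1
    obtain ⟨T, hT⟩ := Grp.exists_isSylowIn s E
    obtain ⟨A, hAT, hA, hA2⟩ := tau2_plane hG hM hE hτs hT
    have hAE := hAT.trans hT.1
    have hXA := (Cfsg.Agent.S1418.result hG M hM E hE s hτs A ⟨hAE, hA, hA2⟩).1.2 X hXE hX
    have h0 := tau1_tau2_free hG hM hE (hsub hrκ) hRE hR hfix hτs hAE hA hA2
    have : X ≤ ⊥ := h0 ▸ le_inf hXA hXR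
    exact hs.out.ne_one (hX ▸ (by rw [le_bot_iff.1 this, Subgroup.card_bot]))

omit hE in
/-- A Hall `κ`-subgroup lies in a complement of `M_σ`. -/
theorem kappa_compl {K : Subgroup G} (hK : Cfsg.IsPiHallOf (Cfsg.kappa M) K M) :
    ∃ E : Subgroup G, Cfsg.IsComplIn E (Cfsg.sigmaCore M) M ∧ K ≤ E :=
  exists_compl_ge hG hM hK.1 fun s hs hd => (hK.2.1 s hs hd).2.2.1

/-- A Hall `κ`-subgroup inside `E` is one of `E`. -/
theorem kappa_hall_compl {K : Subgroup G} (hK : Cfsg.IsPiHallOf (Cfsg.kappa M) K M) (hKE : K ≤ E) :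
    Cfsg.IsPiHallOf (Cfsg.kappa M) K E :=
  ⟨hKE, hK.2.1, fun p hp hκ hd => hK.2.2 p hp hκ (hd.trans (Dvd.intro _
    (Subgroup.relIndex_mul_relIndex K E M hKE hE.1)))⟩

/-- The prime action of a Hall `κ`-subgroup and the two possible shapes. -/
theorem kappa_prime_action {K : Subgroup G} (hK : Cfsg.IsPiHallOf (Cfsg.kappa M) K M) (hKE : K ≤ E) (hK1 : K ≠ ⊥) :
    (K = E ∨ (Cfsg.kappa M = Cfsg.tau1 M ∧ IsCyclic K)) ∧
    Cfsg.sigmaCore M ⊓ centralizer (K : Set G) ≠ ⊥ ∧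
    ∀ k ∈ K, k ≠ 1 → Cfsg.sigmaCore M ⊓ centralizer ({k} : Set G) = Cfsg.sigmaCore M ⊓ centralizer (K : Set G) := by
  have hKE' := kappa_hall_compl hG hM hE hK hKE
  have hprime : ∀ k ∈ K, k ≠ 1 → ∃ (q : ℕ) (_ : Fact q.Prime) (X : Subgroup G), X ≤ K ∧ Nat.card X = q ∧
      centralizer ({k} : Set G) ≤ centralizer (X : Set G) := fun k hk hk1 => by
    obtain ⟨q, hq, z, hz, -, hzc, -⟩ := exists_prime_zpowers_le hk1
    refine ⟨q, hq, zpowers z, zpowers_le.2 ((zpowers_le.2 hk) hz), hzc, fun c hc => mem_centralizer_iff.2 ?_⟩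
    intro w hw
    obtain ⟨i, rfl⟩ := (zpowers_le.2 hz) hw
    exact ((show Commute k c from (mem_centralizer_singleton_iff.1 hc).symm).zpow_left i).eq
  have hk' : ∀ k ∈ K, centralizer (K : Set G) ≤ centralizer ({k} : Set G) := fun k hk =>
    centralizer_le (Set.singleton_subset_iff.2 hk)
  obtain ⟨k₀, hk₀, hk₀1⟩ := (bot_or_exists_ne_one K).resolve_left hK1
  obtain ⟨q₀, _, X₀, hX₀K, hX₀, -⟩ := hprime k₀ hk₀ hk₀1
  have hq₀ : q₀ ∈ Cfsg.kappa M := hK.2.1 q₀ Fact.out (hX₀ ▸ card_dvd_of_le hX₀K)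
  rcases kappa_cases hG hM hE with ⟨p, _, P, L, h⟩ | hsub
  · have hKeq : K = E := by
      refine le_antisymm hKE (Grp.le_of_forall_sylow hKE fun s hs => ?_)
      by_cases hd : s ∣ Nat.card E
      · obtain ⟨z, hz⟩ := exists_prime_orderOf_dvd_card' (G := E) s hd
        have hκ := (irregular_all hG hM h (q := s) (zpowers_le.2 z.2)
          (by rw [Nat.card_zpowers, Subgroup.orderOf_coe, hz])).1
        obtain ⟨T, hT⟩ := Grp.exists_isSylowIn s K
        refine ⟨T, ⟨hT.1.trans hKE, hT.2.1, fun hd' => ?_⟩, hT.1⟩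
        rw [← Subgroup.relIndex_mul_relIndex T K E hT.1 hKE] at hd'
        exact (hs.out.dvd_mul.1 hd').elim hT.2.2 fun h' => hKE'.2.2 s hs.out hκ h'
      · exact ⟨⊥, ⟨bot_le, IsPGroup.of_bot, by rwa [Subgroup.relIndex_bot_left]⟩, bot_le⟩
    have hWK : Cfsg.sigmaCore M ⊓ centralizer (P : Set G) ≤ Cfsg.sigmaCore M ⊓ centralizer (K : Set G) :=
      le_inf inf_le_left (le_centralizer_iff.1 (hKeq.le.trans h.compl_centralizes))
    refine ⟨Or.inl hKeq, ne_bot_of_le_ne_bot h.hfix hWK, fun k hk hk1 => ?_⟩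
    obtain ⟨q, _, X, hXK, hX, hle⟩ := hprime k hk hk1
    refine le_antisymm ((inf_le_inf_left _ hle).trans ?_) (inf_le_inf_left _ (hk' k hk))
    rw [(irregular_all hG hM h (hXK.trans hKE) hX).2]
    exact hWK
  · have heq := kappa_eq_tau1 hG hM hE hsub ⟨q₀, hq₀⟩
    have hcyc := (Cfsg.Agent.S1415.result hG M hM E hE).2.1 K (heq ▸ hKE')
    have hunif := fun (X : Subgroup G) (q : ℕ) (_ : Fact q.Prime) (hX : X ≤ K) (hXc : Nat.card X = q) =>
      tau1_uniform hG hM hE hcyc hKE (fun s hs hd => heq ▸ hK.2.1 s hs hd) hX hXc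
    refine ⟨Or.inr ⟨heq, hcyc⟩, ?_, fun k hk hk1 => ?_⟩
    · rw [← hunif X₀ q₀ inferInstance hX₀K hX₀]
      exact kappa_fixed hG hM hq₀ (hX₀K.trans hK.1) hX₀
    obtain ⟨q, hq, X, hXK, hX, hle⟩ := hprime k hk hk1
    exact le_antisymm ((inf_le_inf_left _ hle).trans (hunif X q hq hXK hX).le) (inf_le_inf_left _ (hk' k hk))

omit hE in
/-- A cyclic Hall `κ`-subgroup forces `κ(M) ⊆ τ₁(M)`. -/
theorem kappa_subset_tau1 {K : Subgroup G} (hK : Cfsg.IsPiHallOf (Cfsg.kappa M) K M) (hKc : IsCyclic K) :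
    Cfsg.kappa M ⊆ Cfsg.tau1 M := by
  obtain ⟨E, hE, hKE⟩ := kappa_compl hG hM hK
  rcases kappa_cases hG hM hE with ⟨p, _, P, L, h⟩ | hsub
  · exfalso
    rcases eq_or_ne K ⊥ with hK1 | hK1
    · have hκ := (irregular_all hG hM h h.hPE h.hP).1
      refine hK.2.2 p hκ.1 hκ ?_
      rw [hK1, Subgroup.relIndex_bot_left]
      exact hκ.2.1
    rcases (kappa_prime_action hG hM hE hK hKE hK1).1 with e | ⟨e, -⟩
    · haveI := hKc
      have hE' : ⁅E, E⁆ = ⊥ := by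
        rw [← e, commutator_eq_bot_iff_le_centralizer]
        exact le_centralizer_iff_isMulCommutative.2 IsCyclic.isMulCommutative
      have hP1 : P ≤ ⊥ := hE' ▸ h.derived.1
      exact h.hfix (by rw [le_bot_iff.1 hP1] at h ⊢; exact absurd h.hP (by simpa using (Fact.out (p := p.Prime)).ne_one.symm))
    · exact (e ▸ (irregular_all hG hM h h.hPE h.hP).1 : p ∈ Cfsg.tau1 M).2.2.2.1 h.hτ.2.2.1
  · exact hsub

end Cfsg.Agent.Transfer.Loc
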