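import Cfsg.Agent.Lib.Transfer.Local.KappaSets

/-!
The counting argument: some partner of `Z = K × K*` has a nontrivial `κ'`-part.
-/

set_option autoImplicit false
set_option linter.style.haveILetI false
set_option linter.unusedSectionVars false
set_option maxHeartbeats 1000000

namespace Cfsg.Agent.Transfer.Loc

open Subgroup
open scoped commutatorElement Pointwise

universe u

variable {G : Type u} [Group G] [Finite G] (hG : Cfsg.IsMinSimpleOddOrder G)
include hG

theorem ZPartner.kappa_nonempty {Z H : Subgroup G} (h : ZPartner Z H) : (Cfsg.kappa H).Nonempty := by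
  obtain ⟨-, K, hK, hK1, -⟩ := h
  obtain ⟨p, hp, hpd⟩ := Nat.exists_prime_and_dvd (fun e => hK1 ((Subgroup.card_eq_one).1 e))
  exact ⟨p, hK.2.1 p hp hpd⟩

/-- The card facts of a partner. -/
theorem ZPartner.card_facts {Z H : Subgroup G} (h : ZPartner Z H) :
    ∃ k : ℕ, Nat.card Z = k * Nat.card ↥(Z ⊓ Cfsg.sigmaCore H) ∧ 1 < k ∧
      2 * Nat.card ↥(Z ⊓ Cfsg.sigmaCore H) ≤ Nat.card (Cfsg.sigmaCore H) ∧
      (∃ p : ℕ, p.Prime ∧ p ∣ Nat.card Z ∧ p ∈ Cfsg.sigma H) ∧ (∃ p : ℕ, p.Prime ∧ p ∣ Nat.card Z ∧ p ∉ Cfsg.sigma H) ∧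
      (IsKappaFull H → k * Nat.card (Cfsg.sigmaCore H) = Nat.card H) := by
  obtain ⟨hH, K, hK, hK1, rfl⟩ := h
  obtain ⟨-, -, hmeet, hcop, hcard⟩ := kStar_facts hG hH hK
  obtain ⟨E, hE, hKE⟩ := kappa_compl hG hH hK
  obtain ⟨-, hfix, -⟩ := kappa_prime_action hG hH hE hK hKE hK1
  have hk : 1 < Nat.card K := (Subgroup.one_lt_card_iff_ne_bot K).2 hK1
  obtain ⟨p, hp, hpd⟩ := Nat.exists_prime_and_dvd (fun e => hfix ((Subgroup.card_eq_one).1 e))
  obtain ⟨q, hq, hqd⟩ := Nat.exists_prime_and_dvd (fun e => hK1 ((Subgroup.card_eq_one).1 e))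
  refine ⟨Nat.card K, by rw [hmeet, hcard], hk, ?_, ⟨p, hp, hcard ▸ hpd.trans (dvd_mul_left _ _),
    TransHyp.piCoreOf_primes (π := Cfsg.sigma H) (X := H) hp (hpd.trans (card_dvd_of_le inf_le_left))⟩,
    ⟨q, hq, hcard ▸ hqd.trans (dvd_mul_right _ _), (hK.2.1 q hq hqd).2.2.1⟩,
    fun hfull => (kappaFull_facts hG hH hfull).2 K hK⟩
  haveI := Fact.mk hp
  obtain ⟨d, hd⟩ := card_dvd_of_le (inf_le_left : kStar H K ≤ Cfsg.sigmaCore H)
  rw [hmeet, hd, mul_comm 2]
  refine Nat.mul_le_mul_left _ ?_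
  by_contra hlt
  have hd1 : d = 1 := le_antisymm (by omega) (Nat.pos_of_ne_zero fun e => Nat.card_pos.ne' (hd.trans (by rw [e, mul_zero])))
  obtain ⟨S⟩ : Nonempty (Sylow p (Cfsg.sigmaCore H)) := inferInstance
  refine ((Cfsg.Agent.S1431.result hG H hH K hK hK1).2.2.1 p hp hpd S).2.2 ?_
  exact (Subgroup.map_subtype_le _).trans (Subgroup.eq_of_le_of_card_ge inf_le_left (by rw [hd, hd1, mul_one])).ge

/-- Distinct partners are not conjugate. -/
theorem zpartner_not_conj {Z H₁ H₂ : Subgroup G} (h₁ : ZPartner Z H₁) (h₂ : ZPartner Z H₂) (hne : H₂ ≠ H₁)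
    (g : G) : H₂ ≠ MulAut.conj g • H₁ := fun e => by
  obtain ⟨-, -, -, -, ⟨p, hp, hpZ, hpσ⟩, -⟩ := h₁.card_facts hG
  haveI := Fact.mk hp
  exact hne (zpartner_eq hG h₁ h₂ hpZ hpσ (e ▸ sigma_smul hG h₁.1 hpσ g))

omit hG in
theorem InSigmaCover.ne_one {M : Subgroup G} {g : G} (hg : InSigmaCover M g) : g ≠ 1 := by
  obtain ⟨a, x, v, hx, hx1, rfl, hc, hv, -⟩ := hg
  intro e
  have h1 : IsPiElt (Cfsg.sigma M) (1 : G) := fun q hq hd => by
    rw [orderOf_one, Nat.dvd_one] at hd; exact absurd hd hq.ne_one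
  exact hx1 (pi_part_unique hc (isPiElt_sigmaCore hx) hv (Commute.one_left 1) h1
    (fun q hq hd => by rw [orderOf_one, Nat.dvd_one] at hd; exact absurd hd hq.ne_one) (e.trans (one_mul 1).symm))

/-- The conjugates of the mixed elements. -/
theorem inT_count {Z H₀ : Subgroup G} (hZ : ZPartner Z H₀) :
    Nat.card {z : G // InT Z z} * Z.index ≤ Nat.card {g : G // ∃ c t : G, InT Z t ∧ g = c * t * c⁻¹} := by
  rw [mul_comm, Subgroup.index_eq_card, ← Nat.card_prod]
  let f : (G ⧸ Z) × {z : G // InT Z z} → {g : G // ∃ c t : G, InT Z t ∧ g = c * t * c⁻¹} :=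
    fun d => ⟨d.1.out * d.2.1 * d.1.out⁻¹, d.1.out, d.2.1, d.2.2, rfl⟩
  refine Nat.card_le_card_of_injective f fun d e h => ?_
  have h1 : d.1.out * d.2.1 * d.1.out⁻¹ = e.1.out * e.2.1 * e.1.out⁻¹ := congrArg Subtype.val h
  have h2 : e.1.out⁻¹ * d.1.out * d.2.1 * (e.1.out⁻¹ * d.1.out)⁻¹ = e.2.1 := by
    rw [show e.1.out⁻¹ * d.1.out * d.2.1 * (e.1.out⁻¹ * d.1.out)⁻¹ = e.1.out⁻¹ * (d.1.out * d.2.1 * d.1.out⁻¹) *
      e.1.out by group, h1]
    group
  have h3 : e.1 = d.1 := by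
    rw [← QuotientGroup.out_eq' e.1, ← QuotientGroup.out_eq' d.1]
    exact QuotientGroup.eq.2 (inT_ti hG hZ d.2.2 (h2 ▸ e.2.2.1))
  refine Prod.ext h3.symm (Subtype.ext ?_)
  rw [h3] at h1
  exact (MulAut.conj d.1.out).injective h1

/-- Some partner is not full. -/
theorem exists_not_full {Z H₀ : Subgroup G} (hZ : ZPartner Z H₀) :
    ∃ H : Subgroup G, ZPartner Z H ∧ ¬ IsKappaFull H := by
  classical
  by_contra hno
  push Not at hno
  haveI := Fintype.ofFinite G
  haveI : Fintype (Subgroup G) := Fintype.ofFinite _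
  set F : Finset (Subgroup G) := Finset.univ.filter fun H => ZPartner Z H
  have hF : ∀ H, H ∈ F ↔ ZPartner Z H := fun H => by simp [F]
  have hn : 2 ≤ F.card := by
    obtain ⟨-, -, -, -, -, ⟨p, hp, hpZ, hpσ⟩, -⟩ := hZ.card_facts hG
    haveI := Fact.mk hp
    obtain ⟨H', hH', hpσ'⟩ := zpartner_cover hG hZ hpZ
    exact Finset.one_lt_card.2 ⟨H₀, (hF _).2 hZ, H', (hF _).2 hH', fun e => hpσ (e ▸ hpσ')⟩
  set C : Subgroup G → Finset G := fun H => Finset.univ.filter fun g => InSigmaCover H g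
  set T' : Finset G := Finset.univ.filter fun g => ∃ c t : G, InT Z t ∧ g = c * t * c⁻¹
  set T : Finset G := Finset.univ.filter fun g => InT Z g
  set s : Subgroup G → ℕ := fun H => Nat.card ↥(Z ⊓ Cfsg.sigmaCore H)
  -- the disjoint sets
  have hdisjC : (F : Set (Subgroup G)).PairwiseDisjoint C := by
    intro H₁ h₁ H₂ h₂ hne
    rw [Function.onFun, Finset.disjoint_left]
    intro g hg₁ hg₂
    have h₁' := (hF _).1 h₁
    have h₂' := (hF _).1 h₂
    exact cover_disjoint hG h₁'.1 h₂'.1 (zpartner_not_conj hG h₁' h₂' hne.symm) (h₁'.kappa_nonempty hG)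
      (h₂'.kappa_nonempty hG) (hno H₂ h₂') (Finset.mem_filter.1 hg₁).2 (Finset.mem_filter.1 hg₂).2
  have hdisjT : Disjoint (F.biUnion C) T' := by
    rw [Finset.disjoint_left]
    intro g hg hgT
    obtain ⟨H, hH, hgH⟩ := Finset.mem_biUnion.1 hg
    obtain ⟨c, t, ht, rfl⟩ := (Finset.mem_filter.1 hgT).2
    refine cover_not_T hG hZ ((hF _).1 hH).1 ht ?_
    have := inSigmaCover_conj hG (Finset.mem_filter.1 hgH).2 c⁻¹
    rwa [show c⁻¹ * (c * t * c⁻¹) * c⁻¹⁻¹ = t by group] at this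
  have hone : (1 : G) ∉ F.biUnion C ∪ T' := by
    intro h
    rcases Finset.mem_union.1 h with h | h
    · obtain ⟨H, -, hgH⟩ := Finset.mem_biUnion.1 h
      exact (Finset.mem_filter.1 hgH).2.ne_one rfl
    · obtain ⟨c, t, ht, e⟩ := (Finset.mem_filter.1 h).2
      exact ht.2 H₀ hZ ((conj_eq_one_iff.1 e.symm) ▸ one_mem _)
  have htot : 1 + T'.card + ∑ H ∈ F, (C H).card ≤ Nat.card G := by
    have := Finset.card_le_univ (insert (1 : G) (F.biUnion C ∪ T'))
    rw [Finset.card_insert_of_notMem hone, Finset.card_union_of_disjoint hdisjT, Finset.card_biUnion hdisjC] at this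
    rw [Nat.card_eq_fintype_card]
    omega
  -- the mixed elements
  have hT : Nat.card Z + F.card ≤ T.card + 1 + ∑ H ∈ F, s H := by
    have hsub : (Finset.univ.filter fun g => g ∈ Z) ⊆
        insert (1 : G) (T ∪ F.biUnion fun H => (Finset.univ.filter fun g => g ∈ Z ⊓ Cfsg.sigmaCore H).erase 1) := by
      intro g hg
      rcases eq_or_ne g 1 with rfl | hg1
      · exact Finset.mem_insert_self _ _
      refine Finset.mem_insert_of_mem ?_
      by_cases h : InT Z g
      · exact Finset.mem_union_left _ (by simp [T, h])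
      · obtain ⟨H, hH, hgH⟩ : ∃ H, ZPartner Z H ∧ g ∈ Cfsg.sigmaCore H := by
          by_contra h'
          push Not at h'
          exact h ⟨(Finset.mem_filter.1 hg).2, h'⟩
        exact Finset.mem_union_right _ (Finset.mem_biUnion.2 ⟨H, (hF _).2 hH, Finset.mem_erase.2
          ⟨hg1, by simp [(Finset.mem_filter.1 hg).2, hgH]⟩⟩)
    have h1 := Finset.card_le_card hsub
    have h2 : ∀ P : Subgroup G, (Finset.univ.filter fun g => g ∈ P).card = Nat.card P := fun P => by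
      rw [Nat.card_eq_fintype_card, ← Fintype.card_subtype]
    rw [h2] at h1
    have h3 := h1.trans ((Finset.card_insert_le _ _).trans (Nat.add_le_add_right ((Finset.card_union_le _ _).trans
      (Nat.add_le_add_left Finset.card_biUnion_le _)) 1))
    have h4 : ∑ H ∈ F, ((Finset.univ.filter fun g => g ∈ Z ⊓ Cfsg.sigmaCore H).erase 1).card + F.card =
        ∑ H ∈ F, s H := by
      rw [Finset.card_eq_sum_ones F, ← Finset.sum_add_distrib]
      refine Finset.sum_congr rfl fun H _ => ?_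
      rw [Finset.card_erase_add_one (by simp), h2]
    omega
  have hT' : T.card * Z.index ≤ T'.card := by
    have := inT_count hG hZ
    rwa [Nat.card_eq_fintype_card, Fintype.card_subtype, Nat.card_eq_fintype_card, Fintype.card_subtype] at this
  -- the covers
  have hC : ∀ H ∈ F, 2 * Nat.card G * s H ≤ 2 * Nat.card Z * (C H).card + Nat.card G := by
    intro H hH
    have hH' := (hF _).1 hH
    obtain ⟨k, hk, -, hsm, -, -, hfull⟩ := hH'.card_facts hG
    have hcount := sigma_count hG hH'.1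
    rw [Nat.card_eq_fintype_card (α := {g : G // InSigmaCover H g}), Fintype.card_subtype] at hcount
    have hidx := H.card_mul_index
    rw [← hfull (hno H hH')] at hidx
    show 2 * Nat.card G * s H ≤ _
    obtain ⟨m', hm'⟩ : ∃ m', Nat.card (Cfsg.sigmaCore H) = m' + 1 := ⟨_, (Nat.succ_pred_eq_of_pos Nat.card_pos).symm⟩
    rw [hm', Nat.add_sub_cancel] at hcount
    rw [hm'] at hidx hsm
    have h1 := Nat.mul_le_mul_left (2 * Nat.card Z) hcount
    have h2 := Nat.mul_le_mul_left (k * H.index) hsm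
    rw [hk] at h1 ⊢
    rw [← hidx]
    nlinarith [h1, h2]
  have hsum : 2 * Nat.card G * ∑ H ∈ F, s H ≤ 2 * Nat.card Z * ∑ H ∈ F, (C H).card + F.card * Nat.card G := by
    calc 2 * Nat.card G * ∑ H ∈ F, s H = ∑ H ∈ F, 2 * Nat.card G * s H := Finset.mul_sum _ _ _
      _ ≤ ∑ H ∈ F, (2 * Nat.card Z * (C H).card + Nat.card G) := Finset.sum_le_sum hC
      _ = _ := by rw [Finset.sum_add_distrib, Finset.sum_const, smul_eq_mul, Finset.mul_sum]
  have hidxZ := Z.card_mul_index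
  have hpos : 0 < Nat.card Z := Nat.card_pos
  have hposG : 0 < Nat.card G := Nat.card_pos
  nlinarith [Nat.mul_le_mul_left (2 * Nat.card Z) htot, Nat.mul_le_mul_left (2 * Nat.card Z) hT',
    Nat.mul_le_mul_left (2 * Nat.card G) hT, Nat.mul_le_mul_left (Nat.card G) hn, hidxZ, hsum]

end Cfsg.Agent.Transfer.Loc
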