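import Cfsg.Agent.Lib.Transfer.Local.KappaPrivate
import Cfsg.Agent.S1430
import Cfsg.Agent.S1431

/-!
The partners of a maximal subgroup with nonempty `κ`.
-/

set_option autoImplicit false
set_option linter.style.haveILetI false
set_option linter.unusedSectionVars false
set_option maxHeartbeats 1000000

namespace Cfsg.Agent.Transfer.Loc

open Subgroup
open scoped commutatorElement Pointwise

universe u

variable {G : Type u} [Group G] [Finite G]

/-- The fixed points in `M_σ` of a subgroup. -/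
abbrev kStar (M K : Subgroup G) : Subgroup G := Cfsg.sigmaCore M ⊓ centralizer (K : Set G)

/-- `H` has a Hall `κ(H)`-subgroup `K ≠ 1` with `K × K* = Z`. -/
def ZPartner (Z H : Subgroup G) : Prop :=
  IsCoatom H ∧ ∃ K : Subgroup G, Cfsg.IsPiHallOf (Cfsg.kappa H) K H ∧ K ≠ ⊥ ∧ K ⊔ kStar H K = Z

variable (hG : Cfsg.IsMinSimpleOddOrder G) {M : Subgroup G} (hM : IsCoatom M)
include hG hM

/-- Decomposition facts of `K ⊔ K*`. -/
theorem kStar_facts {K : Subgroup G} (hK : Cfsg.IsPiHallOf (Cfsg.kappa M) K M) :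
    K ⊔ kStar M K ≤ M ∧ K ≤ centralizer (kStar M K : Set G) ∧ (K ⊔ kStar M K) ⊓ Cfsg.sigmaCore M = kStar M K ∧
      (Nat.card K).Coprime (Nat.card (Cfsg.sigmaCore M)) ∧
      Nat.card ↥(K ⊔ kStar M K) = Nat.card K * Nat.card (kStar M K) := by
  have hc : K ≤ centralizer (kStar M K : Set G) := le_centralizer_iff.1 inf_le_right
  have hcop : (Nat.card K).Coprime (Nat.card (Cfsg.sigmaCore M)) := Nat.coprime_of_dvd fun q hq h1 h2 =>
    (hK.2.1 q hq h1).2.2.1 (TransHyp.piCoreOf_primes (π := Cfsg.sigma M) (X := M) hq h2)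
  have hdec : ∀ x ∈ K ⊔ kStar M K, ∃ k ∈ K, ∃ y ∈ kStar M K, x = k * y := fun x hx => by
    rw [← SetLike.mem_coe, Subgroup.coe_mul_of_left_le_normalizer_right K _
      (hc.trans (centralizer_le_normalizer _))] at hx
    obtain ⟨k, hk, y, hy, e⟩ := hx
    exact ⟨k, hk, y, hy, e.symm⟩
  have hbot : K ⊓ Cfsg.sigmaCore M = ⊥ := Grp.inf_eq_bot_of_coprime hcop
  refine ⟨sup_le hK.1 (inf_le_left.trans (TransHyp.piCoreOf_le M)), hc, le_antisymm (fun x hx => ?_)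
    (le_inf le_sup_right inf_le_left), hcop, ?_⟩
  · obtain ⟨k, hk, y, hy, rfl⟩ := hdec x hx.1
    have h1 : k ∈ K ⊓ Cfsg.sigmaCore M := ⟨hk, by
      have := (Cfsg.sigmaCore M).mul_mem hx.2 ((Cfsg.sigmaCore M).inv_mem hy.1)
      rwa [mul_inv_cancel_right] at this⟩
    rw [hbot, mem_bot] at h1
    rwa [h1, one_mul]
  · exact (complIn_card ⟨le_sup_left, le_sup_right, le_bot_iff.1 ((inf_le_inf_left K inf_le_left).trans hbot.le),
      hdec⟩).symm

/-- A `κ(M)`-subgroup of `M` normalises each of its lines. -/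
theorem kappa_group_normalizes {Y X : Subgroup G} (hYM : Y ≤ M)
    (hY : ∀ q : ℕ, q.Prime → q ∣ Nat.card Y → q ∈ Cfsg.kappa M) {r : ℕ} [hr : Fact r.Prime] (hXY : X ≤ Y)
    (hX : Nat.card X = r) : Y ≤ normalizer (X : Set G) := by
  haveI := solvable_of_ne_top hG hM.1
  obtain ⟨K₀, hK₀⟩ := Grp.PiHall.exists_piHall (Cfsg.kappa M) M
  obtain ⟨a, ha, hle⟩ := Grp.PiHall.dominate hK₀ hYM fun q hq hd => hY q hq hd
  have hK := Grp.PiHall.smul hK₀ (Grp.mem_normalizer_iff_smul.1 (le_normalizer ha))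
  obtain ⟨E, hE, hKE⟩ := kappa_compl hG hM hK
  refine hle.trans (kappa_line_normal hG hM hE hK hKE (fun e => hr.out.ne_one ?_) (hXY.trans hle) hX)
  rw [← hX, le_bot_iff.1 ((hXY.trans hle).trans e.le), Subgroup.card_bot]

/-- One half of the equality of the two products. -/
theorem partner_le {K : Subgroup G} (hK : Cfsg.IsPiHallOf (Cfsg.kappa M) K M) (hK1 : K ≠ ⊥) {X Z : Subgroup G}
    {r t : ℕ} [hr : Fact r.Prime] [ht : Fact t.Prime] (hXK : X ≤ K) (hX : Nat.card X = r)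
    (hZK : Z ≤ kStar M K) (hZ : Nat.card Z = t) {H : Subgroup G} (hH : IsCoatom H)
    (hNH : normalizer (X : Set G) ≤ H) {KH : Subgroup G} (hKH : Cfsg.IsPiHallOf (Cfsg.kappa H) KH H)
    (hZKH : Z ≤ KH) : KH ⊔ kStar H KH ≤ K ⊔ kStar M K := by
  have hrκ : r ∈ Cfsg.kappa M := hK.2.1 r hr.out (hX ▸ card_dvd_of_le hXK)
  have hXM : X ≤ M := hXK.trans hK.1
  have hZX : Z ≤ Cfsg.sigmaCore M ⊓ centralizer (X : Set G) := hZK.trans (inf_le_inf_left _ (centralizer_le hXK))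
  obtain ⟨hnc, hXσ, htκ, hZH, hCX, -⟩ := kappa_over hG hM hrκ hXM hX hZ hZX hH hNH
  have hZ1 : Z ≠ ⊥ := fun e => ht.out.ne_one (hZ.symm.trans (by rw [e, Subgroup.card_bot]))
  have hKH1 : KH ≠ ⊥ := ne_bot_of_le_ne_bot hZ1 hZKH
  obtain ⟨E, hE, hKE⟩ := kappa_compl hG hH hKH
  obtain ⟨-, -, hprime⟩ := kappa_prime_action hG hH hE hKH hKE hKH1
  have hfixZ : Cfsg.sigmaCore H ⊓ centralizer (Z : Set G) = kStar H KH := by
    obtain ⟨z, hz, hz1⟩ := (bot_or_exists_ne_one Z).resolve_left hZ1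
    refine le_antisymm ?_ (inf_le_inf_left _ (centralizer_le hZKH))
    exact (inf_le_inf_left _ (centralizer_le (Set.singleton_subset_iff.2 hz))).trans (hprime z (hZKH hz) hz1).le
  have hXs : X ≤ kStar H KH := hfixZ ▸ le_inf hXσ (le_centralizer_iff.1 (hZX.trans inf_le_right))
  have huniq := kappa_fixed_unique hG hM hrκ hXM hX hZ hZX
  have hNZ := normalizer_le_of_unique hG hM huniq
  have hsM : kStar H KH ≤ M := (hfixZ ▸ inf_le_right : kStar H KH ≤ centralizer (Z : Set G)).trans huniq.1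
  have hsκ : ∀ q : ℕ, q.Prime → q ∣ Nat.card (kStar H KH) → q ∈ Cfsg.kappa M := fun q hq hd => by
    haveI := Fact.mk hq
    obtain ⟨y, hy⟩ := exists_prime_orderOf_dvd_card' (G := kStar H KH) q hd
    exact (kappa_over hG hH htκ hZH hZ (Z := zpowers (y : G)) (t := q)
      (by rw [Nat.card_zpowers, Subgroup.orderOf_coe, hy]) ((zpowers_le.2 y.2).trans hfixZ.ge) hM hNZ).2.2.1
  have hsX : kStar H KH ≤ normalizer (X : Set G) := kappa_group_normalizes hG hM hsM hsκ hXs hX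
  have hKX : KH ≤ centralizer (X : Set G) := le_centralizer_iff.1 (hXs.trans inf_le_right)
  have hKM : KH ≤ M := (kappa_line_normal hG hH hE hKH hKE hKH1 hZKH hZ).trans hNZ
  refine (sup_le (le_inf hKM (hKX.trans (centralizer_le_normalizer _))) (le_inf hsM hsX)).trans ?_
  exact ((Cfsg.Agent.S1430.result hG M hM K hK hK1).2.2 X hXK (hX ▸ hr.out)).1.le

/-- The overgroup of the normaliser of a line of `K` is a partner. -/
theorem exists_partner {K : Subgroup G} (hK : Cfsg.IsPiHallOf (Cfsg.kappa M) K M) (hK1 : K ≠ ⊥) {X : Subgroup G}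
    {r : ℕ} [hr : Fact r.Prime] (hXK : X ≤ K) (hX : Nat.card X = r) {H : Subgroup G} (hH : IsCoatom H)
    (hNH : normalizer (X : Set G) ≤ H) : ZPartner (K ⊔ kStar M K) H ∧ r ∈ Cfsg.sigma H := by
  haveI := solvable_of_ne_top hG hH.1
  have hrκ : r ∈ Cfsg.kappa M := hK.2.1 r hr.out (hX ▸ card_dvd_of_le hXK)
  refine ⟨⟨hH, ?_⟩, kappa_sigma_over hG hM hrκ (hXK.trans hK.1) hX hH hNH⟩
  obtain ⟨E, hE, hKE⟩ := kappa_compl hG hM hK
  obtain ⟨-, hfix, hprime⟩ := kappa_prime_action hG hM hE hK hKE hK1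
  obtain ⟨w, hw, hw1⟩ := (bot_or_exists_ne_one _).resolve_left hfix
  obtain ⟨t, _, z, hz, -, hzc, -⟩ := exists_prime_zpowers_le hw1
  have hZK : zpowers z ≤ kStar M K := zpowers_le.2 ((zpowers_le.2 hw) hz)
  obtain ⟨-, hXσ, htκ, hZH, -, -⟩ := kappa_over hG hM hrκ (hXK.trans hK.1) hX hzc
    (hZK.trans (inf_le_inf_left _ (centralizer_le hXK))) hH hNH
  obtain ⟨K₀, hK₀⟩ := Grp.PiHall.exists_piHall (Cfsg.kappa H) H
  obtain ⟨a, ha, hZKH⟩ := Grp.PiHall.dominate hK₀ hZH fun q hq hd => by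
    rw [hzc, Nat.prime_dvd_prime_iff_eq hq Fact.out] at hd; exact hd ▸ htκ
  have hKH := Grp.PiHall.smul hK₀ (Grp.mem_normalizer_iff_smul.1 (le_normalizer ha))
  set KH := MulAut.conj a • K₀
  have hKH1 : KH ≠ ⊥ := ne_bot_of_le_ne_bot (fun e => (Fact.out (p := t.Prime)).ne_one
    (by rw [← hzc, e, Subgroup.card_bot])) hZKH
  refine ⟨KH, hKH, hKH1, le_antisymm (partner_le hG hM hK hK1 hXK hX hZK hzc hH hNH hKH hZKH) ?_⟩
  refine partner_le hG hH hKH hKH1 hZKH hzc (le_inf hXσ ?_) hX hM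
    (normalizer_le_of_unique hG hM (kappa_fixed_unique hG hM hrκ (hXK.trans hK.1) hX hzc
      (hZK.trans (inf_le_inf_left _ (centralizer_le hXK))))) hK hXK
  obtain ⟨EH, hEH, hKEH⟩ := kappa_compl hG hH hKH
  obtain ⟨-, -, hprimeH⟩ := kappa_prime_action hG hH hEH hKH hKEH hKH1
  obtain ⟨z', hz', hz'1⟩ := (bot_or_exists_ne_one (zpowers z)).resolve_left fun e =>
    (Fact.out (p := t.Prime)).ne_one (by rw [← hzc, e, Subgroup.card_bot])
  have h1 : X ≤ Cfsg.sigmaCore H ⊓ centralizer ({z'} : Set G) := le_inf hXσ fun x hx =>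
    mem_centralizer_singleton_iff.2 (mem_centralizer_iff.1 ((hZK hz').2) x (hXK hx))
  exact (h1.trans (hprimeH z' (hZKH hz') hz'1).le).trans inf_le_right

omit hM in
/-- Partners sharing a prime of `Z` coincide. -/
theorem zpartner_eq {Z H₁ H₂ : Subgroup G} (h₁ : ZPartner Z H₁) (h₂ : ZPartner Z H₂) {p : ℕ} [hp : Fact p.Prime]
    (hpZ : p ∣ Nat.card Z) (hp₁ : p ∈ Cfsg.sigma H₁) (hp₂ : p ∈ Cfsg.sigma H₂) : H₂ = H₁ := by
  obtain ⟨hH₁, K₁, hK₁, hK₁1, e₁⟩ := h₁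
  obtain ⟨hH₂, K₂, hK₂, hK₂1, e₂⟩ := h₂
  obtain ⟨hle₁, -, -, -, hcard₁⟩ := kStar_facts hG hH₁ hK₁
  obtain ⟨hle₂, -, -, -, -⟩ := kStar_facts hG hH₂ hK₂
  rw [← e₁, hcard₁] at hpZ
  have hd : p ∣ Nat.card (kStar H₁ K₁) := (hp.out.dvd_mul.1 hpZ).resolve_left fun h =>
    (hK₁.2.1 p hp.out h).2.2.1 hp₁
  obtain ⟨y, hy⟩ := exists_prime_orderOf_dvd_card' (G := kStar H₁ K₁) p hd
  have hYc : Nat.card (zpowers (y : G)) = p := by rw [Nat.card_zpowers, Subgroup.orderOf_coe, hy]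
  obtain ⟨k, hk, hk1⟩ := (bot_or_exists_ne_one K₁).resolve_left hK₁1
  obtain ⟨r, _, z, hz, -, hzc, -⟩ := exists_prime_zpowers_le hk1
  have hRK : zpowers z ≤ K₁ := zpowers_le.2 ((zpowers_le.2 hk) hz)
  have hrκ : r ∈ Cfsg.kappa H₁ := hK₁.2.1 r Fact.out (hzc ▸ card_dvd_of_le hRK)
  have hYfix : zpowers (y : G) ≤ Cfsg.sigmaCore H₁ ⊓ centralizer (zpowers z : Set G) :=
    (zpowers_le.2 y.2).trans (inf_le_inf_left _ (centralizer_le hRK))
  by_cases hconj : ∃ g : G, H₂ = MulAut.conj g • H₁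
  · obtain ⟨g, hg⟩ := hconj
    have hYH₂ : zpowers (y : G) ≤ MulAut.conj g • H₁ := hg ▸ (((zpowers_le.2 y.2).trans
      ((le_sup_right (a := K₁)).trans (e₁.trans e₂.symm).le)).trans hle₂)
    have hgM := mem_of_sigma_le_conj hG hH₁ hp₁ (IsPGroup.of_card (n := 1) (hYc.trans (pow_one p).symm))
      (fun e => hp.out.ne_one (by rw [← hYc, e, Subgroup.card_bot]))
      ((zpowers_le.2 y.2).trans (le_sup_right.trans hle₁))
      (kappa_fixed_unique hG hH₁ hrκ (hRK.trans hK₁.1) hzc hYc hYfix).1 hYH₂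
    rw [hg, Grp.mem_normalizer_iff_smul.1 (le_normalizer hgM)]
  · push Not at hconj
    exact absurd hp₂ (kappa_sigma_disjoint hG hH₁ hH₂ hconj ⟨r, hrκ⟩ hp₁)

omit hM in
/-- Every prime of `Z` lies in `σ` of a partner. -/
theorem zpartner_cover {Z H : Subgroup G} (h : ZPartner Z H) {p : ℕ} [hp : Fact p.Prime] (hpZ : p ∣ Nat.card Z) :
    ∃ H' : Subgroup G, ZPartner Z H' ∧ p ∈ Cfsg.sigma H' := by
  obtain ⟨hH, K, hK, hK1, e⟩ := h
  obtain ⟨-, -, -, -, hcard⟩ := kStar_facts hG hH hK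
  rw [← e, hcard] at hpZ
  rcases hp.out.dvd_mul.1 hpZ with hd | hd
  · obtain ⟨x, hx⟩ := exists_prime_orderOf_dvd_card' (G := K) p hd
    have hXc : Nat.card (zpowers (x : G)) = p := by rw [Nat.card_zpowers, Subgroup.orderOf_coe, hx]
    obtain ⟨H', hH', hNH'⟩ := exists_coatom_normalizer hG (K := zpowers (x : G))
      (fun e' => hp.out.ne_one (by rw [← hXc, e', Subgroup.card_bot]))
      fun e' => hH.1 (top_le_iff.1 (e' ▸ (zpowers_le.2 x.2).trans hK.1))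
    exact ⟨H', e ▸ exists_partner hG hH hK hK1 (zpowers_le.2 x.2) hXc hH' hNH'⟩
  · exact ⟨H, ⟨hH, K, hK, hK1, e⟩, TransHyp.piCoreOf_primes (π := Cfsg.sigma H) (X := H) hp.out
      (hd.trans (card_dvd_of_le inf_le_left))⟩

end Cfsg.Agent.Transfer.Loc
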