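import Cfsg.Agent.Lib.Transfer.Local.KappaNormalizer
import Cfsg.Agent.S1417

/-!
Privacy of `σ` for maximal subgroups with nonempty `κ`.
-/

set_option autoImplicit false
set_option linter.style.haveILetI false
set_option linter.unusedSectionVars false
set_option maxHeartbeats 1000000

namespace Cfsg.Agent.Transfer.Loc

open Subgroup
open scoped commutatorElement Pointwise

universe u

variable {G : Type u} [Group G] [Finite G]

/-- `σ` is invariant under conjugation. -/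
theorem sigma_smul (hG : Cfsg.IsMinSimpleOddOrder G) {M : Subgroup G} (hM : IsCoatom M) {p : ℕ}
    (hp : p ∈ Cfsg.sigma M) (g : G) : p ∈ Cfsg.sigma (MulAut.conj g • M) := by
  haveI := Fact.mk hp.1
  obtain ⟨S, hS⟩ := Grp.exists_isSylowIn p M
  obtain ⟨hN, -⟩ := sigma_sylow hG hM hp hS
  have hS' : Grp.IsSylowIn p (MulAut.conj g • S) (MulAut.conj g • M) := by
    refine ⟨smul_mono_right _ hS.1, hS.2.1.map _, fun hd => hS.2.2 ?_⟩
    have h1 : (MulAut.conj g • S).relIndex (MulAut.conj g • M) = S.relIndex M := Nat.eq_of_mul_eq_mul_left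
      (Nat.card_pos (α := S)) (by
        rw [Grp.card_mul_relIndex hS.1, ← Grp.card_conj_smul g M,
          ← Grp.card_mul_relIndex (smul_mono_right (MulAut.conj g) hS.1), Grp.card_conj_smul])
    rwa [h1] at hd
  obtain ⟨T, hT⟩ := Grp.isSylowIn_iff.1 hS'
  refine ⟨hp.1, by rw [Grp.card_conj_smul]; exact hp.2.1, T, ?_⟩
  rw [hT]
  intro x hx
  refine ⟨g⁻¹ * x * g, hN ?_, by show MulAut.conj g (g⁻¹ * x * g) = x; rw [MulAut.conj_apply]; group⟩
  rw [Grp.mem_normalizer_iff_smul] at hx ⊢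
  rw [mul_assoc, ← Grp.conj_smul_conj_smul, ← Grp.conj_smul_conj_smul, hx, Grp.conj_smul_conj_smul,
    inv_mul_cancel, map_one, one_smul]

variable (hG : Cfsg.IsMinSimpleOddOrder G) {M : Subgroup G} (hM : IsCoatom M)
include hG hM

/-- Every `κ(M)`-line comes with a `τ₁`-line with the same fixed points. -/
theorem kappa_tau1_line {r : ℕ} [hr : Fact r.Prime] (hκ : r ∈ Cfsg.kappa M) {R : Subgroup G} (hRM : R ≤ M)
    (hR : Nat.card R = r) : ∃ (r' : ℕ) (_ : Fact r'.Prime) (R' : Subgroup G), r' ∈ Cfsg.tau1 M ∧ R' ≤ M ∧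
      Nat.card R' = r' ∧
      Cfsg.sigmaCore M ⊓ centralizer (R : Set G) = Cfsg.sigmaCore M ⊓ centralizer (R' : Set G) := by
  by_cases hτ : r ∈ Cfsg.tau1 M
  · exact ⟨r, hr, R, hτ, hRM, hR, rfl⟩
  obtain ⟨E, hE, hRE⟩ := exists_compl_ge hG hM hRM fun p hp hd => by
    rw [hR, Nat.prime_dvd_prime_iff_eq hp hr.out] at hd
    exact hd ▸ hκ.2.2.1
  obtain ⟨L, h⟩ := irregular_of_kappa hG hM hE hκ ((tau_of_kappa hG hM hκ).resolve_left hτ) hRE hR
  obtain ⟨r', hr', T, R', hτ', -, hTE, hR'T, hR', -⟩ := h.mover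
  exact ⟨r', hr', R', hτ', (hR'T.trans hTE).trans hE.1, hR', (irregular_all hG hM h (hR'T.trans hTE) hR').2.symm⟩

/-- The primes of fixed points of `κ(M)`-elements are private to the class of `M`. -/
theorem kappa_fixed_private {r t : ℕ} [hr : Fact r.Prime] [ht : Fact t.Prime] (hκ : r ∈ Cfsg.kappa M)
    {R Z : Subgroup G} (hRM : R ≤ M) (hR : Nat.card R = r) (hZ : Nat.card Z = t)
    (hZR : Z ≤ Cfsg.sigmaCore M ⊓ centralizer (R : Set G)) {H : Subgroup G} (hH : IsCoatom H)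
    (hnc : ∀ g : G, H ≠ MulAut.conj g • M) : t ∉ Cfsg.sigma H := by
  obtain ⟨r', _, R', hτ, hR'M, hR', e⟩ := kappa_tau1_line hG hM hκ hRM hR
  exact tau1_private hG hM hτ hR'M hR' hZ (e ▸ hZR) hH hnc

/-- Fixed points have rank one in the overgroup of the normaliser of the line. -/
theorem kappa_fixed_rank_one {r t : ℕ} [hr : Fact r.Prime] [ht : Fact t.Prime] (hκ : r ∈ Cfsg.kappa M)
    {R Z : Subgroup G} (hRM : R ≤ M) (hR : Nat.card R = r) (hZ : Nat.card Z = t)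
    (hZR : Z ≤ Cfsg.sigmaCore M ⊓ centralizer (R : Set G)) {H : Subgroup G} (hH : IsCoatom H)
    (hNH : normalizer (R : Set G) ≤ H) : Cfsg.PRankLE t 1 H := by
  by_cases hτ : r ∈ Cfsg.tau1 M
  · exact tau1_fixed_rank_one hG hM hτ hRM hR hZR hZ hH hNH
  obtain ⟨E, hE, hRE⟩ := exists_compl_ge hG hM hRM fun p hp hd => by
    rw [hR, Nat.prime_dvd_prime_iff_eq hp hr.out] at hd
    exact hd ▸ hκ.2.2.1
  have h : Irregular M E H r R :=
    ⟨hG, hM, hE, (tau_of_kappa hG hM hκ).resolve_left hτ, hRE, hR, kappa_fixed hG hM hκ hRM hR, hH, hNH⟩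
  exact (h.meet_rank_one (t := t) (hZ ▸ card_dvd_of_le (le_inf (hZR.trans inf_le_left)
    ((hZR.trans inf_le_right).trans ((centralizer_le_normalizer _).trans hNH))))).2.2

/-- The overgroup of the normaliser of a `κ(M)`-line. -/
theorem kappa_over {r t : ℕ} [hr : Fact r.Prime] [ht : Fact t.Prime] (hκ : r ∈ Cfsg.kappa M)
    {R Z : Subgroup G} (hRM : R ≤ M) (hR : Nat.card R = r) (hZ : Nat.card Z = t)
    (hZR : Z ≤ Cfsg.sigmaCore M ⊓ centralizer (R : Set G)) {H : Subgroup G} (hH : IsCoatom H)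
    (hNH : normalizer (R : Set G) ≤ H) :
    (∀ g : G, H ≠ MulAut.conj g • M) ∧ R ≤ Cfsg.sigmaCore H ∧ t ∈ Cfsg.kappa H ∧ Z ≤ H ∧
      centralizer (R : Set G) ≤ H ∧ ∀ L : Subgroup G, IsCoatom L → centralizer (R : Set G) ≤ L → L = H := by
  have hnc := rank_one_not_conj hG hM hκ.2.2.1 (kappa_rank_one hG hM hκ) hR hNH
  haveI := solvable_of_ne_top hG hH.1
  have hσ := kappa_sigma_over hG hM hκ hRM hR hH hNH
  obtain ⟨T, hT, hle⟩ := exists_sylowIn_ge (le_normalizer.trans hNH : R ≤ H)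
    (IsPGroup.of_card (n := 1) (hR.trans (pow_one r).symm) : IsPGroup r R)
  have hRσ : R ≤ Cfsg.sigmaCore H := hle.trans (sylow_le_piCore hG hH (alpha_subset_sigma hG hH) le_rfl hσ hT)
  have hCH : centralizer (R : Set G) ≤ H := (centralizer_le_normalizer _).trans hNH
  have hZH : Z ≤ H := (hZR.trans inf_le_right).trans hCH
  have hR1 : R ≠ ⊥ := fun e => hr.out.ne_one (hR.symm.trans (by rw [e, Subgroup.card_bot]))
  have hRZ : R ≤ Cfsg.sigmaCore H ⊓ centralizer (Z : Set G) :=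
    le_inf hRσ (le_centralizer_iff.1 (hZR.trans inf_le_right))
  have htκ : t ∈ Cfsg.kappa H := kappa_of_fixed hG hH (kappa_fixed_private hG hM hκ hRM hR hZ hZR hH hnc)
    (kappa_fixed_rank_one hG hM hκ hRM hR hZ hZR hH hNH) hZH hZ (ne_bot_of_le_ne_bot hR1 hRZ)
  exact ⟨hnc, hRσ, htκ, hZH, hCH, (kappa_fixed_unique hG hH htκ hZH hZ hR hRZ).2⟩

/-- Lines of a Hall `κ`-subgroup commute. -/
theorem kappa_lines_commute {E K : Subgroup G} (hE : Cfsg.IsComplIn E (Cfsg.sigmaCore M) M)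
    (hK : Cfsg.IsPiHallOf (Cfsg.kappa M) K M) (hKE : K ≤ E) (hK1 : K ≠ ⊥) {X Y : Subgroup G} {r q : ℕ}
    [hr : Fact r.Prime] [hq : Fact q.Prime] (hXK : X ≤ K) (hX : Nat.card X = r) (hYK : Y ≤ K)
    (hY : Nat.card Y = q) : X ≤ centralizer (Y : Set G) := by
  have h1 := kappa_line_normal hG hM hE hK hKE hK1 hXK hX
  have h2 := kappa_line_normal hG hM hE hK hKE hK1 hYK hY
  rcases eq_or_ne r q with e | hne
  · subst e
    haveI := solvable_of_ne_top hG hM.1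
    haveI : Group.IsSolvable K := isSolvable_of_le hK.1
    obtain ⟨k, hk, hkX⟩ := prime_sub_conj hG (prankLE_mono hK.1 (kappa_rank_one hG hM
      (hK.2.1 r hr.out (hX ▸ card_dvd_of_le hXK)))) hXK hYK hX hY
    rw [Grp.mem_normalizer_iff_smul.1 (h1 hk)] at hkX
    rw [← hkX]
    exact le_centralizer_self hX
  · exact commute_of_coprime (hXK.trans h2) (hYK.trans h1)
      (by rw [hX, hY]; exact (Nat.coprime_primes hr.out hq.out).2 hne)

omit hM in
/-- Moving the overgroup so that a `κ(H)`-line outside its derived group lies in it. -/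
theorem shared_line {H L : Subgroup G} (hH : IsCoatom H) (hL : IsCoatom L) (hnc : ∀ g : G, L ≠ MulAut.conj g • H)
    {r s : ℕ} [hr : Fact r.Prime] [hs : Fact s.Prime] (hκ : r ∈ Cfsg.kappa H) (hsH : s ∈ Cfsg.sigma H)
    (hsL : s ∈ Cfsg.sigma L) :
    ∃ (g : G) (X : Subgroup G), Nat.card X = r ∧ X ≤ H ∧ X ≤ MulAut.conj g • L ∧
      ¬ X ≤ ⁅MulAut.conj g • L, MulAut.conj g • L⁆ := by
  haveI := solvable_of_ne_top hG hH.1
  obtain ⟨z, hz⟩ := exists_prime_orderOf_dvd_card' (G := H) r hκ.2.1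
  set X := zpowers (z : G) with hXdef
  have hXH : X ≤ H := zpowers_le.2 z.2
  have hX : Nat.card X = r := by rw [hXdef, Nat.card_zpowers, Subgroup.orderOf_coe, hz]
  set Q := Cfsg.sigmaCore H with hQdef
  have hQH : Q ≤ H := TransHyp.piCoreOf_le H
  have hXQ : X ≤ normalizer (Q : Set G) := hXH.trans (TransHyp.le_normalizer_piCoreOf H)
  have hcop : (Nat.card X).Coprime (Nat.card Q) := by
    rw [hX]; exact hr.out.coprime_iff_not_dvd.2 (not_dvd_sigmaCore hκ.2.2.1)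
  obtain ⟨S, hSQ, hXS⟩ := Grp.exists_invariant_sylow X Q hXQ hcop (Or.inr (isSolvable_of_le hQH)) s
  obtain ⟨S₁, hS₁⟩ := Grp.exists_isSylowIn s H
  obtain ⟨k, hk, e⟩ := (sigmaCore_sylow hG hH hsH hS₁).conj hSQ
  have hS : Grp.IsSylowIn s S H := e ▸ hS₁.smul (Grp.mem_normalizer_iff_smul.1 (le_normalizer (hQH hk)))
  obtain ⟨g, hg⟩ := exists_conj_le hG hL hsL hS.2.1
  set L' := MulAut.conj g • L with hL'
  have hL'c := isCoatom_conj hG hL g
  have hsL' := sigma_smul hG hL hsL g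
  have hnc' : ∀ a : G, L' ≠ MulAut.conj a • H := fun a ea => hnc (g⁻¹ * a) (by
    rw [← Grp.conj_smul_conj_smul, ← ea, hL', Grp.conj_smul_conj_smul, inv_mul_cancel, map_one, one_smul])
  have hSL' : Grp.IsSylowIn s S L' := ⟨hg, hS.2.1, fun hd => (sigma_sylow hG hH hsH hS).2
    (hd.trans (relIndex_dvd_index_of_le hg))⟩
  have hXL : X ≤ L' := hXS.trans (sigma_sylow hG hL'c hsL' hSL').1
  refine ⟨g, X, hX, hXH, hXL, fun hXD => ?_⟩
  have hsβ : s ∉ Cfsg.beta L' := fun hβ => not_alpha_of_sigma hG hH hL'c hnc' hsH (beta_subset hβ)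
  have hrs : r ≠ s := fun e => hκ.2.2.1 (e ▸ hsH)
  have hc : X ≤ centralizer (S : Set G) := derived_comm hG hL'c hrs hS.2.1
    (IsPGroup.of_card (n := 1) (hX.trans (pow_one r).symm)) (sylow_le_derived hG hL'c hsL' hSL') hXD hXS hsβ
  obtain ⟨y, hy⟩ := exists_prime_orderOf_dvd_card' (G := S) s
    (dvd_card_of_pGroup hS.2.1 (sylow_ne_bot_of_dvd hS hsH.2.1))
  exact kappa_fixed_private hG hH hκ hXH hX (Z := zpowers (y : G)) (t := s)
    (by rw [Nat.card_zpowers, Subgroup.orderOf_coe, hy])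
    ((zpowers_le.2 y.2).trans (le_inf hSQ.1 (le_centralizer_iff.1 hc))) hL'c hnc' hsL'

omit hM in
/-- A `κ(H)`-prime cannot lie in `σ(L)` when `σ(H)` meets `σ(L)`. -/
theorem not_shared_of_mem_sigma {H L : Subgroup G} (hH : IsCoatom H) (hL : IsCoatom L)
    (hnc : ∀ g : G, L ≠ MulAut.conj g • H) {r s : ℕ} [hr : Fact r.Prime] [hs : Fact s.Prime]
    (hκ : r ∈ Cfsg.kappa H) (hrL : r ∈ Cfsg.sigma L) (hsH : s ∈ Cfsg.sigma H) : s ∉ Cfsg.sigma L := fun hsL => by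
  obtain ⟨g, X, hX, -, hXL, hXD⟩ := shared_line hG hH hL hnc hκ hsH hsL
  have hL'c := isCoatom_conj hG hL g
  haveI := solvable_of_ne_top hG hL'c.1
  obtain ⟨T, hT, hle⟩ := exists_sylowIn_ge hXL (IsPGroup.of_card (n := 1) (hX.trans (pow_one r).symm) : IsPGroup r X)
  exact hXD (hle.trans (sylow_le_derived hG hL'c (sigma_smul hG hL hrL g) hT))

omit hM in
/-- Maximal subgroups not conjugate to one with nonempty `κ` share no `σ`-prime with it. -/
theorem kappa_sigma_disjoint {H L : Subgroup G} (hH : IsCoatom H) (hL : IsCoatom L)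
    (hnc : ∀ g : G, L ≠ MulAut.conj g • H) (hne : (Cfsg.kappa H).Nonempty) {s : ℕ} [hs : Fact s.Prime]
    (hsH : s ∈ Cfsg.sigma H) : s ∉ Cfsg.sigma L := fun hsL => by
  obtain ⟨r, hκ⟩ := hne
  haveI := Fact.mk hκ.1
  obtain ⟨g, X, hX, hXH, hXL, hXD⟩ := shared_line hG hH hL hnc hκ hsH hsL
  set L' := MulAut.conj g • L with hL'
  have hL'c := isCoatom_conj hG hL g
  have hsL' := sigma_smul hG hL hsL g
  have hnc' : ∀ a : G, L' ≠ MulAut.conj a • H := fun a ea => hnc (g⁻¹ * a) (by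
    rw [← Grp.conj_smul_conj_smul, ← ea, hL', Grp.conj_smul_conj_smul, inv_mul_cancel, map_one, one_smul])
  have hnc'' : ∀ a : G, H ≠ MulAut.conj a • L' := fun a ea => hnc' a⁻¹ (by
    rw [ea, Grp.conj_smul_conj_smul, inv_mul_cancel, map_one, one_smul])
  haveI := solvable_of_ne_top hG hL'c.1
  haveI := solvable_of_ne_top hG hH.1
  have hXp : IsPGroup r X := IsPGroup.of_card (n := 1) (hX.trans (pow_one r).symm)
  have hrσ : r ∉ Cfsg.sigma L' := fun h => by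
    obtain ⟨T, hT, hle⟩ := exists_sylowIn_ge hXL hXp
    exact hXD (hle.trans (sylow_le_derived hG hL'c h hT))
  by_cases hr1 : Cfsg.PRankLE r 1 L'
  swap
  · have hτ := tau2_of_not_rank_one hG hL'c hrσ hr1
    obtain ⟨A, A₀, hA⟩ := tau2_exc hG hL'c hτ
    exact sigma_disjoint hG hH hL'c hnc' (Cfsg.Agent.S1417.result hG L' hL'c r hτ A ⟨hA.hAM, hA.hA.elem, hA.hA.card⟩).1
      hsH hsL'
  have hτ1 : r ∈ Cfsg.tau1 L' := ⟨Fact.out, hrσ, hX ▸ card_dvd_of_le hXL,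
    fun hd => hXD (le_derived_of_rank_one hG hr1 hd hXL hXp), hr1⟩
  set W := Cfsg.sigmaCore L' ⊓ centralizer (X : Set G) with hW
  obtain ⟨x, hxX, hx1, hxgen⟩ := exists_generator_line hX
  by_cases hfix : W = ⊥
  · refine sigma_disjoint hG hH hL'c hnc' (Grp.isNilpotent_of_fpf (p := r) (b := x)
      (by rw [← orderOf_dvd_iff_pow_eq_one, ← Nat.card_zpowers, hxgen, hX])
      (TransHyp.le_normalizer_piCoreOf L' (hXL hxX)) ?_) hsH hsL'
    rw [show centralizer ({x} : Set G) = centralizer (X : Set G) by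
      rw [← hxgen, zpowers_eq_closure, centralizer_closure]]
    exact hfix
  obtain ⟨w, hw, hw1⟩ := (bot_or_exists_ne_one W).resolve_left hfix
  obtain ⟨t', _, z', hz', -, hz'c, -⟩ := exists_prime_zpowers_le hw1
  have hZ'W : zpowers z' ≤ W := zpowers_le.2 ((zpowers_le.2 hw) hz')
  obtain ⟨v, hv, hv1⟩ := (bot_or_exists_ne_one _).resolve_left (kappa_fixed hG hH hκ hXH hX)
  obtain ⟨t, _, z, hz, -, hzc, -⟩ := exists_prime_zpowers_le hv1
  have hZW : zpowers z ≤ Cfsg.sigmaCore H ⊓ centralizer (X : Set G) := zpowers_le.2 ((zpowers_le.2 hv) hz)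
  have hκ' : r ∈ Cfsg.kappa L' := kappa_of_fixed hG hL'c hrσ hr1 hXL hX hfix
  obtain ⟨P, hP, hNP⟩ := exists_coatom_normalizer hG (K := X)
    (fun e => (Fact.out (p := r.Prime)).ne_one (hX.symm.trans (by rw [e, Subgroup.card_bot])))
    fun e => hH.1 (top_le_iff.1 (e ▸ hXH))
  obtain ⟨-, -, htP, hZP, -, -⟩ := kappa_over hG hH hκ hXH hX hzc hZW hP hNP
  obtain ⟨-, -, ht'P, -, -, -⟩ := kappa_over hG hL'c hκ' hXL hX hz'c hZ'W hP hNP
  haveI := solvable_of_ne_top hG hP.1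
  obtain ⟨K₀, hK₀⟩ := Grp.PiHall.exists_piHall (Cfsg.kappa P) P
  obtain ⟨a, ha, hZK⟩ := Grp.PiHall.dominate hK₀ hZP fun q hq hd => by
    rw [hzc, Nat.prime_dvd_prime_iff_eq hq Fact.out] at hd; exact hd ▸ htP
  have hK := Grp.PiHall.smul hK₀ (Grp.mem_normalizer_iff_smul.1 (le_normalizer ha))
  set K := MulAut.conj a • K₀
  obtain ⟨E, hE, hKE⟩ := kappa_compl hG hP hK
  have hK1 : K ≠ ⊥ := ne_bot_of_le_ne_bot (fun e => (Fact.out (p := t.Prime)).ne_one
    (hzc.symm.trans (by rw [e, Subgroup.card_bot]))) hZK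
  have hdK : t' ∣ Nat.card K := by
    have h := ht'P.2.1
    rw [← Grp.card_mul_relIndex hK.1] at h
    exact ((Fact.out (p := t'.Prime)).dvd_mul.1 h).resolve_right (hK.2.2 t' Fact.out ht'P)
  obtain ⟨y, hy⟩ := exists_prime_orderOf_dvd_card' (G := K) t' hdK
  have hYc : Nat.card (zpowers (y : G)) = t' := by rw [Nat.card_zpowers, Subgroup.orderOf_coe, hy]
  have hYZ : zpowers (y : G) ≤ centralizer (zpowers z : Set G) :=
    kappa_lines_commute hG hP hE hK hKE hK1 (zpowers_le.2 y.2) hYc hZK hzc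
  have hYH : zpowers (y : G) ≤ H := hYZ.trans (kappa_fixed_unique hG hH hκ hXH hX hzc hZW).1
  have ht'σ : t' ∈ Cfsg.sigma L' := TransHyp.piCoreOf_primes (π := Cfsg.sigma L') (X := L') Fact.out
    (hz'c ▸ card_dvd_of_le (hZ'W.trans inf_le_left))
  have ht'H : t' ∉ Cfsg.sigma H := kappa_fixed_private hG hL'c hκ' hXL hX hz'c hZ'W hH hnc''
  by_cases ht'1 : Cfsg.PRankLE t' 1 H
  · refine not_shared_of_mem_sigma hG hH hL'c hnc' (kappa_of_fixed hG hH ht'H ht'1 hYH hYc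
      (ne_bot_of_le_ne_bot (fun e => (Fact.out (p := t.Prime)).ne_one (hzc.symm.trans (by rw [e, Subgroup.card_bot])))
        (le_inf (hZW.trans inf_le_left) (le_centralizer_iff.1 hYZ)))) ht'σ hsH hsL'
  · have hτ := tau2_of_not_rank_one hG hH ht'H ht'1
    obtain ⟨A, A₀, hA⟩ := tau2_exc hG hH hτ
    exact sigma_disjoint hG hL'c hH hnc'' (Cfsg.Agent.S1417.result hG H hH t' hτ A ⟨hA.hAM, hA.hA.elem, hA.hA.card⟩).1
      hsL' hsH

end Cfsg.Agent.Transfer.Loc
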