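import Cfsg.Agent.Lib.Transfer.Local.KappaFixed

/-!
A `κ(M)`-prime lies in `σ` of every maximal subgroup over the normaliser of a line of that order.
-/

set_option autoImplicit false
set_option linter.style.haveILetI false
set_option linter.unusedSectionVars false
set_option maxHeartbeats 1000000

namespace Cfsg.Agent.Transfer.Loc

open Subgroup
open scoped commutatorElement Pointwise

universe u

variable {G : Type u} [Group G] [Finite G]

/-- An element of prime order fixing the line `A₀` and moving the plane commutes with a mover of `A₀` in `E`. -/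
theorem exists_line_mover {M E A A₀ R : Subgroup G} {s r : ℕ} [hs : Fact s.Prime] [hr : Fact r.Prime]
    (h : Exc M s A A₀) (hE : Cfsg.IsComplIn E (Cfsg.sigmaCore M) M) (hτ : s ∈ Cfsg.tau2 M) (hAE : A ≤ E)
    (hna : ∀ S : Sylow s G, ¬ IsMulCommutative (S : Subgroup G)) (hrs : r ≠ s) (hRE : R ≤ E)
    (hR : Nat.card R = r) (hnd : ¬ r ∣ Nat.card ↥⁅E, E⁆) (hRL : R ≤ centralizer (A₀ : Set G))
    (hRA : ¬ R ≤ centralizer (A : Set G)) :
    E ≤ normalizer (A₀ : Set G) ∧ ¬ E ⊓ centralizer (R : Set G) ≤ centralizer (A₀ : Set G) := by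
  obtain ⟨⟨hEA, -⟩, -, -⟩ := Cfsg.Agent.S1418.result h.hG M h.hM E hE s hτ A ⟨hAE, h.hA.elem, h.hA.card⟩
  obtain ⟨x, hxR, -, hxgen⟩ := exists_generator_line hR
  have hxr : x ^ r = 1 := by
    rw [← orderOf_dvd_iff_pow_eq_one, ← Nat.card_zpowers, hxgen, hR]
  have hxC : x ∉ centralizer (A : Set G) := fun hc => hRA (by rw [← hxgen, zpowers_le]; exact hc)
  have hEL := line_moved h hE hτ hAE hna hr.out hrs hxr ((hRE.trans hEA) hxR) (hRL hxR) hxC
  obtain ⟨S, hAS⟩ := (Grp.elemAb_isPGroup h.hA.elem).exists_le_sylow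
  obtain ⟨hML, -⟩ := h.lines_facts hAS (hna S)
  obtain ⟨-, ⟨hcard, -⟩, -⟩ := Cfsg.Agent.S1419.result h.hG M h.hM E hE s hτ hna A ⟨hAE, h.hA.elem, h.hA.card⟩
  have hLeq : A ⊓ centralizer (Cfsg.sigmaCore M : Set G) = A₀ :=
    (Subgroup.eq_of_le_of_card_ge (le_inf h.hA₀ (le_centralizer_iff.1 hML)) (by rw [hcard, h.hA₀c])).symm
  have hEN : E ≤ normalizer (A₀ : Set G) := hLeq ▸ Grp.le_normalizer_inf' hEA
    ((hE.1.trans (sigma_le_normalizer hE)).trans (normalizer_le_normalizer_cent _))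
  have hLD : A₀ ≤ ⁅E, E⁆ :=
    (comm_eq_of_moves h.hA₀c hEN hEL).ge.trans (Subgroup.commutator_mono (h.hA₀.trans hAE) le_rfl)
  refine ⟨hEN, fun hc => hEL ((compl_cover h.hG h.hM hE hRE hR hnd).trans (sup_le ?_ hc))⟩
  exact (le_centralizer_iff_isMulCommutative.2 (Cfsg.Agent.S1420.result h.hG M h.hM E hE).2.1).trans
    (centralizer_le hLD)

/-- The prime of a `κ`-line lies in `σ` of a maximal subgroup over its normaliser. -/
theorem kappa_sigma_over (hG : Cfsg.IsMinSimpleOddOrder G) {M : Subgroup G} (hM : IsCoatom M) {r : ℕ}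
    [hr : Fact r.Prime] (hκ : r ∈ Cfsg.kappa M) {X : Subgroup G} (hXM : X ≤ M) (hX : Nat.card X = r)
    {H : Subgroup G} (hH : IsCoatom H) (hNH : normalizer (X : Set G) ≤ H) : r ∈ Cfsg.sigma H := by
  refine (sigma_or_tau2 hG hX hH hNH).resolve_right fun hτH => ?_
  haveI := solvable_of_ne_top hG hM.1
  haveI := solvable_of_ne_top hG hH.1
  rcases tau_of_kappa hG hM hκ with hτ | hτ
  swap
  · obtain ⟨E, hE, hXE⟩ := exists_compl_ge hG hM hXM fun p hp hd => by
      rw [hX, Nat.prime_dvd_prime_iff_eq hp hr.out] at hd; exact hd ▸ hκ.2.2.1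
    have hirr : Irregular M E H r X := ⟨hG, hM, hE, hτ, hXE, hX, kappa_fixed hG hM hκ hXM hX, hH, hNH⟩
    exact hτH.2.1 hirr.sigma_L
  have hfix := kappa_fixed hG hM hκ hXM hX
  have hnc : ∀ g : G, H ≠ MulAut.conj g • M := rank_one_not_conj hG hM hτ.2.1 hτ.2.2.2.2 hX hNH
  obtain ⟨z₀, hz₀, hz₁⟩ := (bot_or_exists_ne_one _).resolve_left hfix
  obtain ⟨t, _, z, hz, -, hzc, -⟩ := exists_prime_zpowers_le hz₁
  set Z := zpowers z
  have hZW : Z ≤ Cfsg.sigmaCore M ⊓ centralizer (X : Set G) := zpowers_le.2 ((zpowers_le.2 hz₀) hz)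
  have hCZ := tau1_unique hG hM hτ hXM hX hzc hZW
  have htH := tau1_private hG hM hτ hXM hX hzc hZW hH hnc
  have htH1 := tau1_fixed_rank_one hG hM hτ hXM hX hZW hzc hH hNH
  have hCX : centralizer (X : Set G) ≤ H := (centralizer_le_normalizer _).trans hNH
  have hXH : X ≤ H := le_normalizer.trans hNH
  have hZH : Z ≤ H := (hZW.trans inf_le_right).trans hCX
  have hrt : t ≠ r := fun e => htH1 |> fun h1 => hτH.2.2.2 (e ▸ h1)
  have hZX : Z ≤ centralizer (X : Set G) := hZW.trans inf_le_right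
  obtain ⟨F, hF, hU⟩ := exists_compl_ge hG hH (sup_le hXH hZH) fun p hp hd => by
    rcases hp.dvd_mul.1 (hd.trans (Grp.card_sup_dvd_mul
      ((le_centralizer_iff.1 hZX).trans (centralizer_le_normalizer _)))) with h | h
    · rw [hX, Nat.prime_dvd_prime_iff_eq hp hr.out] at h; exact h ▸ hτH.2.1
    · rw [hzc, Nat.prime_dvd_prime_iff_eq hp Fact.out] at h; exact h ▸ htH
  haveI := isSolvable_of_le hF.1
  have hXF : X ≤ F := le_sup_left.trans hU
  have hZF : Z ≤ F := le_sup_right.trans hU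
  obtain ⟨T, hT⟩ := Grp.exists_isSylowIn r F
  obtain ⟨B, hBT, hB, hB2⟩ := tau2_plane hG hH hF hτH hT
  have hBF := hBT.trans hT.1
  obtain ⟨⟨hFB, hlines⟩, ⟨-, -, hNB⟩, -⟩ := Cfsg.Agent.S1418.result hG H hH F hF r hτH B ⟨hBF, hB, hB2⟩
  have hXB : X ≤ B := hlines X hXF hX
  have hZB : ¬ Z ≤ centralizer (B : Set G) := fun hc =>
    not_prank_of_elem ((le_centralizer_iff.1 hc).trans hCZ.1) hB hB2.ge hτ.2.2.2.2
  by_cases htd : t ∣ Nat.card ↥⁅H, H⁆
  · refine hZB (derived_centralizes_plane hG hH hF hτH hBF hB hB2 (tau3_normal hG hH hF htH htH1 htd hZF hzc).1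
      fun hd => hrt ?_)
    exact ((Nat.prime_dvd_prime_iff_eq hr.out Fact.out).1 (hzc ▸ hd)).symm
  have hnd : ¬ t ∣ Nat.card ↥⁅F, F⁆ := fun h => htd (h.trans (card_dvd_of_le (commutator_mono hF.1 hF.1)))
  by_cases habel : ∀ S : Sylow r G, IsMulCommutative (S : Subgroup G)
  · refine hNB ((plane_line_invariant hG hH hF hτH habel hBF hB hB2 hXB hX (hZF.trans hFB) (fun hd => hrt ?_)
      hZX hZB).trans hNH)
    exact ((Nat.prime_dvd_prime_iff_eq hr.out Fact.out).1 (hzc ▸ hd)).symm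
  push Not at habel
  obtain ⟨S₀, hS₀⟩ := habel
  have hna : ∀ S : Sylow r G, ¬ IsMulCommutative (S : Subgroup G) := fun S hab => hS₀ (by
    haveI := hab
    exact ⟨⟨fun a b => (S.equiv S₀).symm.injective (by
      rw [map_mul, map_mul]; exact hab.is_comm.comm _ _)⟩⟩)
  have hexc : Exc H r B X :=
    ⟨hG, hH, hτH.2.1, hBF.trans hF.1, IsMaxPlane.of_sigma' hG hH hτH.2.1 (hBF.trans hF.1) hB hB2, hXB, hX, hNH⟩
  obtain ⟨hFN, hmove⟩ := exists_line_mover hexc hF hτH hBF hna hrt hZF hzc hnd hZX hZB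
  refine hτ.2.2.2.1 (hX ▸ card_dvd_of_le ?_)
  exact (comm_eq_of_moves hX (inf_le_left.trans hFN) hmove).ge.trans
    (Subgroup.commutator_mono hXM (inf_le_right.trans hCZ.1))

end Cfsg.Agent.Transfer.Loc
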