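import Cfsg.Agent.Lib.Transfer.Local.Bender

/-!
Maximal subgroups of a minimal simple group of odd order.
-/

set_option autoImplicit false
set_option linter.style.haveILetI false
set_option linter.unusedSectionVars false

namespace Cfsg.Agent.Transfer.Loc

open Subgroup
open scoped commutatorElement Pointwise

universe u

variable {G : Type u} [Group G] [Finite G] (hG : Cfsg.IsMinSimpleOddOrder G)
include hG

theorem solvable_of_ne_top {H : Subgroup G} (h : H ≠ ⊤) : Group.IsSolvable H := hG.2.2.2 H h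

theorem not_solvable : ¬ Group.IsSolvable G := by
  intro hs
  haveI := hG.2.1
  exact hG.2.2.1 ⟨⟨IsSimpleGroup.comm_iff_isSolvable.mpr hs⟩⟩

theorem ne_top_of_solvable {H : Subgroup G} (h : Group.IsSolvable H) : H ≠ ⊤ := by
  rintro rfl
  exact not_solvable hG (Group.isSolvable_of_surjective (f := (⊤ : Subgroup G).subtype) fun g => ⟨⟨g, trivial⟩, rfl⟩)

theorem ne_top_of_pGroup {p : ℕ} [Fact p.Prime] {H : Subgroup G} (h : IsPGroup p H) : H ≠ ⊤ :=
  ne_top_of_solvable hG (by haveI := h.isNilpotent; infer_instance)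

theorem ne_two {p : ℕ} (hp : p ∣ Nat.card G) : p ≠ 2 := by
  rintro rfl
  exact (Nat.not_even_iff_odd.2 hG.1) (even_iff_two_dvd.2 hp)

theorem normalizer_eq_of_coatom {M N : Subgroup G} (hM : IsCoatom M) (hN1 : N ≠ ⊥) (hNt : N ≠ ⊤)
    (h : M ≤ normalizer (N : Set G)) : normalizer (N : Set G) = M :=
  (hM.le_iff.1 h).resolve_left (TransHyp.normalizer_ne_top hG hN1 hNt)

theorem normalizer_eq_of_le {M N : Subgroup G} (hM : IsCoatom M) (hN1 : N ≠ ⊥) (hNM : N ≤ M)
    (h : M ≤ normalizer (N : Set G)) : normalizer (N : Set G) = M :=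
  normalizer_eq_of_coatom hG hM hN1 (fun e => hM.1 (top_le_iff.1 (e ▸ hNM))) h

theorem coatom_ne_bot {M : Subgroup G} (hM : IsCoatom M) : M ≠ ⊥ := by
  rintro rfl
  haveI := hG.2.1
  obtain ⟨g, hg⟩ := exists_ne (1 : G)
  have h1 : zpowers g = ⊤ := (hM.le_iff.1 bot_le).resolve_right (fun e => hg (zpowers_eq_bot.1 e))
  exact ne_top_of_solvable hG (H := zpowers g) inferInstance h1

theorem centralizer_Z_le {M : Subgroup G} (hM : IsCoatom M) {q : ℕ} [Fact q.Prime] (h : O q M ≠ ⊥) :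
    centralizer (Z q M : Set G) ≤ M := by
  refine (centralizer_le_normalizer _).trans (normalizer_eq_of_le hG hM (Z_ne_bot h) ?_ (le_normalizer_Z M)).le
  exact inf_le_left.trans (O_le q M)

theorem exists_coatom {H : Subgroup G} (h : H ≠ ⊤) : ∃ M : Subgroup G, IsCoatom M ∧ H ≤ M := by
  obtain ⟨M, hHM, hM⟩ := (Set.toFinite {K : Subgroup G | K ≠ ⊤}).exists_le_maximal h
  refine ⟨M, ⟨hM.1, fun K hK => ?_⟩, hHM⟩
  by_contra hne
  exact hK.not_ge (hM.2 hne hK.le)

theorem exists_coatom_normalizer {K : Subgroup G} (h1 : K ≠ ⊥) (h2 : K ≠ ⊤) :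
    ∃ M : Subgroup G, IsCoatom M ∧ normalizer (K : Set G) ≤ M :=
  exists_coatom hG (TransHyp.normalizer_ne_top hG h1 h2)

/-- A maximal subgroup is determined by any nontrivial normal subgroup. -/
theorem coatom_eq {M L K : Subgroup G} (hM : IsCoatom M) (hL : IsCoatom L) (hK : K ≠ ⊥) (hKM : K ≤ M)
    (h1 : M ≤ normalizer (K : Set G)) (h2 : L ≤ normalizer (K : Set G)) : M = L := by
  have hKt : K ≠ ⊤ := fun e => hM.1 (top_le_iff.1 (e ▸ hKM))
  rw [← normalizer_eq_of_coatom hG hM hK hKt h1, normalizer_eq_of_coatom hG hL hK hKt h2]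

end Cfsg.Agent.Transfer.Loc
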