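import Cfsg.Agent.Lib.Transfer.Local.Types
import Cfsg.Agent.Lib.Transfer.Local.SupportKappa
import Cfsg.Agent.S1404
import Cfsg.Agent.S1417
import Cfsg.Agent.S1418
import Cfsg.Agent.S1419
import Cfsg.Agent.S1426

/-!
The structure of `M` when `F(M)` is not a TI-subgroup.
-/

set_option autoImplicit false
set_option linter.style.haveILetI false
set_option linter.unusedSectionVars false
set_option maxHeartbeats 2000000

namespace Cfsg.Agent.Transfer.Loc

open Subgroup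
open scoped commutatorElement Pointwise

universe u

variable {G : Type u} [Group G] [Finite G]

/-- A free operator group on a subgroup of prime order `q` has exponent dividing `q - 1`. -/
theorem exponent_dvd_pred {U₀ Z : Subgroup G} {q : ℕ} [hq : Fact q.Prime] (hZ : Nat.card Z = q)
    (hU : U₀ ≤ normalizer (Z : Set G)) (hfree : ∀ u ∈ U₀, u ≠ 1 → ∀ y ∈ Z, u * y = y * u → y = 1) :
    Monoid.exponent U₀ ∣ q - 1 := by
  refine Monoid.exponent_dvd_of_forall_pow_eq_one fun u => ?_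
  haveI : IsCyclic Z := isCyclic_of_prime_card hZ
  have hcard : Nat.card (MulAut Z) = q - 1 := by
    rw [Nat.card_congr (IsCyclic.mulAutMulEquiv (G := Z)).toEquiv, hZ, Nat.card_eq_fintype_card,
      ZMod.card_units_eq_totient, Nat.totient_prime hq.out]
  set φ : U₀ →* MulAut Z := (Subgroup.normalizerMonoidHom Z).comp (Subgroup.inclusion hU) with hφ
  have h1 : φ (u ^ (q - 1)) = 1 := by rw [map_pow, ← hcard, pow_card_eq_one']
  by_contra hne
  obtain ⟨y, hy, hy1⟩ := (bot_or_exists_ne_one Z).resolve_left fun e =>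
    hq.out.ne_one (by rw [← hZ, e, Subgroup.card_bot])
  set v := u ^ (q - 1)
  refine hy1 (hfree v v.2 (fun e => hne (Subtype.ext e)) y hy ?_)
  have h2 : φ v ⟨y, hy⟩ = ⟨y, hy⟩ := by rw [h1]; rfl
  have h3 : (v : G) * y * (v : G)⁻¹ = y := congrArg Subtype.val h2
  exact mul_inv_eq_iff_eq_mul.1 h3

variable (hG : Cfsg.IsMinSimpleOddOrder G) {M : Subgroup G} (hM : IsCoatom M)
include hG hM

/-- The first consequences of `F(M) ∩ F(M)^g ≠ 1`. -/
theorem fitting_meet_setup {g : G} (hg : g ∉ M)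
    (hX : Cfsg.fittingOf M ⊓ (Cfsg.fittingOf M).map (MulAut.conj g).toMonoidHom ≠ ⊥) :
    Cfsg.fittingHallOf M = Cfsg.sigmaCore M ∧ Group.IsNilpotent (Cfsg.sigmaCore M) ∧
      (∀ K U : Subgroup G, Cfsg.IsSigmaDecomposition M K U → K = ⊥ ∨ U = ⊥) ∧
      Cfsg.fittingOf M ⊓ (Cfsg.fittingOf M).map (MulAut.conj g).toMonoidHom ≤ Cfsg.sigmaCore M ∧
      IsCyclic ↥(Cfsg.fittingOf M ⊓ (Cfsg.fittingOf M).map (MulAut.conj g).toMonoidHom) ∧
      ∃ (p : ℕ) (_ : Fact p.Prime) (z : G),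
        z ∈ Cfsg.fittingOf M ⊓ (Cfsg.fittingOf M).map (MulAut.conj g).toMonoidHom ∧ z ∈ Cfsg.sigmaCore M ∧
        orderOf z = p ∧ p ∈ Cfsg.sigma M ∧ p ∉ Cfsg.beta M ∧ ¬ centralizer ({z} : Set G) ≤ M := by
  set F := Cfsg.fittingOf M with hF
  set X := F ⊓ F.map (MulAut.conj g).toMonoidHom with hXdef
  have hgi : g⁻¹ ∉ M := fun h => hg (by simpa using M.inv_mem h)
  have hback : ∀ x ∈ X, g⁻¹ * x * g⁻¹⁻¹ ∈ F := by
    rintro x ⟨-, y, hy, rfl⟩
    show g⁻¹ * (g * y * g⁻¹) * g⁻¹⁻¹ ∈ F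
    rwa [show g⁻¹ * (g * y * g⁻¹) * g⁻¹⁻¹ = y by group]
  have hnti : ¬ Cfsg.IsTISubset (F : Set G) := fun h => by
    obtain ⟨x, hx, hx1⟩ := (bot_or_exists_ne_one X).resolve_left hX
    have hne : F ≠ ⊥ := fun e => hx1 (by simpa [e] using hx.1)
    refine hx1 (h g⁻¹ (fun hn => hgi ?_) x hx.1 (hback x hx))
    rwa [normalizer_eq_of_coatom hG hM hne (fun e => hM.1 (top_le_iff.1 (e ▸ fittingOf_le M)))
      (le_normalizer_fittingOf M)] at hn
  have hKU : ∀ K U : Subgroup G, Cfsg.IsSigmaDecomposition M K U → K = ⊥ ∨ U = ⊥ := fun K U h => by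
    by_contra hc
    push Not at hc
    exact hnti (fittingOf_ti_of_decomp hG hM h hc.1 hc.2)
  have hH : Cfsg.fittingHallOf M = Cfsg.sigmaCore M := by
    obtain ⟨K, U, h⟩ := exists_decomp_of_max hG hM
    by_contra hne
    exact hnti (Cfsg.Agent.S1357.result hG M hM K U h hne).2.1
  have hXS : X ≤ Cfsg.sigmaCore M := fun x hx => mem_sigmaCore_of_pi hG hM (fittingOf_le M hx.1) fun q hq hd => by
    haveI := Fact.mk hq
    have h1 : orderOf (x ^ (orderOf x / q)) = q := orderOf_pow_orderOf_div (orderOf_pos x).ne' hd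
    exact (fitting_meet_prime hG hM hgi (pow_mem hx.1 _) h1 (hback _ (X.pow_mem hx _))).1
  have hcyc : IsCyclic X := by
    obtain ⟨E, hE, -⟩ := exists_compl_ge hG hM (U := ⊥) bot_le fun s hs hd => by
      rw [Subgroup.card_bot, Nat.dvd_one] at hd; exact absurd hd hs.ne_one
    haveI := ((Cfsg.Agent.S1426.result hG M hM E hE).2.2 g hg).1
    exact Subgroup.isCyclic_of_le (le_inf hXS (inf_le_right.trans (map_mono (fittingOf_le M))) :
      X ≤ Cfsg.sigmaCore M ⊓ M.map (MulAut.conj g).toMonoidHom)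
  refine ⟨hH, hH ▸ fittingHallOf_nilpotent M, hKU, hXS, hcyc, ?_⟩
  obtain ⟨x, hx, hx1⟩ := (bot_or_exists_ne_one X).resolve_left hX
  obtain ⟨p, _, z, hzx, hzo, hzc, -⟩ := exists_prime_zpowers_le hx1
  have hzX : z ∈ X := (zpowers_le.2 hx) hzx
  obtain ⟨hσ, hβ, -⟩ := fitting_meet_prime hG hM hgi hzX.1 hzo (hback z hzX)
  refine ⟨p, ‹_›, z, hzX, hXS hzX, hzo, hσ, hβ, fun hC => hgi ?_⟩
  obtain ⟨m, hm, c, hc, e⟩ := (Cfsg.Agent.S1404.result hG M hM p hσ (zpowers z)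
    (IsPGroup.of_card (n := 1) (hzc.trans (pow_one p).symm))
    (fun e => (Fact.out : p.Prime).ne_one (by rw [← hzc, e, Subgroup.card_bot]))
    (zpowers_le.2 (fittingOf_le M hzX.1))).1 g⁻¹ (by
      rw [MonoidHom.map_zpowers, zpowers_le]
      exact fittingOf_le M (hback z hzX))
  rw [e]
  exact M.mul_mem hm (hC (centralizer_le (Set.singleton_subset_iff.2 (mem_zpowers z)) hc))

/-- The Sylow structure of `M_σ` when an element of prime order has its centraliser outside `M`. -/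
theorem support_sylows (hnil : Group.IsNilpotent (Cfsg.sigmaCore M)) {p : ℕ} [hp : Fact p.Prime] {z : G}
    (hz : z ∈ Cfsg.sigmaCore M) (hzo : orderOf z = p) (hC : ¬ centralizer ({z} : Set G) ≤ M) {P : Subgroup G}
    (hP : Grp.IsSylowIn p P (Cfsg.sigmaCore M)) :
    (∀ (q : ℕ), Fact q.Prime → q ≠ p → ∀ Q, Grp.IsSylowIn q Q (Cfsg.sigmaCore M) →
      IsMulCommutative Q ∧ Cfsg.PRankLE q 2 Q ∧ (¬ IsMulCommutative P → IsCyclic Q)) ∧
    (IsMulCommutative P → Cfsg.PRankLE p 2 P) ∧ ¬ Cfsg.PRankLE p 1 P ∧ z ∈ P ∧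
    (¬ IsMulCommutative P → Nat.card (omZ p P) = p ∧ z ∉ omZ p P) := by
  haveI := solvable_of_ne_top hG hM.1
  have hz1 : z ≠ 1 := fun e => hp.out.ne_one (by rw [← hzo, e, orderOf_one])
  obtain ⟨N, hsup, huniq, hfix, -, hτ⟩ := support_unique hG hM hz hz1 hC
  haveI := solvable_of_ne_top hG hsup.hN.1
  have hτp : p ∈ Cfsg.tau2 N := hτ p hp.out (by rw [hzo])
  have hSM : Cfsg.sigmaCore M ≤ M := TransHyp.piCoreOf_le M
  have hσ : ∀ q : ℕ, q.Prime → q ∣ Nat.card (Cfsg.sigmaCore M) → q ∈ Cfsg.sigma M := fun q hq hd =>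
    TransHyp.piCoreOf_primes (π := Cfsg.sigma M) (X := M) hq hd
  have hpσ : p ∈ Cfsg.sigma M := hσ p hp.out (hzo ▸ Subgroup.orderOf_dvd_natCard _ hz)
  have hMsyl : ∀ (q : ℕ) [Fact q.Prime] (Q : Subgroup G), Grp.IsSylowIn q Q (Cfsg.sigmaCore M) →
      q ∈ Cfsg.sigma M → Grp.IsSylowIn q Q M ∧ M ≤ normalizer (Q : Set G) := fun q _ Q hQ hq =>
    ⟨sylowIn_trans hQ hSM ((isPiHallOf_piCore hG hM (alpha_subset_sigma hG hM) Set.Subset.rfl).2.2 q Fact.out hq),
      (TransHyp.le_normalizer_piCoreOf M).trans (normalizer_le_sylow hnil hQ)⟩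
  obtain ⟨hPM, hMP⟩ := hMsyl p P hP hpσ
  have hzP : z ∈ P := by
    have h1 := hP.eq_of_le (le_sup_right : P ≤ zpowers z ⊔ P) (sup_le (zpowers_le.2 hz) hP.1)
      ((IsPGroup.of_card (n := 1) (by rw [Nat.card_zpowers, hzo, pow_one]) : IsPGroup p (zpowers z)).to_sup_of_normal_right'
        hP.2.1 ((zpowers_le.2 (hSM hz)).trans hMP))
    rw [h1]
    exact mem_sup_left (mem_zpowers z)
  obtain ⟨-, hidx⟩ := sigma_sylow hG hM hpσ hPM
  set PG : Sylow p G := hP.2.1.toSylow hidx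
  have hzN : z ∈ N := hsup.le (mem_centralizer_singleton_iff.2 rfl)
  have hE := hsup.compl
  haveI := isSolvable_of_le (inf_le_left : M ⊓ N ≤ M)
  have hzE : z ∈ M ⊓ N := ⟨hSM hz, hzN⟩
  have hzc : Nat.card (zpowers z) = p := by rw [Nat.card_zpowers, hzo]
  obtain ⟨T, hT, -⟩ := exists_sylowIn_ge (zpowers_le.2 hzE)
    (IsPGroup.of_card (n := 1) (hzc.trans (pow_one p).symm) : IsPGroup p (zpowers z))
  obtain ⟨A, hAT, hA, hA2⟩ := tau2_plane hG hsup.hN hE hτp hT
  have hAE : A ≤ M ⊓ N := hAT.trans hT.1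
  obtain ⟨⟨-, hlines⟩, -, -⟩ := Cfsg.Agent.S1418.result hG N hsup.hN (M ⊓ N) hE p hτp A ⟨hAE, hA, hA2⟩
  have hzA : zpowers z ≤ A := hlines _ (zpowers_le.2 hzE) hzc
  have hAP : A ≤ P := by
    have h1 := hPM.eq_of_le (le_sup_right : P ≤ A ⊔ P) (sup_le (hAE.trans inf_le_left) hPM.1)
      ((Grp.elemAb_isPGroup hA).to_sup_of_normal_right' hP.2.1 ((hAE.trans inf_le_left).trans hMP))
    rw [h1]
    exact le_sup_left
  have hsylN : ∀ (q : ℕ) [Fact q.Prime], q ∈ Cfsg.tau2 N → ∀ Q : Subgroup G, Q ≤ N → IsPGroup q Q →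
      IsMulCommutative Q := by
    intro q _ hq Q hQN hQ
    obtain ⟨T', hT'⟩ := Grp.exists_isSylowIn q (M ⊓ N)
    obtain ⟨B, hBT, hB, hB2⟩ := tau2_plane hG hsup.hN hE hq hT'
    obtain ⟨W, hW, hQW⟩ := exists_sylowIn_ge hQN hQ
    obtain ⟨W₀, rfl⟩ := Grp.isSylowIn_iff.1 hW
    haveI := ((Cfsg.Agent.S1417.result hG N hsup.hN q hq B ⟨(hBT.trans hT'.1).trans inf_le_right, hB, hB2⟩).2.1 W₀).1
    haveI : IsMulCommutative ↥((W₀ : Subgroup N).map N.subtype) := Subgroup.map_isMulCommutative _ _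
    exact le_centralizer_iff_isMulCommutative.1 (hQW.trans
      ((le_centralizer_iff_isMulCommutative.2 inferInstance).trans (centralizer_le hQW)))
  have hna : ¬ IsMulCommutative P → ∀ S : Sylow p G, ¬ IsMulCommutative (S : Subgroup G) := fun hne S h => hne (by
    haveI := h
    have h1 : IsMulCommutative (PG : Subgroup G) :=
      ⟨⟨fun a b => (PG.equiv S).injective (by rw [map_mul, map_mul]; exact h.is_comm.comm _ _)⟩⟩
    exact h1)
  refine ⟨fun q _ hqp Q hQ => ?_, fun hab => ?_, not_prank_of_elem hAP hA (by rw [hA2]), hzP, fun hne => ?_⟩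
  · -- the other primes
    have hqp' : q.Prime := Fact.out
    rcases eq_or_ne Q ⊥ with rfl | hQ1
    · exact ⟨⟨⟨fun a b => Subsingleton.elim _ _⟩⟩, fun B _ _ => by
        rw [Subgroup.eq_bot_of_subsingleton B, Subgroup.card_bot]; exact Nat.one_le_pow _ _ hqp'.pos,
        fun _ => inferInstance⟩
    have hqσ := hσ q hqp' ((dvd_card_of_pGroup hQ.2.1 hQ1).trans (card_dvd_of_le hQ.1))
    have hQN : Q ≤ N := fun x hx => hsup.le (mem_centralizer_singleton_iff.2
      (TypeP.commute_of_coprime_orderOf hnil (hQ.1 hx) hz ((coprime_O hqp hQ.2.1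
        (IsPGroup.of_card (n := 1) (hzc.trans (pow_one p).symm) : IsPGroup p (zpowers z))).coprime_dvd_left
          (Subgroup.orderOf_dvd_natCard _ hx) |>.coprime_dvd_right (hzo ▸ hzc ▸ dvd_rfl))))
    have hqN : q ∉ Cfsg.sigma N := fun h => by
      obtain ⟨g, hg⟩ := sigma_conj_of_common hG hM hsup.hN hqσ h
      exact hsup.nconj g hg
    have hrk : Cfsg.PRankLE q 2 N := by
      by_contra h
      exact hqN (alpha_subset_sigma hG hsup.hN ⟨hqp', h⟩)
    refine ⟨?_, prankLE_mono hQN hrk, ?_⟩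
    · by_cases hc : IsCyclic Q
      · haveI := hc; exact IsCyclic.isMulCommutative
      · exact hsylN q (tau2_of_not_rank_one hG hsup.hN hqN fun h => not_prank_one_of_not_cyclic hG
          (ne_two hG ((dvd_card_of_pGroup hQ.2.1 hQ1).trans (card_subgroup_dvd_card Q))) hQ.2.1 hc
          (prankLE_mono hQN h)) Q hQN hQ.2.1
    · intro hne
      by_contra hc
      have h1 := tau2_of_not_rank_one hG hsup.hN hqN fun h => not_prank_one_of_not_cyclic hG
          (ne_two hG ((dvd_card_of_pGroup hQ.2.1 hQ1).trans (card_subgroup_dvd_card Q))) hQ.2.1 hc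
          (prankLE_mono hQN h)
      rw [(Cfsg.Agent.S1419.result hG N hsup.hN (M ⊓ N) hE p hτp (hna hne) A ⟨hAE, hA, hA2⟩).1] at h1
      exact hqp h1
  · haveI := hab
    exact prankLE_mono ((le_centralizer_iff_isMulCommutative.2 hab).trans
      ((centralizer_le (Set.singleton_subset_iff.2 hzP)).trans hsup.le)) hτp.2.2.1
  · obtain ⟨-, -, hfree⟩ := Cfsg.Agent.S1419.result hG N hsup.hN (M ⊓ N) hE p hτp (hna hne) A ⟨hAE, hA, hA2⟩
    obtain ⟨N', hsup', hNz, -, -⟩ := support_line hG hM hz (mem_zpowers z) hzo (by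
      rwa [centralizer_zpowers_eq])
    obtain rfl : N' = N := huniq N' hsup'.hN hsup'.le
    have hexc : Exc N' p A (zpowers z) := ⟨hG, hsup.hN, hτp.2.1, hAE.trans inf_le_right,
      IsMaxPlane.of_sigma' hG hsup.hN hτp.2.1 (hAE.trans inf_le_right) hA hA2, hzA, hzc, hNz⟩
    obtain ⟨hZc, -, hZne, -⟩ := hexc.exists_mover (S := PG) hAP (hna hne PG)
    refine ⟨hZc, fun h => hZne ?_⟩
    exact (Subgroup.eq_of_le_of_card_ge (zpowers_le.2 h : zpowers z ≤ omZ p P) (hZc.trans hzc.symm).le).symm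

/-- The data of the non-TI case. -/
structure NonTIData (M : Subgroup G) (p : ℕ) (P : Subgroup G) : Prop where
  hnil : Group.IsNilpotent (Cfsg.sigmaCore M)
  hH : Cfsg.fittingHallOf M = Cfsg.sigmaCore M
  hKU : ∀ K U : Subgroup G, Cfsg.IsSigmaDecomposition M K U → K = ⊥ ∨ U = ⊥
  sylow : Grp.IsSylowIn p P (Cfsg.sigmaCore M)
  memσ : p ∈ Cfsg.sigma M
  notβ : p ∉ Cfsg.beta M
  not_rank_one : ¬ Cfsg.PRankLE p 1 P
  others : ∀ q : ℕ, Fact q.Prime → q ≠ p → ∀ Q, Grp.IsSylowIn q Q (Cfsg.sigmaCore M) →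
    IsMulCommutative Q ∧ Cfsg.PRankLE q 2 Q ∧ (¬ IsMulCommutative P → IsCyclic Q)
  rank_of_comm : IsMulCommutative P → Cfsg.PRankLE p 2 P
  line : ¬ IsMulCommutative P → Nat.card (omZ p P) = p

/-- The non-TI case gives the data. -/
theorem exists_nonTIData {g : G} (hg : g ∉ M)
    (hX : Cfsg.fittingOf M ⊓ (Cfsg.fittingOf M).map (MulAut.conj g).toMonoidHom ≠ ⊥) :
    ∃ (p : ℕ) (_ : Fact p.Prime) (P : Subgroup G), NonTIData M p P := by
  haveI := solvable_of_ne_top hG hM.1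
  obtain ⟨hH, hnil, hKU, -, -, p, _, z, -, hzS, hzo, hσ, hβ, hC⟩ := fitting_meet_setup hG hM hg hX
  obtain ⟨P, hP⟩ := Grp.exists_isSylowIn p (Cfsg.sigmaCore M)
  obtain ⟨h1, h2, h3, -, h5⟩ := support_sylows hG hM hnil hzS hzo hC hP
  exact ⟨p, ‹_›, P, hnil, hH, hKU, hP, hσ, hβ, h3, h1, h2, fun h => (h5 h).1⟩

omit hG hM in
/-- Every element of prime power order of a nilpotent group lies in its Sylow subgroup. -/
theorem le_of_pgroup_nilpotent {S Q B : Subgroup G} {q : ℕ} [Fact q.Prime] (hS : Group.IsNilpotent S)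
    (hQ : Grp.IsSylowIn q Q S) (hB : B ≤ S) (hBq : IsPGroup q B) : B ≤ Q := by
  rw [hQ.eq_of_le (le_sup_right : Q ≤ B ⊔ Q) (sup_le hB hQ.1)
    (hBq.to_sup_of_normal_right' hQ.2.1 (hB.trans (le_normalizer.trans (normalizer_le_sylow hS hQ))))]
  exact le_sup_left

namespace NonTIData

variable {p : ℕ} [hp : Fact p.Prime] {P : Subgroup G} (h : NonTIData M p P)
include h

theorem dvd_card : p ∣ Nat.card (Cfsg.sigmaCore M) :=
  (dvd_card_of_pGroup h.sylow.2.1 fun e => h.not_rank_one (by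
    subst e; intro B _ _; rw [Subgroup.eq_bot_of_subsingleton B, Subgroup.card_bot]
    exact Nat.one_le_pow _ _ hp.out.pos)).trans (card_dvd_of_le h.sylow.1)

theorem sylow_M {q : ℕ} [Fact q.Prime] {Q : Subgroup G} (hQ : Grp.IsSylowIn q Q (Cfsg.sigmaCore M))
    (hq : q ∣ Nat.card (Cfsg.sigmaCore M)) : Grp.IsSylowIn q Q M ∧ M ≤ normalizer (Q : Set G) :=
  ⟨sylowIn_trans hQ (TransHyp.piCoreOf_le M) ((isPiHallOf_piCore hG hM (alpha_subset_sigma hG hM)
    Set.Subset.rfl).2.2 q Fact.out (TransHyp.piCoreOf_primes (π := Cfsg.sigma M) (X := M) Fact.out hq)),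
    (TransHyp.le_normalizer_piCoreOf M).trans (normalizer_le_sylow h.hnil hQ)⟩

/-- No prime of `M_σ` lies in `β(M)`. -/
theorem not_beta {q : ℕ} [hq : Fact q.Prime] (hd : q ∣ Nat.card (Cfsg.sigmaCore M)) : q ∉ Cfsg.beta M := by
  intro hβ
  by_cases hqp : q = p
  · exact h.notβ (hqp ▸ hβ)
  obtain ⟨Q, hQ⟩ := Grp.exists_isSylowIn q (Cfsg.sigmaCore M)
  obtain ⟨hQM, hMQ⟩ := h.sylow_M hG hM hQ hd
  obtain ⟨D, hDM, hD, hD2⟩ := exists_elem_of_not_prank hβ.1.2
  have h1 := hQM.eq_of_le (le_sup_right : Q ≤ D ⊔ Q) (sup_le hDM hQM.1)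
    ((Grp.elemAb_isPGroup hD).to_sup_of_normal_right' hQ.2.1 (hDM.trans hMQ))
  exact not_prank_of_elem (h1 ▸ le_sup_left : D ≤ Q) hD hD2 (h.others q hq hqp Q hQ).2.1

/-- `M' ≤ F(M)`. -/
theorem derived_le_fitting : ⁅M, M⁆ ≤ Cfsg.fittingOf M := by
  haveI := solvable_of_ne_top hG hM.1
  obtain ⟨E, hE, -⟩ := exists_compl_ge hG hM (U := ⊥) bot_le fun s hs hd => by
    rw [Subgroup.card_bot, Nat.dvd_one] at hd; exact absurd hd hs.ne_one
  haveI : Group.IsSolvable E := isSolvable_of_le hE.1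
  set S := Cfsg.sigmaCore M with hS
  have hMS : M ≤ normalizer (S : Set G) := TransHyp.le_normalizer_piCoreOf M
  have hEC : ⁅E, E⁆ ≤ centralizer (S : Set G) := by
    refine le_centralizer_iff.1 ((Grp.le_of_forall_sylow
      (inf_le_left : S ⊓ centralizer ((⁅E, E⁆ : Subgroup G) : Set G) ≤ S) fun q hq => ?_).trans inf_le_right)
    obtain ⟨Q, hQ⟩ := Grp.exists_isSylowIn q S
    refine ⟨Q, hQ, le_inf hQ.1 ?_⟩
    rcases eq_or_ne Q ⊥ with hQ1 | hQ1
    · rw [hQ1]; exact bot_le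
    have hd : q ∣ Nat.card S := (dvd_card_of_pGroup hQ.2.1 hQ1).trans (card_dvd_of_le hQ.1)
    obtain ⟨hQM, hMQ⟩ := h.sylow_M hG hM hQ hd
    obtain ⟨Q₀, rfl⟩ := Grp.isSylowIn_iff.1 hQM
    have hqσ : q ∈ Cfsg.sigma M := TransHyp.piCoreOf_primes (π := Cfsg.sigma M) (X := M) hq.out hd
    have hQn : Cfsg.IsNarrow q ↥((Q₀ : Subgroup M).map M.subtype) :=
      narrow_equiv ((Q₀ : Subgroup M).equivMapOfInjective _ M.subtype_injective)
        (sylow_narrow hG hM hqσ.2.1 (h.not_beta hG hM hd) Q₀)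
    exact le_centralizer_iff.1 (derived_centralizes_narrow hG.1
      (ne_two hG (hqσ.2.1.trans (card_subgroup_dvd_card M))) hQ.2.1 hQn (hE.1.trans hMQ)
      fun hd' => compl_prime hG hM hE hq.out hd' hqσ)
  have hEM : ⁅E, E⁆ ≤ M := E.commutator_le_self.trans hE.1
  have h1 : ⁅M, M⁆ ≤ ⁅E, E⁆ ⊔ S := by
    refine le_trans ?_ (qpre_le (N := S) le_sup_right (qimg_mono (le_sup_left : ⁅E, E⁆ ≤ ⁅E, E⁆ ⊔ S)))
    rw [le_qpre_iff (M.commutator_le_self.trans hMS), qimg_commutator hMS hMS, ← compl_qimg hE,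
      ← qimg_commutator (hE.1.trans hMS) (hE.1.trans hMS)]
  refine h1.trans (sup_le ?_ ?_)
  · rw [(Cfsg.Agent.S1356.result hG M hM).2.1, h.hH]
    exact le_trans (le_inf hEM hEC) le_sup_left
  · exact h.hH.ge.trans (fittingHallOf_le_fitting M)

/-- An abelian Sylow subgroup makes `M_σ` abelian of rank two. -/
theorem comm_case (hab : IsMulCommutative P) :
    IsMulCommutative (Cfsg.sigmaCore M) ∧ Cfsg.RankLE 2 (Cfsg.sigmaCore M) ∧
      ¬ Cfsg.RankLE 1 (Cfsg.sigmaCore M) ∧ Cfsg.kappa M = ∅ := by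
  haveI := solvable_of_ne_top hG hM.1
  haveI : Group.IsSolvable (Cfsg.sigmaCore M) := isSolvable_of_le (TransHyp.piCoreOf_le M)
  set S := Cfsg.sigmaCore M with hS
  have hall : ∀ (q : ℕ) [Fact q.Prime] (Q : Subgroup G), Grp.IsSylowIn q Q S →
      IsMulCommutative Q ∧ Cfsg.PRankLE q 2 Q := by
    intro q hq Q hQ
    by_cases hqp : q = p
    · subst hqp
      have hQP : Q = P := le_antisymm (le_of_pgroup_nilpotent h.hnil h.sylow hQ.1 hQ.2.1)
        (le_of_pgroup_nilpotent h.hnil hQ h.sylow.1 h.sylow.2.1)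
      exact hQP ▸ ⟨hab, h.rank_of_comm hab⟩
    · exact ⟨(h.others q hq hqp Q hQ).1, (h.others q hq hqp Q hQ).2.1⟩
  have hcomm : IsMulCommutative S := by
    refine le_centralizer_iff_isMulCommutative.1 ((Grp.le_of_forall_sylow
      (inf_le_left : S ⊓ centralizer (S : Set G) ≤ S) fun q hq => ?_).trans inf_le_right)
    obtain ⟨Q, hQ⟩ := Grp.exists_isSylowIn q S
    refine ⟨Q, hQ, le_inf hQ.1 (le_centralizer_iff.1 ((Grp.le_of_forall_sylow
      (inf_le_left : S ⊓ centralizer (Q : Set G) ≤ S) fun r hr => ?_).trans inf_le_right))⟩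
    obtain ⟨R, hR⟩ := Grp.exists_isSylowIn r S
    refine ⟨R, hR, le_inf hR.1 ?_⟩
    by_cases hrq : r = q
    · subst hrq
      exact (le_of_pgroup_nilpotent h.hnil hQ hR.1 hR.2.1).trans
        (le_centralizer_iff_isMulCommutative.2 (hall r Q hQ).1)
    · intro a ha
      exact mem_centralizer_iff.2 fun b hb => TypeP.commute_of_coprime_orderOf h.hnil (hQ.1 hb) (hR.1 ha)
        (((coprime_O (Ne.symm hrq) hQ.2.1 hR.2.1).coprime_dvd_left (Subgroup.orderOf_dvd_natCard _ hb)).coprime_dvd_right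
          (Subgroup.orderOf_dvd_natCard _ ha))
  refine ⟨hcomm, fun q hq B hBc hBp => ?_, fun hr => h.not_rank_one fun B hBc hBp => ?_, ?_⟩
  · haveI := Fact.mk hq
    haveI := hBc
    have hel : Cfsg.IsElementaryAbelian q (B.map S.subtype) :=
      ⟨Subgroup.map_isMulCommutative _ _, by rintro _ ⟨d, hd, rfl⟩; exact congrArg Subtype.val (hBp d hd)⟩
    obtain ⟨Q, hQ⟩ := Grp.exists_isSylowIn q S
    have hBQ := le_of_pgroup_nilpotent h.hnil hQ (map_subtype_le B) (Grp.elemAb_isPGroup hel)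
    have := (hall q Q hQ).2 ((B.map S.subtype).subgroupOf Q)
      (le_centralizer_iff_isMulCommutative.1 fun a ha => mem_centralizer_iff.2 fun b hb => Subtype.ext
        (show (b : G) * a = a * b from
          mem_centralizer_iff.1 (le_centralizer_iff_isMulCommutative.2 hel.1 ha) _ hb))
      (fun a ha => Subtype.ext (hel.2 a ha))
    rwa [Nat.card_congr (subgroupOfEquivOfLe hBQ).toEquiv,
      Subgroup.card_map_of_injective S.subtype_injective] at this
  · haveI := hBc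
    have := hr p hp.out (B.map (Subgroup.inclusion h.sylow.1)) (Subgroup.map_isMulCommutative _ _)
      (by rintro _ ⟨d, hd, rfl⟩; rw [← map_pow, hBp d hd, map_one])
    rwa [Subgroup.card_map_of_injective (inclusion_injective _)] at this
  · by_contra hne
    obtain ⟨K, U, hKU⟩ := exists_decomp_of_max hG hM
    obtain ⟨q, hq⟩ := Set.nonempty_iff_ne_empty.2 hne
    have hK1 : K ≠ ⊥ := fun e => hKU.hall.2.2 q hq.1 hq (by rw [e, Subgroup.relIndex_bot_left]; exact hq.2.1)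
    obtain ⟨hder, hsD⟩ := Cfsg.Agent.S1365.result hG M hM K U hKU hK1
    obtain ⟨-, hs1, -, -⟩ := Cfsg.Agent.S1364.result hG M hM K U hKU hK1
    rw [hder, (h.hKU K U hKU).resolve_left hK1, bot_sup_eq] at hsD
    refine hs1 (le_bot_iff.1 (hsD.trans ?_))
    rw [le_bot_iff, commutator_eq_bot_iff_le_centralizer]
    exact le_centralizer_iff_isMulCommutative.2 hcomm

/-- A normal subgroup of order `q` for each prime `q` of `M_σ`. -/
theorem exists_line (hna : ¬ IsMulCommutative P) {q : ℕ} [hq : Fact q.Prime]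
    (hd : q ∣ Nat.card (Cfsg.sigmaCore M)) :
    ∃ Z : Subgroup G, Nat.card Z = q ∧ Z ≤ Cfsg.sigmaCore M ∧ M ≤ normalizer (Z : Set G) ∧
      (q = p → Z = omZ p P) := by
  by_cases hqp : q = p
  · subst hqp
    exact ⟨omZ q P, h.line hna, (omZ_le P).trans h.sylow.1,
      (h.sylow_M hG hM h.sylow hd).2.trans (normalizer_le_omZ P), fun _ => rfl⟩
  obtain ⟨Q, hQ⟩ := Grp.exists_isSylowIn q (Cfsg.sigmaCore M)
  haveI := (h.others q hq hqp Q hQ).2.2 hna
  refine ⟨omZ q Q, le_antisymm (card_le_prime_of_cyclic (Subgroup.isCyclic_of_le (omZ_le Q)) (omZ_elem Q).2) ?_,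
    (omZ_le Q).trans hQ.1, (h.sylow_M hG hM hQ hd).2.trans (normalizer_le_omZ Q), fun e => absurd e hqp⟩
  exact Nat.le_of_dvd Nat.card_pos (dvd_card_of_pGroup (hQ.2.1.to_le (omZ_le Q))
    (omZ_ne_bot hQ.2.1 (sylow_ne_bot_of_dvd hQ hd)))

/-- The `p'`-core of `M_F` is cyclic. -/
theorem core_cyclic (hna : ¬ IsMulCommutative P) :
    IsCyclic (Cfsg.pPrimeCore p ↥(Cfsg.fittingHallOf M)) := by
  rw [h.hH]
  set S := Cfsg.sigmaCore M
  haveI := h.hnil
  have hZ : IsZGroup ↥(Cfsg.pPrimeCore p S) := ⟨fun q hq T => by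
    haveI := Fact.mk hq
    set T' := ((T : Subgroup ↥(Cfsg.pPrimeCore p S)).map (Cfsg.pPrimeCore p S).subtype).map S.subtype
    have hTp : IsPGroup q T' := (T.isPGroup'.map _).map _
    have e : ↥(T : Subgroup ↥(Cfsg.pPrimeCore p S)) ≃* ↥T' :=
      ((T : Subgroup ↥(Cfsg.pPrimeCore p S)).equivMapOfInjective _ (Cfsg.pPrimeCore p S).subtype_injective).trans
        (Subgroup.equivMapOfInjective _ _ S.subtype_injective)
    rcases eq_or_ne T' ⊥ with h0 | h0
    · haveI : IsCyclic T' := by rw [h0]; infer_instance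
      exact isCyclic_of_surjective _ e.symm.surjective
    have hqp : q ≠ p := fun e' => by
      subst e'
      have h1 : q ∣ Nat.card ↥(O' q S) := (dvd_card_of_pGroup hTp h0).trans (card_dvd_of_le (by
        rw [O'_eq]; exact map_mono (map_subtype_le _)))
      exact hq.ne_one (Nat.eq_one_of_dvd_coprimes (O'_coprime S) h1 dvd_rfl)
    obtain ⟨Q, hQ⟩ := Grp.exists_isSylowIn q S
    haveI := (h.others q ⟨hq⟩ hqp Q hQ).2.2 hna
    haveI : IsCyclic T' := Subgroup.isCyclic_of_le (le_of_pgroup_nilpotent h.hnil hQ (map_subtype_le _) hTp)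
    exact isCyclic_of_surjective _ e.symm.surjective⟩
  infer_instance

end NonTIData

end Cfsg.Agent.Transfer.Loc
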