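import Cfsg.Agent.Lib.Transfer.Local.Hyperplane
import Cfsg.Agent.Lib.Transfer.Local.AlphaCentral
import Cfsg.Agent.Lib.Transfer.PGroups
import Cfsg.Agent.Lib.Transfer.MaxAbelianExponent
import Cfsg.Agent.S1443

/-!
The critical configuration for the theorem on `p`-length one with Z-group fixed points.
-/

set_option autoImplicit false
set_option linter.style.haveILetI false
set_option linter.unusedSectionVars false

namespace Cfsg.Agent.Transfer.Loc

open Subgroup
open scoped commutatorElement Pointwise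

universe u

variable {G : Type u} [Group G] [Finite G]

theorem le_normalizer_commutator' {A U V : Subgroup G} (hU : A ≤ normalizer (U : Set G))
    (hV : A ≤ normalizer (V : Set G)) : A ≤ normalizer ((⁅U, V⁆ : Subgroup G) : Set G) := by
  intro a ha
  rw [Grp.mem_normalizer_iff_smul, ← Grp.map_conj_eq_smul, Subgroup.map_commutator, Grp.map_conj_eq_smul,
    Grp.map_conj_eq_smul, Grp.normalizer_le_smul hU ha, Grp.normalizer_le_smul hV ha]

theorem le_normalizer_inf' {A U V : Subgroup G} (hU : A ≤ normalizer (U : Set G))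
    (hV : A ≤ normalizer (V : Set G)) : A ≤ normalizer ((U ⊓ V : Subgroup G) : Set G) :=
  fun _ ha => Subgroup.mem_normalizer_iff.2 fun y =>
    and_congr (Subgroup.mem_normalizer_iff.1 (hU ha) y) (Subgroup.mem_normalizer_iff.1 (hV ha) y)

theorem le_normalizer_centralizer' {A U : Subgroup G} (hU : A ≤ normalizer (U : Set G)) :
    A ≤ normalizer ((centralizer (U : Set G) : Subgroup G) : Set G) :=
  hU.trans normalizer_le_normalizer_centralizer

theorem isCyclic_of_card_le_prime {p : ℕ} [hp : Fact p.Prime] {W : Subgroup G} (hW : IsPGroup p W)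
    (h : Nat.card W ≤ p) : IsCyclic W := by
  obtain ⟨n, hn⟩ := IsPGroup.iff_card.1 hW
  have hn1 : n ≤ 1 := (Nat.pow_le_pow_iff_right hp.out.one_lt).1 (by rw [pow_one, ← hn]; exact h)
  rcases Nat.le_one_iff_eq_zero_or_eq_one.1 hn1 with rfl | rfl
  · rw [card_eq_one.1 (by simpa using hn : Nat.card W = 1)]; infer_instance
  · exact isCyclic_of_prime_card (p := p) (by rwa [pow_one] at hn)

variable {p q r : ℕ} [hp : Fact p.Prime] [hq : Fact q.Prime] [hr : Fact r.Prime]

/-- In the critical configuration the operator of prime order has no fixed points on the `p`-subgroup. -/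
theorem config_fixed_bot (hpq : p ≠ q) (hpr : p ≠ r) (hqr : q ≠ r) (hq2 : q ≠ 2) {P Q S R R₀ : Subgroup G}
    (hP : Cfsg.IsElementaryAbelian p P) (hQ : IsPGroup q Q) (hS : IsPGroup p S) (hR₀R : R₀ ≤ R)
    (hR₀ : Nat.card R₀ = r) (hQP : Q ≤ normalizer (P : Set G)) (hSP : S ≤ normalizer (P : Set G))
    (hRP : R ≤ normalizer (P : Set G)) (hSQ : S ≤ normalizer (Q : Set G)) (hRQ : R ≤ normalizer (Q : Set G))
    (hRS : R ≤ normalizer (S : Set G))
    (hfaith : Q ⊓ centralizer (P : Set G) = ⊥) (hPS : P ⊓ S = ⊥) (hSR : ⁅S, R⁆ = S) (hQS : ⁅Q, S⁆ = Q)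
    (hQ1 : Q ≠ ⊥) (hZ : IsZGroup ↥((P ⊔ Q ⊔ S) ⊓ centralizer (R₀ : Set G))) :
    ⁅Q, R₀⁆ ≠ ⊥ ∧ P ⊓ centralizer (R₀ : Set G) ≠ ⊥ ∧ S ⊓ centralizer (R₀ : Set G) = ⊥ := by
  have hne : ⁅Q, R₀⁆ ≠ ⊥ := by
    intro e
    have hQc : IsCyclic Q := isCyclic_of_le_zgroup hZ
      (le_inf (le_sup_right.trans le_sup_left) (commutator_eq_bot_iff_le_centralizer.1 e)) hQ
    have h1 := commutator_le_centralizer_of_cyclic hQc hSQ hRQ
    rw [hSR] at h1
    exact hQ1 (by rw [← hQS]; exact commutator_eq_bot_iff_le_centralizer.2 (le_centralizer_iff.1 h1))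
  have hCP := Cfsg.Agent.Grp.exists_fixed_of_faithful hpq hpr hqr R₀ Q P hR₀ hQ (hR₀R.trans hRQ) hne hP
    (hR₀R.trans hRP) hQP hfaith fun h => absurd h hq2
  refine ⟨hne, hCP, ?_⟩
  by_contra hCS
  set U := P ⊓ centralizer (R₀ : Set G)
  set V := S ⊓ centralizer (R₀ : Set G)
  have hUV : IsPGroup p (U ⊔ V : Subgroup G) :=
    ((Grp.elemAb_isPGroup hP).to_sup_of_normal_left' hS hSP).to_le (sup_le_sup inf_le_left inf_le_left)
  haveI := isCyclic_of_le_zgroup hZ (sup_le (le_inf (inf_le_left.trans (le_sup_left.trans le_sup_left)) inf_le_right)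
    (le_inf (inf_le_left.trans le_sup_right) inf_le_right)) hUV
  obtain ⟨u, hu⟩ := exists_prime_orderOf_dvd_card' (G := U) p (by
    obtain ⟨n, hn⟩ := IsPGroup.iff_card.1 ((Grp.elemAb_isPGroup hP).to_le (inf_le_left : U ≤ P))
    rcases Nat.eq_zero_or_pos n with rfl | h0
    · exact absurd (card_eq_one.1 (show Nat.card U = 1 by rw [hn, pow_zero])) hCP
    · rw [hn]; exact dvd_pow_self p h0.ne')
  obtain ⟨v, hv⟩ := exists_prime_orderOf_dvd_card' (G := V) p (by
    obtain ⟨n, hn⟩ := IsPGroup.iff_card.1 (hS.to_le (inf_le_left : V ≤ S))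
    rcases Nat.eq_zero_or_pos n with rfl | h0
    · exact absurd (card_eq_one.1 (show Nat.card V = 1 by rw [hn, pow_zero])) hCS
    · rw [hn]; exact dvd_pow_self p h0.ne')
  have hu' : orderOf (u : G) = p := by rw [Subgroup.orderOf_coe, hu]
  have hv' : orderOf (v : G) = p := by rw [Subgroup.orderOf_coe, hv]
  have e : (zpowers (u : G)).subgroupOf (U ⊔ V) = (zpowers (v : G)).subgroupOf (U ⊔ V) := cyclic_unique (by
    rw [Nat.card_congr (subgroupOfEquivOfLe (zpowers_le.2 (mem_sup_left u.2))).toEquiv,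
      Nat.card_congr (subgroupOfEquivOfLe (zpowers_le.2 (mem_sup_right v.2))).toEquiv, Nat.card_zpowers, Nat.card_zpowers,
      hu', hv'])
  have huv : (u : G) ∈ zpowers (v : G) := by
    have : (⟨(u : G), mem_sup_left u.2⟩ : ↥(U ⊔ V)) ∈ (zpowers (u : G)).subgroupOf (U ⊔ V) := mem_zpowers _
    rw [e] at this
    exact this
  have h1 : (u : G) ∈ P ⊓ S := ⟨u.2.1, (zpowers_le.2 v.2.1 : zpowers (v : G) ≤ S) huv⟩
  rw [hPS, mem_bot] at h1
  rw [h1, orderOf_one] at hu'
  exact hp.out.ne_one hu'.symm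

/-- The critical configuration does not occur. -/
theorem config_false (hodd : Odd (Nat.card G)) (hpq : p ≠ q) (hpr : p ≠ r) (hqr : q ≠ r) {P Q S R₀ : Subgroup G}
    (hP : Cfsg.IsElementaryAbelian p P) (hQ : IsPGroup q Q) (hS : IsPGroup p S) (hR₀ : Nat.card R₀ = r)
    (hQP : Q ≤ normalizer (P : Set G)) (hSP : S ≤ normalizer (P : Set G)) (hRP : R₀ ≤ normalizer (P : Set G))
    (hSQ : S ≤ normalizer (Q : Set G)) (hRQ : R₀ ≤ normalizer (Q : Set G)) (hRS : R₀ ≤ normalizer (S : Set G))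
    (hfaith : Q ⊓ centralizer (P : Set G) = ⊥) (hfix : P ⊓ centralizer (Q : Set G) = ⊥) (hPS : P ⊓ S = ⊥)
    (hSR : ⁅S, R₀⁆ = S) (hQS : ⁅Q, S⁆ = Q) (hQ1 : Q ≠ ⊥)
    (hminQ : ∀ Y < Q, S ≤ normalizer (Y : Set G) → R₀ ≤ normalizer (Y : Set G) → ⁅Y, S⁆ = ⊥)
    (hminP : ∀ N ≤ P, N ≠ ⊥ → Q ≤ normalizer (N : Set G) → S ≤ normalizer (N : Set G) →
      R₀ ≤ normalizer (N : Set G) → N = P)
    (hZ : IsZGroup ↥((P ⊔ Q ⊔ S) ⊓ centralizer (R₀ : Set G))) : False := by
  classical
  have hqQ : q ∣ Nat.card Q := by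
    obtain ⟨n, hn⟩ := IsPGroup.iff_card.1 hQ
    rcases Nat.eq_zero_or_pos n with rfl | h0
    · exact absurd (card_eq_one.1 (by simpa using hn)) hQ1
    · rw [hn]; exact dvd_pow_self q h0.ne'
  have hq2 : q ≠ 2 := fun e => hodd.not_two_dvd_nat (e ▸ hqQ.trans (card_subgroup_dvd_card Q))
  obtain ⟨hQR, hCP, hCS⟩ := config_fixed_bot hpq hpr hqr hq2 hP hQ hS le_rfl hR₀ hQP hSP hRP hSQ hRQ hRS hfaith
    hPS hSR hQS hQ1 hZ
  have hp2 : p ≠ 2 := by
    obtain ⟨n, hn⟩ := IsPGroup.iff_card.1 ((Grp.elemAb_isPGroup hP).to_le (inf_le_left : P ⊓ centralizer (R₀ : Set G) ≤ P))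
    rcases Nat.eq_zero_or_pos n with rfl | h0
    · exact absurd (card_eq_one.1 (by simpa using hn)) hCP
    · exact fun e => hodd.not_two_dvd_nat (e ▸ (((dvd_pow_self p h0.ne').trans (dvd_of_eq hn.symm)).trans (card_subgroup_dvd_card _)))
  have hcpq : ∀ {A B : Subgroup G}, IsPGroup p A → IsPGroup q B → (Nat.card A).Coprime (Nat.card B) := fun {A B} hA hB => by
    obtain ⟨m, hm⟩ := IsPGroup.iff_card.1 hA
    obtain ⟨n, hn⟩ := IsPGroup.iff_card.1 hB
    rw [hm, hn]; exact Nat.Coprime.pow m n ((Nat.coprime_primes hp.out hq.out).2 hpq)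
  -- the derived subgroup and the centre
  haveI := hQ.isNilpotent
  haveI : Group.IsNilpotent S := hS.isNilpotent
  set Z := Q ⊓ centralizer (Q : Set G) with hZdef
  have hQ'lt : ⁅Q, Q⁆ < Q := Grp.commutator_lt_self_of_solvable inferInstance hQ1
  have hcent : ∀ Y < Q, S ≤ normalizer (Y : Set G) → R₀ ≤ normalizer (Y : Set G) → Y ≤ centralizer (S : Set G) :=
    fun Y hY h1 h2 => commutator_eq_bot_iff_le_centralizer.1 (hminQ Y hY h1 h2)
  have hthree : ∀ Y : Subgroup G, Y ≤ centralizer (S : Set G) → ⁅Y, Q⁆ ≤ centralizer (S : Set G) →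
      Y ≤ centralizer (Q : Set G) := by
    intro Y h1 h2
    have e1 : ⁅⁅S, Y⁆, Q⁆ = ⊥ := by
      rw [commutator_eq_bot_iff_le_centralizer.2 (le_centralizer_iff.1 h1), commutator_bot_left]
    have e2 : ⁅⁅Y, Q⁆, S⁆ = ⊥ := commutator_eq_bot_iff_le_centralizer.2 h2
    have := Subgroup.commutator_commutator_eq_bot_of_rotate e1 e2
    rw [hQS] at this
    exact le_centralizer_iff.1 (commutator_eq_bot_iff_le_centralizer.1 this)
  have hQ'S : ⁅Q, Q⁆ ≤ centralizer (S : Set G) :=
    hcent _ hQ'lt (le_normalizer_commutator' hSQ hSQ) (le_normalizer_commutator' hRQ hRQ)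
  have hQ'Z : ⁅Q, Q⁆ ≤ Z := le_inf hQ'lt.le (hthree _ hQ'S ((commutator_mono hQ'lt.le le_rfl).trans hQ'S))
  have hcomm : ∀ a ∈ Q, ∀ b ∈ Q, ∀ c ∈ Q, Commute ⁅a, b⁆ c := fun a ha b hb c hc =>
    (mem_centralizer_iff.1 (hQ'Z (commutator_mem_commutator ha hb)).2 c hc).symm
  -- exponent `q`
  have hexp : ∀ x ∈ Q, x ^ q = 1 := by
    let T : Subgroup G :=
      { carrier := {x | x ∈ Q ∧ x ^ q = 1}
        one_mem' := ⟨one_mem _, one_pow q⟩
        mul_mem' := by
          rintro x y ⟨hx, hxq⟩ ⟨hy, hyq⟩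
          refine ⟨Q.mul_mem hx hy, ?_⟩
          have hc : ⁅y, x⁆ ^ q = 1 := by
            have h2 : y * x * y⁻¹ = ⁅y, x⁆ * x := by rw [commutatorElement_def]; group
            have h3 : (y * x * y⁻¹) ^ q = 1 := by rw [conj_pow, hxq, mul_one, mul_inv_cancel]
            rwa [h2, (hcomm y hy x hx x hx).mul_pow, hxq, mul_one] at h3
          rw [Grp.mul_pow_class_two (x := x) (y := y) (c := ⁅y, x⁆) (by rw [commutatorElement_def]; group)
            (hcomm y hy x hx x hx) (hcomm y hy x hx y hy) q, hxq, hyq]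
          obtain ⟨m, hm⟩ := hq.out.dvd_choose_self two_ne_zero (by have := hq.out.two_le; omega : 2 < q)
          rw [hm, pow_mul, hc, one_pow, one_mul, one_mul]
        inv_mem' := by rintro x ⟨hx, hxq⟩; exact ⟨Q.inv_mem hx, by rw [inv_pow, hxq, inv_one]⟩ }
    have hTn : ∀ {A : Subgroup G}, A ≤ normalizer (Q : Set G) → A ≤ normalizer (T : Set G) := by
      intro A hA
      refine Grp.PiHall.le_normalizer_of_conj_mem fun a ha x hx => ⟨Grp.mem_conj_normalizer (hA ha) hx.1, ?_⟩
      rw [conj_pow, hx.2, mul_one, mul_inv_cancel]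
    by_contra hne
    push Not at hne
    obtain ⟨x, hx, hxq⟩ := hne
    have hTQ : T < Q := lt_of_le_of_ne (fun y hy => hy.1) fun e => hxq (e ▸ hx : x ∈ T).2
    have hTS := hcent T hTQ (hTn hSQ) (hTn hRQ)
    have hbot : Cfsg.IsElementaryAbelian q (⊥ : Subgroup G) :=
      ⟨inferInstance, fun a ha => by rw [mem_bot.1 ha, one_pow]⟩
    have h := Cfsg.Agent.S1443.result q hq2 Q ⊥ S hQ bot_le hbot hSQ (by
      obtain ⟨m, hm⟩ := IsPGroup.iff_card.1 hS
      rw [hm]; exact ((Nat.coprime_primes hp.out hq.out).2 hpq).pow_left m) fun y hy hyo =>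
      (le_centralizer_iff.1 hTS).trans (centralizer_le (Set.singleton_subset_iff.2
        ⟨hy.1, by rw [← hyo]; exact pow_orderOf_eq_one y⟩))
    exact hQ1 (by rw [← hQS]; exact commutator_eq_bot_iff_le_centralizer.2 (le_centralizer_iff.1 h))
  -- fixed points of `R₀`
  have hCQ : Nat.card ↥(Q ⊓ centralizer (R₀ : Set G)) ≤ q := card_le_prime_of_cyclic
    (isCyclic_of_le_zgroup hZ (inf_le_inf_right _ (le_sup_right.trans le_sup_left)) (hQ.to_le inf_le_left))
    fun x hx => hexp x hx.1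
  have hCPle : Nat.card ↥(P ⊓ centralizer (R₀ : Set G)) ≤ p := card_le_prime_of_cyclic
    (isCyclic_of_le_zgroup hZ (inf_le_inf_right _ (le_sup_left.trans le_sup_left))
      ((Grp.elemAb_isPGroup hP).to_le inf_le_left)) fun x hx => hP.2 x hx.1
  have hCPatom : ∀ U : Subgroup G, U ≤ P ⊓ centralizer (R₀ : Set G) → U ≠ ⊥ → U = P ⊓ centralizer (R₀ : Set G) := by
    intro U hU hU1
    refine Subgroup.eq_of_le_of_card_ge hU (hCPle.trans ?_)
    obtain ⟨n, hn⟩ := IsPGroup.iff_card.1 ((Grp.elemAb_isPGroup hP).to_le (hU.trans inf_le_left))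
    rw [hn]
    exact Nat.le_self_pow (fun e => hU1 (card_eq_one.1 (by rw [hn, e, pow_zero]))) p
  -- centralisers of invariant subgroups of `Q`
  have hWnorm : ∀ {A D : Subgroup G}, A ≤ normalizer (P : Set G) → A ≤ normalizer (D : Set G) →
      A ≤ normalizer ((P ⊓ centralizer (D : Set G) : Subgroup G) : Set G) := fun h1 h2 =>
    le_normalizer_inf' h1 (le_normalizer_centralizer' h2)
  have hinv : ∀ D ≤ Q, Q ≤ normalizer (D : Set G) → S ≤ normalizer (D : Set G) → R₀ ≤ normalizer (D : Set G) →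
      P ⊓ centralizer (D : Set G) ≠ ⊥ → D = ⊥ := by
    intro D hD h1 h2 h3 hne
    have h := hminP _ inf_le_left hne (hWnorm hQP h1) (hWnorm hSP h2) (hWnorm hRP h3)
    rw [eq_bot_iff, ← hfaith]
    exact le_inf hD (le_centralizer_iff.1 (h.ge.trans inf_le_right))
  by_cases hab : ⁅Q, Q⁆ = ⊥
  · -- the abelian case
    have hQc : IsMulCommutative Q := le_centralizer_iff_isMulCommutative.1 (commutator_eq_bot_iff_le_centralizer.1 hab)
    have hQe : Cfsg.IsElementaryAbelian q Q := ⟨hQc, hexp⟩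
    have hpnQ : ¬ q ∣ Nat.card P := fun hd => by
      obtain ⟨n, hn⟩ := IsPGroup.iff_card.1 (Grp.elemAb_isPGroup hP)
      exact hpq ((Nat.prime_dvd_prime_iff_eq hq.out hp.out).1 (hq.out.dvd_of_dvd_pow (hn ▸ hd))).symm
    set L := S ⊔ R₀ with hL
    have hLQ : L ≤ normalizer (Q : Set G) := sup_le hSQ hRQ
    have hLP : L ≤ normalizer (P : Set G) := sup_le hSP hRP
    let Ω : Set (Subgroup G) := {D | D ≤ Q ∧ D.relIndex Q = q ∧ P ⊓ centralizer (D : Set G) ≠ ⊥}
    obtain ⟨D₀, hD₀⟩ : ∃ D, D ∈ Ω := by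
      by_contra hcon
      push Not at hcon
      refine hCP (le_bot_iff.1 (inf_le_left.trans (Grp.le_of_hyperplanes hQe hQ1 P hpnQ hQP fun D hD hi => ?_)))
      exact Classical.byContradiction fun hn => hcon D ⟨hD, hi, fun e => hn e.le⟩
    letI := Grp.conjActSubgroup G
    set O := MulAction.orbit L D₀ with hOdef
    have hOΩ : ∀ D ∈ O, D ∈ Ω := by
      rintro _ ⟨⟨l, hl⟩, rfl⟩
      show MulAut.conj l • D₀ ∈ Ω
      have hlQ := Grp.normalizer_le_smul hLQ hl
      refine ⟨hlQ ▸ Subgroup.pointwise_smul_le_pointwise_smul_iff.2 hD₀.1, ?_, fun e => hD₀.2.2 ?_⟩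
      · rw [← hlQ, Grp.relIndex_smul]; exact hD₀.2.1
      · rw [eq_bot_iff]
        intro w hw
        have hmem : l * w * l⁻¹ ∈ P ⊓ centralizer ((MulAut.conj l • D₀ : Subgroup G) : Set G) := by
          refine ⟨Grp.mem_conj_normalizer (hLP hl) hw.1, mem_centralizer_iff.2 fun y hy => ?_⟩
          rw [SetLike.mem_coe, Grp.mem_smul_conj] at hy
          have h1 := mem_centralizer_iff.1 hw.2 _ hy
          calc y * (l * w * l⁻¹) = l * (l⁻¹ * y * l * w) * l⁻¹ := by group
            _ = l * (w * (l⁻¹ * y * l)) * l⁻¹ := by rw [h1]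
            _ = l * w * l⁻¹ * y := by group
        rw [e, mem_bot, conj_eq_one_iff] at hmem
        exact mem_bot.2 hmem
    have hOodd : Odd (Nat.card O) := by
      rw [Nat.card_congr (MulAction.orbitEquivQuotientStabilizer L D₀), ← Subgroup.index_eq_card]
      exact (hodd.of_dvd_nat (card_subgroup_dvd_card L)).of_dvd_nat (MulAction.stabilizer L D₀).index_dvd_card
    -- fixed members
    have hfixed : ∀ D ∈ Ω, R₀ ≤ normalizer (D : Set G) → ¬ ⁅Q, R₀⁆ ≤ D →
        P ⊓ centralizer (R₀ : Set G) ≤ P ⊓ centralizer (D : Set G) := by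
      intro D hD hRD hne
      set W := P ⊓ centralizer (D : Set G) with hW
      have hC := exists_fixed_of_not_le hpq hpr hqr hq2 hR₀ hQ hRQ (Grp.elemAb_mono hP (inf_le_left : W ≤ P))
        (hWnorm hRP hRD) (hWnorm hQP (fun a ha => centralizer_le_normalizer _ (mem_centralizer_iff.2
          fun b hb => Grp.elemAb_comm hQe b (hD.1 hb) a ha))) fun hle => hD.2.2 (by
          rw [eq_bot_iff, ← hfix]
          refine le_inf inf_le_left ?_
          rw [← sup_eq_of_hyperplane hD.1 hD.2.1 (Grp.commutator_le_left_of_le_normalizer hRQ) hne,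
            Transfer.FrobFix.centralizer_sup]
          exact le_inf inf_le_right (le_centralizer_iff.1 hle))
      rw [← hCPatom (W ⊓ centralizer (R₀ : Set G)) (inf_le_inf_right _ inf_le_left) hC]
      exact inf_le_left
    have huniqK : ∀ D ∈ Ω, ∀ D' ∈ Ω, ⁅Q, R₀⁆ ≤ D → ⁅Q, R₀⁆ ≤ D' → D = D' := by
      intro D hD D' hD' h1 h2
      haveI : Group.IsNilpotent R₀ := (IsPGroup.of_card (n := 1) (by rw [hR₀, pow_one]) : IsPGroup r R₀).isNilpotent
      have hcop : (Nat.card R₀).Coprime (Nat.card Q) := by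
        obtain ⟨m, hm⟩ := IsPGroup.iff_card.1 hQ
        rw [hR₀, hm]; exact ((Nat.coprime_primes hr.out hq.out).2 hqr.symm).pow_right m
      have hsup := Grp.commutator_sup_fixed R₀ Q hRQ hcop (Or.inl inferInstance)
      have hle : Q ⊓ centralizer (R₀ : Set G) ≤ normalizer ((⁅Q, R₀⁆ : Subgroup G) : Set G) :=
        inf_le_left.trans (Grp.left_le_normalizer_commutator R₀ Q)
      have hdvd := Nat.le_of_dvd (Nat.mul_pos Nat.card_pos Nat.card_pos) (Grp.card_sup_dvd_mul hle)
      rw [sup_comm, hsup] at hdvd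
      have key : ∀ D ∈ Ω, ⁅Q, R₀⁆ ≤ D → ⁅Q, R₀⁆ = D := by
        intro D hD h1
        refine Subgroup.eq_of_le_of_card_ge h1 (Nat.le_of_mul_le_mul_right ?_ hq.out.pos)
        calc Nat.card D * q = Nat.card Q := by rw [← hD.2.1, Grp.card_mul_relIndex hD.1]
          _ ≤ _ := hdvd
          _ ≤ q * Nat.card ↥⁅Q, R₀⁆ := Nat.mul_le_mul_right _ hCQ
          _ = _ := mul_comm _ _
      exact (key D hD h1).symm.trans (key D' hD' h2)
    -- every member of the orbit is normalised by `Q`; none is normalised by `S` and moved by `R₀`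
    have hnoS : ∀ D ∈ Ω, ¬ R₀ ≤ normalizer (D : Set G) → ¬ S ≤ normalizer (D : Set G) := by
      intro D hD hmove hSD
      set W := P ⊓ centralizer (D : Set G) with hW
      have hQD : Q ≤ normalizer (D : Set G) := fun a ha => centralizer_le_normalizer _ (mem_centralizer_iff.2
        fun b hb => Grp.elemAb_comm hQe b (hD.1 hb) a ha)
      have hle : Nat.card W ≤ p :=
        (card_orbit_fixed_le hP hQe hpq hQP hfix hR₀ hRQ hRP hD.1 hD.2.1 hmove).trans hCPle
      have h1 := commutator_le_centralizer_of_cyclic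
        (isCyclic_of_card_le_prime ((Grp.elemAb_isPGroup hP).to_le inf_le_left) hle) (hWnorm hQP hQD) (hWnorm hSP hSD)
      rw [hQS] at h1
      exact hD.2.2 (le_bot_iff.1 (hfix ▸ le_inf inf_le_left (le_centralizer_iff.1 h1)))
    by_cases hall : ∀ D ∈ O, R₀ ≤ normalizer (D : Set G)
    · -- at most two members, so one
      have htwo : ∀ D ∈ O, ∀ D' ∈ O, ¬ ⁅Q, R₀⁆ ≤ D → ¬ ⁅Q, R₀⁆ ≤ D' → D = D' := by
        intro D hD D' hD' h1 h2
        by_contra hne
        have h := le_inf (hfixed D (hOΩ D hD) (hall D hD) h1) (hfixed D' (hOΩ D' hD') (hall D' hD') h2)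
        have hnle : ¬ D' ≤ D := fun e => hne (Subgroup.eq_of_le_of_card_ge e (Nat.le_of_mul_le_mul_right
          (le_of_eq (show Nat.card D * q = Nat.card D' * q by
            conv_lhs => rw [← (hOΩ D hD).2.1, Grp.card_mul_relIndex (hOΩ D hD).1]
            conv_rhs => rw [← (hOΩ D' hD').2.1, Grp.card_mul_relIndex (hOΩ D' hD').1])) hq.out.pos)).symm
        refine hCP (le_bot_iff.1 (h.trans ?_))
        rw [← hfix, ← sup_eq_of_hyperplane (hOΩ D hD).1 (hOΩ D hD).2.1 (hOΩ D' hD').1 hnle,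
          Transfer.FrobFix.centralizer_sup, inf_inf_inf_comm, inf_idem]
      have hle2 : Nat.card O ≤ 2 := by
        rw [← Nat.card_fin 2]
        refine Nat.card_le_card_of_injective (fun D : O => if ⁅Q, R₀⁆ ≤ (D : Subgroup G) then (0 : Fin 2) else 1) ?_
        intro D D' h
        dsimp only at h
        by_cases h1 : ⁅Q, R₀⁆ ≤ (D : Subgroup G) <;> by_cases h2 : ⁅Q, R₀⁆ ≤ (D' : Subgroup G) <;> simp [h1, h2] at h
        · exact Subtype.ext (huniqK _ (hOΩ _ D.2) _ (hOΩ _ D'.2) h1 h2)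
        · exact Subtype.ext (htwo _ D.2 _ D'.2 h1 h2)
      have h1 : Nat.card O = 1 := by
        obtain ⟨k, hk⟩ := hOodd
        omega
      haveI : Subsingleton O := (Nat.card_eq_one_iff_unique.1 h1).1
      have hfix₀ : L ≤ normalizer (D₀ : Set G) := fun l hl => Grp.mem_normalizer_iff_smul.2
        (congrArg Subtype.val (Subsingleton.elim (⟨_, MulAction.mem_orbit D₀ (⟨l, hl⟩ : L)⟩ : O)
          ⟨D₀, MulAction.mem_orbit_self D₀⟩))
      have hbot : D₀ = ⊥ := hinv D₀ hD₀.1 (fun a ha => centralizer_le_normalizer _ (mem_centralizer_iff.2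
        fun b hb => Grp.elemAb_comm hQe b (hD₀.1 hb) a ha)) (le_sup_left.trans hfix₀) (le_sup_right.trans hfix₀) hD₀.2.2
      have hQcyc : IsCyclic Q := by
        have := hD₀.2.1
        rw [hbot, relIndex_bot_left] at this
        exact isCyclic_of_prime_card this
      have h3 := commutator_le_centralizer_of_cyclic hQcyc hSQ hRQ
      rw [hSR] at h3
      exact hQ1 (by rw [← hQS]; exact commutator_eq_bot_iff_le_centralizer.2 (le_centralizer_iff.1 h3))
    · push Not at hall
      obtain ⟨D, hDO, hmove⟩ := hall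
      have hD := hOΩ D hDO
      obtain ⟨z, hz⟩ : ∃ z : G, zpowers z = R₀ := by
        obtain ⟨x, hx⟩ := isCyclic_iff_exists_zpowers_eq_top.mp (isCyclic_of_prime_card hR₀ : IsCyclic R₀)
        refine ⟨x, ?_⟩
        have h1 := congrArg (Subgroup.map R₀.subtype) hx
        rwa [MonoidHom.map_zpowers, ← MonoidHom.range_eq_map, Subgroup.range_subtype] at h1
      have hzR : z ∈ R₀ := hz ▸ mem_zpowers z
      have hzo : orderOf z = r := by rw [← Nat.card_zpowers, hz, hR₀]
      set E : Set (Subgroup G) := Set.range fun i : Fin r => MulAut.conj (z ^ (i : ℕ)) • D with hE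
      have hEcard : Nat.card E = r := by
        rw [hE, Nat.card_range_of_injective, Nat.card_fin]
        intro i j hij
        by_contra hne
        dsimp only at hij
        wlog hlt : (i : ℕ) < (j : ℕ) generalizing i j
        · exact this hij.symm (Ne.symm hne) (lt_of_le_of_ne (not_lt.1 hlt) fun e => hne (Fin.ext e.symm))
        refine hmove ?_
        have hN : z ^ ((j : ℕ) - i) ∈ normalizer (D : Set G) := by
          rw [Grp.mem_normalizer_iff_smul]
          apply MulAction.injective (MulAut.conj (z ^ (i : ℕ)))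
          show MulAut.conj (z ^ (i : ℕ)) • MulAut.conj (z ^ ((j : ℕ) - i)) • D = MulAut.conj (z ^ (i : ℕ)) • D
          rw [Grp.conj_smul_conj_smul, ← pow_add, Nat.add_sub_cancel' hlt.le, hij]
        rw [← hz, zpowers_le]
        have hcop : (orderOf z).Coprime ((j : ℕ) - i) := by
          rw [hzo]
          exact hr.out.coprime_iff_not_dvd.2 fun hd => absurd (Nat.le_of_dvd (by omega) hd) (by have := j.isLt; omega)
        obtain ⟨m, hm⟩ := exists_pow_eq_self_of_coprime hcop.symm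
        rw [← hm]
        exact pow_mem hN m
      have hEO : E ⊆ O := by
        rintro _ ⟨i, rfl⟩
        obtain ⟨l, rfl⟩ := hDO
        refine ⟨⟨z ^ (i : ℕ) * l, L.mul_mem (L.pow_mem (mem_sup_right hzR) _) l.2⟩, ?_⟩
        show MulAut.conj (z ^ (i : ℕ) * (l : G)) • D₀ = MulAut.conj (z ^ (i : ℕ)) • (MulAut.conj (l : G) • D₀)
        rw [Grp.conj_smul_conj_smul]
      have hEn : ∀ x ∈ R₀, ∀ i : ℕ, MulAut.conj x • D ∈ E := by
        intro x hx _
        have hmem : x ∈ (Finset.range (orderOf z)).image (z ^ ·) :=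
          (IsOfFinOrder.mem_zpowers_iff_mem_range_orderOf (isOfFinOrder_of_finite z)).1 (hz.symm ▸ hx)
        obtain ⟨n, hn, rfl⟩ := Finset.mem_image.1 hmem
        exact ⟨⟨n, hzo ▸ Finset.mem_range.1 hn⟩, rfl⟩
      -- the generator of the fixed points
      obtain ⟨w, hw, hw1⟩ := (Subgroup.bot_or_exists_ne_one _).resolve_left hD.2.2
      obtain ⟨c₀, hc₀, hc₀D, -⟩ := exists_orbit_fixed hP hQe hpq hQP hfix hR₀ hRQ hRP hD.1 hD.2.1 hmove w hw
      have hc₀n : c₀ ∉ ⁅P, D⁆ := fun h => hw1 (by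
        have h1 : w ∈ (P ⊓ centralizer (D : Set G)) ⊓ ⁅P, D⁆ := ⟨hw, by
          have := (⁅P, D⁆).mul_mem h (Subgroup.inv_mem _ hc₀D)
          rwa [mul_inv_rev, inv_inv, mul_inv_cancel_left] at this⟩
        rwa [inf_commutator_eq_bot hP hQe hpq hQP hD.1, mem_bot] at h1)
      have hCD : (P ⊓ centralizer (R₀ : Set G)) ⊓ ⁅P, D⁆ = ⊥ := by
        by_contra h
        exact hc₀n ((hCPatom _ inf_le_left h).ge hc₀).2
      have hOsub : O ⊆ insert ⁅Q, R₀⁆ E := by
        intro D' hD'O
        have hD' := hOΩ D' hD'O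
        by_contra hnot
        rw [Set.mem_insert_iff, not_or] at hnot
        obtain ⟨hnK, hnE⟩ := hnot
        have hall' : ∀ x ∈ R₀, ¬ MulAut.conj x • D' ≤ D := by
          intro x hx hle
          refine hnE ?_
          have hc : Nat.card D ≤ Nat.card (MulAut.conj x • D' : Subgroup G) := by
            rw [Grp.card_conj_smul]
            refine Nat.le_of_mul_le_mul_right (le_of_eq (show Nat.card D * q = Nat.card D' * q by
              conv_lhs => rw [← hD.2.1, Grp.card_mul_relIndex hD.1]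
              conv_rhs => rw [← hD'.2.1, Grp.card_mul_relIndex hD'.1])) hq.out.pos
          have h1 : MulAut.conj x • D' = D := Subgroup.eq_of_le_of_card_ge hle hc
          have h2 : D' = MulAut.conj x⁻¹ • D := by
            rw [← h1, Grp.conj_smul_conj_smul, inv_mul_cancel, map_one, one_smul]
          rw [h2]; exact hEn _ (R₀.inv_mem hx) 0
        have hD'le : P ⊓ centralizer (D' : Set G) ≤ ⁅P, D⁆ :=
          fixed_le_commutator hP hQe hpq hQP hfix hD.1 hD'.1 hD.2.1 (by
            have := hall' 1 (one_mem _)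
            rwa [map_one, one_smul] at this)
        by_cases hR' : R₀ ≤ normalizer (D' : Set G)
        · have hnle : ¬ ⁅Q, R₀⁆ ≤ D' := fun hle => hnK (by
            haveI : Group.IsNilpotent R₀ := (IsPGroup.of_card (n := 1) (by rw [hR₀, pow_one]) : IsPGroup r R₀).isNilpotent
            have hcop : (Nat.card R₀).Coprime (Nat.card Q) := by
              obtain ⟨m, hm⟩ := IsPGroup.iff_card.1 hQ
              rw [hR₀, hm]; exact ((Nat.coprime_primes hr.out hq.out).2 hqr.symm).pow_right m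
            have hsup := Grp.commutator_sup_fixed R₀ Q hRQ hcop (Or.inl inferInstance)
            have hdvd := Nat.le_of_dvd (Nat.mul_pos Nat.card_pos Nat.card_pos) (Grp.card_sup_dvd_mul
              (show Q ⊓ centralizer (R₀ : Set G) ≤ normalizer ((⁅Q, R₀⁆ : Subgroup G) : Set G) from
                inf_le_left.trans (Grp.left_le_normalizer_commutator R₀ Q)))
            rw [sup_comm, hsup] at hdvd
            refine (Subgroup.eq_of_le_of_card_ge hle (Nat.le_of_mul_le_mul_right ?_ hq.out.pos)).symm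
            calc Nat.card D' * q = Nat.card Q := by rw [← hD'.2.1, Grp.card_mul_relIndex hD'.1]
              _ ≤ _ := hdvd
              _ ≤ q * Nat.card ↥⁅Q, R₀⁆ := Nat.mul_le_mul_right _ hCQ
              _ = _ := mul_comm _ _)
          exact hCP (le_bot_iff.1 (hCD ▸ le_inf le_rfl ((hfixed D' hD' hR' hnle).trans hD'le)))
        · obtain ⟨v, hv, hv1⟩ := (Subgroup.bot_or_exists_ne_one _).resolve_left hD'.2.2
          obtain ⟨c, hc, hcD, hcT⟩ := exists_orbit_fixed hP hQe hpq hQP hfix hR₀ hRQ hRP hD'.1 hD'.2.1 hR' v hv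
          have hc1 : c ∈ ⁅P, D⁆ := by
            refine hcT _ fun x hx => ?_
            refine fixed_le_commutator hP hQe hpq hQP hfix hD.1 ?_ hD.2.1 (hall' x hx)
              ⟨Grp.mem_conj_normalizer (hRP hx) hv.1, mem_centralizer_iff.2 fun y hy => ?_⟩
            · rw [← Grp.normalizer_le_smul hRQ hx]
              exact Subgroup.pointwise_smul_le_pointwise_smul_iff.2 hD'.1
            · rw [SetLike.mem_coe, Grp.mem_smul_conj] at hy
              have h1 := mem_centralizer_iff.1 hv.2 _ hy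
              calc y * (x * v * x⁻¹) = x * (x⁻¹ * y * x * v) * x⁻¹ := by group
                _ = x * (v * (x⁻¹ * y * x)) * x⁻¹ := by rw [h1]
                _ = x * v * x⁻¹ * y := by group
          have hceq : c = 1 := by
            have : c ∈ (P ⊓ centralizer (R₀ : Set G)) ⊓ ⁅P, D⁆ := ⟨hc, hc1⟩
            rwa [hCD, mem_bot] at this
          refine hv1 ?_
          rw [hceq, mul_one] at hcD
          have h1 : v ∈ (P ⊓ centralizer (D' : Set G)) ⊓ ⁅P, D'⁆ := ⟨hv, (Subgroup.inv_mem_iff _).1 hcD⟩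
          rwa [inf_commutator_eq_bot hP hQe hpq hQP hD'.1, mem_bot] at h1
      have hOcard : Nat.card O = r := by
        have h1 : r ≤ Nat.card O := hEcard ▸ Nat.card_mono (Set.toFinite _) hEO
        have h2 : Nat.card O ≤ r + 1 := by
          rw [← hEcard, Nat.card_coe_set_eq, Nat.card_coe_set_eq]
          exact (Set.ncard_le_ncard hOsub (Set.toFinite _)).trans (Set.ncard_insert_le _ _)
        rcases (show Nat.card O = r ∨ Nat.card O = r + 1 by omega) with h | h
        · exact h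
        · have hr2 : r ≠ 2 := fun e => hodd.not_two_dvd_nat (e ▸ hR₀ ▸ card_subgroup_dvd_card R₀)
          obtain ⟨k, hk⟩ := hr.out.eq_two_or_odd'.resolve_left hr2
          obtain ⟨j, hj⟩ := hOodd
          omega
      have hOE : O = E := (Set.eq_of_subset_of_ncard_le hEO (by
        rw [← Nat.card_coe_set_eq, ← Nat.card_coe_set_eq, hOcard, hEcard]) (Set.toFinite _)).symm
      letI : MulAction S O := MulAction.compHom O (inclusion (le_sup_left : S ≤ L))
      have hfp := hS.card_modEq_card_fixedPoints O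
      have hne : (MulAction.fixedPoints S O).Nonempty := by
        rw [← Set.ncard_pos, ← Nat.card_coe_set_eq]
        by_contra h0
        rw [show Nat.card (MulAction.fixedPoints S O) = 0 by omega, hOcard, Nat.modEq_zero_iff_dvd] at hfp
        exact hpr ((Nat.prime_dvd_prime_iff_eq hp.out hr.out).1 hfp)
      obtain ⟨⟨D', hD'O⟩, hD'fix⟩ := hne
      refine hnoS D' (hOΩ D' hD'O) (fun hRD' => hmove ?_) fun s hs => Grp.mem_normalizer_iff_smul.2
        (congrArg Subtype.val (hD'fix ⟨s, hs⟩))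
      obtain ⟨i, hi⟩ := hOE ▸ hD'O
      intro x hx
      have hc : x * z ^ (i : ℕ) = z ^ (i : ℕ) * x := by
        obtain ⟨m, rfl⟩ := hz.symm ▸ hx
        exact ((Commute.refl z).zpow_left m).pow_right _
      have h1 := Grp.normalizer_le_smul hRD' hx
      rw [← hi, Grp.conj_smul_conj_smul, hc, ← Grp.conj_smul_conj_smul] at h1
      exact Grp.mem_normalizer_iff_smul.2 (MulAction.injective (MulAut.conj (z ^ (i : ℕ))) h1)
  · -- the nonabelian case
    have hQ'inv : P ⊓ centralizer ((⁅Q, Q⁆ : Subgroup G) : Set G) = ⊥ := by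
      by_contra h
      exact hab (hinv _ hQ'lt.le (Grp.left_le_normalizer_commutator Q Q) (le_normalizer_commutator' hSQ hSQ)
        (le_normalizer_commutator' hRQ hRQ) h)
    have hZQ : Z ≤ Q := inf_le_left
    have hZlt : Z < Q := lt_of_le_of_ne hZQ fun e => hab (commutator_eq_bot_iff_le_centralizer.2 (inf_eq_left.1 e))
    have hZn : ∀ {A : Subgroup G}, A ≤ normalizer (Q : Set G) → A ≤ normalizer (Z : Set G) := fun hA =>
      le_normalizer_inf' hA (le_normalizer_centralizer' hA)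
    have hZS : Z ≤ centralizer (S : Set G) := hcent Z hZlt (hZn hSQ) (hZn hRQ)
    have hZe : Cfsg.IsElementaryAbelian q Z := ⟨le_centralizer_iff_isMulCommutative.1
      (inf_le_right.trans (centralizer_le hZQ)), fun a ha => hexp a ha.1⟩
    have hZ1 : Z ≠ ⊥ := fun e => hab (le_bot_iff.1 (e ▸ hQ'Z))
    have hfixZ : P ⊓ centralizer (Z : Set G) = ⊥ := le_bot_iff.1 (hQ'inv ▸ inf_le_inf_left P (centralizer_le hQ'Z))
    have hZP : Z ≤ normalizer (P : Set G) := hZQ.trans hQP
    have hpnZ : ¬ q ∣ Nat.card P := fun hd => by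
      obtain ⟨n, hn⟩ := IsPGroup.iff_card.1 (Grp.elemAb_isPGroup hP)
      exact hpq ((Nat.prime_dvd_prime_iff_eq hq.out hp.out).1 (hq.out.dvd_of_dvd_pow (hn ▸ hd))).symm
    obtain ⟨D, hD, hi, hW⟩ : ∃ D, D ≤ Z ∧ D.relIndex Z = q ∧ ¬ P ⊓ centralizer (D : Set G) ≤ ⊥ := by
      by_contra h
      push Not at h
      exact hCP (le_bot_iff.1 (inf_le_left.trans (Grp.le_of_hyperplanes hZe hZ1 P hpnZ hZP h)))
    have hQD : Q ≤ normalizer (D : Set G) :=
      (le_centralizer_iff.1 (hD.trans inf_le_right)).trans (centralizer_le_normalizer _)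
    have hSD : S ≤ normalizer (D : Set G) :=
      (le_centralizer_iff.1 (hD.trans hZS)).trans (centralizer_le_normalizer _)
    have hZq : Nat.card Z = q := by
      by_cases hmove : R₀ ≤ normalizer (D : Set G)
      · have hbot := hinv D (hD.trans hZQ) hQD hSD hmove fun e => hW e.le
        rwa [hbot, relIndex_bot_left] at hi
      · exfalso
        have hle : Nat.card ↥(P ⊓ centralizer (D : Set G)) ≤ p :=
          (card_orbit_fixed_le hP hZe hpq hZP hfixZ hR₀ (hZn hRQ) hRP hD hi hmove).trans hCPle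
        have h1 := commutator_le_centralizer_of_cyclic
          (isCyclic_of_card_le_prime ((Grp.elemAb_isPGroup hP).to_le inf_le_left) hle) (hWnorm hQP hQD) (hWnorm hQP hQD)
        exact hW (hQ'inv ▸ le_inf inf_le_left (le_centralizer_iff.1 h1))
    have hgood : Transfer.PGroups.Good Z Q := ⟨hZQ, fun a ha b hb => hQ'Z (commutator_mem_commutator ha hb),
      fun z hz h hh => (mem_centralizer_iff.1 hz.2 h hh).symm,
      fun z hz h => ⟨hz, mem_centralizer_iff.2 fun y hy => (h y hy).symm⟩⟩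
    obtain ⟨n, hn⟩ := Transfer.PGroups.good_card hZq hgood
    have hn0 : n ≠ 0 := by
      rintro rfl
      exact hZlt.ne (Subgroup.eq_of_le_of_card_ge hZQ (by rw [hn, hZq]; simp))
    have hCQS : Q ⊓ centralizer (S : Set G) = Z := by
      refine le_antisymm ?_ (le_inf hZQ hZS)
      exact le_inf inf_le_left (hthree _ inf_le_right
        ((commutator_mono inf_le_left le_rfl).trans (hQ'Z.trans hZS)))
    have hcop : (Nat.card Q).Coprime (Nat.card ↥(S ⊔ R₀)) := by
      refine Nat.Coprime.coprime_dvd_right (by rw [sup_comm]; exact Grp.card_sup_dvd_mul hRS) (Nat.Coprime.mul_right ?_ ?_)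
      · obtain ⟨m, hm⟩ := IsPGroup.iff_card.1 hQ
        rw [hR₀, hm]; exact ((Nat.coprime_primes hq.out hr.out).2 hqr).pow_left m
      · exact (hcpq hS hQ).symm
    have hfpf : ∀ e ∈ R₀, e ≠ 1 → ∀ u ∈ S, e * u = u * e → u = 1 := by
      intro e he he1 u hu hc
      have hgen : zpowers e = R₀ := Subgroup.eq_of_le_of_card_ge (zpowers_le.2 he) (by
        rw [hR₀, Nat.card_zpowers]
        refine le_of_eq (orderOf_eq_prime ?_ he1).symm
        rw [← hR₀]
        exact congrArg Subtype.val (pow_card_eq_one' (x := (⟨e, he⟩ : R₀))))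
      have h1 : u ∈ S ⊓ centralizer (R₀ : Set G) := by
        refine ⟨hu, ?_⟩
        rw [← hgen, SetLike.mem_coe, ← Cfsg.Agent.Grp.centralizer_singleton_eq_zpowers e]
        exact Subgroup.mem_centralizer_singleton_iff.2 hc.symm
      rwa [hCS, mem_bot] at h1
    have hform := Transfer.FrobFix.fixed_formula S R₀ Q (sup_le hSQ hRQ) hRS hfpf inferInstance inferInstance hcop
    rw [hCQS, Transfer.FrobFix.centralizer_sup, ← inf_assoc, hCQS, hR₀, hn, hZq] at hform
    obtain ⟨a, ha⟩ := IsPGroup.iff_card.1 (hQ.to_le ((inf_le_left : Z ⊓ centralizer (R₀ : Set G) ≤ Z).trans hZQ))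
    obtain ⟨b, hb⟩ := IsPGroup.iff_card.1 (hQ.to_le (inf_le_left : Q ⊓ centralizer (R₀ : Set G) ≤ Q))
    have hb1 : b ≤ 1 := (Nat.pow_le_pow_iff_right hq.out.one_lt).1 (by rw [pow_one, ← hb]; exact hCQ)
    rw [ha, hb, ← pow_mul, ← pow_mul, ← pow_add, ← pow_succ] at hform
    have he := Nat.pow_right_injective hq.out.two_le hform
    have hr2 : r ≠ 2 := fun e => hodd.not_two_dvd_nat (e ▸ hR₀ ▸ card_subgroup_dvd_card R₀)
    obtain ⟨k, hk⟩ := hr.out.eq_two_or_odd'.resolve_left hr2
    rcases Nat.le_one_iff_eq_zero_or_eq_one.1 hb1 with rfl | rfl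
    · omega
    · rcases Nat.eq_zero_or_pos a with rfl | ha0
      · omega
      · have := Nat.le_mul_of_pos_left r ha0
        omega

end Cfsg.Agent.Transfer.Loc
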