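import Cfsg.Agent.Lib.Transfer.Local.PLengthKey
import Cfsg.Agent.Lib.Transfer.Local.ZgroupPLength
import Cfsg.Agent.Lib.Grp.CoprimeAbelian
import Cfsg.Agent.Lib.Grp.Signalizer

/-!
`[H, R]` has `p`-length one when the fixed points of an element of prime order of the coprime operator group `R`
form a Z-group.
-/

set_option autoImplicit false
set_option linter.style.haveILetI false
set_option linter.unusedSectionVars false

namespace Cfsg.Agent.Transfer.Loc

open Subgroup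
open scoped commutatorElement Pointwise

universe u

/-- The inductive hypothesis below a given size. -/
def PLenHyp (p r n : ℕ) : Prop :=
  ∀ (Γ : Type u) [Group Γ] [Finite Γ], Group.IsSolvable Γ → Odd (Nat.card Γ) → ∀ H R R₀ : Subgroup Γ,
    R ≤ normalizer (H : Set Γ) → (Nat.card H).Coprime (Nat.card R) → R₀ ≤ R → Nat.card R₀ = r →
    IsZGroup ↥(H ⊓ centralizer (R₀ : Set Γ)) → Nat.card H + Nat.card R < n → Cfsg.PLengthLE p 1 ↥⁅H, R⁆

variable {G : Type u} [Group G] [Finite G]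

theorem zgroup_mono {A B : Subgroup G} (h : A ≤ B) (hB : IsZGroup B) : IsZGroup A := by
  haveI := hB
  exact IsZGroup.of_injective (f := inclusion h) (inclusion_injective h)

/-- A least counterexample. -/
structure PLenCrit (p r : ℕ) (H R R₀ : Subgroup G) : Prop where
  hodd : Odd (Nat.card G)
  hRH : R ≤ normalizer (H : Set G)
  hcop : (Nat.card H).Coprime (Nat.card R)
  hR₀R : R₀ ≤ R
  hR₀ : Nat.card R₀ = r
  hZ : IsZGroup ↥(H ⊓ centralizer (R₀ : Set G))
  hHR : ⁅H, R⁆ = H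
  hmin : PLenHyp.{u} p r (Nat.card H + Nat.card R)
  hbad : ¬ Cfsg.PLengthLE p 1 ↥H

variable [Group.IsSolvable G] {p r : ℕ} [hp : Fact p.Prime] [hr : Fact r.Prime] {H R R₀ : Subgroup G}

theorem PLenCrit.quot (c : PLenCrit p r H R R₀) {N : Subgroup G} (hN : N ≠ ⊥) (hNH : N ≤ H)
    (hHN : H ≤ normalizer (N : Set G)) (hRN : R ≤ normalizer (N : Set G)) :
    Cfsg.PLengthLE p 1 ↥(qimg N H) := by
  have h1 : Nat.card (qimg N R₀) = r := by
    refine ((Nat.dvd_prime hr.out).1 ((card_qimg_dvd (c.hR₀R.trans hRN)).trans (dvd_of_eq c.hR₀))).resolve_left fun e => ?_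
    have hle : R₀ ≤ H := ((qimg_eq_bot (c.hR₀R.trans hRN)).1 (card_eq_one.1 e)).trans hNH
    have h2 : R₀ = ⊥ := le_bot_iff.1 (Grp.inf_eq_bot_of_coprime c.hcop ▸ le_inf hle c.hR₀R)
    have h3 := c.hR₀
    rw [h2, Subgroup.card_bot] at h3
    exact hr.out.ne_one h3.symm
  have h2 := c.hmin (Qt N) inferInstance (odd_qt c.hodd N) (qimg N H) (qimg N R) (qimg N R₀) (qimg_normalizer c.hRH)
    ((c.hcop.coprime_dvd_left (card_qimg_dvd hHN)).coprime_dvd_right (card_qimg_dvd hRN))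
    (qimg_mono c.hR₀R) h1
    (qimg_zgroup hNH hHN (c.hR₀R.trans hRN)
      ((c.hcop.coprime_dvd_left (card_dvd_of_le hNH)).coprime_dvd_right (card_dvd_of_le c.hR₀R)) c.hZ)
    (add_lt_add_of_lt_of_le (card_qimg_lt hN hNH hHN) (Nat.le_of_dvd Nat.card_pos (card_qimg_dvd hRN)))
  rwa [← qimg_commutator hHN hRN, c.hHR] at h2

theorem PLenCrit.qkey (c : PLenCrit p r H R R₀) {N : Subgroup G} (hN : N ≠ ⊥) (hNH : N ≤ H)
    (hHN : H ≤ normalizer (N : Set G)) (hRN : R ≤ normalizer (N : Set G)) {W Q S : Subgroup G} (hWH : W ≤ H)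
    (hWn : H ≤ normalizer (W : Set G)) (hW : IsPGroup p W) (hQH : Q ≤ H) (hQ : (Nat.card Q).Coprime p)
    (hSH : S ≤ H) (hS : IsPGroup p S) (hSQ : S ≤ normalizer (Q : Set G)) : ⁅⁅Q, S⁆, W⁆ ≤ N := by
  have h1 := key_in (c.quot hN hNH hHN hRN) (qimg_mono hWH) (qimg_normalizer hWn)
    (qimg_isPGroup (hWH.trans hHN) hW) (qimg_mono hQH) (hQ.coprime_dvd_left (card_qimg_dvd (hQH.trans hHN)))
    (qimg_mono hSH) (qimg_isPGroup (hSH.trans hHN) hS) (qimg_normalizer hSQ)
  rw [← qimg_commutator (hQH.trans hHN) (hSH.trans hHN),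
    ← qimg_commutator ((comm_le hQH hSH).trans hHN) (hWH.trans hHN)] at h1
  exact (qimg_eq_bot ((comm_le (comm_le hQH hSH) hWH).trans hHN)).1 h1

theorem PLenCrit.core_bot (c : PLenCrit p r H R R₀) : O' p H = ⊥ := by
  by_contra hne
  exact c.hbad (pLengthLE_of_qimg (O'_le p H) (le_normalizer_core' H) (O'_coprime H)
    (c.quot hne (O'_le p H) (le_normalizer_core' H) (le_normalizer_core c.hRH)))

theorem PLenCrit.facts (c : PLenCrit p r H R R₀) :
    Cfsg.IsElementaryAbelian p (O p H) ∧ H ⊓ centralizer (O p H : Set G) ≤ O p H ∧ p ∣ (O p H).relIndex H := by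
  have hC := centralizer_O_le c.core_bot
  set P := O p H with hP
  have hPH : P ≤ H := O_le p H
  have hHP : H ≤ normalizer (P : Set G) := le_normalizer_core' H
  have hPp : IsPGroup p P := O_isPGroup p H
  haveI : (P.subgroupOf H).Normal := normal_subgroupOf_of_le_normalizer hHP
  have hdvd : p ∣ P.relIndex H := by
    by_contra h
    exact c.hbad (pLengthLE_one_of_normal (hPp.of_equiv (subgroupOfEquivOfLe hPH).symm) h)
  have hΦ : (frattini ↥P).map P.subtype = ⊥ := by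
    by_contra hN
    set N := (frattini ↥P).map P.subtype with hNdef
    have hNP : N ≤ P := map_subtype_le _
    have hHN : H ≤ normalizer (N : Set G) := hHP.trans (normalizer_le_normalizer_frattini P)
    have hRN : R ≤ normalizer (N : Set G) :=
      (le_normalizer_core c.hRH).trans (normalizer_le_normalizer_frattini P)
    have hpl := c.quot hN (hNP.trans hPH) hHN hRN
    set Kb := O' p (qimg N H) with hKb
    set K := qpre N Kb with hK
    have hKH : K ≤ H := qpre_le (hNP.trans hPH) (O'_le p _)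
    have hHK : H ≤ normalizer (K : Set G) := qpre_normalizer hHN (le_normalizer_core' _)
    have hPK : P ⊓ K ≤ N := by
      have hn := inf_le_left.trans (hPH.trans hHN) (a := P ⊓ K)
      rw [← qimg_eq_bot hn]
      obtain ⟨n, hn'⟩ := IsPGroup.iff_card.1 (qimg_isPGroup hn (hPp.to_le inf_le_left))
      refine card_eq_one.1 (Nat.eq_one_of_dvd_coprimes (a := Nat.card Kb) (b := p ^ n)
        ((O'_coprime _).pow_right n) (card_dvd_of_le ?_) (dvd_of_eq hn'))
      exact (qimg_mono inf_le_right).trans (qimg_qpre Kb).le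
    have hKp : IsPGroup p K := isPGroup_of_primes fun q hq hd => by
      by_contra hqp
      haveI := Fact.mk hq
      obtain ⟨g, hg⟩ := exists_prime_orderOf_dvd_card' q hd
      have hgH : zpowers (g : G) ≤ H := zpowers_le.2 (hKH g.2)
      have hgo : Nat.card (zpowers (g : G)) = q := by rw [Nat.card_zpowers, Subgroup.orderOf_coe, hg]
      obtain ⟨n, hn⟩ := IsPGroup.iff_card.1 hPp
      have hcop : (Nat.card (zpowers (g : G))).Coprime (Nat.card P) := by
        rw [hgo, hn]; exact ((Nat.coprime_primes hq hp.out).2 hqp).pow_right n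
      have hcen := le_centralizer_of_mod_frattini (hgH.trans hHP) hcop (Or.inl inferInstance)
        (le_trans (le_inf (Grp.commutator_le_left_of_le_normalizer (hgH.trans hHP))
          ((Subgroup.commutator_mono le_rfl (zpowers_le.2 g.2)).trans
            (by rw [Subgroup.commutator_comm]; exact Grp.commutator_le_left_of_le_normalizer (hPH.trans hHK)))) hPK)
      have hgP : zpowers (g : G) ≤ P := (le_inf hgH hcen).trans hC
      exact hq.ne_one (Nat.eq_one_of_dvd_coprimes hcop (dvd_of_eq hgo.symm) (hgo ▸ card_dvd_of_le hgP))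
    have hKb1 : Kb = ⊥ := by
      have h1 := qimg_isPGroup (qpre_le_normalizer Kb) hKp
      rw [qimg_qpre] at h1
      obtain ⟨n, hn⟩ := IsPGroup.iff_card.1 h1
      exact card_eq_one.1 (Nat.eq_one_of_dvd_coprimes (a := Nat.card Kb) (b := p ^ n)
        ((O'_coprime _).pow_right n) dvd_rfl (dvd_of_eq hn))
    have hidx := index_O_of_pLength hpl hKb1
    set Mb := O p (qimg N H)
    have hMle : qpre N Mb ≤ H := qpre_le (hNP.trans hPH) (O_le p _)
    have hMp : IsPGroup p (qpre N Mb) := by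
      obtain ⟨a, ha⟩ := IsPGroup.iff_card.1 (hPp.to_le hNP)
      obtain ⟨b, hb⟩ := IsPGroup.iff_card.1 (O_isPGroup p (qimg N H))
      exact IsPGroup.of_card (n := a + b) (by rw [← card_qpre, ha, hb, pow_add])
    have hMP : qpre N Mb ≤ P := le_O hMle (qpre_normalizer hHN (le_normalizer_core' _)) hMp
    refine hidx (hdvd.trans ?_)
    have e : (qpre N Mb).relIndex H = Mb.relIndex (qimg N H) := by
      refine Nat.eq_of_mul_eq_mul_left (Nat.card_pos (α := qpre N Mb)) ?_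
      rw [Grp.card_mul_relIndex hMle, ← card_qimg (hNP.trans hPH) hHN, ← card_qpre, mul_assoc,
        Grp.card_mul_relIndex (O_le p (qimg N H))]
    rw [← e]
    exact Subgroup.relIndex_dvd_of_le_left H hMP
  refine ⟨⟨?_, fun x hx => ?_⟩, hC, hdvd⟩
  · refine ⟨⟨fun a b => ?_⟩⟩
    have h1 : ⁅a, b⁆ ∈ frattini ↥P :=
      Grp.pGroup_commutator_le_frattini hPp (commutator_mem_commutator (mem_top a) (mem_top b))
    have h2 : ((⁅a, b⁆ : P) : G) ∈ (frattini ↥P).map P.subtype := ⟨_, h1, rfl⟩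
    rw [hΦ, mem_bot, OneMemClass.coe_eq_one, commutatorElement_eq_one_iff_mul_comm] at h2
    exact h2
  · have h2 : ((⟨x, hx⟩ ^ p : P) : G) ∈ (frattini ↥P).map P.subtype :=
      ⟨_, Grp.pGroup_pow_mem_frattini hPp _, rfl⟩
    rw [hΦ, mem_bot] at h2
    exact h2

theorem PLenCrit.exists_split (c : PLenCrit p r H R R₀) :
    ∃ Q S : Subgroup G, Q ≤ H ∧ (Nat.card Q).Coprime p ∧ S ≤ H ∧ IsPGroup p S ∧ R ≤ normalizer (Q : Set G) ∧
      R ≤ normalizer (S : Set G) ∧ S ≤ normalizer (Q : Set G) ∧ O p H ⊓ S = ⊥ ∧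
      S ⊓ centralizer (Q : Set G) = ⊥ ∧ ⁅S, R⁆ ≠ ⊥ := by
  obtain ⟨hPe, hC, hdvd⟩ := c.facts
  set P := O p H with hP
  have hPH : P ≤ H := O_le p H
  have hHP : H ≤ normalizer (P : Set G) := le_normalizer_core' H
  have hRP : R ≤ normalizer (P : Set G) := le_normalizer_core c.hRH
  have hPp : IsPGroup p P := O_isPGroup p H
  haveI : IsMulCommutative P := hPe.1
  obtain ⟨a, ha⟩ := IsPGroup.iff_card.1 hPp
  set Hb := qimg P H with hHb
  have hOb : O p Hb = ⊥ := by
    have hle : qpre P (O p Hb) ≤ P := by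
      refine le_O (qpre_le hPH (O_le p _)) (qpre_normalizer hHP (le_normalizer_core' _)) ?_
      obtain ⟨b, hb⟩ := IsPGroup.iff_card.1 (O_isPGroup p Hb)
      exact IsPGroup.of_card (n := a + b) (by rw [← card_qpre, ha, hb, pow_add])
    rw [← qimg_qpre (N := P) (O p Hb)]
    exact (qimg_eq_bot (qpre_le_normalizer _)).2 hle
  have hcardH : Nat.card Hb = P.relIndex H := Nat.eq_of_mul_eq_mul_left (Nat.card_pos (α := P))
    (by rw [Grp.card_mul_relIndex hPH, card_qimg hPH hHP])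
  set Lb := O' p Hb with hLb
  have hLbH : Lb ≤ Hb := O'_le p Hb
  have hpLb : ¬ p ∣ Nat.card Lb := hp.out.coprime_iff_not_dvd.1 (O'_coprime Hb).symm
  set L := qpre P Lb with hL
  have hLH : L ≤ H := qpre_le hPH hLbH
  have hPL : P ≤ L := le_qpre Lb
  have hHL : H ≤ normalizer (L : Set G) := qpre_normalizer hHP (le_normalizer_core' _)
  have hRL : R ≤ normalizer (L : Set G) := qpre_normalizer hRP (le_normalizer_core (qimg_normalizer c.hRH))
  have hcopRL : (Nat.card R).Coprime (Nat.card L) := c.hcop.symm.coprime_dvd_right (card_dvd_of_le hLH)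
  obtain ⟨Q, hQhall, hRQ, -⟩ := Grp.PiHall.exists_ge (π := {s : ℕ | s ≠ p}) _ G R L ⊥ rfl hRL hcopRL inferInstance bot_le
    (by rw [normalizer_eq_top_iff.2 (inferInstance : (⊥ : Subgroup G).Normal)]; exact le_top)
    (by rw [Subgroup.card_bot]; exact fun s hs h => absurd (Nat.dvd_one.1 h) hs.ne_one)
  have hQL : Q ≤ L := hQhall.1
  have hQH : Q ≤ H := hQL.trans hLH
  have hQp : (Nat.card Q).Coprime p := (hp.out.coprime_iff_not_dvd.2 fun h => hQhall.2.1 p hp.out h rfl).symm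
  have hQP : (Nat.card Q).Coprime (Nat.card P) := ha ▸ hQp.pow_right a
  have hcardL : Nat.card P * Nat.card Lb = Nat.card L := card_qpre Lb
  have hQc : Nat.card Q = Nat.card Lb := by
    refine Nat.dvd_antisymm (hQP.dvd_of_dvd_mul_left (hcardL ▸ card_dvd_of_le hQL)) ?_
    have h2 : (Nat.card Lb).Coprime (Q.relIndex L) :=
      Nat.coprime_of_dvd fun s hs h1 h2 => hQhall.2.2 s hs (fun e => hpLb (e ▸ h1)) h2
    refine h2.dvd_of_dvd_mul_right ?_
    rw [Grp.card_mul_relIndex hQL, ← hcardL]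
    exact dvd_mul_left _ _
  have hLeq : Q ⊔ P = L := Subgroup.eq_of_le_of_card_ge (sup_le hQL hPL) (by
    rw [Grp.card_sup_coprime (hQH.trans hHP) hQP, hQc, ← hcardL, mul_comm])
  have hqQ : qimg P Q = Lb := by
    rw [← qimg_qpre (N := P) Lb, ← hL, ← hLeq, qimg_sup (hQH.trans hHP) le_normalizer, qimg_self, sup_bot_eq]
  have hQPinf : P ⊓ Q = ⊥ := Grp.inf_eq_bot_of_coprime hQP.symm
  set X := H ⊓ normalizer (Q : Set G) with hX
  have hXH : X ≤ H := inf_le_left
  have hHX : H ≤ P ⊔ X := by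
    intro h hh
    have hle : MulAut.conj h • Q ≤ P ⊔ Q := by
      rw [sup_comm, hLeq, ← Grp.normalizer_le_smul hHL hh]
      exact pointwise_smul_le_pointwise_smul_iff.2 hQL
    obtain ⟨n, hn, he⟩ := Grp.exists_conj_of_le_sup (hQH.trans hHP) hle (Grp.card_conj_smul h Q) hQP.symm
      (Or.inl inferInstance)
    have h1 : n⁻¹ * h ∈ X := ⟨H.mul_mem (H.inv_mem (hPH hn)) hh, Grp.mem_normalizer_iff_smul.2
      (by rw [← Grp.conj_smul_conj_smul, ← he, Grp.conj_smul_conj_smul, inv_mul_cancel, map_one, one_smul])⟩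
    have := Subgroup.mul_mem_sup hn h1
    rwa [mul_inv_cancel_left] at this
  have hRX : R ≤ normalizer (X : Set G) :=
    le_normalizer_inf' c.hRH (Grp.PiHall.le_normalizer_of_conj_mem fun x hx y hy => Grp.mem_normalizer_iff_smul.2 (by
      rw [← Grp.conj_smul_conj_smul, ← Grp.conj_smul_conj_smul,
        Grp.normalizer_le_smul hRQ (R.inv_mem hx), Grp.mem_normalizer_iff_smul.1 hy, Grp.normalizer_le_smul hRQ hx]))
  obtain ⟨S, hS, hRS⟩ := Grp.exists_invariant_sylow R X hRX (c.hcop.symm.coprime_dvd_right (card_dvd_of_le hXH))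
    (Or.inr inferInstance) p
  have hSH : S ≤ H := hS.1.trans hXH
  have hSQ : S ≤ normalizer (Q : Set G) := hS.1.trans inf_le_right
  have hXHb : qimg P X = Hb := le_antisymm (qimg_mono hXH) ((qimg_mono hHX).trans (by
    rw [qimg_sup le_normalizer (hXH.trans hHP), qimg_self, bot_sup_eq]))
  have hSP : ¬ S ≤ P := by
    intro hle
    refine hS.2.2 (hdvd.trans ?_)
    rw [← hcardH, ← hXHb]
    have h1 : (qimg P S).relIndex (qimg P X) ∣ S.relIndex X :=
      (Grp.relIndex_map_dvd (QuotientGroup.mk' (P.subgroupOf (normalizer (P : Set G)))) (comap_mono hS.1)).trans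
        (dvd_of_eq (relIndex_subgroupOf (hXH.trans hHP)))
    rwa [(qimg_eq_bot (hSH.trans hHP)).2 hle, relIndex_bot_left] at h1
  have hS1 : S ⊓ centralizer (Q : Set G) ≤ P := by
    have hn : S ⊓ centralizer (Q : Set G) ≤ normalizer (P : Set G) := inf_le_left.trans (hSH.trans hHP)
    rw [← qimg_eq_bot hn]
    obtain ⟨n, hn'⟩ := IsPGroup.iff_card.1 (qimg_isPGroup hn (hS.2.1.to_le inf_le_left))
    refine card_eq_one.1 (Nat.eq_one_of_dvd_coprimes (a := Nat.card Lb) (b := p ^ n)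
      ((O'_coprime _).pow_right n) (card_dvd_of_le ?_) (dvd_of_eq hn'))
    refine (le_inf (qimg_mono (inf_le_left.trans hSH)) ?_).trans (centralizer_O'_le hOb)
    rw [← hLb, ← hqQ, ← commutator_eq_bot_iff_le_centralizer, ← qimg_commutator hn (hQH.trans hHP),
      commutator_eq_bot_iff_le_centralizer.2 inf_le_right, qimg_eq_bot bot_le]
    exact bot_le
  have hCfix : P ⊓ centralizer (Q : Set G) = ⊥ := by
    by_contra hC1
    set C := P ⊓ centralizer (Q : Set G) with hCdef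
    have hXC : X ≤ normalizer (C : Set G) :=
      le_normalizer_inf' (hXH.trans hHP) (le_normalizer_centralizer' inf_le_right)
    have hPC : P ≤ normalizer (C : Set G) :=
      (le_centralizer_iff.1 (inf_le_left.trans (le_centralizer_iff_isMulCommutative.2 inferInstance))).trans
        (centralizer_le_normalizer _)
    have hkey := c.qkey hC1 (inf_le_left.trans hPH) (hHX.trans (sup_le hPC hXC))
      (le_normalizer_inf' hRP (le_normalizer_centralizer' hRQ)) hPH hHP hPp hQH hQp hSH hS.2.1 hSQ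
    have h2 : ⁅⁅Q, S⁆, P⁆ ≤ ⁅P, Q⁆ := by
      rw [Subgroup.commutator_comm P Q]
      exact Subgroup.commutator_mono (Grp.commutator_le_left_of_le_normalizer hSQ) le_rfl
    have h3 : ⁅⁅Q, S⁆, P⁆ = ⊥ := le_bot_iff.1
      ((le_inf hkey h2).trans (Grp.abelian_commutator_inf_fixed Q P (hQH.trans hHP) hQP).le)
    have h4 : ⁅Q, S⁆ = ⊥ := le_bot_iff.1 (hQPinf ▸ le_inf
      ((le_inf (comm_le hQH hSH) (commutator_eq_bot_iff_le_centralizer.1 h3)).trans hC)
      (Grp.commutator_le_left_of_le_normalizer hSQ))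
    rw [Subgroup.commutator_comm] at h4
    exact hSP ((le_inf le_rfl (commutator_eq_bot_iff_le_centralizer.1 h4)).trans hS1)
  have hPX : P ⊓ X = ⊥ := by
    rw [eq_bot_iff, ← hCfix]
    refine le_inf inf_le_left (commutator_eq_bot_iff_le_centralizer.1 (le_bot_iff.1 (hQPinf ▸ ?_)))
    refine le_inf ?_ ?_
    · exact (Subgroup.commutator_mono inf_le_left le_rfl).trans
        (Grp.commutator_le_left_of_le_normalizer (hQH.trans hHP))
    · rw [Subgroup.commutator_comm]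
      exact Grp.commutator_le_left_of_le_normalizer (inf_le_right.trans inf_le_right)
  have hPS : P ⊓ S = ⊥ := le_bot_iff.1 (hPX ▸ inf_le_inf_left P hS.1)
  refine ⟨Q, S, hQH, hQp, hSH, hS.2.1, hRQ, hRS, hSQ, hPS, le_bot_iff.1 (hPS ▸ le_inf hS1 inf_le_left), fun hSR => ?_⟩
  have hPnL : P ≤ normalizer (L : Set G) := hPH.trans hHL
  have hXL : qimg L X = qimg L H := le_antisymm (qimg_mono hXH) ((qimg_mono hHX).trans (by
    rw [qimg_sup hPnL (hXH.trans hHL), (qimg_eq_bot hPnL).2 hPL, bot_sup_eq]))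
  have hSyl : Grp.IsSylowIn p (qimg L S) (qimg L H) := by
    refine ⟨qimg_mono hSH, qimg_isPGroup (hSH.trans hHL) hS.2.1, fun hd => hS.2.2 ?_⟩
    rw [← hXL] at hd
    exact hd.trans ((Grp.relIndex_map_dvd _ (comap_mono hS.1)).trans (dvd_of_eq (relIndex_subgroupOf (hXH.trans hHL))))
  have h0 : O' p (qimg L H) = ⊥ := by
    set K := qpre L (O' p (qimg L H)) with hK
    have hKH : K ≤ H := qpre_le hLH (O'_le p _)
    have hKP : K ≤ normalizer (P : Set G) := hKH.trans hHP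
    have hle : qimg P K ≤ Lb := by
      refine le_O' (qimg_mono hKH) (qimg_normalizer (qpre_normalizer hHL (le_normalizer_core' _))) ?_
      have h1 : Nat.card (qimg P K) = Nat.card Lb * Nat.card (O' p (qimg L H)) :=
        Nat.eq_of_mul_eq_mul_left (Nat.card_pos (α := P)) (by
          rw [card_qimg (hPL.trans (le_qpre _)) hKP, ← mul_assoc, hcardL, card_qpre])
      rw [h1]
      exact Nat.Coprime.mul_left (O'_coprime Hb) (O'_coprime _)
    rw [← qimg_qpre (N := L) (O' p (qimg L H))]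
    exact (qimg_eq_bot (qpre_le_normalizer _)).2 ((le_qpre_iff hKP).2 hle)
  have hbot := eq_bot_of_fixed_sylow (R := qimg L R) (qimg_normalizer c.hRH) h0 hSyl
    (by rw [← qimg_commutator (hSH.trans hHL) hRL, hSR]; exact (qimg_eq_bot bot_le).2 bot_le)
    (by rw [← qimg_commutator hHL hRL, c.hHR])
  have hHLeq : L = H := le_antisymm hLH ((qimg_eq_bot hHL).1 hbot)
  refine hpLb (hdvd.trans (dvd_of_eq ?_))
  rw [← hcardH, hHb, ← hHLeq, qimg_qpre]

theorem PLenCrit.false (c : PLenCrit p r H R R₀) : False := by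
  classical
  obtain ⟨hPe, hC, -⟩ := c.facts
  obtain ⟨Q, S, hQH, hQp, hSH, hSp, hRQ, hRS, hSQ, hPS, hSC, hSR1⟩ := c.exists_split
  set P := O p H with hP
  have hPH : P ≤ H := O_le p H
  have hHP : H ≤ normalizer (P : Set G) := le_normalizer_core' H
  have hRP : R ≤ normalizer (P : Set G) := le_normalizer_core c.hRH
  have hPp : IsPGroup p P := O_isPGroup p H
  haveI : IsMulCommutative P := hPe.1
  obtain ⟨a, ha⟩ := IsPGroup.iff_card.1 hPp
  set S₀ := ⁅S, R⁆ with hS₀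
  have hS₀S : S₀ ≤ S := Grp.commutator_le_left_of_le_normalizer hRS
  have hS₀H : S₀ ≤ H := hS₀S.trans hSH
  have hS₀p : IsPGroup p S₀ := hSp.to_le hS₀S
  have hcopS : (Nat.card R).Coprime (Nat.card S) := c.hcop.symm.coprime_dvd_right (card_dvd_of_le hSH)
  have hS₀R : ⁅S₀, R⁆ = S₀ := Grp.commutator_commutator_eq R S hRS hcopS (Or.inr inferInstance)
  have hRS₀ : R ≤ normalizer (S₀ : Set G) := Grp.right_le_normalizer_commutator R S
  -- a minimal invariant subgroup of `Q` moved by `S₀`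
  obtain ⟨q, hq, Y, hYQ, hYq, hYS, hYR, hYne⟩ : ∃ (q : ℕ) (_ : Fact q.Prime) (Y : Subgroup G), Y ≤ Q ∧ IsPGroup q Y ∧
      S₀ ≤ normalizer (Y : Set G) ∧ R ≤ normalizer (Y : Set G) ∧ ⁅Y, S₀⁆ ≠ ⊥ := by
    by_contra hno
    push Not at hno
    have hA : S₀ ⊔ R ≤ normalizer (Q : Set G) := sup_le (hS₀S.trans hSQ) hRQ
    have hcopA : (Nat.card ↥(S₀ ⊔ R)).Coprime (Nat.card Q) := by
      refine Nat.Coprime.coprime_dvd_left (by rw [sup_comm]; exact Grp.card_sup_dvd_mul hRS₀) (Nat.Coprime.mul_left ?_ ?_)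
      · exact c.hcop.symm.coprime_dvd_right (card_dvd_of_le hQH)
      · obtain ⟨m, hm⟩ := IsPGroup.iff_card.1 hS₀p
        rw [hm]; exact (hQp.pow_right m).symm
    have hle : Q ≤ Q ⊓ centralizer (S₀ : Set G) := Grp.le_of_forall_sylow inf_le_left fun s hs => by
      obtain ⟨T, hT, hTA⟩ := Grp.exists_invariant_sylow (S₀ ⊔ R) Q hA hcopA (Or.inr inferInstance) s
      exact ⟨T, hT, le_inf hT.1 (commutator_eq_bot_iff_le_centralizer.1
        (hno s hs T hT.1 hT.2.1 (le_sup_left.trans hTA) (le_sup_right.trans hTA)))⟩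
    exact hSR1 (le_bot_iff.1 (hSC ▸ le_inf hS₀S (le_centralizer_iff.1 (hle.trans inf_le_right))))
  obtain ⟨Q₁, -, hmin⟩ := (Set.toFinite {Z : Subgroup G | Z ≤ Q ∧ IsPGroup q Z ∧ S₀ ≤ normalizer (Z : Set G) ∧
    R ≤ normalizer (Z : Set G) ∧ ⁅Z, S₀⁆ ≠ ⊥}).exists_le_minimal (a := Y) ⟨hYQ, hYq, hYS, hYR, hYne⟩
  obtain ⟨hQ₁Q, hQ₁q, hSQ₁, hRQ₁, hQ₁ne⟩ := hmin.1
  have hminQ : ∀ Z < Q₁, S₀ ≤ normalizer (Z : Set G) → R ≤ normalizer (Z : Set G) → ⁅Z, S₀⁆ = ⊥ := by
    intro Z hZ h1 h2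
    by_contra h3
    exact hZ.not_ge (hmin.2 ⟨hZ.le.trans hQ₁Q, hQ₁q.to_le hZ.le, h1, h2, h3⟩ hZ.le)
  have hQ₁H : Q₁ ≤ H := hQ₁Q.trans hQH
  have hQ₁p : (Nat.card Q₁).Coprime p := hQp.coprime_dvd_left (card_dvd_of_le hQ₁Q)
  have hQ₁1 : Q₁ ≠ ⊥ := fun e => hQ₁ne (by rw [e, commutator_bot_left])
  have hQ₁P : (Nat.card Q₁).Coprime (Nat.card P) := ha ▸ hQ₁p.pow_right a
  have hqQ : q ∣ Nat.card Q₁ := by
    obtain ⟨n, hn⟩ := IsPGroup.iff_card.1 hQ₁q
    rcases Nat.eq_zero_or_pos n with rfl | h0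
    · exact absurd (card_eq_one.1 (show Nat.card Q₁ = 1 by rw [hn, pow_zero])) hQ₁1
    · exact (dvd_pow_self q h0.ne').trans (dvd_of_eq hn.symm)
  have hpq : p ≠ q := fun e => hp.out.ne_one (Nat.eq_one_of_dvd_coprimes hQ₁p (e ▸ hqQ) dvd_rfl)
  have hrR : r ∣ Nat.card R := c.hR₀ ▸ card_dvd_of_le c.hR₀R
  have hqr : q ≠ r := fun e =>
    hq.out.ne_one (Nat.eq_one_of_dvd_coprimes c.hcop (hqQ.trans (card_dvd_of_le hQ₁H)) (e ▸ hrR))
  have hpr : p ≠ r := by
    intro e
    obtain ⟨m, hm⟩ := IsPGroup.iff_card.1 hS₀p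
    rcases Nat.eq_zero_or_pos m with rfl | h0
    · exact hSR1 (card_eq_one.1 (show Nat.card S₀ = 1 by rw [hm, pow_zero]))
    · exact hp.out.ne_one (Nat.eq_one_of_dvd_coprimes c.hcop
        (((dvd_pow_self p h0.ne').trans (dvd_of_eq hm.symm)).trans (card_dvd_of_le hS₀H)) (e ▸ hrR))
  have hq2 : q ≠ 2 := fun e => c.hodd.not_two_dvd_nat (e ▸ hqQ.trans (card_subgroup_dvd_card Q₁))
  have hQS : ⁅Q₁, S₀⁆ = Q₁ := by
    refine le_antisymm (Grp.commutator_le_left_of_le_normalizer hSQ₁) ?_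
    by_contra hnle
    refine hQ₁ne ?_
    have h1 := hminQ ⁅Q₁, S₀⁆ (lt_of_le_of_ne (Grp.commutator_le_left_of_le_normalizer hSQ₁) fun e => hnle e.ge)
      (Grp.right_le_normalizer_commutator S₀ Q₁) (le_normalizer_commutator' hRQ₁ hRS₀)
    rwa [Grp.commutator_commutator_eq S₀ Q₁ hSQ₁ (coprime_O hpq hS₀p hQ₁q) (Or.inr inferInstance)] at h1
  have hQ₁C : Q₁ ⊓ centralizer (P : Set G) = ⊥ := by
    rw [eq_bot_iff, ← Grp.inf_eq_bot_of_coprime hQ₁P]
    exact le_inf inf_le_left ((inf_le_inf_right _ hQ₁H).trans hC)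
  have hPQ1 : ⁅P, Q₁⁆ ≠ ⊥ := fun e => hQ₁1 (eq_bot_iff.2 (hQ₁C ▸ le_inf le_rfl
    (le_centralizer_iff.1 (commutator_eq_bot_iff_le_centralizer.1 e))))
  have hPQP : ⁅P, Q₁⁆ ≤ P := Grp.commutator_le_left_of_le_normalizer (hQ₁H.trans hHP)
  -- the whole group
  have hgen : P ⊔ Q₁ ⊔ S₀ = H := by
    set H₀ := P ⊔ Q₁ ⊔ S₀ with hH₀
    have hH₀H : H₀ ≤ H := sup_le (sup_le hPH hQ₁H) hS₀H
    by_contra hne
    have hRH₀ : R ≤ normalizer (H₀ : Set G) :=
      Grp.le_normalizer_sup' (Grp.le_normalizer_sup' hRP hRQ₁) hRS₀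
    have hlt : Nat.card H₀ < Nat.card H := lt_of_not_ge fun h => hne (Subgroup.eq_of_le_of_card_ge hH₀H h)
    have hpl := c.hmin G inferInstance c.hodd H₀ R R₀ hRH₀ (c.hcop.coprime_dvd_left (card_dvd_of_le hH₀H))
      c.hR₀R c.hR₀ (zgroup_mono (inf_le_inf_right _ hH₀H) c.hZ) (by omega)
    set H' := ⁅H₀, R⁆ with hH'
    have hH'H₀ : H' ≤ H₀ := Grp.commutator_le_left_of_le_normalizer hRH₀
    have hH₀H' : H₀ ≤ normalizer (H' : Set G) := Grp.left_le_normalizer_commutator R H₀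
    have hS' : S₀ ≤ H' := hS₀R.ge.trans (Subgroup.commutator_mono le_sup_right le_rfl)
    have hQ' : Q₁ ≤ H' := by
      rw [← hQS, Subgroup.commutator_comm]
      exact (Subgroup.commutator_mono hS' le_rfl).trans
        (Grp.commutator_le_left_of_le_normalizer ((le_sup_right.trans le_sup_left).trans hH₀H'))
    have hW' : ⁅P, Q₁⁆ ≤ H' := by
      rw [Subgroup.commutator_comm]
      exact (Subgroup.commutator_mono hQ' le_rfl).trans
        (Grp.commutator_le_left_of_le_normalizer ((le_sup_left.trans le_sup_left).trans hH₀H'))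
    have hnW : H₀ ≤ normalizer ((⁅P, Q₁⁆ : Subgroup G) : Set G) :=
      sup_le (sup_le (Grp.left_le_normalizer_commutator Q₁ P) (Grp.right_le_normalizer_commutator Q₁ P))
        (le_normalizer_commutator' (hS₀H.trans hHP) hSQ₁)
    have h1 := key_in hpl hW' (hH'H₀.trans hnW) (hPp.to_le hPQP) hQ' hQ₁p hS' hS₀p hSQ₁
    rw [hQS, Subgroup.commutator_comm, Grp.commutator_commutator_eq Q₁ P (hQ₁H.trans hHP) hQ₁P (Or.inr inferInstance)] at h1
    exact hPQ1 h1
  have hfix : P ⊓ centralizer (Q₁ : Set G) = ⊥ := by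
    by_contra hC1
    have hPn : P ≤ normalizer ((P ⊓ centralizer (Q₁ : Set G) : Subgroup G) : Set G) :=
      (le_centralizer_iff.1 (inf_le_left.trans (le_centralizer_iff_isMulCommutative.2 inferInstance))).trans
        (centralizer_le_normalizer _)
    have hHn : H ≤ normalizer ((P ⊓ centralizer (Q₁ : Set G) : Subgroup G) : Set G) := hgen.ge.trans
      (sup_le (sup_le hPn (le_normalizer_inf' (hQ₁H.trans hHP) (le_normalizer_centralizer' le_normalizer)))
        (le_normalizer_inf' (hS₀H.trans hHP) (le_normalizer_centralizer' hSQ₁)))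
    have hkey := c.qkey hC1 (inf_le_left.trans hPH) hHn (le_normalizer_inf' hRP (le_normalizer_centralizer' hRQ₁))
      hPH hHP hPp hQ₁H hQ₁p hS₀H hS₀p hSQ₁
    rw [hQS, Subgroup.commutator_comm] at hkey
    exact hPQ1 (le_bot_iff.1 ((le_inf hkey le_rfl).trans
      (Grp.abelian_commutator_inf_fixed Q₁ P (hQ₁H.trans hHP) hQ₁P).le))
  have hPQ : ⁅P, Q₁⁆ = P := by
    have := Grp.commutator_sup_fixed Q₁ P (hQ₁H.trans hHP) hQ₁P (Or.inr inferInstance)
    rwa [hfix, sup_bot_eq] at this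
  have hPS₀ : P ⊓ S₀ = ⊥ := le_bot_iff.1 (hPS ▸ inf_le_inf_left P hS₀S)
  have hZ : IsZGroup ↥((P ⊔ Q₁ ⊔ S₀) ⊓ centralizer (R₀ : Set G)) := by rw [hgen]; exact c.hZ
  obtain ⟨-, -, hCS⟩ := config_fixed_bot hpq hpr hqr hq2 hPe hQ₁q hS₀p c.hR₀R c.hR₀ (hQ₁H.trans hHP) (hS₀H.trans hHP)
    hRP hSQ₁ hRQ₁ hRS₀ hQ₁C hPS₀ hS₀R hQS hQ₁1 hZ
  have hS₀R₀ : ⁅S₀, R₀⁆ = S₀ := by
    have := Grp.commutator_sup_fixed R₀ S₀ (c.hR₀R.trans hRS₀)
      ((hcopS.coprime_dvd_left (card_dvd_of_le c.hR₀R)).coprime_dvd_right (card_dvd_of_le hS₀S)) (Or.inr inferInstance)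
    rwa [hCS, sup_bot_eq] at this
  have hR0 : R₀ = R := by
    by_contra hne
    have hlt : Nat.card R₀ < Nat.card R := lt_of_not_ge fun h => hne (Subgroup.eq_of_le_of_card_ge c.hR₀R h)
    have hRH₀ := c.hR₀R.trans c.hRH
    have hpl := c.hmin G inferInstance c.hodd H R₀ R₀ hRH₀ (c.hcop.coprime_dvd_right (card_dvd_of_le c.hR₀R))
      le_rfl c.hR₀ c.hZ (by omega)
    have hn : H ≤ normalizer ((⁅H, R₀⁆ : Subgroup G) : Set G) := Grp.left_le_normalizer_commutator R₀ H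
    have h1 : S₀ ≤ ⁅H, R₀⁆ := hS₀R₀.ge.trans (Subgroup.commutator_mono hS₀H le_rfl)
    have h2 : Q₁ ≤ ⁅H, R₀⁆ := by
      rw [← hQS, Subgroup.commutator_comm Q₁ S₀]
      exact (Subgroup.commutator_mono h1 le_rfl).trans (Grp.commutator_le_left_of_le_normalizer (hQ₁H.trans hn))
    have h3 : P ≤ ⁅H, R₀⁆ := by
      rw [← hPQ, Subgroup.commutator_comm P Q₁]
      exact (Subgroup.commutator_mono h2 le_rfl).trans (Grp.commutator_le_left_of_le_normalizer (hPH.trans hn))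
    have e : ⁅H, R₀⁆ = H :=
      le_antisymm (Grp.commutator_le_left_of_le_normalizer hRH₀) (hgen.ge.trans (sup_le (sup_le h3 h2) h1))
    rw [e] at hpl
    exact c.hbad hpl
  subst hR0
  refine config_false c.hodd hpq hpr hqr hPe hQ₁q hS₀p c.hR₀ (hQ₁H.trans hHP) (hS₀H.trans hHP) hRP hSQ₁ hRQ₁ hRS₀
    hQ₁C hfix hPS₀ hS₀R hQS hQ₁1 hminQ (fun N hN hN1 h1 h2 h3 => ?_) hZ
  have hPN : P ≤ normalizer (N : Set G) :=
    (le_centralizer_iff.1 (hN.trans (le_centralizer_iff_isMulCommutative.2 inferInstance))).trans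
      (centralizer_le_normalizer _)
  have hkey := c.qkey hN1 (hN.trans hPH) (hgen.ge.trans (sup_le (sup_le hPN h1) h2)) h3 hPH hHP hPp hQ₁H hQ₁p
    hS₀H hS₀p hSQ₁
  rw [hQS, Subgroup.commutator_comm, hPQ] at hkey
  exact le_antisymm hN hkey

/-- BG 3.6 for a coprime operator group. -/
theorem commutator_pLength (p r : ℕ) [Fact p.Prime] [Fact r.Prime] : ∀ n : ℕ, PLenHyp.{u} p r n := by
  intro n
  induction n with
  | zero => intro Γ _ _ _ _ H R R₀ _ _ _ _ _ h; exact absurd h (Nat.not_lt_zero _)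
  | succ n ih =>
    intro Γ _ _ hs hodd H R R₀ hRH hcop hR₀R hR₀ hZ hlt
    haveI := hs
    rcases Nat.lt_succ_iff_lt_or_eq.1 hlt with h | h
    · exact ih Γ hs hodd H R R₀ hRH hcop hR₀R hR₀ hZ h
    set K := ⁅H, R⁆ with hK
    have hKH : K ≤ H := Grp.commutator_le_left_of_le_normalizer hRH
    have hKK : ⁅K, R⁆ = K := Grp.commutator_commutator_eq R H hRH hcop.symm (Or.inr inferInstance)
    by_cases hlt' : Nat.card K < Nat.card H
    · have := ih Γ hs hodd K R R₀ (Grp.right_le_normalizer_commutator R H)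
        (hcop.coprime_dvd_left (card_dvd_of_le hKH)) hR₀R hR₀ (zgroup_mono (inf_le_inf_right _ hKH) hZ) (by omega)
      rwa [hKK] at this
    have e : K = H := Subgroup.eq_of_le_of_card_ge hKH (not_lt.1 hlt')
    by_contra hbad
    rw [e] at hbad
    exact PLenCrit.false (G := Γ) ⟨hodd, hRH, hcop, hR₀R, hR₀, hZ, e, h ▸ ih, hbad⟩

end Cfsg.Agent.Transfer.Loc
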