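import Cfsg.Agent.Lib.Transfer.Local.Plane
import Cfsg.Agent.Lib.Transfer.Local.SylowFusion
import Cfsg.Agent.Lib.Transfer.Local.Hyperplane
import Cfsg.Agent.Lib.Transfer.Local.PLengthKey

/-!
An element centraliser of a maximal plane forces centralisation; fixed-point-free operators.
-/

set_option autoImplicit false
set_option linter.style.haveILetI false
set_option linter.unusedSectionVars false
set_option maxHeartbeats 1000000

namespace Cfsg.Agent.Transfer.Loc

open Subgroup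
open scoped commutatorElement Pointwise

universe u

variable {G : Type u} [Group G] [Finite G] {p q r : ℕ} [hp : Fact p.Prime] [hq : Fact q.Prime] [hr : Fact r.Prime]

omit hp hq hr in
theorem hasMaxPlane_of_le {r : ℕ} {B R : Subgroup G} (hB : IsMaxPlane r B) (hBR : B ≤ R) :
    Narrow.HasMaxPlane r R := by
  haveI := hB.elem.1
  refine ⟨B.subgroupOf R, ⟨inferInstance, fun a ha => Subtype.ext (hB.elem.2 _ ha)⟩,
    by rw [Nat.card_congr (subgroupOfEquivOfLe hBR).toEquiv, hB.card], fun D hD hle => ?_⟩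
  haveI := hD.1
  have h : D.map R.subtype = B := hB.2.2 _ ⟨Subgroup.map_isMulCommutative _ _, by
    rintro _ ⟨d, hd, rfl⟩
    exact congrArg Subtype.val (hD.2 d hd)⟩ ((map_subgroupOf_eq_of_le hBR).ge.trans (map_mono hle))
  rw [← comap_map_eq_self_of_injective R.subtype_injective D, h]
  rfl

omit hq in
/-- Sylow subgroups over a maximal plane centralise conjugates of the maximal planes for other primes that it normalises and fixes a point of. -/
theorem IsMaxPlane.key_sylow (hG : Cfsg.IsMinSimpleOddOrder G) {A B : Subgroup G} (hA : IsMaxPlane p A)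
    (hB : IsMaxPlane r B) (hrp : r ≠ p) (hAB : A ≤ normalizer (B : Set G))
    (hfix : B ⊓ centralizer (A : Set G) ≠ ⊥) (S : Sylow p G) (hAS : A ≤ (S : Subgroup G)) :
    ∃ k ∈ centralizer (A : Set G), (S : Subgroup G) ≤ centralizer ((MulAut.conj k • B : Subgroup G) : Set G) := by
  have hr2 : r ≠ 2 := ne_two hG hB.dvd_card_group
  have hBp : IsPGroup r B := Grp.elemAb_isPGroup hB.elem
  have hrC : r ∣ Nat.card (centralizer (A : Set G)) :=
    (dvd_card_of_pGroup (hBp.to_le inf_le_left) hfix).trans (card_dvd_of_le inf_le_right)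
  obtain ⟨R, hR, hBR⟩ := exists_maxInv hBp hAB
  obtain ⟨hRp, -⟩ := maxInv_props hR
  have hRn : Cfsg.IsNarrow r R := by
    by_cases h : Cfsg.PRankLE r 2 R
    · exact Or.inl h
    · exact narrow_of_maxPlane hr2 hRp h (hasMaxPlane_of_le hB hBR)
  have htr := hA.conj_of_dvd hG hrp hrC
  have hSt : (S : Subgroup G) ≠ ⊤ := ne_top_of_pGroup hG S.isPGroup'
  have hprimes : ∀ s : ℕ, s.Prime → s ∣ Nat.card (S : Subgroup G) → s ∣ Nat.card A := by
    intro s hs hd
    obtain ⟨n, hn⟩ := IsPGroup.iff_card.1 S.isPGroup'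
    rw [(Nat.prime_dvd_prime_iff_eq hs hp.out).1 (hs.dvd_of_dvd_pow (hn ▸ hd))]
    exact hA.dvd_card
  haveI : Group.IsNilpotent (S : Subgroup G) := S.isPGroup'.isNilpotent
  obtain ⟨-, -, hsub, hd⟩ := Cfsg.Agent.S1395.result hG A (hA.hyp hG) r hr.out (hA.not_dvd hrp) (S : Subgroup G) hSt
    hprimes hAS (Grp.isSubnormal_of_nilpotent _) htr
  obtain ⟨Q, hQ, -⟩ := exists_maxInv (A := (S : Subgroup G)) (R := (⊥ : Subgroup G)) (q := r) (IsPGroup.of_bot)
    (fun a _ => mem_normalizer_iff.2 fun x => by simp)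
  obtain ⟨k, hk, hkQ⟩ := htr R hR Q (hsub hQ)
  have hkC : k ∈ centralizer (A : Set G) := TransHyp.piCoreOf_le _ hk
  obtain ⟨h1, -⟩ := hd Q hQ
  have hSQ : (S : Subgroup G) ≤ ⁅normalizer (Q : Set G), normalizer (Q : Set G)⁆ :=
    (le_inf le_rfl (sylow_le_derived_normalizer hG S)).trans h1
  have hQn : Cfsg.IsNarrow r Q :=
    hkQ ▸ narrow_equiv (R.equivMapOfInjective (MulAut.conj k).toMonoidHom (MulAut.conj k).injective) hRn
  have hQp : IsPGroup r Q := (maxInv_props hQ).1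
  have hQ1 : Q ≠ ⊥ := by
    rw [hkQ]
    exact fun e => hB.ne_bot (le_bot_iff.1 (hBR.trans ((map_eq_bot_iff_of_injective _ (MulAut.conj k).injective).1 e).le))
  haveI := solvable_of_ne_top hG (TransHyp.normalizer_ne_top hG hQ1 (ne_top_of_pGroup hG hQp))
  have hSC := le_centralizer_of_narrow hr2 hrp.symm hQp hQn le_rfl
    (hG.1.of_dvd_nat (card_subgroup_dvd_card _)) hSQ S.isPGroup'
  exact ⟨k, hkC, hSC.trans (centralizer_le (hkQ ▸ map_mono hBR))⟩

omit hq in
/-- Two maximal planes for different primes, one normalising the other and fixing a point of it, commute. -/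
theorem IsMaxPlane.key (hG : Cfsg.IsMinSimpleOddOrder G) {A B : Subgroup G} (hA : IsMaxPlane p A)
    (hB : IsMaxPlane r B) (hrp : r ≠ p) (hAB : A ≤ normalizer (B : Set G))
    (hfix : B ⊓ centralizer (A : Set G) ≠ ⊥) : A ≤ centralizer (B : Set G) := by
  obtain ⟨S, hAS⟩ := (Grp.elemAb_isPGroup hA.elem).exists_le_sylow
  obtain ⟨k, hkC, hSC⟩ := hA.key_sylow hG hB hrp hAB hfix S hAS
  intro a ha
  refine mem_centralizer_iff.2 fun b hb => ?_
  have h2 : (MulAut.conj k b) * a = a * (MulAut.conj k b) :=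
    mem_centralizer_iff.1 (hSC (hAS ha)) _ (Subgroup.smul_mem_pointwise_smul b (MulAut.conj k) B hb)
  have h3 : Commute a k := mem_centralizer_iff.1 hkC a ha
  have h4 : Commute (k * b * k⁻¹) a := by rw [MulAut.conj_apply] at h2; exact h2
  have h5 : Commute (k⁻¹ * (k * b * k⁻¹) * k) a := ((h3.inv_right.symm).mul_left h4).mul_left h3.symm
  simpa [mul_assoc] using h5.eq

omit hp hq hr in
theorem commutator_sup_le {R A₁ A₂ C : Subgroup G} (h1 : ⁅R, A₁⁆ ≤ C) (h2 : ⁅R, A₂⁆ ≤ C)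
    (hA : A₁ ⊔ A₂ ≤ normalizer (C : Set G)) : ⁅R, A₁ ⊔ A₂⁆ ≤ C := by
  refine commutator_le.2 fun x hx a ha => ?_
  revert x
  rw [sup_eq_closure] at ha
  induction ha using closure_induction with
  | mem y hy =>
    intro x hx
    rcases hy with hy | hy
    · exact h1 (commutator_mem_commutator hx hy)
    · exact h2 (commutator_mem_commutator hx hy)
  | one => intro x _; rw [commutatorElement_one_right]; exact one_mem C
  | mul y z hy hz ihy ihz =>
    intro x hx
    rw [show ⁅x, y * z⁆ = ⁅x, y⁆ * (y * ⁅x, z⁆ * y⁻¹) by simp only [commutatorElement_def]; group]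
    exact mul_mem (ihy x hx) ((mem_normalizer_iff.1 (hA (by rwa [sup_eq_closure])) _).1 (ihz x hx))
  | inv y hy ihy =>
    intro x hx
    have hyN : y⁻¹ ∈ normalizer (C : Set G) := inv_mem (hA (by rwa [sup_eq_closure]))
    rw [show ⁅x, y⁻¹⁆ = y⁻¹ * ⁅x, y⁆⁻¹ * y⁻¹⁻¹ by simp only [commutatorElement_def]; group]
    exact (mem_normalizer_iff.1 hyN _).1 (inv_mem (ihy x hx))

omit hp hr in
/-- A Sylow subgroup of a nilpotent subgroup is normalised by everything normalising that subgroup. -/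
theorem normalizer_le_sylow {K X : Subgroup G} (hK : Group.IsNilpotent K) (hX : Grp.IsSylowIn q X K) :
    normalizer (K : Set G) ≤ normalizer (X : Set G) := by
  obtain ⟨T, rfl⟩ := Grp.isSylowIn_iff.1 hX
  intro g hg
  rw [Grp.mem_normalizer_iff_smul]
  obtain ⟨k, hk, e⟩ := hX.conj (hX.smul (Grp.mem_normalizer_iff_smul.1 hg))
  haveI := hK
  have h1 : k ∈ normalizer (((T : Subgroup K).map K.subtype : Subgroup G) : Set G) :=
    map_normal_le_normalizer (T : Subgroup K) hk
  rw [← e, Grp.mem_normalizer_iff_smul.1 h1]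

/-- An operator of prime order acting freely on a `q`-group centralises it modulo any `r`-group it normalises. -/
theorem comm_le_centralizer_fpf_aux (hqr : q ≠ r) (hqp : q ≠ p) (hrp : r ≠ p) (hr2 : r ≠ 2)
    {V R L : Subgroup G} (hV : IsPGroup q V) (hR : IsPGroup r R) (hL : Nat.card L = p)
    (hRV : R ≤ normalizer (V : Set G)) (hLV : L ≤ normalizer (V : Set G)) (hLR : L ≤ normalizer (R : Set G))
    (hfix : V ⊓ centralizer (L : Set G) = ⊥) : ⁅R, L⁆ ≤ centralizer (V : Set G) := by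
  have hLp : IsPGroup p L := IsPGroup.of_card (n := 1) (by rw [hL, pow_one])
  set Φ := (frattini ↥V).map V.subtype with hΦ
  have hΦV : Φ ≤ V := map_subtype_le _
  have hNV : normalizer (V : Set G) ≤ normalizer (Φ : Set G) := normalizer_le_normalizer_frattini V
  have hVN : V ≤ normalizer (Φ : Set G) := le_normalizer.trans hNV
  have hRN := hRV.trans hNV
  have hLN := hLV.trans hNV
  have hV' : Cfsg.IsElementaryAbelian q (qimg Φ V) := by
    refine ⟨le_centralizer_iff_isMulCommutative.1 (commutator_eq_bot_iff_le_centralizer.1 ?_), ?_⟩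
    · rw [← qimg_commutator hVN hVN]
      refine (qimg_eq_bot (V.commutator_le_self.trans hVN)).2 ?_
      rw [derived_eq_map]
      exact map_mono (Grp.pGroup_commutator_le_frattini hV)
    · rintro _ ⟨v, hv, rfl⟩
      rw [← map_pow]
      refine (QuotientGroup.eq_one_iff _).2 ?_
      exact ⟨(⟨v, hv⟩ : V) ^ q, Grp.pGroup_pow_mem_frattini hV _, by simp⟩
  have hcL : Nat.card (qimg Φ L) = p := by
    have h := (card_qimg_dvd hLN : Nat.card (qimg Φ L) ∣ Nat.card L)
    refine ((Nat.dvd_prime hp.out).1 (hL ▸ h)).resolve_left fun e => ?_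
    have hLΦ := (qimg_eq_bot hLN).1 (card_eq_one.1 e)
    exact hqp.symm ((Nat.prime_dvd_prime_iff_eq hp.out hq.out).1 (by
      obtain ⟨n, hn⟩ := IsPGroup.iff_card.1 hV
      exact hp.out.dvd_of_dvd_pow (hn ▸ hL ▸ card_dvd_of_le (hLΦ.trans hΦV))))
  have hfix' : qimg Φ V ⊓ centralizer (qimg Φ L : Set (Qt Φ)) = ⊥ := by
    rw [eq_bot_iff]
    rintro _ ⟨⟨v, hv, rfl⟩, hvC⟩
    rw [mem_bot]
    refine (QuotientGroup.eq_one_iff _).2 ?_
    obtain ⟨c, hc, hcv⟩ := Grp.exists_fixed_rep L V Φ hLV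
      (Grp.inf_eq_bot_of_coprime (coprime_O hqp.symm hLp hV))
      (coprime_O hqp.symm hLp (hV.to_le hΦV)) (Or.inl (by haveI := hLp.isNilpotent; infer_instance)) hΦV hVN hLN
      hv (fun a ha => by
        have h1 := mem_centralizer_iff.1 hvC _ (mem_qimg ha (hLN ha))
        have h2 : QuotientGroup.mk' (Φ.subgroupOf (normalizer (Φ : Set G))) (⟨a, hLN ha⟩ * v * ⟨a, hLN ha⟩⁻¹ * v⁻¹) = 1 := by
          rw [map_mul, map_mul, map_mul, map_inv, map_inv, h1]
          group
        have h3 := (QuotientGroup.eq_one_iff _).1 h2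
        exact h3)
    rw [hfix, mem_bot] at hc
    subst hc
    show (v : G) ∈ Φ
    simpa using inv_mem hcv
  have key : ⁅qimg Φ R, qimg Φ L⁆ ≤ centralizer (qimg Φ V : Set (Qt Φ)) := by
    by_contra hne
    exact exists_fixed_of_not_le hqr hqp hrp hr2 hcL (qimg_isPGroup hRN hR) (qimg_normalizer hLR) hV'
      (qimg_normalizer hLV) (qimg_normalizer hRV) hne hfix'
  have hD : ⁅R, L⁆ ≤ R := Grp.commutator_le_left_of_le_normalizer hLR
  refine le_centralizer_of_mod_frattini (hD.trans hRV) (coprime_O hqr.symm (hR.to_le hD) hV)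
    (Or.inl (by haveI := (hR.to_le hD).isNilpotent; infer_instance)) ?_
  rw [← qimg_eq_bot ((comm_le le_normalizer (hD.trans hRV)).trans hNV), qimg_commutator hVN (hD.trans hRN),
    qimg_commutator hRN hLN, commutator_eq_bot_iff_le_centralizer, le_centralizer_iff]
  exact key

/-- The same for a nilpotent group. -/
theorem comm_le_centralizer_fpf (hrp : r ≠ p) (hr2 : r ≠ 2)
    {K R L : Subgroup G} (hK : Group.IsNilpotent K) (hrK : ¬ r ∣ Nat.card K) (hpK : ¬ p ∣ Nat.card K)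
    (hR : IsPGroup r R) (hL : Nat.card L = p)
    (hRK : R ≤ normalizer (K : Set G)) (hLK : L ≤ normalizer (K : Set G)) (hLR : L ≤ normalizer (R : Set G))
    (hfix : K ⊓ centralizer (L : Set G) = ⊥) : ⁅R, L⁆ ≤ centralizer (K : Set G) := by
  refine le_centralizer_iff.1 ((Grp.le_of_forall_sylow
    (inf_le_left : K ⊓ centralizer ((⁅R, L⁆ : Subgroup G) : Set G) ≤ K) fun s hs => ?_).trans inf_le_right)
  obtain ⟨X, hX⟩ := Grp.exists_isSylowIn s K
  refine ⟨X, hX, le_inf hX.1 ?_⟩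
  rcases eq_or_ne X ⊥ with hX1 | hX1
  · rw [hX1]; exact bot_le
  have hsK : s ∣ Nat.card K := (dvd_card_of_pGroup hX.2.1 hX1).trans (card_dvd_of_le hX.1)
  have hN := normalizer_le_sylow hK hX
  rw [le_centralizer_iff]
  exact comm_le_centralizer_fpf_aux (p := p) (q := s) (r := r) (fun e => hrK (e ▸ hsK)) (fun e => hpK (e ▸ hsK)) hrp hr2 hX.2.1 hR hL
    (hRK.trans hN) (hLK.trans hN) hLR (eq_bot_iff.2 ((inf_le_inf_right _ hX.1).trans hfix.le))

omit hp hq in
/-- A coprime operator fixing the elements of order `r` of an abelian `r`-group fixes it. -/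
theorem centralizes_of_omZ {R A : Subgroup G} (hR : IsPGroup r R) [IsMulCommutative R] (hAR : A ≤ normalizer (R : Set G))
    (hcop : (Nat.card A).Coprime (Nat.card R)) (h : A ≤ centralizer (omZ r R : Set G)) : A ≤ centralizer (R : Set G) := by
  by_contra hne
  have hne' : ⁅R, A⁆ ≠ ⊥ := fun e => hne (le_centralizer_iff.1 (commutator_eq_bot_iff_le_centralizer.1 e))
  have hD : ⁅R, A⁆ ≤ R := Grp.commutator_le_left_of_le_normalizer hAR
  obtain ⟨x, hx, hx1⟩ := (Subgroup.bot_or_exists_ne_one (omZ r ⁅R, A⁆)).resolve_left (omZ_ne_bot (hR.to_le hD) hne')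
  have hxR : x ∈ R := hD hx.1
  have hxO : x ∈ omZ r R := ⟨hxR, le_centralizer_iff_isMulCommutative.2 inferInstance hxR, hx.2.2⟩
  have h1 : x ∈ (R ⊓ centralizer (A : Set G)) ⊓ ⁅R, A⁆ := ⟨⟨hxR, le_centralizer_iff.1 h hxO⟩, hx.1⟩
  rw [Grp.abelian_commutator_inf_fixed A R hAR hcop, mem_bot] at h1
  exact hx1 h1

/-- Complements of `M_σ` over a given `σ'`-subgroup. -/
theorem exists_compl_ge (hG : Cfsg.IsMinSimpleOddOrder G) {M : Subgroup G} (hM : IsCoatom M) {U : Subgroup G}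
    (hUM : U ≤ M) (hU : ∀ s : ℕ, s.Prime → s ∣ Nat.card U → s ∉ Cfsg.sigma M) :
    ∃ E : Subgroup G, Cfsg.IsComplIn E (Cfsg.sigmaCore M) M ∧ U ≤ E := by
  haveI := solvable_of_ne_top hG hM.1
  obtain ⟨E, hE, -, hUE⟩ := Grp.PiHall.exists_ge (π := {s : ℕ | s ∉ Cfsg.sigma M}) _ G ⊥ M U rfl bot_le
    (by simp) inferInstance hUM bot_le hU
  have hEN : E ≤ normalizer (Cfsg.sigmaCore M : Set G) := hE.1.trans (TransHyp.le_normalizer_piCoreOf M)
  have hSM : Cfsg.sigmaCore M ≤ M := TransHyp.piCoreOf_le M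
  have hsup : E ⊔ Cfsg.sigmaCore M = M := by
    refine le_antisymm (sup_le hE.1 hSM) (Grp.le_of_forall_sylow (sup_le hE.1 hSM) fun s hs => ?_)
    by_cases hσ : s ∈ Cfsg.sigma M
    · obtain ⟨X, hX⟩ := Grp.exists_isSylowIn s M
      exact ⟨X, hX, (sylow_le_piCore hG hM (alpha_subset_sigma hG hM) le_rfl hσ hX).trans le_sup_right⟩
    · obtain ⟨X, hX⟩ := Grp.exists_isSylowIn s E
      refine ⟨X, ⟨hX.1.trans hE.1, hX.2.1, fun hd => ?_⟩, hX.1.trans le_sup_left⟩
      rw [← Subgroup.relIndex_mul_relIndex X E M hX.1 hE.1] at hd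
      exact (hs.out.dvd_mul.1 hd).elim hX.2.2 (hE.2.2 s hs.out hσ)
  refine ⟨E, ⟨hE.1, hSM, ?_, fun m hm => ?_⟩, hUE⟩
  · refine Grp.inf_eq_bot_of_coprime (Nat.coprime_of_dvd fun s hs h1 h2 => ?_)
    exact hE.2.1 s hs h1 (TransHyp.piCoreOf_primes (π := Cfsg.sigma M) (X := M) hs h2)
  · rw [← hsup, ← SetLike.mem_coe, Subgroup.coe_mul_of_left_le_normalizer_right E _ hEN] at hm
    obtain ⟨a, ha, b, hb, rfl⟩ := hm
    exact ⟨a, ha, b, hb, rfl⟩

end Cfsg.Agent.Transfer.Loc
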