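import Cfsg.Agent.Lib.Transfer.Local.Exceptional
import Cfsg.Agent.Lib.Grp.CoprimeAbelian
import Cfsg.Agent.S1449

/-!
Coprime operators on abelian `p`-groups: splitting along an eigenline, and pairs of commuting free operators.
-/

set_option autoImplicit false
set_option linter.style.haveILetI false
set_option linter.unusedSectionVars false
set_option maxHeartbeats 1000000

namespace Cfsg.Agent.Transfer.Loc

open Subgroup
open scoped commutatorElement Pointwise

universe u

section Abstract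

variable {X : Type u} [CommGroup X] [Finite X]

/-- The averaged projection onto the fixed points of an endomorphism of coprime finite order. -/
theorem exists_fixed_proj (f : X →* X) {d : ℕ} (hd : ∀ x, f^[d] x = x) (hcop : d.Coprime (Nat.card X)) :
    ∃ e : X →* X, (∀ x, f (e x) = e x) ∧ (∀ x, f x = x → e x = x) ∧
      ∀ h : X →* X, (∀ x, h (f x) = f (h x)) → ∀ x, h (e x) = e (h x) := by
  obtain ⟨u, hu⟩ : ∃ u : ℕ, ∀ x : X, (x ^ d) ^ u = x := by
    rcases eq_or_ne (Nat.card X) 1 with h1 | h1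
    · refine ⟨0, fun x => ?_⟩
      haveI : Subsingleton X := (Nat.card_eq_one_iff_unique.1 h1).1
      exact Subsingleton.elim _ _
    obtain ⟨u, hu⟩ := Nat.exists_mul_mod_eq_one_of_coprime hcop
      (Nat.lt_of_le_of_ne Nat.card_pos (Ne.symm h1))
    refine ⟨u, fun x => ?_⟩
    rw [← pow_mul, ← pow_mod_natCard, hu.2, pow_one]
  let e : X →* X :=
    { toFun := fun x => (∏ j ∈ Finset.range d, f^[j] x) ^ u
      map_one' := by simp
      map_mul' := fun a b => by simp [iterate_map_mul, Finset.prod_mul_distrib, mul_pow] }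
  refine ⟨e, fun x => ?_, fun x hx => ?_, fun h hcomm x => ?_⟩
  · show f ((∏ j ∈ Finset.range d, f^[j] x) ^ u) = (∏ j ∈ Finset.range d, f^[j] x) ^ u
    rw [map_pow, map_prod]
    congr 1
    have h1 := Finset.prod_range_succ' (fun j => f^[j] x) d
    rw [Finset.prod_range_succ, hd] at h1
    simp only [Function.iterate_succ_apply', Function.iterate_zero_apply] at h1
    exact (mul_right_cancel h1).symm
  · show (∏ j ∈ Finset.range d, f^[j] x) ^ u = x
    rw [Finset.prod_congr rfl fun j _ => Function.iterate_fixed hx j, Finset.prod_const, Finset.card_range, hu]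
  · show h ((∏ j ∈ Finset.range d, f^[j] x) ^ u) = (∏ j ∈ Finset.range d, f^[j] (h x)) ^ u
    rw [map_pow, map_prod]
    congr 1
    refine Finset.prod_congr rfl fun j hj => ?_
    clear hj
    induction j with
    | zero => rfl
    | succ j ih => rw [Function.iterate_succ_apply', Function.iterate_succ_apply', hcomm, ih]

theorem orbit_prod_eq_one (f : X →* X) {r : ℕ} (hr : ∀ x, f^[r] x = x) (hfree : ∀ x, f x = x → x = 1) (x : X) :
    ∏ j ∈ Finset.range r, f^[j] x = 1 := by
  refine hfree _ ?_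
  rw [map_prod]
  have h1 := Finset.prod_range_succ' (fun j => f^[j] x) r
  rw [Finset.prod_range_succ, hr] at h1
  simp only [Function.iterate_succ_apply', Function.iterate_zero_apply] at h1
  exact (mul_right_cancel h1).symm

/-- Two commuting free operators of order `r` cannot have all their mixed products free. -/
theorem pow_eq_one_of_free (α β : X →* X) {r : ℕ} (hr : r.Prime) (hα : ∀ x, α^[r] x = x)
    (hβ : ∀ x, β^[r] x = x) (hc : Function.Commute (⇑α) (⇑β)) (hαf : ∀ x, α x = x → x = 1)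
    (hf : ∀ i < r, ∀ x, β (α^[i] x) = x → x = 1) (x : X) : x ^ r = 1 := by
  have hiter : ∀ (i j : ℕ) (y : X), (⇑β ∘ (⇑α)^[i])^[j] y = β^[j] (α^[i * j] y) := by
    intro i j y
    rw [(Function.Commute.iterate_right (hc.symm) i).comp_iterate j, Function.comp_apply,
      Function.iterate_mul]
  have h1 : ∀ i < r, ∏ j ∈ Finset.range r, β^[j] (α^[i * j] x) = 1 := by
    intro i hi
    let f : X →* X :=
      { toFun := fun y => β (α^[i] y)
        map_one' := by simp
        map_mul' := fun a b => by simp [iterate_map_mul] }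
    rw [← Finset.prod_congr rfl fun j _ => hiter i j x]
    refine orbit_prod_eq_one f (fun y => ?_) (hf i hi) x
    show (⇑β ∘ (⇑α)^[i])^[r] y = y
    rw [hiter, hβ, mul_comm, Function.iterate_mul]
    exact Function.iterate_fixed (hα y) i
  have h2 : ∀ j ∈ Finset.range r, j ≠ 0 → ∏ i ∈ Finset.range r, α^[i * j] x = 1 := by
    intro j hj hj0
    let g : X →* X :=
      { toFun := fun y => α^[j] y
        map_one' := by simp
        map_mul' := fun a b => by simp [iterate_map_mul] }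
    have h3 : ∀ y, g y = y → y = 1 := fun y hy => by
      obtain ⟨m, hm⟩ := Nat.exists_mul_mod_eq_one_of_coprime
        ((Nat.coprime_comm.1 (hr.coprime_iff_not_dvd.2 fun hd =>
          hj0 (Nat.eq_zero_of_dvd_of_lt hd (Finset.mem_range.1 hj))))) hr.one_lt
      refine hαf y ?_
      have h4 : α^[j * m] y = y := by
        rw [Function.iterate_mul]; exact Function.iterate_fixed hy m
      rw [← Nat.mod_add_div (j * m) r, hm.2, Function.iterate_add_apply, Function.iterate_mul,
        Function.iterate_fixed (hα y)] at h4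
      simpa using h4
    have h4 : ∀ i, (⇑g)^[i] x = α^[i * j] x := fun i => by
      show ((⇑α)^[j])^[i] x = _
      rw [← Function.iterate_mul, mul_comm]
    rw [← Finset.prod_congr rfl fun i _ => h4 i]
    refine orbit_prod_eq_one g (fun y => ?_) h3 x
    show ((⇑α)^[j])^[r] y = y
    rw [← Function.iterate_mul, mul_comm, Function.iterate_mul]
    exact Function.iterate_fixed (hα y) j
  have h5 : ∏ j ∈ Finset.range r, ∏ i ∈ Finset.range r, β^[j] (α^[i * j] x) = 1 := by
    rw [Finset.prod_comm]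
    exact Finset.prod_eq_one fun i hi => h1 i (Finset.mem_range.1 hi)
  rw [Finset.prod_eq_single 0] at h5
  · simpa using h5
  · intro j hj hj0
    have hm : ∀ a b : X, β^[j] (a * b) = β^[j] a * β^[j] b := fun a b => iterate_map_mul β j a b
    let g : X →* X := MonoidHom.mk' (fun y => β^[j] y) hm
    have h6 : ∏ i ∈ Finset.range r, g (α^[i * j] x) = 1 := by rw [← map_prod, h2 j hj hj0, map_one]
    exact h6
  · exact fun h0 => absurd (Finset.mem_range.2 hr.pos) h0

end Abstract

variable {G : Type u} [Group G] [Finite G]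

/-- Conjugation as an endomorphism of a normalised subgroup. -/
def conjHom (T : Subgroup G) {g : G} (hg : g ∈ normalizer (T : Set G)) : T →* T where
  toFun t := ⟨g * t * g⁻¹, Grp.mem_conj_normalizer hg t.2⟩
  map_one' := Subtype.ext (by simp)
  map_mul' a b := Subtype.ext (by simp [mul_assoc])

omit [Finite G] in
theorem conjHom_iterate (T : Subgroup G) {g : G} (hg : g ∈ normalizer (T : Set G)) (n : ℕ) (t : T) :
    (((conjHom T hg)^[n] t : T) : G) = g ^ n * t * (g ^ n)⁻¹ := by
  induction n with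
  | zero => simp
  | succ n ih =>
    rw [Function.iterate_succ_apply']
    show g * (((conjHom T hg)^[n] t : T) : G) * g⁻¹ = _
    rw [ih, pow_succ']
    group

/-- Splitting of an abelian `p`-group along an eigenline of a coprime operator. -/
theorem exists_twist_split {p : ℕ} [hp : Fact p.Prime] {T : Subgroup G} (hT : IsMulCommutative T)
    (hTp : IsPGroup p T) {z : G} (hz : z ∈ normalizer (T : Set G)) (hzp : ¬ p ∣ orderOf z) {x : G} (hx : x ∈ T)
    (hxo : orderOf x = p) {a : ℕ} (ha : z * x * z⁻¹ = x ^ a) :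
    ∃ (K₁ K₂ : Subgroup G) (a' : ℕ), K₁ ≤ T ∧ K₂ ≤ T ∧ K₁ ⊓ K₂ = ⊥ ∧
      (∀ t ∈ T, ∃ t₁ ∈ K₁, ∃ t₂ ∈ K₂, t = t₁ * t₂) ∧
      (∀ t ∈ T, t ∈ K₁ ↔ z * t * z⁻¹ = t ^ a') ∧ (∀ t ∈ T, t ^ p = 1 → t ^ a' = t ^ a) ∧
      ∀ g ∈ normalizer (T : Set G), ⁅g, z⁆ ∈ centralizer (T : Set G) →
        g ∈ normalizer (K₁ : Set G) ∧ g ∈ normalizer (K₂ : Set G) := by
  obtain ⟨n, hn⟩ := IsPGroup.iff_card.1 hTp
  set d := orderOf z with hd
  have hd0 : 0 < d := orderOf_pos z
  have hxd : x ^ (a ^ d) = x := by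
    have h1 : ∀ j : ℕ, z ^ j * x * (z ^ j)⁻¹ = x ^ (a ^ j) := by
      intro j
      induction j with
      | zero => simp
      | succ j ih =>
        rw [pow_succ', show z * z ^ j * x * (z * z ^ j)⁻¹ = z * (z ^ j * x * (z ^ j)⁻¹) * z⁻¹ by group, ih,
          ← conj_pow, ha, ← pow_mul, pow_succ' a]
    have h2 := h1 d
    rw [hd, pow_orderOf_eq_one, one_mul, inv_one, mul_one] at h2
    exact h2.symm
  have hmod : (a ^ d : ℕ) ≡ 1 [MOD p] := by
    rw [← hxo]
    exact pow_eq_pow_iff_modEq.1 (by rw [hxd, pow_one])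
  set a' := a ^ (p ^ n) with ha'
  have hfermat : a' ≡ a [MOD p] := by
    rw [← ZMod.natCast_eq_natCast_iff, ha', Nat.cast_pow, ZMod.pow_card_pow]
  have hbig : a' ^ d ≡ 1 [MOD p ^ n] := by
    have h1 : (p : ℤ) ∣ ((a ^ d : ℕ) : ℤ) - 1 := by
      have := (Nat.modEq_iff_dvd.1 hmod.symm)
      simpa using this
    have h2 := dvd_sub_pow_of_dvd_sub h1 n
    rw [one_pow] at h2
    have h3 : ((p ^ n : ℕ) : ℤ) ∣ ((a' ^ d : ℕ) : ℤ) - 1 := by
      refine dvd_trans ?_ (show (p : ℤ) ^ (n + 1) ∣ ((a' ^ d : ℕ) : ℤ) - 1 from ?_)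
      · exact ⟨p, by push_cast; ring⟩
      · rw [ha', ← pow_mul, mul_comm, pow_mul]
        push_cast at h2 ⊢
        exact h2
    exact (Nat.modEq_iff_dvd.2 (by simpa using h3)).symm
  set k := a' ^ (d - 1) with hk
  have hak : a' * k = a' ^ d := by rw [hk, ← pow_succ', Nat.sub_add_cancel hd0]
  have hpow : ∀ (t : T) (i j : ℕ), i ≡ j [MOD p ^ n] → t ^ i = t ^ j := fun t i j hij => by
    refine pow_eq_pow_iff_modEq.2 (hij.of_dvd ?_)
    rw [← hn]; exact orderOf_dvd_natCard t
  letI : CommGroup T := { (inferInstance : Group T) with mul_comm := fun a b => hT.is_comm.comm a b }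
  let f : T →* T := (powMonoidHom k).comp (conjHom T hz)
  have hfc : ∀ t, f t = (conjHom T hz t) ^ k := fun t => rfl
  have hiter : ∀ (j : ℕ) (t : T), f^[j] t = ((conjHom T hz)^[j] t) ^ (k ^ j) := by
    intro j t
    induction j with
    | zero => simp
    | succ j ih =>
      rw [Function.iterate_succ_apply', Function.iterate_succ_apply', ih, hfc, map_pow, ← pow_mul, pow_succ]
  have hfd : ∀ t, f^[d] t = t := fun t => by
    rw [hiter, show (conjHom T hz)^[d] t = t from Subtype.ext (by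
      rw [conjHom_iterate, hd, pow_orderOf_eq_one, one_mul, inv_one, mul_one])]
    conv_rhs => rw [← pow_one t]
    refine hpow t _ _ ?_
    rw [hk, ← pow_mul, mul_comm, pow_mul]
    simpa using hbig.pow (d - 1)
  obtain ⟨e, he1, he2, he3⟩ := exists_fixed_proj f hfd (by
    rw [hn]; exact ((hp.out.coprime_iff_not_dvd.2 hzp).symm).pow_right n)
  let F : Subgroup T :=
    { carrier := {t | f t = t}
      one_mem' := map_one f
      mul_mem' := fun {a b} ha hb => show f (a * b) = a * b by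
        rw [map_mul, show f a = a from ha, show f b = b from hb]
      inv_mem' := fun {a} ha => show f a⁻¹ = a⁻¹ by rw [map_inv, show f a = a from ha] }
  refine ⟨F.map T.subtype, e.ker.map T.subtype, a', map_subtype_le _, map_subtype_le _, ?_, fun t ht => ?_,
    fun t ht => ?_, fun t ht htp => ?_, fun g hg hgz => ?_⟩
  · have hbot : F ⊓ e.ker = ⊥ := eq_bot_iff.2 fun t ht => mem_bot.2 ((he2 t ht.1).symm.trans ht.2)
    rw [← Subgroup.map_inf _ _ _ T.subtype_injective, hbot, Subgroup.map_bot]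
  · refine ⟨((e ⟨t, ht⟩ : T) : G), ⟨_, he1 _, rfl⟩, (((e ⟨t, ht⟩)⁻¹ * ⟨t, ht⟩ : T) : G), ⟨(e ⟨t, ht⟩)⁻¹ * ⟨t, ht⟩, ?_, rfl⟩, ?_⟩
    · show e ((e ⟨t, ht⟩)⁻¹ * ⟨t, ht⟩) = 1
      rw [map_mul, map_inv, he2 _ (he1 _), inv_mul_cancel]
    · show t = ((e ⟨t, ht⟩ : T) : G) * ((((e ⟨t, ht⟩)⁻¹ * ⟨t, ht⟩ : T)) : G)
      rw [← Subgroup.coe_mul, mul_inv_cancel_left]
  · have key : (⟨t, ht⟩ : T) ∈ F ↔ conjHom T hz ⟨t, ht⟩ = (⟨t, ht⟩ : T) ^ a' := by
      show f ⟨t, ht⟩ = ⟨t, ht⟩ ↔ _
      rw [hfc]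
      constructor
      · intro h
        conv_rhs => rw [← h, ← pow_mul]
        rw [← pow_one (conjHom T hz ⟨t, ht⟩)]
        rw [← pow_mul, one_mul]
        refine hpow _ _ _ ?_
        rw [mul_comm k, hak]
        exact hbig.symm
      · intro h
        rw [h, ← pow_mul, hak]
        conv_rhs => rw [← pow_one (⟨t, ht⟩ : T)]
        exact hpow _ _ _ hbig
    constructor
    · rintro ⟨s, hs, rfl⟩
      exact congrArg Subtype.val (key.1 hs)
    · intro h
      exact ⟨⟨t, ht⟩, key.2 (Subtype.ext h), rfl⟩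
  · exact pow_eq_pow_iff_modEq.2 (hfermat.of_dvd (orderOf_dvd_of_pow_eq_one htp))
  · have hcomm : ∀ t, conjHom T hg (f t) = f (conjHom T hg t) := fun t => by
      rw [hfc, hfc, map_pow]
      congr 1
      refine Subtype.ext ?_
      show g * (z * t * z⁻¹) * g⁻¹ = z * (g * t * g⁻¹) * z⁻¹
      have h1 : g * (z * (t : G) * z⁻¹) * g⁻¹ = ⁅g, z⁆ * (z * (g * t * g⁻¹) * z⁻¹) * ⁅g, z⁆⁻¹ := by
        rw [commutatorElement_def]; group
      rw [h1, ← mem_centralizer_iff.1 hgz (z * (g * t * g⁻¹) * z⁻¹)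
        (Grp.mem_conj_normalizer hz (Grp.mem_conj_normalizer hg t.2)), mul_inv_cancel_right]
    have hmap : ∀ (H : Subgroup T), (∀ t ∈ H, conjHom T hg t ∈ H) → g ∈ normalizer ((H.map T.subtype) : Set G) := by
      intro H hH
      rw [Grp.mem_normalizer_iff_smul]
      refine Subgroup.eq_of_le_of_card_ge ?_ (by rw [Grp.card_conj_smul])
      rintro _ ⟨_, ⟨t, ht, rfl⟩, rfl⟩
      exact ⟨conjHom T hg t, hH t ht, rfl⟩
    refine ⟨hmap F fun t ht => ?_, hmap e.ker fun t ht => ?_⟩
    · show f _ = _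
      rw [← hcomm, show f t = t from ht]
    · show e _ = 1
      rw [← he3 _ hcomm, show e t = 1 from ht, map_one]

/-- The `p'`-parts of the normaliser of a plane act abelianly on it. -/
theorem plane_operators_abelian (hodd : Odd (Nat.card G)) {p : ℕ} [hp : Fact p.Prime] (hp2 : p ≠ 2) {A V : Subgroup G}
    (hA : Cfsg.IsElementaryAbelian p A) (hA2 : Nat.card A = p ^ 2) (hVA : V ≤ normalizer (A : Set G))
    [Group.IsSolvable V] (hVp : ¬ p ∣ Nat.card V) : ⁅V, V⁆ ≤ centralizer (A : Set G) := by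
  set K := V ⊓ centralizer (A : Set G) with hK
  have hVK : V ≤ normalizer (K : Set G) := le_normalizer_inf' le_normalizer (le_normalizer_centralizer' hVA)
  have hAK : A ≤ normalizer (K : Set G) :=
    (le_centralizer_iff.1 (inf_le_right : K ≤ centralizer (A : Set G))).trans (centralizer_le_normalizer _)
  have hAp := Grp.elemAb_isPGroup hA
  have hfix : qimg K V ⊓ centralizer (qimg K A : Set (Qt K)) = ⊥ := by
    rw [eq_bot_iff]
    rintro _ ⟨⟨⟨v, hvN⟩, hv, rfl⟩, hvc⟩
    rw [mem_bot]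
    refine (QuotientGroup.eq_one_iff _).2 ⟨hv, mem_centralizer_iff.2 fun x hx => ?_⟩
    have h1 := mem_centralizer_iff.1 hvc _ (mem_qimg hx (hAK hx))
    rw [← map_mul, ← map_mul] at h1
    have h2 : (x * v)⁻¹ * (v * x) ∈ K := show ((⟨x, hAK hx⟩ : normalizer (K : Set G)) * ⟨v, hvN⟩)⁻¹ *
      (⟨v, hvN⟩ * ⟨x, hAK hx⟩) ∈ K.subgroupOf (normalizer (K : Set G)) from QuotientGroup.eq.1 h1
    have h4 : (x * v)⁻¹ * (v * x) ∈ A := by
      rw [show (x * v)⁻¹ * (v * x) = (v⁻¹ * x⁻¹ * v) * x by group]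
      exact A.mul_mem (Grp.mem_conj_normalizer' (hVA hv) (A.inv_mem hx)) hx
    have h5 : (x * v)⁻¹ * (v * x) = 1 := by
      rw [← mem_bot, ← Grp.inf_eq_bot_of_coprime (H := A) (K := K) (Nat.coprime_of_dvd fun s hs h1 h2 => by
        rw [eq_of_dvd_pGroup' hAp hs h1] at h2
        exact hVp (h2.trans (card_dvd_of_le inf_le_left)))]
      exact ⟨h4, h2⟩
    exact inv_mul_eq_one.1 h5
  have hrk : Cfsg.PRankLE p 2 ↥(qimg K A) := fun C _ _ => by
    exact (Nat.le_of_dvd Nat.card_pos (card_subgroup_dvd_card C)).trans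
      ((Nat.le_of_dvd Nat.card_pos (card_qimg_dvd hAK)).trans hA2.le)
  haveI : Group.IsSolvable ↥(qimg K V) := by
    obtain ⟨φ, hφ, -⟩ := exists_qhom (N := K) hVK
    exact Group.isSolvable_of_surjective hφ
  have h := Cfsg.Agent.S1449.result p hp2 (qimg K A) (qimg K V) (qimg_isPGroup hAK hAp) hrk
    (qimg_normalizer hVA) inferInstance
    (Odd.of_dvd_nat hodd ((card_qimg_dvd hVK).trans (card_subgroup_dvd_card V))) hfix
  rw [← qimg_commutator hVK hVK] at h
  refine ((qimg_eq_bot (V.commutator_le_self.trans hVK)).1 (Subgroup.card_eq_one.1 ?_)).trans inf_le_right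
  obtain ⟨n, hn⟩ := IsPGroup.iff_card.1 h
  refine Nat.eq_one_of_dvd_coprimes ((hp.out.coprime_iff_not_dvd.2 hVp).pow_left n) (dvd_of_eq hn) ?_
  exact (card_qimg_dvd (V.commutator_le_self.trans hVK)).trans (card_dvd_of_le V.commutator_le_self)
where
  eq_of_dvd_pGroup' {p r : ℕ} [Fact p.Prime] {Y : Subgroup G} (hY : IsPGroup p Y) (hr : r.Prime)
      (hd : r ∣ Nat.card Y) : r = p := by
    obtain ⟨n, hn⟩ := IsPGroup.iff_card.1 hY
    rw [hn] at hd
    exact (Nat.prime_dvd_prime_iff_eq hr Fact.out).1 (hr.dvd_of_dvd_pow hd)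

end Cfsg.Agent.Transfer.Loc
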