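import Cfsg.Agent.Lib.Transfer.Local.Basic
import Cfsg.Agent.Lib.Grp.QuotientNormalizer
import Cfsg.Agent.Lib.Grp.PLengthSeries
import Cfsg.Agent.Lib.Grp.CoprimeHall

/-!
Images of subgroups in `N_G(N)/N`.
-/

set_option autoImplicit false
set_option linter.style.haveILetI false
set_option linter.unusedSectionVars false

namespace Cfsg.Agent.Transfer.Loc

open Subgroup
open scoped commutatorElement

universe u

variable {G : Type u} [Group G] [Finite G]

/-- `N_G(N)/N`. -/
abbrev Qt (N : Subgroup G) : Type u :=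
  ↥(normalizer (N : Set G)) ⧸ N.subgroupOf (normalizer (N : Set G))

/-- The image of `A ∩ N_G(N)` in `N_G(N)/N`. -/
def qimg (N A : Subgroup G) : Subgroup (Qt N) :=
  (A.subgroupOf (normalizer (N : Set G))).map (QuotientGroup.mk' (N.subgroupOf (normalizer (N : Set G))))

/-- The full preimage of a subgroup of `N_G(N)/N`. -/
def qpre (N : Subgroup G) (B : Subgroup (Qt N)) : Subgroup G :=
  (B.comap (QuotientGroup.mk' (N.subgroupOf (normalizer (N : Set G))))).map (normalizer (N : Set G)).subtype

variable {N A B : Subgroup G}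

theorem qimg_mono (h : A ≤ B) : qimg N A ≤ qimg N B := map_mono (comap_mono h)

theorem mem_qimg {x : G} (hA : x ∈ A) (hx : x ∈ normalizer (N : Set G)) :
    QuotientGroup.mk' (N.subgroupOf (normalizer (N : Set G))) ⟨x, hx⟩ ∈ qimg N A :=
  mem_map_of_mem _ (show (⟨x, hx⟩ : normalizer (N : Set G)) ∈ A.subgroupOf _ from hA)

theorem qimg_commutator (hA : A ≤ normalizer (N : Set G)) (hB : B ≤ normalizer (N : Set G)) :
    qimg N ⁅A, B⁆ = ⁅qimg N A, qimg N B⁆ := by
  unfold qimg
  rw [← Subgroup.map_commutator]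
  congr 1
  apply map_injective (normalizer (N : Set G)).subtype_injective
  rw [Subgroup.map_commutator, map_subgroupOf_eq_of_le hA, map_subgroupOf_eq_of_le hB,
    map_subgroupOf_eq_of_le]
  exact commutator_le.2 fun a ha b hb => (normalizer (N : Set G)).mul_mem
    ((normalizer (N : Set G)).mul_mem ((normalizer (N : Set G)).mul_mem (hA ha) (hB hb))
      (Subgroup.inv_mem _ (hA ha))) (Subgroup.inv_mem _ (hB hb))

theorem qimg_eq_bot (hA : A ≤ normalizer (N : Set G)) : qimg N A = ⊥ ↔ A ≤ N := by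
  rw [qimg, Subgroup.map_eq_bot_iff, QuotientGroup.ker_mk']
  constructor
  · intro h
    have := map_mono (f := (normalizer (N : Set G)).subtype) h
    rwa [map_subgroupOf_eq_of_le hA, map_subgroupOf_eq_of_le le_normalizer] at this
  · exact fun h => comap_mono h

theorem qimg_normalizer (h : A ≤ normalizer (B : Set G)) : qimg N A ≤ normalizer (qimg N B : Set (Qt N)) :=
  (map_mono (Grp.PiHall.subgroupOf_le_normalizer _ h)).trans (le_normalizer_map _)

theorem qimg_self : qimg N N = ⊥ := (qimg_eq_bot le_normalizer).2 le_rfl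

theorem card_qimg_dvd (hA : A ≤ normalizer (N : Set G)) : Nat.card (qimg N A) ∣ Nat.card A :=
  (card_map_dvd _ _).trans (Nat.card_congr (subgroupOfEquivOfLe hA).toEquiv).dvd

theorem card_qimg (hNA : N ≤ A) (hA : A ≤ normalizer (N : Set G)) :
    Nat.card N * Nat.card (qimg N A) = Nat.card A := by
  have h := Subgroup.relIndex_comap ⊥ (QuotientGroup.mk' (N.subgroupOf (normalizer (N : Set G))))
    (A.subgroupOf (normalizer (N : Set G)))
  rw [MonoidHom.comap_bot, QuotientGroup.ker_mk', relIndex_bot_left, relIndex_subgroupOf hA] at h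
  show Nat.card N * Nat.card ↥((A.subgroupOf _).map _) = _
  rw [← h, Grp.card_mul_relIndex hNA]

theorem card_qimg_lt (hN : N ≠ ⊥) (hNA : N ≤ A) (hA : A ≤ normalizer (N : Set G)) :
    Nat.card (qimg N A) < Nat.card A := by
  rw [← card_qimg hNA hA]
  exact lt_mul_of_one_lt_left Nat.card_pos ((one_lt_card_iff_ne_bot _).2 hN)

theorem qimg_isPGroup {p : ℕ} (hA : A ≤ normalizer (N : Set G)) (h : IsPGroup p A) : IsPGroup p (qimg N A) :=
  (h.of_equiv (subgroupOfEquivOfLe hA).symm).map _

theorem qimg_sup (hA : A ≤ normalizer (N : Set G)) (hB : B ≤ normalizer (N : Set G)) :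
    qimg N (A ⊔ B) = qimg N A ⊔ qimg N B := by
  rw [qimg, subgroupOf_sup hA hB, Subgroup.map_sup]; rfl

theorem qpre_le_normalizer (B : Subgroup (Qt N)) : qpre N B ≤ normalizer (N : Set G) := map_subtype_le _

theorem le_qpre (B : Subgroup (Qt N)) : N ≤ qpre N B := by
  intro x hx
  refine ⟨⟨x, le_normalizer hx⟩, ?_, rfl⟩
  rw [SetLike.mem_coe, mem_comap, show QuotientGroup.mk' (N.subgroupOf (normalizer (N : Set G))) ⟨x, le_normalizer hx⟩ = 1
    from (QuotientGroup.eq_one_iff _).2 hx]
  exact one_mem _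

theorem qimg_qpre (B : Subgroup (Qt N)) : qimg N (qpre N B) = B := by
  show (((B.comap (QuotientGroup.mk' (N.subgroupOf (normalizer (N : Set G))))).map
    (normalizer (N : Set G)).subtype).comap (normalizer (N : Set G)).subtype).map _ = B
  rw [comap_map_eq_self_of_injective (normalizer (N : Set G)).subtype_injective,
    map_comap_eq_self_of_surjective (QuotientGroup.mk'_surjective _)]

theorem card_qpre (B : Subgroup (Qt N)) : Nat.card N * Nat.card B = Nat.card (qpre N B) := by
  conv_lhs => rw [← qimg_qpre B]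
  exact card_qimg (le_qpre B) (qpre_le_normalizer B)

theorem qpre_normalizer {B : Subgroup (Qt N)} (hA : A ≤ normalizer (N : Set G))
    (h : qimg N A ≤ normalizer (B : Set (Qt N))) : A ≤ normalizer (qpre N B : Set G) := fun a ha =>
  le_normalizer_map (normalizer (N : Set G)).subtype
    ⟨⟨a, hA ha⟩, le_normalizer_comap _ (h (mem_qimg ha (hA ha))), rfl⟩

theorem qpre_le {B : Subgroup (Qt N)} (hNA : N ≤ A) (h : B ≤ qimg N A) : qpre N B ≤ A := by
  refine (map_mono (comap_mono h)).trans ?_
  rw [qimg, comap_map_eq, QuotientGroup.ker_mk', Subgroup.map_sup]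
  exact sup_le (subgroupOf_map_subtype A _ |>.le.trans inf_le_left)
    ((subgroupOf_map_subtype N _).le.trans (inf_le_left.trans hNA))

theorem le_qpre_iff {B : Subgroup (Qt N)} (hA : A ≤ normalizer (N : Set G)) :
    A ≤ qpre N B ↔ qimg N A ≤ B := by
  constructor
  · intro h
    exact (qimg_mono h).trans (qimg_qpre B).le
  · intro h a ha
    exact ⟨⟨a, hA ha⟩, h (mem_qimg ha (hA ha)), rfl⟩

/-- The quotient map on a subgroup containing `N`. -/
theorem exists_qhom (hA : A ≤ normalizer (N : Set G)) :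
    ∃ φ : ↥A →* ↥(qimg N A), Function.Surjective φ ∧ φ.ker = N.subgroupOf A := by
  let ψ : ↥A →* Qt N := (QuotientGroup.mk' _).comp (inclusion hA)
  have hψ : ψ.range = qimg N A := by
    rw [MonoidHom.range_comp, inclusion_range]
    rfl
  refine ⟨(MulEquiv.subgroupCongr hψ).toMonoidHom.comp ψ.rangeRestrict,
    (MulEquiv.subgroupCongr hψ).surjective.comp ψ.rangeRestrict_surjective, ?_⟩
  ext x
  rw [MonoidHom.mem_ker, MonoidHom.comp_apply, MulEquiv.coe_toMonoidHom, map_eq_one_iff _ (MulEquiv.injective _),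
    Subtype.ext_iff]
  exact QuotientGroup.eq_one_iff _

theorem qimg_zgroup {H X : Subgroup G} (hNH : N ≤ H) (hH : H ≤ normalizer (N : Set G))
    (hX : X ≤ normalizer (N : Set G)) (hcop : (Nat.card N).Coprime (Nat.card X)) [Group.IsSolvable N]
    (hZ : IsZGroup ↥(H ⊓ centralizer (X : Set G))) :
    IsZGroup ↥(qimg N H ⊓ centralizer (qimg N X : Set (Qt N))) := by
  set Y := normalizer (N : Set G) with hY
  set N' := N.subgroupOf Y with hN'
  set X' := X.subgroupOf Y
  set D := H.subgroupOf Y ⊓ centralizer (X' : Set Y)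
  haveI : Group.IsSolvable N' := Grp.isSolvable_of_injective (subgroupOfEquivOfLe (le_normalizer : N ≤ Y)).toMonoidHom
    (subgroupOfEquivOfLe (le_normalizer : N ≤ Y)).injective inferInstance
  have hc := Grp.QuotNorm.centralizer_map N' X' (by
    rw [Nat.card_congr (subgroupOfEquivOfLe (le_normalizer : N ≤ Y)).toEquiv, Nat.card_congr (subgroupOfEquivOfLe hX).toEquiv]
    exact hcop) (Or.inl inferInstance)
  have he : qimg N H ⊓ centralizer (qimg N X : Set (Qt N)) = D.map (QuotientGroup.mk' N') := by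
    refine le_antisymm ?_ (le_inf (map_mono inf_le_left) ((map_mono inf_le_right).trans hc.ge))
    intro y hy
    obtain ⟨c, hc1, rfl⟩ := hc.le hy.2
    obtain ⟨h, hh, he⟩ := hy.1
    refine mem_map_of_mem _ ⟨?_, hc1⟩
    have h1 : h⁻¹ * c ∈ H.subgroupOf Y := (comap_mono hNH : N' ≤ H.subgroupOf Y) (QuotientGroup.eq.1 he)
    have h2 := (H.subgroupOf Y).mul_mem hh h1
    rwa [mul_inv_cancel_left] at h2
  haveI : IsZGroup ↥(D.map Y.subtype) := by
    refine IsZGroup.of_injective (f := inclusion (K := H ⊓ centralizer (X : Set G)) ?_) (inclusion_injective _)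
    rintro _ ⟨d, hd, rfl⟩
    exact ⟨hd.1, mem_centralizer_iff.2 fun x hx => congrArg Subtype.val (mem_centralizer_iff.1 hd.2 ⟨x, hX hx⟩ hx)⟩
  haveI : IsZGroup D := IsZGroup.of_injective (f := (D.equivMapOfInjective _ Y.subtype_injective).toMonoidHom)
    (MulEquiv.injective _)
  rw [he]
  exact IsZGroup.of_surjective (f := (QuotientGroup.mk' N').subgroupMap D) ((QuotientGroup.mk' N').subgroupMap_surjective D)

theorem odd_qt (h : Odd (Nat.card G)) (N : Subgroup G) : Odd (Nat.card (Qt N)) :=
  h.of_dvd_nat ((card_quotient_dvd_card _).trans (card_subgroup_dvd_card _))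

end Cfsg.Agent.Transfer.Loc
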