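import Cfsg.Agent.Lib.Transfer.Local.Hyperplane
import Cfsg.Agent.Lib.Transfer.Local.BenderInvariant
import Cfsg.Agent.Lib.Transfer.Local.QImg
import Cfsg.Agent.Lib.Transfer.Local.ZgroupPLength
import Cfsg.Agent.Lib.Grp.GaschutzYen
import Cfsg.Agent.Lib.Grp.CoprimeAbelian

/-!
Operator groups whose fixed points of order `p` are trivial on the `q`-part.
-/

set_option autoImplicit false
set_option linter.style.haveILetI false
set_option linter.unusedSectionVars false
set_option maxHeartbeats 1000000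

namespace Cfsg.Agent.Transfer.Loc

open Subgroup
open scoped commutatorElement Pointwise

universe u

variable {G : Type u} [Group G] [Finite G]

theorem coprime_card_pow {p r : ℕ} [Fact p.Prime] [Fact r.Prime] (h : r ≠ p) {Y : Subgroup G}
    (hY : IsPGroup r Y) : (Nat.card Y).Coprime p := by
  obtain ⟨n, hn⟩ := IsPGroup.iff_card.1 hY
  rw [hn]
  exact ((Nat.coprime_primes Fact.out Fact.out).2 h).pow_left n

/-- A `q`-group `W = [W, X]`, `X` of prime order, centralises a `p`-group in which it centralises the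
elements of order `p` fixed by `X`. -/
theorem centralizes_of_fixed {p q r : ℕ} [hp : Fact p.Prime] [hq : Fact q.Prime] [hr : Fact r.Prime] (hp2 : p ≠ 2)
    (hq2 : q ≠ 2) (hpq : p ≠ q) (hpr : p ≠ r) (hqr : q ≠ r) {X W : Subgroup G} (hX : Nat.card X = r)
    (hW : IsPGroup q W) (hXW : X ≤ normalizer (W : Set G)) (hWX : ⁅W, X⁆ = W) :
    ∀ S : Subgroup G, IsPGroup p S → X ≤ normalizer (S : Set G) → W ≤ normalizer (S : Set G) →
      (∀ x ∈ S, x ^ p = 1 → x ∈ centralizer (X : Set G) → x ∈ centralizer (W : Set G)) →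
      W ≤ centralizer (S : Set G) := by
  have hXr : IsPGroup r X := IsPGroup.of_card (n := 1) (by rw [hX, pow_one])
  intro S
  induction S using (wellFounded_lt (α := Subgroup G)).induction with
  | _ S ih =>
  intro hS hXS hWS hfix
  rcases eq_or_ne S ⊥ with hS1 | hS1
  · subst hS1
    exact fun w _ => mem_centralizer_iff.2 fun b hb => by simp [mem_bot.1 hb]
  have hrec : ∀ V : Subgroup G, V < S → X ≤ normalizer (V : Set G) → W ≤ normalizer (V : Set G) →
      W ≤ centralizer (V : Set G) := fun V hV h1 h2 =>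
    ih V hV (hS.to_le hV.le) h1 h2 fun x hx => hfix x (hV.le hx)
  have hWp : (Nat.card W).Coprime p := coprime_card_pow (Ne.symm hpq) hW
  have hWS' : (Nat.card W).Coprime (Nat.card S) := coprime_O (Ne.symm hpq) hW hS
  have hWsol : Group.IsSolvable W ∨ Group.IsSolvable S := by
    haveI := hS.isNilpotent; exact Or.inr inferInstance
  -- `S` is generated by its elements of order `p`
  set T : Subgroup G := closure {u | u ∈ S ∧ u ^ p = 1} with hT
  have hTS : T ≤ S := (closure_le S).2 fun u hu => hu.1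
  have hnorm : ∀ Y : Subgroup G, Y ≤ normalizer (S : Set G) → Y ≤ normalizer (T : Set G) := by
    intro Y hY y hy
    rw [Grp.mem_normalizer_iff_smul, hT, Subgroup.smul_closure]
    congr 1
    ext z
    rw [Set.mem_smul_set_iff_inv_smul_mem]
    simp only [MulAut.smul_def, MulAut.inv_apply, Set.mem_setOf_eq]
    rw [MulAut.conj_symm_apply]
    constructor
    · rintro ⟨h1, h2⟩
      refine ⟨?_, ?_⟩
      · have := (Subgroup.mem_normalizer_iff.1 (hY hy) _).1 h1
        simpa [mul_assoc] using this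
      · have h3 : z ^ p = y * (y⁻¹ * z * y) ^ p * y⁻¹ := by
          have := conj_pow (a := y) (b := y⁻¹ * z * y) (i := p)
          rw [show y * (y⁻¹ * z * y) * y⁻¹ = z by group] at this
          exact this
        rw [h3, h2, mul_one, mul_inv_cancel]
    · rintro ⟨h1, h2⟩
      refine ⟨Grp.mem_conj_normalizer' (hY hy) h1, ?_⟩
      have := conj_pow (a := y⁻¹) (b := z) (i := p)
      rw [inv_inv] at this
      rw [this, h2, mul_one, inv_mul_cancel]
  rcases lt_or_eq_of_le hTS with hlt | hgen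
  · refine Grp.le_centralizer_of_order_p hp2 W hWp S hS hWS fun u hu hup a ha => ?_
    exact (mem_centralizer_iff.1 (hrec T hlt (hnorm X hXS) (hnorm W hWS) ha) u (subset_closure ⟨hu, hup⟩)).symm
  -- `S = [S, W]`
  rcases lt_or_eq_of_le (Grp.commutator_le_left_of_le_normalizer hWS : ⁅S, W⁆ ≤ S) with hlt | hSW
  · refine Grp.le_centralizer_of_series W S ⁅S, W⁆ hWS hWS' hWsol le_rfl ?_
    rw [commutator_comm]
    exact commutator_eq_bot_iff_le_centralizer.2 (hrec _ hlt (le_normalizer_commutator' hXS hXW)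
      (Grp.right_le_normalizer_commutator W S))
  -- class two
  set K : Subgroup G := ⁅S, S⁆ with hK
  haveI : Group.IsNilpotent S := hS.isNilpotent
  have hKlt : K < S := by
    refine lt_of_le_of_ne S.commutator_le_self fun e => hS1 ?_
    exact Transfer.eq_bot_of_le_commutator inferInstance le_rfl (by rw [hK] at e; exact e.ge)
  have hXK : X ≤ normalizer (K : Set G) := le_normalizer_commutator' hXS hXS
  have hWK : W ≤ normalizer (K : Set G) := le_normalizer_commutator' hWS hWS
  have hWCK : W ≤ centralizer (K : Set G) := hrec K hKlt hXK hWK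
  have hKW : ⁅K, W⁆ = ⊥ := by
    rw [commutator_comm]; exact commutator_eq_bot_iff_le_centralizer.2 hWCK
  have hKS : ⁅K, S⁆ ≤ K := Subgroup.commutator_mono S.commutator_le_self le_rfl
  have hcent : K ≤ centralizer (S : Set G) := by
    have h1 : ⁅⁅S, W⁆, K⁆ = ⊥ := Subgroup.commutator_commutator_eq_bot_of_rotate
      (by rw [commutator_comm W K, hKW, commutator_bot_left])
      (le_bot_iff.1 ((Subgroup.commutator_mono hKS le_rfl).trans hKW.le))
    rw [hSW, commutator_comm] at h1
    exact commutator_eq_bot_iff_le_centralizer.1 h1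
  -- exponent `p`
  have hexp : ∀ x ∈ S, x ^ p = 1 := by
    intro x hx
    rw [← hgen] at hx
    refine Subgroup.closure_induction (p := fun z _ => z ^ p = 1) (fun z hz => hz.2) (one_pow p) ?_ ?_ hx
    · intro a b ha hb hap hbp
      have haS := hTS ha
      have hbS := hTS hb
      have hc : ⁅b, a⁆ ∈ centralizer (S : Set G) := hcent (commutator_mem_commutator hbS haS)
      have hca : Commute ⁅b, a⁆ a := (mem_centralizer_iff.1 hc a haS).symm
      have hcb : Commute ⁅b, a⁆ b := (mem_centralizer_iff.1 hc b hbS).symm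
      have hcp : ⁅b, a⁆ ^ p = 1 := by
        have h2 : b * a * b⁻¹ = ⁅b, a⁆ * a := by rw [commutatorElement_def]; group
        have h3 : (b * a * b⁻¹) ^ p = 1 := by rw [conj_pow, hap, mul_one, mul_inv_cancel]
        rwa [h2, hca.mul_pow, hap, mul_one] at h3
      rw [Grp.mul_pow_class_two (x := a) (y := b) (c := ⁅b, a⁆) (by rw [commutatorElement_def]; group) hca hcb p,
        hap, hbp]
      obtain ⟨m, hm⟩ := hp.out.dvd_choose_self two_ne_zero (by have := hp.out.two_le; omega : 2 < p)
      rw [hm, pow_mul, hcp, one_pow, one_mul, one_mul]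
    · intro a _ hap
      rw [inv_pow, hap, inv_one]
  -- the quotient
  have hSK : S ≤ normalizer (K : Set G) := le_normalizer_commutator' le_normalizer le_normalizer
  have hne : qimg K S ≠ ⊥ := fun e => hKlt.not_ge ((qimg_eq_bot hSK).1 e)
  have hKp : IsPGroup p K := hS.to_le hKlt.le
  have hV : Cfsg.IsElementaryAbelian p (qimg K S) := by
    refine ⟨le_centralizer_iff_isMulCommutative.1 (commutator_eq_bot_iff_le_centralizer.1 ?_), ?_⟩
    · rw [← qimg_commutator hSK hSK, ← hK, qimg_self]
    · rintro _ ⟨⟨z, hz⟩, hzS, rfl⟩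
      rw [← map_pow, show (⟨z, hz⟩ : normalizer (K : Set G)) ^ p = 1 from
        Subtype.ext (by rw [coe_pow, coe_one]; exact hexp z hzS), map_one]
  have hXbar : Nat.card (qimg K X) = r := by
    refine ((Nat.dvd_prime hr.out).1 ((card_qimg_dvd hXK).trans hX.dvd)).resolve_left fun e => ?_
    have h1 := (qimg_eq_bot hXK).1 (card_eq_one.1 e)
    obtain ⟨n, hn⟩ := IsPGroup.iff_card.1 hKp
    have h2 : r ∣ p ^ n := hn ▸ hX ▸ card_dvd_of_le h1
    exact hpr ((Nat.prime_dvd_prime_iff_eq hr.out hp.out).1 (hr.out.dvd_of_dvd_pow h2)).symm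
  have hWbar : IsPGroup q (qimg K W) := qimg_isPGroup hWK hW
  have hWXbar : ⁅qimg K W, qimg K X⁆ = qimg K W := by rw [← qimg_commutator hWK hXK, hWX]
  have hnec : ¬ ⁅qimg K W, qimg K X⁆ ≤ centralizer (qimg K S : Set (Qt K)) := by
    rw [hWXbar]
    intro h
    refine hne ((qimg_eq_bot hSK).2 ?_)
    rw [← hSW]
    refine (qimg_eq_bot ((Grp.commutator_le_left_of_le_normalizer hWS).trans hSK)).1 ?_
    rw [qimg_commutator hSK hWK, commutator_comm, commutator_eq_bot_iff_le_centralizer]
    exact h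
  have hfix' := exists_fixed_of_not_le hpq hpr hqr hq2 hXbar hWbar (qimg_normalizer hXW) hV
    (qimg_normalizer hXS) (qimg_normalizer hWS) hnec
  obtain ⟨v, hv, hv1⟩ := (bot_or_exists_ne_one _).resolve_left hfix'
  obtain ⟨⟨z, hzN⟩, hzS, rfl⟩ := hv.1
  -- a fixed representative
  have hcop : (Nat.card X).Coprime (Nat.card K) := coprime_O (Ne.symm hpr) hXr hKp
  obtain ⟨c, hc, hzc⟩ := fixed_rep hXK hcop (Or.inl (by haveI := hXr.isNilpotent; infer_instance)) hzN fun a ha => by
    have h1 := mem_centralizer_iff.1 hv.2 _ (mem_qimg ha (hXK ha))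
    have h2 : QuotientGroup.mk' (K.subgroupOf (normalizer (K : Set G)))
        (⟨a, hXK ha⟩ * ⟨z, hzN⟩ * ⟨a, hXK ha⟩⁻¹ * ⟨z, hzN⟩⁻¹) = 1 := by
      rw [map_mul, map_mul, map_mul, map_inv, map_inv, h1]; group
    have h3 := (QuotientGroup.eq_one_iff _).1 h2
    exact h3
  have hcS : c ∈ S := by
    have h4 : z * (z⁻¹ * c) ∈ S := S.mul_mem hzS (hKlt.le hzc)
    rwa [mul_inv_cancel_left] at h4
  have hcW : c ∈ centralizer (W : Set G) := hfix c hcS (hexp c hcS) hc
  have hcN : c ∈ normalizer (K : Set G) := hSK hcS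
  have heq : QuotientGroup.mk' (K.subgroupOf (normalizer (K : Set G))) ⟨z, hzN⟩ =
      QuotientGroup.mk' (K.subgroupOf (normalizer (K : Set G))) ⟨c, hcN⟩ :=
    QuotientGroup.eq.2 (show z⁻¹ * c ∈ K from hzc)
  haveI := hV.1
  have hfin := Grp.abelian_commutator_inf_fixed (qimg K W) (qimg K S) (qimg_normalizer hWS)
    (coprime_O (Ne.symm hpq) hWbar (qimg_isPGroup hSK hS))
  refine absurd ?_ hv1
  rw [← mem_bot, ← hfin]
  refine ⟨⟨hv.1, ?_⟩, ?_⟩
  · rw [heq]
    refine mem_centralizer_iff.2 ?_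
    rintro _ ⟨⟨w, hw'⟩, hw, rfl⟩
    rw [← map_mul, ← map_mul]
    congr 1
    exact Subtype.ext (mem_centralizer_iff.1 hcW w hw)
  · rw [← qimg_commutator hSK hWK, hSW]
    exact hv.1

end Cfsg.Agent.Transfer.Loc
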