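import Cfsg.Agent.Lib.Transfer.Local.Exceptional
import Cfsg.Agent.Lib.Transfer.PLengthOne
import Cfsg.Agent.S1450

/-!
Normal subgroups centralising `M_σ`, and the `p'`-core of a complement over a maximal plane.
-/

set_option autoImplicit false
set_option linter.style.haveILetI false
set_option linter.unusedSectionVars false
set_option maxHeartbeats 1000000

namespace Cfsg.Agent.Transfer.Loc

open Subgroup
open scoped commutatorElement Pointwise

universe u

variable {G : Type u} [Group G] [Finite G] {p r : ℕ} [hp : Fact p.Prime] [hr : Fact r.Prime]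

omit [Finite G] hp hr in
theorem normalizer_le_normalizer_cent (X : Subgroup G) :
    normalizer (X : Set G) ≤ normalizer (centralizer (X : Set G) : Set G) := by
  have key : ∀ {g x : G}, g ∈ normalizer (X : Set G) → x ∈ centralizer (X : Set G) →
      g * x * g⁻¹ ∈ centralizer (X : Set G) := fun {g x} hg hx => mem_centralizer_iff.2 fun y hy => by
    have h := mem_centralizer_iff.1 hx _ (Grp.mem_conj_normalizer' hg hy)
    calc y * (g * x * g⁻¹) = g * (g⁻¹ * y * g * x) * g⁻¹ := by group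
      _ = g * (x * (g⁻¹ * y * g)) * g⁻¹ := by rw [h]
      _ = g * x * g⁻¹ * y := by group
  intro g hg
  refine mem_normalizer_iff.2 fun x => ⟨key hg, fun h => ?_⟩
  simpa [mul_assoc] using key (inv_mem hg) h

omit hp in
/-- An `r`-subgroup lies in a normal subgroup of index prime to `r`. -/
theorem le_of_relIndex {X N H : Subgroup G} (hXH : X ≤ H) (hX : IsPGroup r X) (hH : H ≤ normalizer (N : Set G))
    (hi : ¬ r ∣ N.relIndex H) : X ≤ N := by
  haveI : (N.subgroupOf H).Normal := normal_subgroupOf_of_le_normalizer hH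
  intro x hx
  obtain ⟨i, hi'⟩ := hX ⟨x, hx⟩
  suffices h : (⟨x, hXH hx⟩ : H) ∈ N.subgroupOf H from h
  rw [← QuotientGroup.eq_one_iff, ← orderOf_eq_one_iff]
  refine Nat.eq_one_of_dvd_coprimes (Nat.Coprime.pow_left i (hr.out.coprime_iff_not_dvd.2 hi)) ?_ ?_
  · refine orderOf_dvd_of_pow_eq_one ?_
    rw [← QuotientGroup.mk_pow, show (⟨x, hXH hx⟩ : H) ^ r ^ i = 1 from Subtype.ext (by simpa using congrArg Subtype.val hi')]
    rfl
  · rw [relIndex, Subgroup.index_eq_card]; exact _root_.orderOf_dvd_natCard _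

omit hp in
theorem relIndex_O'_eq {H : Subgroup G} : (O' r H).relIndex H = (Cfsg.pPrimeCore r H).index := by
  rw [O'_eq, relIndex, subgroupOf, comap_map_eq_self_of_injective H.subtype_injective]

omit hr in
theorem pPrimeCore_sup_normalizer (hG : Cfsg.IsMinSimpleOddOrder G) {H P : Subgroup G} (hH : H ≠ ⊤)
    (hP : Grp.IsSylowIn p P H) : H ≤ O' p H ⊔ (H ⊓ normalizer (P : Set G)) := by
  haveI : (Cfsg.pPrimeCore p H).Normal := Grp.pPrimeCore_isNormal
  obtain ⟨T, rfl⟩ := Grp.isSylowIn_iff.1 hP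
  have h := congrArg (Subgroup.map H.subtype) (PLengthOne.sup_normalizer_eq_top (proper_pLength hG p hH) T)
  rw [Subgroup.map_sup, ← O'_eq, ← MonoidHom.range_eq_map, range_subtype] at h
  exact h.ge.trans (sup_le_sup_left (le_inf (map_subtype_le _) (le_normalizer_map _)) _)

variable (hG : Cfsg.IsMinSimpleOddOrder G) {M : Subgroup G} (hM : IsCoatom M)
include hG hM

omit hp in
/-- A normal `r`-subgroup centralising `M_σ` gives an exceptional configuration for `r ∉ σ(M)`. -/
theorem exc_of_normal_centralizing (hrσ : r ∉ Cfsg.sigma M) {X : Subgroup G} (hXr : IsPGroup r X) (hX1 : X ≠ ⊥)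
    (hXM : X ≤ M) (hXC : X ≤ centralizer (Cfsg.sigmaCore M : Set G)) (hMX : M ≤ normalizer (X : Set G))
    {R : Subgroup G} (hR : Grp.IsSylowIn r R M) :
    ∃ B B₀ : Subgroup G, Exc M r B B₀ ∧ B ≤ R := by
  haveI := solvable_of_ne_top hG hM.1
  have hXR : X ≤ R := by
    have h : IsPGroup r ↥(X ⊔ R) := hXr.to_sup_of_normal_left' hR.2.1 (hR.1.trans hMX)
    rw [hR.eq_of_le le_sup_right (sup_le hXM hR.1) h]
    exact le_sup_left
  set W := omZ r X with hW
  have hW1 : W ≠ ⊥ := omZ_ne_bot hXr hX1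
  have hWR : W ≤ R := (omZ_le X).trans hXR
  have hMW : M ≤ normalizer (W : Set G) := hMX.trans (normalizer_le_omZ X)
  have hNW : normalizer (W : Set G) = M := normalizer_eq_of_le hG hM hW1 ((omZ_le X).trans hXM) hMW
  have hWC : W ≤ centralizer (Cfsg.sigmaCore M : Set G) := (omZ_le X).trans hXC
  have hrM : r ∣ Nat.card M := (dvd_card_of_pGroup hXr hX1).trans (card_dvd_of_le hXM)
  have hrank : Cfsg.PRankLE r 2 M := by
    by_contra hh
    exact hrσ (alpha_subset_sigma hG hM ⟨hr.out, hh⟩)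
  have hle2 : ∀ B : Subgroup G, B ≤ M → Cfsg.IsElementaryAbelian r B → Nat.card B ≤ r ^ 2 := by
    intro B hBM hB
    by_contra hlt
    obtain ⟨n, hn⟩ := IsPGroup.iff_card.1 (Grp.elemAb_isPGroup hB)
    refine not_prank_of_elem hBM hB ?_ hrank
    rw [hn] at hlt ⊢
    exact Nat.pow_le_pow_right hr.out.pos ((Nat.pow_lt_pow_iff_right hr.out.one_lt).1 (not_le.1 hlt))
  have hR1 : R ≠ ⊥ := sylow_ne_bot_of_dvd hR hrM
  have hncyc : ¬ IsCyclic R := by
    intro hc
    haveI := hc
    have he : Cfsg.IsElementaryAbelian r (W ⊔ omZ r R) :=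
      Fus.isElementaryAbelian_sup (omZ_elem X) (omZ_elem R) fun a ha b hb =>
        mem_centralizer_iff.1 (omZ_le_centralizer R hb) a (hWR ha)
    have hle : W ⊔ omZ r R ≤ R := sup_le hWR (omZ_le R)
    have hcyc : IsCyclic ↥(W ⊔ omZ r R) := isCyclic_of_injective (inclusion hle) (inclusion_injective hle)
    have hcard := card_le_prime_of_cyclic hcyc he.2
    have hge : ∀ Y : Subgroup G, IsPGroup r Y → Y ≠ ⊥ → r ≤ Nat.card Y := fun Y hY hY1 =>
      Nat.le_of_dvd Nat.card_pos (dvd_card_of_pGroup hY hY1)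
    have e1 : W = W ⊔ omZ r R := Subgroup.eq_of_le_of_card_ge le_sup_left
      (hcard.trans (hge _ (hXr.to_le (omZ_le X)) hW1))
    have e2 : omZ r R = W ⊔ omZ r R := Subgroup.eq_of_le_of_card_ge le_sup_right
      (hcard.trans (hge _ (hR.2.1.to_le (omZ_le R)) (omZ_ne_bot hR.2.1 hR1)))
    exact not_normalizer_le hrM hrσ hR (hNW ▸ (normalizer_le_omZ R).trans (le_of_eq (by rw [e2, ← e1])))
  obtain ⟨j, hj⟩ := IsPGroup.iff_card.1 (hXr.to_le (omZ_le X : W ≤ X))
  have hj2 : j ≤ 2 := (Nat.pow_le_pow_iff_right hr.out.one_lt).1 (hj ▸ hle2 W (hWR.trans hR.1) (omZ_elem X))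
  interval_cases j
  · exact absurd (card_eq_one.1 (by simpa using hj)) hW1
  · obtain ⟨B, hBR, hB, hB2⟩ := exists_elem_of_not_prank
      (not_prank_one_of_not_cyclic hG (ne_two hG (hrM.trans (card_subgroup_dvd_card M))) hR.2.1 hncyc)
    have hBc : Nat.card B = r ^ 2 := le_antisymm (hle2 B (hBR.trans hR.1) hB) hB2
    have hBm : IsMaxPlane r B := IsMaxPlane.of_sigma' hG hM hrσ (hBR.trans hR.1) hB hBc
    have hWR' : R ≤ centralizer (W : Set G) := fun y hy => by
      obtain ⟨k, hk⟩ := hR.2.1 ⟨y, hy⟩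
      exact centralizes_line (by simpa using hj) (by simpa using congrArg Subtype.val hk) (hMW (hR.1 hy))
    refine ⟨B, W, ⟨hG, hM, hrσ, hBR.trans hR.1, hBm, ?_, by simpa using hj, hNW.le⟩, hBR⟩
    exact fun w hw => hBm.mem ((omZ_elem X).2 w hw) (centralizer_le hBR (le_centralizer_iff.1 hWR' hw))
  · exfalso
    exact plane_not_fixing hG hM (IsMaxPlane.of_sigma' hG hM hrσ (hWR.trans hR.1) (omZ_elem X) hj)
      (hWR.trans hR.1) hrσ (hNW ▸ centralizer_le_normalizer _) hWC

variable {A E : Subgroup G} (hA : IsMaxPlane p A) (hE : Cfsg.IsComplIn E (Cfsg.sigmaCore M) M) (hAE : A ≤ E)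
include hA hE hAE

/-- An `r`-part of `O_{p'}(E)` acted on trivially modulo `C(M_σ)` is centralised. -/
theorem comm_eq_bot (hrp : r ≠ p) {R : Subgroup G} (hR : Grp.IsSylowIn r R (O' p E))
    (hAR : A ≤ normalizer (R : Set G)) (hC : ⁅R, A⁆ ≤ centralizer (Cfsg.sigmaCore M : Set G)) : ⁅R, A⁆ = ⊥ := by
  haveI := solvable_of_ne_top hG hM.1
  haveI := isSolvable_of_le hE.1
  rcases eq_or_ne R ⊥ with hR1 | hR1
  · rw [hR1, commutator_bot_left]
  have hRE : R ≤ E := hR.1.trans (O'_le p E)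
  have hrE : r ∣ Nat.card E := (dvd_card_of_pGroup hR.2.1 hR1).trans (card_dvd_of_le hRE)
  have hrσ : r ∉ Cfsg.sigma M := compl_prime hG hM hE hr.out hrE
  have hpE : p ∣ Nat.card E := hA.dvd_card.trans (card_dvd_of_le hAE)
  have hD : ⁅R, A⁆ ≤ R := Grp.commutator_le_left_of_le_normalizer hAR
  have hAp : IsPGroup p A := Grp.elemAb_isPGroup hA.elem
  rcases lt_or_gt_of_ne hrp with hlt | hlt
  · -- `r < p`: the plane lies in the `r'`-core of `RA`
    set H := R ⊔ A with hH
    have hHE : H ≤ E := sup_le hRE hAE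
    haveI := isSolvable_of_le hHE
    have hidx := (Cfsg.Agent.S1450.result (G := H) (hG.1.of_dvd_nat (card_subgroup_dvd_card H)) r
      ((dvd_card_of_pGroup hR.2.1 hR1).trans (card_dvd_of_le le_sup_left))
      (prankLE_mono hHE (compl_prankLE hG hM hE))).1
    have hAO : A ≤ O' r H := le_of_relIndex (r := p) le_sup_right hAp (le_normalizer_core' H) fun hd => by
      rw [relIndex_O'_eq] at hd
      exact absurd (hidx p hp.out hd) (not_le.2 hlt)
    have h1 : ⁅R, A⁆ ≤ O' r H := by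
      refine (Subgroup.commutator_mono le_rfl hAO).trans ?_
      rw [Subgroup.commutator_comm]
      exact Grp.commutator_le_left_of_le_normalizer ((le_sup_left : R ≤ H).trans (le_normalizer_core' H))
    obtain ⟨n, hn⟩ := IsPGroup.iff_card.1 hR.2.1
    exact le_bot_iff.1 ((le_inf hD h1).trans (Grp.inf_eq_bot_of_coprime (by
      rw [hn]; exact ((O'_coprime H).symm).pow_left n)).le)
  -- `p < r`: `R` is a Sylow subgroup of `E` and of `M`
  have hidx := (Cfsg.Agent.S1450.result (G := E) (hG.1.of_dvd_nat (card_subgroup_dvd_card E)) p hpE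
    (compl_prankLE hG hM hE)).1
  have hRSE : Grp.IsSylowIn r R E := ⟨hRE, hR.2.1, fun hd => by
    rw [← Subgroup.relIndex_mul_relIndex R _ E hR.1 (O'_le p E)] at hd
    rcases hr.out.dvd_mul.1 hd with hd | hd
    · exact hR.2.2 hd
    · rw [relIndex_O'_eq] at hd
      exact absurd (hidx r hr.out hd) (not_le.2 hlt)⟩
  have hRM : Grp.IsSylowIn r R M := compl_sylow hG hM hE hrE hRSE
  set C := ⁅E, E⁆ ⊓ centralizer (Cfsg.sigmaCore M : Set G) with hCdef
  have hnil : Group.IsNilpotent C := Grp.isNilpotent_of_le inf_le_left (compl_derived_nilpotent hG hM hE)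
  have hEN : E ≤ normalizer (Cfsg.sigmaCore M : Set G) := hE.1.trans (sigma_le_normalizer hE)
  have hEC : E ≤ normalizer (C : Set G) := Grp.le_normalizer_inf'
    (Grp.left_le_normalizer_commutator E E) (hEN.trans (normalizer_le_normalizer_cent _))
  rcases eq_or_ne ⁅R, A⁆ ⊥ with h0 | h0
  · exact h0
  set X := O r C with hXdef
  have hRAX : ⁅R, A⁆ ≤ X := by
    haveI := isSolvable_of_le (inf_le_left.trans E.commutator_le_self : C ≤ E)
    obtain ⟨T, hT, hle⟩ := exists_sylowIn_ge (K := C) (le_inf (Subgroup.commutator_mono hRE hAE) hC) (hR.2.1.to_le hD)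
    exact hle.trans (le_O hT.1 (le_normalizer.trans (normalizer_le_sylow hnil hT)) hT.2.1)
  have hXC : X ≤ centralizer (Cfsg.sigmaCore M : Set G) := (O_le r C).trans inf_le_right
  have hXE : X ≤ E := (O_le r C).trans (inf_le_left.trans E.commutator_le_self)
  have hMX : M ≤ normalizer (X : Set G) := by
    rw [← compl_sup hE]
    exact sup_le (le_normalizer_core hEC) ((le_centralizer_iff.1 hXC).trans (centralizer_le_normalizer _))
  obtain ⟨B, B₀, hexc, hBR⟩ := exc_of_normal_centralizing hG hM hrσ (O_isPGroup r C) (ne_bot_of_le_ne_bot h0 hRAX)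
    (hXE.trans hE.1) hXC hMX hRM
  have hAB : A ≤ normalizer (B : Set G) := hAR.trans (hexc.sylow_normalizer_le hRM hBR)
  have hcop : (Nat.card A).Coprime (Nat.card B) := coprime_O hrp.symm hAp (Grp.elemAb_isPGroup hexc.hA.elem)
  have hfix : B ⊓ centralizer (A : Set G) ≠ ⊥ := by
    intro e
    refine plane_not_fixing hG hM hexc.hA hexc.hAM hrσ hexc.centralizer_le_M ?_
    have h1 := Grp.commutator_sup_fixed A B hAB hcop (Or.inl (by haveI := hAp.isNilpotent; infer_instance))
    rw [e, sup_bot_eq] at h1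
    exact h1.ge.trans ((Subgroup.commutator_mono hBR le_rfl).trans hC)
  have hAC := hA.key hG hexc.hA hrp hAB hfix
  haveI := hexc.abelian hRM hBR
  rw [commutator_eq_bot_iff_le_centralizer, le_centralizer_iff]
  exact centralizes_of_omZ hR.2.1 hAR (coprime_O hrp.symm hAp hR.2.1) (by rwa [hexc.omZ_eq hRM hBR])

omit hr in
/-- If every operator of `A` on `O_{p'}(E)` is trivial modulo `C(M_σ)`, then `O_{p'}(E)` centralises `A`. -/
theorem core_le_centralizer
    (hC : ∀ (s : ℕ) [Fact s.Prime], s ≠ p → ∀ R : Subgroup G, Grp.IsSylowIn s R (O' p E) →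
      A ≤ normalizer (R : Set G) → ⁅R, A⁆ ≤ centralizer (Cfsg.sigmaCore M : Set G)) :
    O' p E ≤ centralizer (A : Set G) := by
  haveI := solvable_of_ne_top hG hM.1
  set T := O' p E with hT
  have hTE : T ≤ E := O'_le p E
  refine (Grp.le_of_forall_sylow (inf_le_left : T ⊓ centralizer (A : Set G) ≤ T) fun s hs => ?_).trans inf_le_right
  obtain ⟨R, hR, hAR⟩ := Grp.exists_invariant_sylow A T (hAE.trans (le_normalizer_core' E))
    (by rw [hA.card]; exact ((O'_coprime E).pow_right 2).symm) (Or.inr (isSolvable_of_le (hTE.trans hE.1))) s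
  refine ⟨R, hR, le_inf hR.1 ?_⟩
  rcases eq_or_ne R ⊥ with hR1 | hR1
  · rw [hR1]; exact bot_le
  have hsp : s ≠ p := fun e => by
    have h1 := (dvd_card_of_pGroup hR.2.1 hR1).trans (card_dvd_of_le hR.1)
    rw [e] at h1
    exact hp.out.ne_one (Nat.eq_one_of_dvd_coprimes (O'_coprime (r := p) E) h1 dvd_rfl)
  exact commutator_eq_bot_iff_le_centralizer.1 (comm_eq_bot hG hM hA hE hAE hsp hR hAR (hC s hsp R hR hAR))

omit hG hM hA hE hAE

namespace Exc

variable {A₀ : Subgroup G} (h : Exc M p A A₀)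
include h

omit hr in
theorem core_le (hE : Cfsg.IsComplIn E (Cfsg.sigmaCore M) M) (hAE : A ≤ E) : O' p E ≤ centralizer (A : Set G) := by
  refine core_le_centralizer h.hG h.hM h.hA hE hAE fun s hs hsp R hR hAR => ?_
  obtain ⟨L₁, L₂, hL₁, hL₂, hc₁, hc₂, hsup, hf₁, hf₂⟩ := h.free_lines
  rcases eq_or_ne R ⊥ with hR1 | hR1
  · rw [hR1, commutator_bot_left]; exact bot_le
  have hRE : R ≤ E := hR.1.trans (O'_le p E)
  have hsE : s ∣ Nat.card E := (dvd_card_of_pGroup hR.2.1 hR1).trans (card_dvd_of_le hRE)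
  have hN : M ≤ normalizer (Cfsg.sigmaCore M : Set G) := TransHyp.le_normalizer_piCoreOf M
  have hsK : ¬ s ∣ Nat.card (Cfsg.sigmaCore M) := not_dvd_sigmaCore (compl_prime h.hG h.hM hE hs.out hsE)
  have hpK := not_dvd_sigmaCore h.hσ
  have hs2 : s ≠ 2 := ne_two h.hG (hsE.trans (card_subgroup_dvd_card E))
  rw [← hsup]
  refine commutator_sup_le
    (comm_le_centralizer_fpf hsp hs2 h.nilpotent hsK hpK hR.2.1 hc₁ ((hRE.trans hE.1).trans hN)
      ((hL₁.trans h.hAM).trans hN) (hL₁.trans hAR) hf₁)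
    (comm_le_centralizer_fpf hsp hs2 h.nilpotent hsK hpK hR.2.1 hc₂ ((hRE.trans hE.1).trans hN)
      ((hL₂.trans h.hAM).trans hN) (hL₂.trans hAR) hf₂) ?_
  rw [hsup]
  exact (h.hAM.trans hN).trans (normalizer_le_normalizer_cent _)

omit hr in
theorem compl_normalizes (hE : Cfsg.IsComplIn E (Cfsg.sigmaCore M) M) (hAE : A ≤ E) :
    E ≤ normalizer (A : Set G) := by
  haveI := solvable_of_ne_top h.hG h.hM.1
  haveI := isSolvable_of_le hE.1
  obtain ⟨P, hP, hAP⟩ := exists_sylowIn_ge hAE (Grp.elemAb_isPGroup h.hA.elem)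
  have hPM := compl_sylow h.hG h.hM hE (h.hA.dvd_card.trans (card_dvd_of_le hAE)) hP
  refine (pPrimeCore_sup_normalizer h.hG (fun e => h.hM.1 (top_le_iff.1 (e ▸ hE.1))) hP).trans (sup_le ?_ ?_)
  · exact (h.core_le hE hAE).trans (centralizer_le_normalizer _)
  · exact inf_le_right.trans (h.sylow_normalizer_le hPM hAP)

omit hr in
theorem normalizes_sup : M ≤ normalizer ((Cfsg.sigmaCore M ⊔ A : Subgroup G) : Set G) := by
  obtain ⟨E, hE, hAE⟩ := exists_compl_ge h.hG h.hM h.hAM fun s hs hd => by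
    rw [(Nat.prime_dvd_prime_iff_eq hs hp.out).1 (hs.dvd_of_dvd_pow (h.hA.card ▸ hd))]
    exact h.hσ
  refine (compl_sup hE).ge.trans (sup_le ?_ (le_sup_left.trans le_normalizer))
  exact Grp.le_normalizer_sup' (hE.1.trans (sigma_le_normalizer hE)) (h.compl_normalizes hE hAE)

end Exc

end Cfsg.Agent.Transfer.Loc
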