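import Cfsg.Agent.Lib.Transfer.Local.Support
import Cfsg.Agent.Lib.Transfer.Local.SigmaTilde
import Cfsg.Agent.Lib.Transfer.Local.PlaneSplit
import Cfsg.Agent.Lib.Transfer.Local.KappaOvergroup
import Cfsg.Agent.Lib.Transfer.Local.TauTwoPart
import Cfsg.Agent.S1408
import Cfsg.Agent.S1417
import Cfsg.Agent.S1420
import Cfsg.Agent.S1435
import Cfsg.Agent.S1454

/-!
Tools for the primes of a support: conjugation invariance of `κ`, the prime bound for `τ₂`-primes,
operators on narrow groups.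
-/

set_option autoImplicit false
set_option linter.style.haveILetI false
set_option linter.unusedSectionVars false
set_option maxHeartbeats 1000000

namespace Cfsg.Agent.Transfer.Loc

open Subgroup
open scoped commutatorElement Pointwise

universe u

variable {G : Type u} [Group G] [Finite G]

/-- Operators of order prime to `p` on a narrow `p`-group commute modulo the centraliser. -/
theorem derived_centralizes_narrow (hodd : Odd (Nat.card G)) {p : ℕ} [hp : Fact p.Prime] (hp2 : p ≠ 2)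
    {S V : Subgroup G} (hS : IsPGroup p S) (hn : Cfsg.IsNarrow p S) (hVS : V ≤ normalizer (S : Set G))
    [Group.IsSolvable V] (hVp : ¬ p ∣ Nat.card V) : ⁅V, V⁆ ≤ centralizer (S : Set G) := by
  set K := V ⊓ centralizer (S : Set G) with hK
  have hVK : V ≤ normalizer (K : Set G) := le_normalizer_inf' le_normalizer (le_normalizer_centralizer' hVS)
  have hSK : S ≤ normalizer (K : Set G) :=
    (le_centralizer_iff.1 (inf_le_right : K ≤ centralizer (S : Set G))).trans (centralizer_le_normalizer _)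
  have hbot : S ⊓ K = ⊥ := Grp.inf_eq_bot_of_coprime (by
    obtain ⟨i, hi⟩ := IsPGroup.iff_card.1 hS
    rw [hi]
    exact (hp.out.coprime_iff_not_dvd.2 fun h => hVp (h.trans (card_dvd_of_le inf_le_left))).pow_left i)
  let f : S →* Qt K := (QuotientGroup.mk' (K.subgroupOf (normalizer (K : Set G)))).comp (Subgroup.inclusion hSK)
  have hf : Function.Injective f := (injective_iff_map_eq_one f).2 fun s hs => by
    have h1 : (⟨(s : G), hSK s.2⟩ : normalizer (K : Set G)) ∈ K.subgroupOf (normalizer (K : Set G)) :=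
      (QuotientGroup.eq_one_iff _).1 hs
    have h2 : (s : G) ∈ S ⊓ K := ⟨s.2, h1⟩
    rw [hbot, mem_bot] at h2
    exact Subtype.ext h2
  have hrange : f.range = qimg K S := by
    ext y
    constructor
    · rintro ⟨s, rfl⟩; exact mem_qimg s.2 (hSK s.2)
    · rintro ⟨⟨x, hxN⟩, hx, rfl⟩; exact ⟨⟨x, hx⟩, rfl⟩
  have e : S ≃* qimg K S := (MonoidHom.ofInjective hf).trans (MulEquiv.subgroupCongr hrange)
  have hfix : qimg K V ⊓ centralizer (qimg K S : Set (Qt K)) = ⊥ := by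
    rw [eq_bot_iff]
    rintro _ ⟨⟨⟨v, hvN⟩, hv, rfl⟩, hvc⟩
    rw [mem_bot]
    refine (QuotientGroup.eq_one_iff _).2 ⟨hv, mem_centralizer_iff.2 fun x hx => ?_⟩
    have h1 := mem_centralizer_iff.1 hvc _ (mem_qimg hx (hSK hx))
    rw [← map_mul, ← map_mul] at h1
    have h2 : (x * v)⁻¹ * (v * x) ∈ K := show ((⟨x, hSK hx⟩ : normalizer (K : Set G)) * ⟨v, hvN⟩)⁻¹ *
      (⟨v, hvN⟩ * ⟨x, hSK hx⟩) ∈ K.subgroupOf (normalizer (K : Set G)) from QuotientGroup.eq.1 h1
    have h4 : (x * v)⁻¹ * (v * x) ∈ S := by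
      rw [show (x * v)⁻¹ * (v * x) = (v⁻¹ * x⁻¹ * v) * x by group]
      exact S.mul_mem (Grp.mem_conj_normalizer' (hVS hv) (S.inv_mem hx)) hx
    have h5 : (x * v)⁻¹ * (v * x) = 1 := mem_bot.1 (hbot ▸ ⟨h4, h2⟩)
    exact inv_mul_eq_one.1 h5
  haveI : Group.IsSolvable ↥(qimg K V) := by
    obtain ⟨φ, hφ, -⟩ := exists_qhom (N := K) hVK
    exact Group.isSolvable_of_surjective hφ
  have h := ((Cfsg.Agent.S1454.result p hp2 (qimg K S) (qimg K V) (qimg_isPGroup hSK hS) (narrow_equiv e hn)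
    (qimg_normalizer hVS) inferInstance
    (Odd.of_dvd_nat hodd ((card_qimg_dvd hVK).trans (card_subgroup_dvd_card V))) hfix).1).1
  have hcore : Cfsg.pCore p ↥(qimg K V) = ⊥ := by
    obtain ⟨i, hi⟩ := IsPGroup.iff_card.1 (Grp.pCore_isPGroup (p := p) (G := ↥(qimg K V)))
    refine Subgroup.card_eq_one.1 (Nat.eq_one_of_dvd_coprimes
      ((hp.out.coprime_iff_not_dvd.2 hVp).pow_left i) (dvd_of_eq hi) ?_)
    exact (Subgroup.card_subgroup_dvd_card _).trans (card_qimg_dvd hVK)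
  rw [hcore, le_bot_iff] at h
  refine ((qimg_eq_bot (V.commutator_le_self.trans hVK)).1 ?_).trans inf_le_right
  rw [qimg_commutator hVK hVK, ← Subgroup.map_subtype_commutator, h, Subgroup.map_bot]

theorem kappa_smul_le (hG : Cfsg.IsMinSimpleOddOrder G) {M : Subgroup G} (hM : IsCoatom M) (g : G) :
    Cfsg.kappa M ⊆ Cfsg.kappa (MulAut.conj g • M) := by
  intro p hκ
  haveI := Fact.mk hκ.1
  obtain ⟨z, hz⟩ := exists_prime_orderOf_dvd_card' (G := M) p hκ.2.1
  have hX : Nat.card (zpowers (z : G)) = p := by rw [Nat.card_zpowers, Subgroup.orderOf_coe, hz]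
  have hfix := kappa_fixed hG hM hκ (zpowers_le.2 z.2) hX
  have hM' := isCoatom_conj hG hM g
  refine kappa_of_fixed hG hM' (fun h => hκ.2.2.1 ((sigma_smul_iff hG hM g).1 h))
    (prankLE_equiv (Subgroup.equivSMul (MulAut.conj g) M) (kappa_rank_one hG hM hκ))
    (Subgroup.pointwise_smul_le_pointwise_smul_iff.2 (zpowers_le.2 z.2)) (by rw [Grp.card_conj_smul, hX]) fun e => ?_
  obtain ⟨a, ha, ha1⟩ := (bot_or_exists_ne_one _).resolve_left hfix
  have h1 : MulAut.conj g a ∈ Cfsg.sigmaCore (MulAut.conj g • M) ⊓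
      centralizer ((MulAut.conj g • zpowers (z : G) : Subgroup G) : Set G) := by
    refine ⟨smul_sigmaCore hG hM g ▸ ⟨a, ha.1, rfl⟩, mem_centralizer_iff.2 ?_⟩
    rintro _ ⟨w, hw, rfl⟩
    show MulAut.conj g w * MulAut.conj g a = MulAut.conj g a * MulAut.conj g w
    rw [← map_mul, ← map_mul, mem_centralizer_iff.1 ha.2 w hw]
  rw [e, mem_bot] at h1
  exact ha1 ((MulEquiv.map_eq_one_iff (MulAut.conj g)).1 h1)

/-- `κ` is invariant under conjugation. -/
theorem kappa_smul (hG : Cfsg.IsMinSimpleOddOrder G) {M : Subgroup G} (hM : IsCoatom M) (g : G) :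
    Cfsg.kappa (MulAut.conj g • M) = Cfsg.kappa M := by
  refine Set.Subset.antisymm ?_ (kappa_smul_le hG hM g)
  have h := kappa_smul_le hG (isCoatom_conj hG hM g) g⁻¹
  rwa [Grp.conj_smul_conj_smul, inv_mul_cancel, map_one, one_smul] at h

variable (hG : Cfsg.IsMinSimpleOddOrder G) {L : Subgroup G} (hL : IsCoatom L)
include hG hL

theorem compl_hall {E : Subgroup G} (hE : Cfsg.IsComplIn E (Cfsg.sigmaCore L) L) :
    Cfsg.IsPiHallOf {s | s ∉ Cfsg.sigma L} E L := by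
  refine ⟨hE.1, fun q hq hd => compl_prime hG hL hE hq hd, fun q hq hqσ hd => hqσ ?_⟩
  have h1 : E.relIndex L = Nat.card (Cfsg.sigmaCore L) := Nat.eq_of_mul_eq_mul_left (Nat.card_pos (α := E))
    ((Grp.card_mul_relIndex hE.1).trans (compl_card hE).symm)
  exact TransHyp.piCoreOf_primes (π := Cfsg.sigma L) (X := L) hq (h1 ▸ hd)

omit hL in
/-- A maximal plane for a prime with a `τ₂`-overgroup. -/
theorem tau2_maxPlane {L : Subgroup G} (hL : IsCoatom L) {p : ℕ} [hp : Fact p.Prime] (hτ : p ∈ Cfsg.tau2 L) :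
    ∃ A : Subgroup G, A ≤ L ∧ IsMaxPlane p A := by
  haveI := solvable_of_ne_top hG hL.1
  obtain ⟨E, hE, -⟩ := exists_compl_ge hG hL (bot_le : (⊥ : Subgroup G) ≤ L) fun s hs hd => by
    rw [Subgroup.card_bot, Nat.dvd_one] at hd; exact absurd hd hs.ne_one
  obtain ⟨T, hT⟩ := Grp.exists_isSylowIn p E
  obtain ⟨A, hAT, hA, hA2⟩ := tau2_plane hG hL hE hτ hT
  exact ⟨A, (hAT.trans hT.1).trans hE.1, IsMaxPlane.of_sigma' hG hL hτ.2.1 ((hAT.trans hT.1).trans hE.1) hA hA2⟩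

/-- A `τ₂`-prime is smaller than a `σ`-prime with a maximal plane. -/
theorem tau2_lt {p r : ℕ} [hp : Fact p.Prime] [hr : Fact r.Prime] (hτ : p ∈ Cfsg.tau2 L) (hσ : r ∈ Cfsg.sigma L)
    {B : Subgroup G} (hB : IsMaxPlane r B) : p < r := by
  haveI := solvable_of_ne_top hG hL.1
  obtain ⟨E, hE, -⟩ := exists_compl_ge hG hL (bot_le : (⊥ : Subgroup G) ≤ L) fun s hs hd => by
    rw [Subgroup.card_bot, Nat.dvd_one] at hd; exact absurd hd hs.ne_one
  obtain ⟨T, hT⟩ := Grp.exists_isSylowIn p E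
  obtain ⟨C, hCT, hC, hC2⟩ := tau2_plane hG hL hE hτ hT
  have hCL := (hCT.trans hT.1).trans hE.1
  have hpr : p ≠ r := fun e => hτ.2.1 (e ▸ hσ)
  set S := Cfsg.sigmaCore L
  have hcop : (Nat.card C).Coprime (Nat.card S) := by
    rw [hC2]
    exact (hp.out.coprime_iff_not_dvd.2 (not_dvd_sigmaCore hτ.2.1)).pow_left 2
  haveI : Group.IsSolvable S := isSolvable_of_le (TransHyp.piCoreOf_le (π := Cfsg.sigma L) L)
  obtain ⟨R, hR, hCR⟩ := Grp.exists_invariant_sylow C S (hCL.trans (TransHyp.le_normalizer_piCoreOf L)) hcop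
    (Or.inr inferInstance) r
  have hRL : Grp.IsSylowIn r R L := by
    obtain ⟨-, -, hn⟩ := isPiHallOf_piCore hG hL (alpha_subset_sigma hG hL) Set.Subset.rfl
    exact sylowIn_trans' hR (TransHyp.piCoreOf_le L) (hn r hr.out hσ)
  obtain ⟨-, hRi⟩ := sigma_sylow hG hL hσ hRL
  let RT : Sylow r G := hRL.2.1.toSylow hRi
  obtain ⟨P, hP⟩ := (Grp.elemAb_isPGroup hB.elem).exists_le_sylow
  obtain ⟨g, hg⟩ := MulAction.exists_smul_eq G P RT
  have hgB : MulAut.conj g • B ≤ R := by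
    have h1 : MulAut.conj g • (P : Subgroup G) = R := congrArg (fun Q : Sylow r G => (Q : Subgroup G)) hg
    exact (Subgroup.pointwise_smul_le_pointwise_smul_iff.2 hP).trans h1.le
  set Z := omZ r R
  have hZc : Nat.card Z ∣ r ^ 2 := (card_dvd_of_le ((hB.smul g).omZ_le_self hgB)).trans
    (dvd_of_eq (hB.smul g).card)
  have hR1 : R ≠ ⊥ := sylow_ne_bot_of_dvd hRL hσ.2.1
  have hZ1 : Z ≠ ⊥ := omZ_ne_bot hR.2.1 hR1
  have hnc : ¬ C ≤ centralizer (Z : Set G) := fun hc => hZ1 (le_bot_iff.1 (le_trans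
    (le_inf ((omZ_le R).trans hR.1) (le_centralizer_iff.1 hc))
    (Cfsg.Agent.S1417.result hG L hL p hτ C ⟨hCL, hC, hC2⟩).2.2.2.1.le))
  obtain ⟨c, hc, hcZ⟩ := SetLike.not_le_iff_exists.1 hnc
  have hcc : Nat.card (zpowers c) = p := by
    rw [Nat.card_zpowers, orderOf_eq_prime (hC.2 c hc) fun e => hcZ (e ▸ one_mem _)]
  have hrk : Cfsg.PRankLE r 2 Z := fun D _ _ => by
    exact (Nat.le_of_dvd Nat.card_pos (card_subgroup_dvd_card D)).trans (Nat.le_of_dvd (pow_pos hr.out.pos 2) hZc)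
  haveI : IsCyclic (zpowers c) := inferInstance
  haveI : Group.IsSolvable (zpowers c) := inferInstance
  have h := (Cfsg.Agent.S1454.result r (ne_two hG (hB.dvd_card.trans (card_subgroup_dvd_card B))) Z (zpowers c)
    (hR.2.1.to_le (omZ_le R)) (Or.inl hrk) (zpowers_le.2 (normalizer_le_omZ R (hCR hc))) inferInstance
    (Odd.of_dvd_nat hG.1 (card_subgroup_dvd_card _)) (by
      refine Subgroup.card_eq_one.1 ((Nat.dvd_prime hp.out).1 (hcc ▸ card_dvd_of_le inf_le_left) |>.resolve_right ?_)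
      intro e
      have h1 := Subgroup.eq_of_le_of_card_ge inf_le_left (by rw [e, hcc] : Nat.card (zpowers c) ≤
        Nat.card ↥(zpowers c ⊓ centralizer (Z : Set G)))
      exact hcZ (h1.ge (mem_zpowers c)).2)).2.2 (hcc.symm ▸ hp.out)
  rw [hcc] at h
  by_cases hd : p ∣ r * (r - 1)
  · rcases hp.out.dvd_mul.1 hd with h1 | h1
    · exact absurd ((Nat.prime_dvd_prime_iff_eq hp.out hr.out).1 h1) hpr
    · have := Nat.le_of_dvd (by have := hr.out.two_le; omega) h1
      have := hr.out.two_le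
      omega
  · have := Nat.le_of_dvd (by omega) (h hd).1
    have := hr.out.two_le
    omega
where
  sylowIn_trans' {q : ℕ} [hq : Fact q.Prime] {T H E : Subgroup G} (hT : Grp.IsSylowIn q T H) (hHE : H ≤ E)
      (h : ¬ q ∣ H.relIndex E) : Grp.IsSylowIn q T E := by
    refine ⟨hT.1.trans hHE, hT.2.1, fun hd => ?_⟩
    rw [← relIndex_mul_relIndex T H E hT.1 hHE] at hd
    exact (hq.out.dvd_mul.1 hd).elim hT.2.2 h

/-- With `κ(L) ≠ ∅`, a maximal subgroup with a `τ₂(L)`-prime in its `σ` has empty `κ`. -/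
theorem kappa_empty_of_tau2 (hκ : (Cfsg.kappa L).Nonempty) {q : ℕ} [hq : Fact q.Prime] (hτ : q ∈ Cfsg.tau2 L)
    {M : Subgroup G} (hM : IsCoatom M) (hσ : q ∈ Cfsg.sigma M) : Cfsg.kappa M = ∅ := by
  haveI := solvable_of_ne_top hG hL.1
  obtain ⟨K, U, hKU⟩ := exists_decomp_of_max hG hL
  have hK1 : K ≠ ⊥ := fun e => by
    obtain ⟨p, hp⟩ := hκ
    exact hKU.hall.2.2 p hp.1 hp (by rw [e, Subgroup.relIndex_bot_left]; exact hp.2.1)
  obtain ⟨hE, hcard, -⟩ := decomp_compl hG hL hKU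
  have hqU : q ∣ Nat.card U := by
    have h1 := dvd_compl_of_dvd hE hτ.2.1 (dvd_of_not_prank hτ.2.2.2)
    rw [hcard] at h1
    exact (hq.out.dvd_mul.1 h1).resolve_right fun h2 =>
      hτ.2.2.2 (kappa_rank_one hG hL (hKU.hall.2.1 q hq.out h2))
  have hU1 : U ≠ ⊥ := fun e => by
    rw [e, Subgroup.card_bot, Nat.dvd_one] at hqU; exact hq.out.ne_one hqU
  obtain ⟨Ls, hp⟩ := exists_kappaPair hG hL hKU.hall hK1
  obtain ⟨R⟩ : Nonempty (Sylow q U) := inferInstance
  set R' := (R : Subgroup U).map U.subtype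
  have hR1 : R' ≠ ⊥ := sylow_ne_bot_of_dvd (Grp.isSylowIn_iff.2 ⟨R, rfl⟩) hqU
  obtain ⟨H, hH, hNH⟩ := exists_coatom_normalizer hG hR1 fun e =>
    hL.1 (top_le_iff.1 (e ▸ (map_subtype_le _).trans hKU.compl.1))
  obtain ⟨hκH, hUH, -⟩ :=
    Cfsg.Agent.S1435.result hG L hL K U hKU hK1 hU1 Ls hp.hMs hp.dual.symm hp.hall q hqU R H hH hNH
  obtain ⟨g, hg⟩ := sigma_conj_of_common hG hH hM (TransHyp.piCoreOf_primes (π := Cfsg.sigma H) (X := H) hq.out
    (hqU.trans (card_dvd_of_le hUH))) hσ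
  rw [hg, kappa_smul hG hH, hκH]

end Cfsg.Agent.Transfer.Loc
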