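import Cfsg.Agent.Lib.Transfer.Local.SupportType
import Cfsg.Agent.Lib.Transfer.Local.SigmaCover

/-!
The sets `A₁(S)` and `A(T)` for nonconjugate maximal subgroups and the support relation.
-/

set_option autoImplicit false
set_option linter.style.haveILetI false
set_option linter.unusedSectionVars false
set_option maxHeartbeats 1000000

namespace Cfsg.Agent.Transfer.Loc

open Subgroup Cfsg.Agent.Char
open scoped commutatorElement Pointwise

universe u

variable {G : Type u} [Group G] [Finite G]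

/-- Conjugating an inclusion of a centraliser. -/
theorem centralizer_le_smul {x : G} {X : Subgroup G} (g : G) :
    centralizer ({g * x * g⁻¹} : Set G) ≤ MulAut.conj g • X ↔ centralizer ({x} : Set G) ≤ X := by
  constructor
  · intro h c hc
    obtain ⟨d, hd, e⟩ := h (show g * c * g⁻¹ ∈ centralizer ({g * x * g⁻¹} : Set G) from
      mem_centralizer_singleton_iff.2 (by
        calc g * c * g⁻¹ * (g * x * g⁻¹) = g * (c * x) * g⁻¹ := by group
          _ = g * (x * c) * g⁻¹ := by rw [mem_centralizer_singleton_iff.1 hc]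
          _ = _ := by group))
    have e' : MulAut.conj g d = MulAut.conj g c := e
    exact (MulAut.conj g).injective e' ▸ hd
  · intro h c hc
    refine ⟨g⁻¹ * c * g, h (mem_centralizer_singleton_iff.2 ?_), by
      show MulAut.conj g (g⁻¹ * c * g) = c; rw [MulAut.conj_apply]; group⟩
    rw [mem_centralizer_singleton_iff] at hc
    calc g⁻¹ * c * g * x = g⁻¹ * (c * (g * x * g⁻¹)) * g := by group
      _ = g⁻¹ * (g * x * g⁻¹ * c) * g := by rw [hc]
      _ = x * (g⁻¹ * c * g) := by group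

variable (hG : Cfsg.IsMinSimpleOddOrder G)
include hG

/-- The core of `S` lies in `A₁(S)`. -/
theorem mem_typeA1_of_core {S : Subgroup G} (hS : IsCoatom S) {x : G} (hx : x ∈ Cfsg.sigmaCore S) (hx1 : x ≠ 1) :
    x ∈ Cfsg.typeA1 S := ⟨(typeCore_eq hG hS).ge hx, hx1⟩

/-- A supported element lies in `A(T)`. -/
theorem supported_mem_typeA {S T : Subgroup G} (hS : IsCoatom S) (hT : IsCoatom T) {x : G}
    (hx : x ∈ Cfsg.sigmaCore S) (hx1 : x ≠ 1) (hxS : ¬ centralizer ({x} : Set G) ≤ S)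
    (hxT : centralizer ({x} : Set G) ≤ T) :
    x ∈ Cfsg.typeA T ∧ ∀ p : ℕ, p.Prime → p ∣ orderOf x → p ∈ Cfsg.tau2 T := by
  obtain ⟨N, -, hu, -, hhat, hτ⟩ := support_unique hG hS hx hx1 hxS
  obtain rfl := hu T hT hxT
  exact ⟨(tau2_hat_type hG hT hx1 hhat hτ).1.1, hτ⟩

/-- The part outside `T_σ` of an element of `A(T)`. -/
theorem typeA_outside {T : Subgroup G} (hT : IsCoatom T) {b : G} (hb : b ∈ Cfsg.typeA T)
    (hbS : b ∉ Cfsg.sigmaCore T) :
    ∃ v u : G, v * u = b ∧ v ∈ zpowers b ∧ u ∈ zpowers b ∧ u ∈ Cfsg.sigmaCore T ∧ v ≠ 1 ∧ v ∉ Cfsg.sigmaCore T ∧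
      centralizer ({v} : Set G) ≤ T ∧ (∀ M : Subgroup G, IsCoatom M → centralizer ({v} : Set G) ≤ M → M = T) ∧
      (∀ p : ℕ, p.Prime → p ∣ orderOf v → p ∈ Cfsg.tau2 T) ∧
      ∃ L : Subgroup G, IsCoatom L ∧ v ∈ Cfsg.sigmaCore L ∧ InR L v u := by
  haveI := solvable_of_ne_top hG hT.1
  obtain ⟨K, U, hKU⟩ := exists_decomp_of_max hG hT
  obtain ⟨⟨hbT, y, hy, hy1, hby⟩, -⟩ := TypeSet.typeA_subset hG hT hKU hb
  obtain ⟨u, v, hub, hvb, e, huπ, hvπ⟩ := exists_pi_parts (Cfsg.sigma T) b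
  have hu := mem_sigmaCore_of_pi hG hT ((zpowers_le.2 hbT) hub) huπ
  have hv1 : v ≠ 1 := fun h => hbS (by rw [← e, h, mul_one]; exact hu)
  have hvT := (zpowers_le.2 hbT) hvb
  obtain ⟨i, hi⟩ := mem_zpowers_iff.1 hvb
  obtain ⟨j, hj⟩ := mem_zpowers_iff.1 hub
  have hvy : Commute v y := hi ▸ ((show Commute b y from hby).zpow_left i)
  have huv : Commute u v := hi ▸ hj ▸ Commute.zpow_zpow (Commute.refl b) j i
  have hfix : Cfsg.sigmaCore T ⊓ centralizer ({v} : Set G) ≠ ⊥ := fun h => hy1 (by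
    rw [← mem_bot, ← h]; exact ⟨hy, mem_centralizer_singleton_iff.2 hvy.eq.symm⟩)
  obtain ⟨q, hq, hqd⟩ := Nat.exists_prime_and_dvd fun h => hv1 (orderOf_eq_one_iff.1 h)
  rcases fixed_primes_cases hG hT hvT hv1 hvπ hfix with hκ | hτ
  · exfalso
    unfold Cfsg.typeA at hb
    split_ifs at hb with hI
    · exact (kappa_empty_of_typeF hG hT hI.1 ▸ hκ q hq hqd :)
    · have hqK : q ∣ Nat.card K := by
        have h1 := (hκ q hq hqd).2.1
        rw [← Grp.card_mul_relIndex hKU.hall.1] at h1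
        exact (hq.dvd_mul.1 h1).resolve_right (hKU.hall.2.2 q hq (hκ q hq hqd))
      have hK : K ≠ ⊥ := fun h => hq.ne_one (by rwa [h, Subgroup.card_bot, Nat.dvd_one] at hqK)
      obtain ⟨-, -, hcop, -⟩ := derived_compl hG hT hKU hK
      exact hq.ne_one (Nat.eq_one_of_dvd_coprimes hcop
        (hqd.trans (Subgroup.orderOf_dvd_natCard _ ((zpowers_le.2 hb.1) hvb))) hqK)
  obtain ⟨hC, huniq⟩ := TypeSet.tau2_unique hG hT hvT hv1 hτ ⟨hvT, y, hy, hy1, hvy.eq⟩
  have hvS : v ∉ Cfsg.sigmaCore T := fun h => hvπ q hq hqd (TransHyp.piCoreOf_primes (π := Cfsg.sigma T) (X := T) hq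
    (hqd.trans (Subgroup.orderOf_dvd_natCard _ h)))
  refine ⟨v, u, by rw [← huv.eq, e], hvb, hub, hu, hv1, hvS, hC, huniq, hτ, ?_⟩
  by_cases hu1 : u = 1
  · obtain ⟨-, L, hL, hvL, -⟩ := support_of_tau2 hG hT hvT hv1 hτ hy hy1 hvy.symm
    exact ⟨L, hL, hvL, Or.inl hu1⟩
  · exact (support_of_tau2 hG hT hvT hv1 hτ hu hu1 huv).2

/-- Elements of `A₁(S) ∩ A(T)`. -/
theorem typeA_meet {S T : Subgroup G} (hS : IsCoatom S) (hT : IsCoatom T)
    (hnc : ∀ c : G, S ≠ MulAut.conj c • T) {x : G} (hx : x ∈ Cfsg.sigmaCore S) (hx1 : x ≠ 1)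
    (hxA : x ∈ Cfsg.typeA T) :
    ¬ centralizer ({x} : Set G) ≤ S ∧ centralizer ({x} : Set G) ≤ T := by
  have hdisj : ∀ {z : G}, z ∈ Cfsg.sigmaCore S → z ∈ Cfsg.sigmaCore T → z = 1 := fun {z} h h' => by
    by_contra hz
    obtain ⟨p, hp, hpd⟩ := Nat.exists_prime_and_dvd fun e => hz (orderOf_eq_one_iff.1 e)
    haveI := Fact.mk hp
    obtain ⟨c, hc⟩ := sigma_conj_of_common hG hT hS
      (TransHyp.piCoreOf_primes (π := Cfsg.sigma T) (X := T) hp (hpd.trans (Subgroup.orderOf_dvd_natCard _ h')))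
      (TransHyp.piCoreOf_primes (π := Cfsg.sigma S) (X := S) hp (hpd.trans (Subgroup.orderOf_dvd_natCard _ h)))
    exact hnc c hc
  obtain ⟨v, u, e, -, hub, hu, hv1, -, hC, huniq, -⟩ := typeA_outside hG hT hxA fun h => hx1 (hdisj hx h)
  rw [hdisj ((zpowers_le.2 hx) hub) hu, mul_one] at e
  subst e
  refine ⟨fun h => hnc 1 ?_, hC⟩
  rw [map_one, one_smul]
  exact huniq S hS h

end Cfsg.Agent.Transfer.Loc
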