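import Cfsg.Agent.Lib.Char.TypeSupport
import Cfsg.Agent.Lib.Grp.FrobeniusTheorem
import Cfsg.Agent.S1380
import Cfsg.Agent.S1381

/-!
Types of supporting maximal subgroups.
-/

set_option autoImplicit false
set_option linter.style.haveILetI false
set_option linter.unusedSectionVars false
set_option maxHeartbeats 2000000

namespace Cfsg.Agent.Transfer.Loc

open Subgroup
open scoped commutatorElement Pointwise

universe u

variable {G : Type u} [Group G] [Finite G]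

/-- A normal complement on whose non-identity elements the complement acts freely is the Frobenius kernel. -/
theorem frobenius_of_free {M S E : Subgroup G} (hE : Cfsg.IsComplIn E S M) (hMS : M ≤ normalizer (S : Set G))
    (hE1 : E ≠ ⊥) (hS1 : S ≠ ⊥) (hfree : ∀ e ∈ E, e ≠ 1 → S ⊓ centralizer ({e} : Set G) = ⊥) :
    Cfsg.IsFrobeniusComplement (E.subgroupOf M) ∧
      Cfsg.frobeniusKernel (E.subgroupOf M) = ((S.subgroupOf M : Subgroup M) : Set M) := by
  have hfc : Cfsg.IsFrobeniusComplement (E.subgroupOf M) := by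
    refine ⟨fun h => hE1 ?_, fun h => hS1 ?_, fun g hg => ?_⟩
    · rw [← map_subgroupOf_eq_of_le hE.1, h, Subgroup.map_bot]
    · exact le_bot_iff.1 ((le_inf (hE.2.1.trans (Subgroup.subgroupOf_eq_top.1 h)) le_rfl).trans hE.2.2.1.le)
    · rw [eq_bot_iff]
      rintro a ⟨ha, b, hb, hba⟩
      rw [mem_bot]
      by_contra ha1
      refine hg ?_
      obtain ⟨e, he, s, hs, hge⟩ := hE.2.2.2 g g.2
      have hba' : (g : G) * b * (g : G)⁻¹ = a := by rw [← hba]; simp
      set c : G := e⁻¹ * a * e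
      have hc : c ∈ E := E.mul_mem (E.mul_mem (E.inv_mem he) ha) he
      have hsb : s * (b : G) * s⁻¹ = c := by
        rw [show c = e⁻¹ * a * e from rfl, ← hba', hge]; group
      have h1 : c * (b : G)⁻¹ ∈ E ⊓ S := ⟨E.mul_mem hc (E.inv_mem hb), by
        rw [← hsb, show s * (b : G) * s⁻¹ * (b : G)⁻¹ = s * ((b : G) * s⁻¹ * (b : G)⁻¹) by group]
        exact S.mul_mem hs (Grp.mem_conj_normalizer (hMS (hE.1 hb)) (S.inv_mem hs))⟩
      rw [hE.2.2.1, mem_bot, mul_inv_eq_one] at h1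
      have hb1 : (b : G) ≠ 1 := fun e' => ha1 (Subtype.ext (by rw [← hba', e']; simp))
      have h2 : s ∈ S ⊓ centralizer ({(b : G)} : Set G) := ⟨hs, mem_centralizer_singleton_iff.2 (by
        rw [h1, mul_inv_eq_iff_eq_mul] at hsb
        exact hsb)⟩
      rw [hfree b hb hb1, mem_bot] at h2
      show (g : G) ∈ E
      rw [hge, h2, mul_one]
      exact he
  refine ⟨hfc, ?_⟩
  haveI : Fintype M := Fintype.ofFinite M
  obtain ⟨N, hN, -, hNc, -⟩ := Grp.frobenius_kernel_spec hfc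
  haveI hSn : (S.subgroupOf M).Normal := (normal_subgroupOf_iff_le_normalizer hE.2.1).2 hMS
  have hsub : S.subgroupOf M ≤ N := fun s hs => by
    rw [← SetLike.mem_coe, hN]
    rcases eq_or_ne s 1 with rfl | hs1
    · exact Or.inl rfl
    refine Or.inr fun g hg => hs1 ?_
    obtain ⟨e, he, hge⟩ := hg
    have he' : g * e * g⁻¹ = s := hge
    have heS : e ∈ S.subgroupOf M := by
      have := hSn.conj_mem s hs g⁻¹
      rwa [← he', show g⁻¹ * (g * e * g⁻¹) * g⁻¹⁻¹ = e by group] at this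
    have h1 : (e : G) ∈ E ⊓ S := ⟨he, heS⟩
    rw [hE.2.2.1, mem_bot] at h1
    rw [← he', show e = 1 from Subtype.ext h1]
    group
  rw [← hN]
  refine congrArg (fun K : Subgroup M => (K : Set M)) (Subgroup.eq_of_le_of_card_ge hsub (le_of_eq ?_)).symm
  have h2 := hNc.card_mul_card
  rw [← complIn_card hE, Nat.card_congr (subgroupOfEquivOfLe hE.1).toEquiv] at h2
  rw [Nat.card_congr (subgroupOfEquivOfLe hE.2.1).toEquiv]
  exact Nat.eq_of_mul_eq_mul_right (Nat.card_pos (α := E)) (h2.trans (mul_comm _ _))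

variable (hG : Cfsg.IsMinSimpleOddOrder G) {M : Subgroup G} (hM : IsCoatom M)
include hG hM

/-- The order of `N_σ` for a support `N` is prime to the centralisers in `M` of elements of `sigmaA0`. -/
theorem support_coprime {N : Subgroup G} {x : G} (hx : x ∈ Cfsg.sigmaCore M) (hx1 : x ≠ 1)
    (hxM : ¬ centralizer ({x} : Set G) ≤ M) (hN : Support M N x) {K : Subgroup G} {b : G}
    (hb : b ∈ Cfsg.sigmaA0 M K) (hb1 : b ≠ 1) :
    (Nat.card (Cfsg.sigmaCore N)).Coprime (Nat.card ↥(M ⊓ centralizer ({b} : Set G))) := by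
  haveI := solvable_of_ne_top hG hM.1
  refine Nat.coprime_of_dvd fun s hs hsR hsC => ?_
  haveI := Fact.mk hs
  have hsN : s ∈ Cfsg.sigma N := TransHyp.piCoreOf_primes (π := Cfsg.sigma N) (X := N) hs hsR
  obtain ⟨hκ, hτ⟩ := support_primes hG hM hx hx1 hxM hN.hN hN.le hsN (hsC.trans (card_dvd_of_le inf_le_left))
  have hsM : s ∉ Cfsg.sigma M := fun h => by
    obtain ⟨g, hg⟩ := sigma_conj_of_common hG hM hN.hN h hsN
    exact hN.nconj g hg
  have hno : ∀ v ∈ M, v ≠ 1 → IsPiElt (Cfsg.sigma M)ᶜ v → ∀ y ∈ Cfsg.sigmaCore M, y ≠ 1 → Commute v y → False := by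
    intro v hv hv1 hπ y hy hy1 hvy
    have hfix : Cfsg.sigmaCore M ⊓ centralizer ({v} : Set G) ≠ ⊥ := fun e' => hy1 (by
      rw [← mem_bot, ← e']; exact ⟨hy, mem_centralizer_singleton_iff.2 hvy.eq.symm⟩)
    obtain ⟨p, hp, hpd⟩ := Nat.exists_prime_and_dvd (fun e' => hv1 (orderOf_eq_one_iff.1 e'))
    rcases fixed_primes_cases hG hM hv hv1 hπ hfix with h | h
    · exact (hκ ▸ h p hp hpd :)
    · exact (hτ ▸ h p hp hpd :)
  obtain ⟨⟨hbM, y, hy, hy1, hby⟩, -⟩ := hb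
  obtain ⟨u, v, hub, hvb, huv, huπ, hvπ⟩ := exists_pi_parts (Cfsg.sigma M) b
  have hbS : b ∈ Cfsg.sigmaCore M := by
    by_cases hv1 : v = 1
    · rw [← huv, hv1, mul_one]; exact mem_sigmaCore_of_pi hG hM ((zpowers_le.2 hbM) hub) huπ
    · obtain ⟨i, hi⟩ := mem_zpowers_iff.1 hvb
      exact (hno v ((zpowers_le.2 hbM) hvb) hv1 hvπ y hy hy1 (hi ▸ (show Commute b y from hby).zpow_left i)).elim
  obtain ⟨w, hw⟩ := exists_prime_orderOf_dvd_card' (G := ↥(M ⊓ centralizer ({b} : Set G))) s hsC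
  have hwo : orderOf (w : G) = s := by rw [Subgroup.orderOf_coe, hw]
  refine hno w w.2.1 (fun e' => hs.ne_one (by rw [← hwo, e', orderOf_one])) (fun p hp hd => ?_) b hbS hb1
    (mem_centralizer_singleton_iff.1 w.2.2)
  rw [hwo, Nat.prime_dvd_prime_iff_eq hp hs] at hd
  exact hd ▸ hsM

/-- An element of `sigmaHat` whose primes lie in `τ₂` lies in `A(M) ∖ A₁(M)`, and `M` is of type I or II. -/
theorem tau2_hat_type {x : G} (hx1 : x ≠ 1) (hhat : x ∈ Cfsg.sigmaHat M)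
    (hτ : ∀ p : ℕ, p.Prime → p ∣ orderOf x → p ∈ Cfsg.tau2 M) :
    (x ∈ Cfsg.typeA M ∧ x ∉ Cfsg.typeA1 M) ∧ (Cfsg.IsOfTypeI M ∨ Cfsg.IsOfTypeII M) ∧
      x ∉ Cfsg.sigmaCore M := by
  haveI := solvable_of_ne_top hG hM.1
  obtain ⟨K, U, hKU⟩ := exists_decomp_of_max hG hM
  obtain ⟨hxM, y, hy, hy1, hxy⟩ := hhat
  obtain ⟨q, hq, hqd⟩ := Nat.exists_prime_and_dvd fun e => hx1 (orderOf_eq_one_iff.1 e)
  haveI := Fact.mk hq
  have hnS : x ∉ Cfsg.sigmaCore M := fun h => (hτ q hq hqd).2.1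
    (TransHyp.piCoreOf_primes (π := Cfsg.sigma M) (X := M) hq (hqd.trans (Subgroup.orderOf_dvd_natCard _ h)))
  have hcopK : (orderOf x).Coprime (Nat.card K) := Nat.coprime_of_dvd fun p hp h1 h2 => by
    haveI := Fact.mk hp
    exact (hτ p hp h1).2.2.2 (kappa_rank_one hG hM (hKU.hall.2.1 p hp h2))
  obtain ⟨hE, hcard, -⟩ := decomp_compl hG hM hKU
  have hU : U ≠ ⊥ := fun e => by
    have hd : q ∣ Nat.card K * Nat.card (Cfsg.sigmaCore M) := by
      have h1 := complIn_card hE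
      rw [hcard, e, Subgroup.card_bot, one_mul] at h1
      rw [h1]
      exact hqd.trans (Subgroup.orderOf_dvd_natCard _ hxM)
    rcases hq.dvd_mul.1 hd with h | h
    · exact hq.ne_one (Nat.eq_one_of_dvd_coprimes hcopK hqd h)
    · exact (hτ q hq hqd).2.1 (TransHyp.piCoreOf_primes (π := Cfsg.sigma M) (X := M) hq h)
  have hA1 : x ∉ Cfsg.typeA1 M := fun h => hnS (typeCore_eq hG hM ▸ h.1)
  by_cases hK : K = ⊥
  · have hI := (Cfsg.Agent.S1380.result hG M hM K U hKU).2 ⟨hK, hU⟩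
    refine ⟨⟨?_, hA1⟩, Or.inl hI, hnS⟩
    unfold Cfsg.typeA
    rw [if_pos hI]
    exact ⟨hxM, hx1, y, (fittingHallOf_of_U hG hM hKU hU).ge hy, hy1, hxy⟩
  · have hnI : ¬ Cfsg.IsOfTypeI M := fun h => hK ((Cfsg.Agent.S1380.result hG M hM K U hKU).1 h).1
    refine ⟨⟨?_, hA1⟩, Or.inr ((typeII_iff hG hM hKU).2 ⟨hK, hU⟩), hnS⟩
    unfold Cfsg.typeA
    rw [if_neg hnI]
    refine ⟨?_, hx1, y, (typeCore_eq hG hM).ge hy, hy1, hxy⟩
    obtain ⟨-, hc, -, -⟩ := derived_compl hG hM hKU hK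
    haveI : (⁅M, M⁆.subgroupOf M).Normal := by
      refine (normal_subgroupOf_iff_le_normalizer M.commutator_le_self).2 fun c hm => ?_
      rw [Grp.mem_normalizer_iff_smul, ← Grp.map_conj_eq_smul, Subgroup.map_commutator, Grp.map_conj_eq_smul,
        Grp.conj_smul_eq_self_of_mem hm]
    exact mem_of_coprime_index (⁅M, M⁆.subgroupOf M) (u := ⟨x, hxM⟩) (by
      rw [Subgroup.orderOf_mk, show (⁅M, M⁆.subgroupOf M).index = ⁅M, M⁆.relIndex M from rfl,
        (complIn_relIndex hc).1]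
      exact hcopK)

end Cfsg.Agent.Transfer.Loc
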