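import Cfsg.Agent.Lib.Transfer.Local.TauOneKey

/-!
`C_{M_σ}(P)` is centralised by the subgroups of prime order commuting with `P` for `p ∈ τ₁(M)`.
-/

set_option autoImplicit false
set_option linter.style.haveILetI false
set_option linter.unusedSectionVars false
set_option maxHeartbeats 2000000

namespace Cfsg.Agent.Transfer.Loc

open Subgroup
open scoped commutatorElement Pointwise

universe u

variable {G : Type u} [Group G] [Finite G] (hG : Cfsg.IsMinSimpleOddOrder G) {M : Subgroup G} (hM : IsCoatom M)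
include hG hM

/-- The final contradiction for the fixed points of a `τ₁`-subgroup. -/
theorem cent_tau1_aux {p q r : ℕ} [hp : Fact p.Prime] [hq : Fact q.Prime] [hr : Fact r.Prime] (hτ : p ∈ Cfsg.tau1 M)
    {P R : Subgroup G} (hPM : P ≤ M) (hP : Nat.card P = p) (hRM : R ≤ M) (hR : Nat.card R = r)
    (hRP : R ≤ centralizer (P : Set G)) (hrp : r ≠ p) (hrσ : r ∉ Cfsg.sigma M) (hqσ : q ∈ Cfsg.sigma M)
    {Q : Subgroup G} (hQ : Grp.IsSylowIn q Q (Cfsg.sigmaCore M ⊓ centralizer (P : Set G)))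
    (hRQ : R ≤ normalizer (Q : Set G)) : R ≤ centralizer (Q : Set G) := by
  haveI := solvable_of_ne_top hG hM.1
  by_contra hRC
  have hRr : IsPGroup r R := IsPGroup.of_card (n := 1) (by rw [hR, pow_one])
  have hqr : r ≠ q := fun e => hrσ (e ▸ hqσ)
  have hKM : Cfsg.sigmaCore M ≤ M := TransHyp.piCoreOf_le M
  obtain ⟨hWq, hRW, hWQ⟩ := comm_facts hQ.2.1 hRQ
  have hWR : ⁅⁅Q, R⁆, R⁆ = ⁅Q, R⁆ := comm_idem hqr hQ.2.1 hRr hRQ
  have hQM : Q ≤ M := (hQ.1.trans inf_le_left).trans hKM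
  have hQP : Q ≤ centralizer (P : Set G) := hQ.1.trans inf_le_right
  have hW1 : ⁅Q, R⁆ ≠ ⊥ := fun e => hRC (le_centralizer_iff.1 (commutator_eq_bot_iff_le_centralizer.1 e))
  obtain ⟨H, hH, hHM, hCH, hNW, Q₁, hQ₁, hQ₁P⟩ := tau1_key hG hM hτ hPM hP hRM hR hRP hrp hrσ hqσ hWq hW1
    (hWQ.trans hQM) (hWQ.trans hQP) hRW hWR
  -- `Q` is a Sylow subgroup of `M`
  have hQ₁X : Q₁ ≤ Cfsg.sigmaCore M ⊓ centralizer (P : Set G) :=
    le_inf (sylow_le_piCore hG hM (alpha_subset_sigma hG hM) le_rfl hqσ hQ₁) hQ₁P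
  have hQ₁X' : Grp.IsSylowIn q Q₁ (Cfsg.sigmaCore M ⊓ centralizer (P : Set G)) := ⟨hQ₁X, hQ₁.2.1, fun h => hQ₁.2.2 (by
    rw [← Subgroup.relIndex_mul_relIndex Q₁ _ M hQ₁X (inf_le_left.trans hKM)]
    exact h.mul_right _)⟩
  obtain ⟨k, hk, e⟩ := hQ₁X'.conj hQ
  have hQS : Grp.IsSylowIn q Q M := e ▸ hQ₁.smul (Grp.mem_normalizer_iff_smul.1 (le_normalizer (hKM hk.1)))
  obtain ⟨hNQ, hQidx⟩ := sigma_sylow hG hM hqσ hQS
  have hQc : IsMulCommutative Q := by
    by_contra hna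
    exact hHM ((Cfsg.Agent.S1422.result hG q Q hQ.2.1 hna).unique ⟨hH, hQP.trans hCH⟩ ⟨hM, hQM⟩)
  haveI := hQc
  have hQC : Q ≤ centralizer (Q : Set G) := le_centralizer_iff_isMulCommutative.2 hQc
  set Nn := normalizer (Q : Set G) with hNn
  have hRN : R ≤ Nn := hRQ
  haveI : Group.IsSolvable Nn := isSolvable_of_le hNQ
  have hqβ : q ∉ Cfsg.beta M := fun hβ =>
    hHM ((u_of_rank hG hM (beta_subset hβ) hQS).unique ⟨hH, hQP.trans hCH⟩ ⟨hM, hQM⟩)
  -- `M' ∩ N(Q)` centralises `Q`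
  have hD : ⁅M, M⁆ ⊓ Nn ≤ centralizer (Q : Set G) := by
    refine (Grp.le_of_forall_sylow (inf_le_left : (⁅M, M⁆ ⊓ Nn) ⊓ centralizer (Q : Set G) ≤ _) fun s hs => ?_).trans
      inf_le_right
    obtain ⟨X, hX⟩ := Grp.exists_isSylowIn s (⁅M, M⁆ ⊓ Nn : Subgroup G)
    refine ⟨X, hX, le_inf hX.1 ?_⟩
    by_cases hsq : s = q
    · subst hsq
      have h1 : IsPGroup s ↥(Q ⊔ X) := hQ.2.1.to_sup_of_normal_left' hX.2.1 (hX.1.trans inf_le_right)
      have h2 := hQS.eq_of_le le_sup_left (sup_le hQM ((hX.1.trans inf_le_right).trans hNQ)) h1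
      exact (le_sup_right.trans h2.ge).trans hQC
    · exact derived_comm hG hM hsq hQ.2.1 hX.2.1 (sylow_le_derived hG hM hqσ hQS) (hX.1.trans inf_le_left)
        (hX.1.trans inf_le_right) hqβ
  have hder : ⁅Nn, Nn⁆ ≤ centralizer (Q : Set G) :=
    (le_inf (Subgroup.commutator_mono hNQ hNQ) Nn.commutator_le_self).trans hD
  have hCN : ∀ x ∈ Nn, MulAut.conj x • centralizer (Q : Set G) = centralizer (Q : Set G) := fun x hx =>
    Grp.mem_normalizer_iff_smul.1 (normalizer_le_normalizer_centralizer hx)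
  -- `N(Q)` normalises `W`
  have hNWN : Nn ≤ normalizer ((⁅Q, R⁆ : Subgroup G) : Set G) := by
    refine Grp.PiHall.le_normalizer_of_conj_mem fun x hx w hw => ?_
    have hle : ⁅Q, R⁆ ≤ Subgroup.comap (MulAut.conj x).toMonoidHom ⁅Q, R⁆ := Subgroup.commutator_le.2 fun a ha b hb => by
      show x * ⁅a, b⁆ * x⁻¹ ∈ ⁅Q, R⁆
      have ha' : x * a * x⁻¹ ∈ Q := (Subgroup.mem_normalizer_iff.1 hx a).1 ha
      have hc : ⁅x, b⁆ ∈ centralizer (Q : Set G) := hder (commutator_mem_commutator hx (hRN hb))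
      have hm : ⁅x * a * x⁻¹, b⁆ ∈ ⁅Q, R⁆ := commutator_mem_commutator ha' hb
      have e1 : (x * a * x⁻¹) * ⁅x, b⁆ = ⁅x, b⁆ * (x * a * x⁻¹) := mem_centralizer_iff.1 hc _ ha'
      have e2 : ⁅x * a * x⁻¹, b⁆ * ⁅x, b⁆ = ⁅x, b⁆ * ⁅x * a * x⁻¹, b⁆ := mem_centralizer_iff.1 hc _ (hWQ hm)
      have e3 : x * ⁅a, b⁆ * x⁻¹ = (x * a * x⁻¹) * ⁅x, b⁆ * b * (x * a * x⁻¹)⁻¹ * b⁻¹ * ⁅x, b⁆⁻¹ := by
        rw [commutatorElement_def, commutatorElement_def]; group
      rw [e3, e1, show ⁅x, b⁆ * (x * a * x⁻¹) * b * (x * a * x⁻¹)⁻¹ * b⁻¹ * ⁅x, b⁆⁻¹ =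
        ⁅x, b⁆ * ⁅x * a * x⁻¹, b⁆ * ⁅x, b⁆⁻¹ by rw [commutatorElement_def (x * a * x⁻¹) b]; group, ← e2,
        mul_inv_cancel_right]
      exact hm
    exact hle hw
  -- the fixed part
  set Q₀ := Q ⊓ centralizer (R : Set G) with hQ₀
  have hQR : ⁅Q, R⁆ ⊔ Q₀ = Q := Grp.commutator_sup_fixed R Q hRQ (coprime_O hqr hRr hQ.2.1)
    (Or.inl (by haveI := hRr.isNilpotent; infer_instance))
  have hQ₀1 : Q₀ ≠ ⊥ := fun e => hNW (by
    rw [e, sup_bot_eq] at hQR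
    rw [hQR]; exact hNQ)
  have hnil : ¬ Group.IsNilpotent (Cfsg.sigmaCore M) := by
    intro hn
    have hQK : Grp.IsSylowIn q Q (Cfsg.sigmaCore M) := ⟨hQ.1.trans inf_le_left, hQ.2.1, fun h => hQS.2.2 (by
      rw [← Subgroup.relIndex_mul_relIndex Q _ M (hQ.1.trans inf_le_left) hKM]
      exact h.mul_right _)⟩
    have hMN : M ≤ Nn := (TransHyp.le_normalizer_piCoreOf M).trans (normalizer_le_sylow hn hQK)
    exact hNW (normalizer_eq_of_le hG hM hW1 (hWQ.trans hQM) (hMN.trans hNWN)).le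
  have hrank : ∀ s : ℕ, s.Prime → s ∉ Cfsg.sigma M → Cfsg.PRankLE s 1 M := fun s hs hsσ => by
    by_contra h
    haveI := Fact.mk hs
    obtain ⟨A, A₀, hexc⟩ := tau2_exc hG hM (p := s) ⟨hs, hsσ, by
      by_contra h'; exact hsσ (alpha_subset_sigma hG hM ⟨hs, h'⟩), h⟩
    exact hnil hexc.nilpotent
  have hrM := hrank r hr.out hrσ
  have hτr : r ∈ Cfsg.tau1 M := ⟨hr.out, hrσ, hR.symm.dvd.trans (card_dvd_of_le hRM),
    fun h => hRC ((le_inf (le_derived_of_rank_one hG hrM h hRM hRr) hRN).trans hD), hrM⟩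
  have hRd : ∀ R' : Subgroup G, Nat.card R' = r → R' ≤ centralizer (Q : Set G) → False := by
    intro R' hR' hR'C
    obtain ⟨n, hn, e⟩ := prime_sub_conj hG (prankLE_mono hNQ hrM) (hR'C.trans (centralizer_le_normalizer _)) hRN hR' hR
    exact hRC (e ▸ hCN n hn ▸ Subgroup.pointwise_smul_le_pointwise_smul_iff.2 hR'C)
  set D₁ := Nn ⊓ centralizer (Q : Set G) with hD₁
  have hrD₁ : ¬ r ∣ Nat.card D₁ := fun h => by
    obtain ⟨z, hz⟩ := exists_prime_orderOf_dvd_card' r h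
    exact hRd (zpowers (z : G)) (by rw [Nat.card_zpowers, Subgroup.orderOf_coe, hz]) (zpowers_le.2 z.2.2)
  -- `N(Q) = D₁ C(R)`
  have hsplit : Nn ≤ D₁ ⊔ (Nn ⊓ centralizer (R : Set G)) := by
    intro x hx
    have hRD : R ≤ normalizer (D₁ : Set G) := le_normalizer_inf' (hRN.trans le_normalizer)
      (hRN.trans normalizer_le_normalizer_centralizer)
    have hxR : MulAut.conj x • R ≤ R ⊔ D₁ := by
      rintro _ ⟨b, hb, rfl⟩
      show MulAut.conj x b ∈ _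
      rw [MulAut.conj_apply, show x * b * x⁻¹ = ⁅x, b⁆ * b by rw [commutatorElement_def]; group, sup_comm]
      exact Subgroup.mul_mem_sup ⟨Nn.commutator_le_self (commutator_mem_commutator hx (hRN hb)),
        hder (commutator_mem_commutator hx (hRN hb))⟩ hb
    have hidx : R.relIndex (R ⊔ D₁) ∣ Nat.card D₁ := by
      refine Nat.dvd_of_mul_dvd_mul_left (k := Nat.card R) Nat.card_pos ?_
      rw [Grp.card_mul_relIndex le_sup_left]
      exact Grp.card_sup_dvd_mul hRD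
    have hS1 : Grp.IsSylowIn r R (R ⊔ D₁) := ⟨le_sup_left, hRr, fun h => hrD₁ (h.trans hidx)⟩
    have hS2 : Grp.IsSylowIn r (MulAut.conj x • R) (R ⊔ D₁) := by
      obtain ⟨U, hU⟩ := Grp.exists_isSylowIn r (R ⊔ D₁ : Subgroup G)
      haveI : Group.IsSolvable ↥(R ⊔ D₁) := isSolvable_of_le (sup_le hRM (inf_le_left.trans hNQ))
      obtain ⟨V, hV, hxV⟩ := exists_sylowIn_ge hxR (hRr.map _)
      have : MulAut.conj x • R = V := Subgroup.eq_of_le_of_card_ge hxV (by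
        rw [hV.card, ← hS1.card, Grp.card_conj_smul])
      rw [this]; exact hV
    obtain ⟨d, hd, e⟩ := hS1.conj hS2
    rw [sup_comm] at hd
    obtain ⟨c, hc, b, hb, rfl⟩ : ∃ c ∈ D₁, ∃ b ∈ R, d = c * b := by
      rw [← SetLike.mem_coe, Subgroup.coe_mul_of_right_le_normalizer_left D₁ R hRD] at hd
      obtain ⟨c, hc, b, hb, e'⟩ := hd
      exact ⟨c, hc, b, hb, e'.symm⟩
    rw [← Grp.conj_smul_conj_smul, Grp.conj_smul_eq_self_of_mem hb] at e
    have hn : c⁻¹ * x ∈ normalizer (R : Set G) := by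
      rw [Grp.mem_normalizer_iff_smul, ← Grp.conj_smul_conj_smul, ← e, Grp.conj_smul_conj_smul, inv_mul_cancel,
        map_one, one_smul]
    have hnN : c⁻¹ * x ∈ Nn := Subgroup.mul_mem _ (Subgroup.inv_mem _ hc.1) hx
    have hcC : c⁻¹ * x ∈ centralizer (R : Set G) := by
      refine mem_centralizer_iff.2 fun b hb => ?_
      have h1 : ⁅b, c⁻¹ * x⁆ ∈ R ⊓ centralizer (Q : Set G) := by
        refine ⟨?_, hder (commutator_mem_commutator (hRN hb) hnN)⟩
        rw [commutatorElement_def, show b * (c⁻¹ * x) * b⁻¹ * (c⁻¹ * x)⁻¹ = b * ((c⁻¹ * x) * b⁻¹ * (c⁻¹ * x)⁻¹) by group]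
        exact R.mul_mem hb ((Subgroup.mem_normalizer_iff.1 hn b⁻¹).1 (R.inv_mem hb))
      have hbot : R ⊓ centralizer (Q : Set G) = ⊥ := Subgroup.card_eq_one.1
        (((Nat.dvd_prime hr.out).1 (hR ▸ card_dvd_of_le inf_le_left)).resolve_right fun h => hRC
          (inf_eq_left.1 (Subgroup.eq_of_le_of_card_ge inf_le_left (by rw [h, hR]))))
      rw [hbot, mem_bot] at h1
      exact commutatorElement_eq_one_iff_mul_comm.1 h1
    have := Subgroup.mul_mem_sup (S := D₁) (T := Nn ⊓ centralizer (R : Set G)) hc ⟨hnN, hcC⟩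
    rwa [mul_inv_cancel_left] at this
  -- some element centralising `R` moves `Q₀`
  have hmove : ¬ Nn ⊓ centralizer (R : Set G) ≤ centralizer (Q₀ : Set G) := by
    intro h
    have hall : Nn ≤ centralizer (Q₀ : Set G) :=
      hsplit.trans (sup_le (inf_le_right.trans (Subgroup.centralizer_le (show Q₀ ≤ Q from inf_le_left))) h)
    have hQle : Q ≤ ⁅Q, R⁆ := by
      refine (sylow_abelian_le_comm hG (hQ.2.1.toSylow hQidx) hQc).trans ?_
      show ⁅Q, Nn⁆ ≤ ⁅Q, R⁆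
      rw [Subgroup.commutator_le]
      intro a ha x hx
      have ha' : a ∈ ⁅Q, R⁆ ⊔ Q₀ := hQR.ge ha
      rw [← SetLike.mem_coe, Subgroup.coe_mul_of_right_le_normalizer_left _ _
        ((inf_le_left.trans le_normalizer : Q₀ ≤ Nn).trans hNWN)] at ha'
      obtain ⟨w, hw, z, hz, rfl⟩ := ha'
      have e1 : ⁅w * z, x⁆ = ⁅w, x⁆ := by
        have e2 : z * x = x * z := mem_centralizer_iff.1 (hall hx) z hz
        rw [commutatorElement_def, commutatorElement_def, mul_assoc w z x, e2]; group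
      rw [e1, commutatorElement_def, show w * x * w⁻¹ * x⁻¹ = w * (x * w⁻¹ * x⁻¹) by group]
      exact Subgroup.mul_mem _ hw ((Subgroup.mem_normalizer_iff.1 (hNWN hx) w⁻¹).1 (Subgroup.inv_mem _ hw))
    refine hQ₀1 (le_bot_iff.1 ?_)
    rw [← Grp.abelian_commutator_inf_fixed R Q hRQ (coprime_O hqr hRr hQ.2.1)]
    exact le_inf le_rfl (inf_le_left.trans hQle)
  obtain ⟨s, hs, Y, hY, hYC⟩ : ∃ (s : ℕ) (_ : Fact s.Prime) (Y : Subgroup G),
      Grp.IsSylowIn s Y (Nn ⊓ centralizer (R : Set G)) ∧ ¬ Y ≤ centralizer (Q₀ : Set G) := by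
    by_contra h
    push Not at h
    refine hmove ((Grp.le_of_forall_sylow (inf_le_left :
      (Nn ⊓ centralizer (R : Set G)) ⊓ centralizer (Q₀ : Set G) ≤ _) fun s hs => ?_).trans inf_le_right)
    obtain ⟨X, hX⟩ := Grp.exists_isSylowIn s (Nn ⊓ centralizer (R : Set G) : Subgroup G)
    exact ⟨X, hX, le_inf hX.1 (h s hs X hX)⟩
  haveI := hs
  have hYN : Y ≤ Nn := hY.1.trans inf_le_left
  have hYR : Y ≤ centralizer (R : Set G) := hY.1.trans inf_le_right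
  have hYM : Y ≤ M := hYN.trans hNQ
  have hQ₀Q : Q₀ ≤ Q := inf_le_left
  have hsσ : s ∉ Cfsg.sigma M := by
    intro hsσ
    obtain ⟨S, hS, hYS⟩ := exists_sylowIn_ge hYM hY.2.1
    exact hYC (((le_inf (hYS.trans (sylow_le_derived hG hM hsσ hS)) hYN).trans hD).trans (Subgroup.centralizer_le hQ₀Q))
  have hsq : s ≠ q := fun e => hsσ (e ▸ hqσ)
  have hY1 : Y ≠ ⊥ := fun e => hYC (e ▸ bot_le)
  obtain ⟨z, hz⟩ := exists_prime_orderOf_dvd_card' (G := Y) s (dvd_card_of_pGroup hY.2.1 hY1)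
  set Z := zpowers (z : G) with hZ
  have hZc : Nat.card Z = s := by rw [hZ, Nat.card_zpowers, Subgroup.orderOf_coe, hz]
  have hZY : Z ≤ Y := zpowers_le.2 z.2
  have hZs : IsPGroup s Z := hY.2.1.to_le hZY
  have hZQ₀ : Z ≤ normalizer (Q₀ : Set G) := le_normalizer_inf' (hZY.trans hYN)
    ((hZY.trans hYR).trans ((centralizer_le_normalizer _).trans normalizer_le_normalizer_centralizer))
  have hZC : ¬ Z ≤ centralizer (Q₀ : Set G) := fun h => hYC (le_centralizer_iff.1 ((le_inf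
    (hQ₀Q.trans (hQ.1.trans inf_le_left)) (le_centralizer_iff.1 h)).trans
    (prime_action hG hM hsσ (hrank s hs.out hsσ) hY.2.1 hYM hZY hZc)))
  have hsr : s ≠ r := by
    intro e
    subst e
    have hZR : Z ≤ centralizer (R : Set G) := hZY.trans hYR
    have h1 : IsPGroup s ↥(R ⊔ Z) := hRr.to_sup_of_normal_left' hZs (hZR.trans (centralizer_le_normalizer _))
    have h2 := eq_of_card_cyclic (cyclic_of_rank_one hG h1 (sup_le hRM (hZY.trans hYM)) hrM)
      le_sup_right le_sup_left (by rw [hZc, hR])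
    exact hZC (h2.le.trans (le_centralizer_iff.1 inf_le_right))
  obtain ⟨hW2, hZW2, hW2Q⟩ := comm_facts (hQ.2.1.to_le hQ₀Q) hZQ₀
  obtain ⟨-, -, -, -, -, Q₂, hQ₂, hQ₂R⟩ := tau1_key hG hM hτr hRM hR (hZY.trans hYM) hZc (hZY.trans hYR) hsr hsσ hqσ
    hW2 (fun e => hZC (le_centralizer_iff.1 (commutator_eq_bot_iff_le_centralizer.1 e)))
    (hW2Q.trans (hQ₀Q.trans hQM)) (hW2Q.trans inf_le_right) hZW2 (comm_idem hsq (hQ.2.1.to_le hQ₀Q) hZs hZQ₀)
  obtain ⟨m, hm, e2⟩ := hQS.conj hQ₂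
  refine hRd (MulAut.conj m⁻¹ • R) (by rw [Grp.card_conj_smul, hR]) ?_
  have h := smul_centralizer_le (le_centralizer_iff.1 hQ₂R) m⁻¹
  rwa [← e2, Grp.conj_smul_conj_smul, inv_mul_cancel, map_one, one_smul] at h

/-- `C_{M_σ}(P) ≤ C(R)` for commuting subgroups `P`, `R` of prime order, `p ∈ τ₁(M)`. -/
theorem cent_tau1 {p r : ℕ} [hp : Fact p.Prime] [hr : Fact r.Prime] (hτ : p ∈ Cfsg.tau1 M)
    {P R : Subgroup G} (hPM : P ≤ M) (hP : Nat.card P = p) (hRM : R ≤ M) (hR : Nat.card R = r)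
    (hRP : R ≤ centralizer (P : Set G)) (hrσ : r ∉ Cfsg.sigma M) :
    Cfsg.sigmaCore M ⊓ centralizer (P : Set G) ≤ centralizer (R : Set G) := by
  haveI := solvable_of_ne_top hG hM.1
  have hPp : IsPGroup p P := IsPGroup.of_card (n := 1) (by rw [hP, pow_one])
  have hRr : IsPGroup r R := IsPGroup.of_card (n := 1) (by rw [hR, pow_one])
  by_cases hrp : r = p
  · subst hrp
    have h1 : IsPGroup r ↥(P ⊔ R) := hPp.to_sup_of_normal_left' hRr (hRP.trans (centralizer_le_normalizer _))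
    have h2 := eq_of_card_cyclic (cyclic_of_rank_one hG h1 (sup_le hPM hRM) hτ.2.2.2.2) le_sup_right le_sup_left
      (by rw [hP, hR])
    rw [h2]; exact inf_le_right
  set X := Cfsg.sigmaCore M ⊓ centralizer (P : Set G) with hX
  have hRX : R ≤ normalizer (X : Set G) := le_normalizer_inf' (hRM.trans (TransHyp.le_normalizer_piCoreOf M))
    ((hRP.trans (centralizer_le_normalizer _)).trans normalizer_le_normalizer_centralizer)
  refine (Grp.le_of_forall_sylow (inf_le_left : X ⊓ centralizer (R : Set G) ≤ X) fun q hq => ?_).trans inf_le_right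
  obtain ⟨Q, hQ, hRQ⟩ := Grp.exists_invariant_sylow R X hRX (Nat.coprime_of_dvd fun s hs h1 h2 => by
    rw [eq_of_dvd_pGroup hRr hs h1] at h2
    exact not_dvd_sigmaCore hrσ (h2.trans (card_dvd_of_le inf_le_left)))
    (Or.inl (by haveI := hRr.isNilpotent; infer_instance)) q
  refine ⟨Q, hQ, le_inf hQ.1 ?_⟩
  rcases eq_or_ne Q ⊥ with hQ1 | hQ1
  · rw [hQ1]; exact bot_le
  have hqσ : q ∈ Cfsg.sigma M := TransHyp.piCoreOf_primes (π := Cfsg.sigma M) (X := M) hq.out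
    ((dvd_card_of_pGroup hQ.2.1 hQ1).trans (card_dvd_of_le (hQ.1.trans inf_le_left)))
  exact le_centralizer_iff.1 (cent_tau1_aux hG hM hτ hPM hP hRM hR hRP hrp hrσ hqσ hQ hRQ)

end Cfsg.Agent.Transfer.Loc
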