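import Cfsg.Agent.Lib.Transfer.Local.TauOneBasics
import Cfsg.Agent.Lib.Transfer.Local.RankOneFixed
import Cfsg.Agent.S1418
import Cfsg.Agent.S1422

/-!
A subgroup of order `p ∈ τ₁(M)` centralising a subgroup `W = [W, R]` of `M_σ` centralises a Sylow subgroup.
-/

set_option autoImplicit false
set_option linter.style.haveILetI false
set_option linter.unusedSectionVars false
set_option maxHeartbeats 2000000

namespace Cfsg.Agent.Transfer.Loc

open Subgroup
open scoped commutatorElement Pointwise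

universe u

variable {G : Type u} [Group G] [Finite G]

/-- A `p`-subgroup of `K` moved by an element of `K` normalising it makes `p` divide `|K'|`. -/
theorem dvd_derived_of_moves {p : ℕ} [hp : Fact p.Prime] {T K : Subgroup G} (hT : IsPGroup p T) (hTK : T ≤ K)
    {y : G} (hy : y ∈ K) (hyT : y ∈ normalizer (T : Set G)) (hyC : y ∉ centralizer (T : Set G)) :
    p ∣ Nat.card ↥⁅K, K⁆ := by
  obtain ⟨t, ht, hne⟩ : ∃ t ∈ T, t * y ≠ y * t := by
    by_contra h
    push Not at h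
    exact hyC (mem_centralizer_iff.2 h)
  have hc : ⁅t, y⁆ ∈ T ⊓ ⁅K, K⁆ := by
    refine ⟨?_, commutator_mem_commutator (hTK ht) hy⟩
    rw [commutatorElement_def, show t * y * t⁻¹ * y⁻¹ = t * (y * t⁻¹ * y⁻¹) by group]
    exact T.mul_mem ht ((Subgroup.mem_normalizer_iff.1 hyT t⁻¹).1 (T.inv_mem ht))
  refine (dvd_card_of_pGroup (hT.to_le inf_le_left) ?_).trans (card_dvd_of_le (inf_le_right : T ⊓ ⁅K, K⁆ ≤ _))
  intro e
  rw [e, mem_bot] at hc
  exact hne (commutatorElement_eq_one_iff_mul_comm.1 hc)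

/-- A `p'`-prime of `M'` cannot divide `L'` unless it divides the normal factor of `L = N(M ∩ L)`. -/
theorem dvd_factor_of_derived {p : ℕ} [hp : Fact p.Prime] {N L D : Subgroup G} (hNL : N ≤ L)
    (hLN : L ≤ normalizer (N : Set G)) (hDL : D ≤ L) (hcov : L ≤ N ⊔ D) (hd : p ∣ Nat.card ↥⁅L, L⁆)
    (hnd : ¬ p ∣ Nat.card ↥⁅D, D⁆) : p ∣ Nat.card N := by
  have hDN : D ≤ normalizer (N : Set G) := hDL.trans hLN
  have hL'N : ⁅L, L⁆ ≤ normalizer (N : Set G) := L.commutator_le_self.trans hLN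
  have h1 := card_qimg (le_sup_left : N ≤ N ⊔ ⁅L, L⁆) (sup_le le_normalizer hL'N)
  rw [qimg_sup le_normalizer hL'N, qimg_self, bot_sup_eq, qimg_commutator hLN hLN] at h1
  have hLD : qimg N L ≤ qimg N D := by
    refine (qimg_mono hcov).trans ?_
    rw [qimg_sup le_normalizer hDN, qimg_self, bot_sup_eq]
  have h2 : Nat.card ↥⁅qimg N L, qimg N L⁆ ∣ Nat.card ↥⁅D, D⁆ := by
    refine (card_dvd_of_le (Subgroup.commutator_mono hLD hLD)).trans ?_
    rw [← qimg_commutator hDN hDN]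
    exact card_qimg_dvd (D.commutator_le_self.trans hDN)
  have h3 : p ∣ Nat.card N * Nat.card ↥⁅qimg N L, qimg N L⁆ := h1 ▸ hd.trans (card_dvd_of_le le_sup_right)
  exact (hp.out.dvd_mul.1 h3).resolve_right fun h => hnd (h.trans h2)

variable (hG : Cfsg.IsMinSimpleOddOrder G)
include hG

/-- An abelian Sylow subgroup is the commutator with its normaliser. -/
theorem sylow_abelian_le_comm {p : ℕ} [hp : Fact p.Prime] (T : Sylow p G) (hT : IsMulCommutative (T : Subgroup G)) :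
    (T : Subgroup G) ≤ ⁅(T : Subgroup G), normalizer ((T : Subgroup G) : Set G)⁆ := by
  have hTN : (T : Subgroup G) ≤ normalizer ((T : Subgroup G) : Set G) := le_normalizer
  set N := normalizer ((T : Subgroup G) : Set G) with hN
  have hmap : ((T.subtype hTN : Sylow p N) : Subgroup N).map N.subtype = (T : Subgroup G) := by
    rw [show ((T.subtype hTN : Sylow p N) : Subgroup N) = (T : Subgroup G).subgroupOf N from rfl,
      map_subgroupOf_eq_of_le hTN]
  have hc : IsMulCommutative ((T.subtype hTN : Sylow p N) : Subgroup N) := by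
    rw [show ((T.subtype hTN : Sylow p N) : Subgroup N) = (T : Subgroup G).subgroupOf N from rfl]
    haveI := hT
    infer_instance
  intro x hx
  have hxd := sylow_le_derived_normalizer hG T hx
  rw [← hN, derived_eq_map N] at hxd
  obtain ⟨y, hy, rfl⟩ := hxd
  have h1 : y ∈ commutator N ⊓ ((T.subtype hTN : Sylow p N) : Subgroup N) := ⟨hy, hx⟩
  have h2 := mem_map_of_mem N.subtype ((Transfer.abelian_sylow_inf_commutator (T.subtype hTN) hc).1 h1)
  rw [map_commutator, hmap] at h2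
  exact Subgroup.commutator_mono le_rfl (map_subtype_le _) h2

/-- Some element moving a Sylow subgroup normalises a given Sylow subgroup of its centraliser. -/
theorem frattini_move {p q : ℕ} [hp : Fact p.Prime] [hq : Fact q.Prime] (T : Sylow p G) (hT1 : (T : Subgroup G) ≠ ⊥)
    {W : Subgroup G} (hW : IsPGroup q W) (hWT : W ≤ centralizer ((T : Subgroup G) : Set G)) :
    ∃ S : Subgroup G, Grp.IsSylowIn q S (centralizer ((T : Subgroup G) : Set G)) ∧ W ≤ S ∧
      ∃ y ∈ normalizer ((T : Subgroup G) : Set G), y ∈ normalizer (S : Set G) ∧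
        y ∉ centralizer ((T : Subgroup G) : Set G) := by
  set C := centralizer ((T : Subgroup G) : Set G) with hC
  haveI := solvable_of_ne_top hG (centralizer_ne_top' hG hT1)
  obtain ⟨S, hS, hWS⟩ := exists_sylowIn_ge hWT hW
  refine ⟨S, hS, hWS, ?_⟩
  by_contra h
  push Not at h
  have hNC : normalizer ((T : Subgroup G) : Set G) ≤ C := by
    intro x hx
    have hxC := Grp.mem_normalizer_iff_smul.1 (normalizer_le_normalizer_centralizer hx : x ∈ normalizer (C : Set G))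
    obtain ⟨c, hc, e⟩ := hS.conj (hS.smul hxC)
    have h1 : c⁻¹ * x ∈ normalizer (S : Set G) := by
      rw [Grp.mem_normalizer_iff_smul, ← Grp.conj_smul_conj_smul, ← e, Grp.conj_smul_conj_smul, inv_mul_cancel,
        map_one, one_smul]
    have hcN : c ∈ normalizer ((T : Subgroup G) : Set G) := centralizer_le_normalizer _ hc
    have h2 := h _ (Subgroup.mul_mem _ (Subgroup.inv_mem _ hcN) hx) h1
    have h3 := C.mul_mem hc h2
    rwa [mul_inv_cancel_left] at h3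
  have hTc : IsMulCommutative (T : Subgroup G) := le_centralizer_iff_isMulCommutative.1 (le_normalizer.trans hNC)
  refine hT1 (le_bot_iff.1 ((sylow_abelian_le_comm hG T hTc).trans ?_))
  exact (commutator_eq_bot_iff_le_centralizer.2 (le_centralizer_iff.1 hNC)).le

/-- A plane for a prime in `τ₂(H)`. -/
theorem tau2_exc {H : Subgroup G} (hH : IsCoatom H) {p : ℕ} [hp : Fact p.Prime] (hτ : p ∈ Cfsg.tau2 H) :
    ∃ A A₀ : Subgroup G, Exc H p A A₀ := by
  obtain ⟨E, hE, -⟩ := exists_compl_ge hG hH (U := ⊥) bot_le fun s hs hd => by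
    rw [Subgroup.card_bot] at hd; exact absurd hd hs.not_dvd_one
  obtain ⟨T, hT⟩ := Grp.exists_isSylowIn p E
  obtain ⟨A, hAT, hA, hA2⟩ := tau2_plane hG hH hE hτ hT
  exact ⟨A, exists_exc hG hH ((hAT.trans hT.1).trans hE.1) hA hA2 hτ.2.1⟩

variable {M : Subgroup G} (hM : IsCoatom M)
include hM

/-- For `p ∈ τ₁(M)` in `σ(L)` fixed in `M ∩ L` the prime `q` lies in `σ(L)`. -/
theorem sigma_of_tau1_fixed {p q : ℕ} [hp : Fact p.Prime] [hq : Fact q.Prime] (hqσ : q ∈ Cfsg.sigma M)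
    (hτ : p ∈ Cfsg.tau1 M) {W : Subgroup G} (hW : IsPGroup q W) (hW1 : W ≠ ⊥) (hWM : W ≤ M)
    {L : Subgroup G} (hL : IsCoatom L) (hne : L ≠ M) (hNL : normalizer (W : Set G) ≤ L)
    {P : Subgroup G} (hPM : P ≤ M) (hPL : P ≤ L) (hP : Nat.card P = p) (hpL : p ∈ Cfsg.sigma L) :
    q ∈ Cfsg.sigma L := by
  by_contra hqL
  haveI := solvable_of_ne_top hG hL.1
  obtain ⟨A, A₀, E, h, hE, hAE, hEM⟩ := cover_plane hG hM hqσ hW hW1 hWM hL hne hNL hqL
  have hPp : IsPGroup p P := IsPGroup.of_card (n := 1) (by rw [hP, pow_one])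
  obtain ⟨S, hS, hPS⟩ := exists_sylowIn_ge hPL hPp
  have hPK : P ≤ Cfsg.sigmaCore L := hPS.trans (sylow_le_piCore hG hL (alpha_subset_sigma hG hL) le_rfl hpL hS)
  haveI : Group.IsSolvable (Cfsg.sigmaCore L) := isSolvable_of_le (TransHyp.piCoreOf_le L)
  obtain ⟨X, hX, hPX⟩ := exists_sylowIn_ge hPK hPp
  have hEX : E ≤ normalizer (X : Set G) :=
    (hE.1.trans (TransHyp.le_normalizer_piCoreOf L)).trans (normalizer_le_sylow h.nilpotent hX)
  have hbot : ⁅X ⊓ M, E⁆ = ⊥ := by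
    have h1 : ⁅X ⊓ M, E⁆ ≤ X ⊓ ⁅M, M⁆ :=
      le_inf ((Subgroup.commutator_mono inf_le_left le_rfl).trans (Grp.commutator_le_left_of_le_normalizer hEX))
        (Subgroup.commutator_mono inf_le_right hEM)
    by_contra hne1
    exact hτ.2.2.2.1 ((dvd_card_of_pGroup (hX.2.1.to_le inf_le_left) (ne_bot_of_le_ne_bot hne1 h1)).trans
      (card_dvd_of_le inf_le_right))
  have hPC : P ≤ Cfsg.sigmaCore L ⊓ centralizer (A : Set G) := le_inf hPK
    (((le_inf hPX hPM).trans (commutator_eq_bot_iff_le_centralizer.1 hbot)).trans (Subgroup.centralizer_le hAE))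
  rw [h.fixed_plane, le_bot_iff] at hPC
  exact hp.out.ne_one (hP.symm.trans (by rw [hPC, Subgroup.card_bot]))

/-- The main step towards the fixed points of `τ₁`-subgroups. -/
theorem tau1_key {p q r : ℕ} [hp : Fact p.Prime] [hq : Fact q.Prime] [hr : Fact r.Prime] (hτ : p ∈ Cfsg.tau1 M)
    {P R W : Subgroup G} (hPM : P ≤ M) (hP : Nat.card P = p) (hRM : R ≤ M) (hR : Nat.card R = r)
    (hRP : R ≤ centralizer (P : Set G)) (hrp : r ≠ p) (hrσ : r ∉ Cfsg.sigma M) (hqσ : q ∈ Cfsg.sigma M)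
    (hW : IsPGroup q W) (hW1 : W ≠ ⊥) (hWM : W ≤ M) (hWP : W ≤ centralizer (P : Set G))
    (hRW : R ≤ normalizer (W : Set G)) (hWR : ⁅W, R⁆ = W) :
    ∃ H : Subgroup G, IsCoatom H ∧ H ≠ M ∧ centralizer (P : Set G) ≤ H ∧ ¬ normalizer (W : Set G) ≤ M ∧
      ∃ Q : Subgroup G, Grp.IsSylowIn q Q M ∧ Q ≤ centralizer (P : Set G) := by
  haveI := solvable_of_ne_top hG hM.1
  have hpσ : p ∉ Cfsg.sigma M := hτ.2.1
  have hnd : ¬ p ∣ Nat.card ↥⁅M, M⁆ := hτ.2.2.2.1
  have hr1M : Cfsg.PRankLE p 1 M := hτ.2.2.2.2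
  have hqp : q ≠ p := fun e => hpσ (e ▸ hqσ)
  have hqr : q ≠ r := fun e => hrσ (e ▸ hqσ)
  have hPp : IsPGroup p P := IsPGroup.of_card (n := 1) (by rw [hP, pow_one])
  have hRr : IsPGroup r R := IsPGroup.of_card (n := 1) (by rw [hR, pow_one])
  have hP1 : P ≠ ⊥ := fun e => hp.out.ne_one (hP.symm.trans (by rw [e, Subgroup.card_bot]))
  have hR1 : R ≠ ⊥ := fun e => hr.out.ne_one (hR.symm.trans (by rw [e, Subgroup.card_bot]))
  obtain ⟨H, hH, hNH⟩ := exists_coatom_normalizer hG hP1 fun e => hM.1 (top_le_iff.1 (e ▸ hPM))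
  haveI := solvable_of_ne_top hG hH.1
  have hnc := rank_one_not_conj hG hM hpσ hr1M hP hNH
  have hHM : H ≠ M := fun e => hnc 1 (by rw [map_one, one_smul, e])
  have hCH : centralizer (P : Set G) ≤ H := (centralizer_le_normalizer _).trans hNH
  have hPH : P ≤ H := le_normalizer.trans hNH
  have hWH : W ≤ H := hWP.trans hCH
  have hRH : R ≤ H := hRP.trans hCH
  have hPW : P ≤ normalizer (W : Set G) := (le_centralizer_iff.1 hWP).trans (centralizer_le_normalizer _)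
  have hRD : ¬ R ≤ ⁅H, H⁆ := fun h => hW1 (kills hG hM hH hnc hqσ (Ne.symm hqr) hW hRr hWH h hRW hWR)
  have hrH : r ∉ Cfsg.sigma H := fun h => hRD (by
    obtain ⟨S, hS, hRS⟩ := exists_sylowIn_ge hRH hRr
    exact hRS.trans (sylow_le_derived hG hH h hS))
  have hqβ : q ∉ Cfsg.beta H := fun h => not_alpha_of_sigma hG hM hH hnc hqσ (beta_subset h)
  have hWU : W ≤ ⁅R ⊔ W, R ⊔ W⁆ := hWR.ge.trans (Subgroup.commutator_mono le_sup_right le_sup_left)
  have hUσ : q ∉ Cfsg.sigma H → ∀ s : ℕ, s.Prime → s ∣ Nat.card ↥(R ⊔ W) → s ∉ Cfsg.sigma H := by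
    intro hqH s hs hd
    rcases hs.dvd_mul.1 (hd.trans (Grp.card_sup_dvd_mul hRW)) with h | h
    · rw [eq_of_dvd_pGroup hRr hs h]; exact hrH
    · rw [eq_of_dvd_pGroup hW hs h]; exact hqH
  obtain ⟨Eb, hEb, -⟩ := exists_compl_ge hG hM (U := ⊥) bot_le fun s hs hd => by
    rw [Subgroup.card_bot] at hd; exact absurd hd hs.not_dvd_one
  -- `p ∈ σ(H)`
  have hpH : p ∈ Cfsg.sigma H := by
    by_contra hpH
    obtain ⟨hrk, -, A, hA, hA2, hPA⟩ := normalizer_prime_order hG hH hpH hP hNH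
    have hAH : A ≤ H := ((le_centralizer_iff_isMulCommutative.2 hA.1).trans (Subgroup.centralizer_le hPA)).trans hCH
    obtain ⟨A₀, hexc⟩ := exists_exc hG hH hAH hA hA2 hpH
    have hqH : q ∉ Cfsg.sigma H := sigma_disjoint hG hM hH hnc hexc.nilpotent hqσ
    obtain ⟨B, -, hB, hB2, hBW, hid⟩ := tau2_comm hG hH (p := p) ⟨hp.out, hpH, hrk.1, hrk.2⟩
      (sup_le hRH hWH) (hUσ hqH) hWU fun hd => hqp (eq_of_dvd_pGroup hW hp.out hd).symm
    obtain ⟨L, hL, hNL, hne, hpL, hqp'⟩ := plane_cover hG hM hqσ hr1M hW hW1 hWM hB hB2 hBW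
    exact hid (hqp' (sigma_of_tau1_fixed hG hM hqσ hτ hW hW1 hWM hL hne hNL hPM (hPW.trans hNL) hP hpL)).2
  -- `p ∈ β(H)`
  have hpβ : p ∈ Cfsg.beta H := by
    by_contra hpβ
    have hPD : P ≤ ⁅H, H⁆ := by
      obtain ⟨S, hS, hPS⟩ := exists_sylowIn_ge hPH hPp
      exact hPS.trans (sylow_le_derived hG hH hpH hS)
    have hWD : W ≤ ⁅H, H⁆ := hWR.ge.trans (Subgroup.commutator_mono hWH hRH)
    obtain ⟨-, -, ⟨Hn, hHn, hHnnil⟩, -⟩ := Cfsg.Agent.S1414.result hG H hH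
    haveI := isSolvable_of_le (H.commutator_le_self)
    obtain ⟨d, hd, hle⟩ := Grp.PiHall.dominate hHn (sup_le hPD hWD : P ⊔ W ≤ ⁅H, H⁆) fun s hs hsd => by
      rcases hs.dvd_mul.1 (hsd.trans (Grp.card_sup_dvd_mul hPW)) with h | h
      · rw [eq_of_dvd_pGroup hPp hs h]; exact ⟨hp.out, hpβ⟩
      · rw [eq_of_dvd_pGroup hW hs h]; exact ⟨hq.out, hqβ⟩
    set Hd := MulAut.conj d • Hn with hHd
    have hHdnil : Group.IsNilpotent Hd := Transfer.CN.isNilpotent_of_injective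
      (Subgroup.equivSMul (MulAut.conj d) Hn).symm.toMonoidHom (MulEquiv.injective _) hHnnil
    have hHd' := Grp.PiHall.smul hHn (g := d) (Grp.mem_normalizer_iff_smul.1 (le_normalizer hd))
    haveI : Group.IsSolvable Hd := by haveI := hHdnil; infer_instance
    obtain ⟨T, hT, hPT⟩ := exists_sylowIn_ge (le_sup_left.trans hle : P ≤ Hd) hPp
    obtain ⟨Tq, hTq, hWTq⟩ := exists_sylowIn_ge (le_sup_right.trans hle : W ≤ Hd) hW
    have hWT : W ≤ centralizer (T : Set G) := hWTq.trans (commute_of_coprime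
      (hTq.1.trans (le_normalizer.trans (normalizer_le_sylow hHdnil hT)))
      (hT.1.trans (le_normalizer.trans (normalizer_le_sylow hHdnil hTq))) (coprime_O hqp hTq.2.1 hT.2.1))
    have hTD : Grp.IsSylowIn p T ⁅H, H⁆ := ⟨hT.1.trans hHd'.1, hT.2.1, fun h => by
      rw [← Subgroup.relIndex_mul_relIndex T Hd ⁅H, H⁆ hT.1 hHd'.1] at h
      exact (hp.out.dvd_mul.1 h).elim hT.2.2 (hHd'.2.2 p hp.out ⟨hp.out, hpβ⟩)⟩
    obtain ⟨S, hS⟩ := Grp.exists_isSylowIn p H
    have hSD : Grp.IsSylowIn p S ⁅H, H⁆ := ⟨sylow_le_derived hG hH hpH hS, hS.2.1, fun h => hS.2.2 (by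
      rw [← Subgroup.relIndex_mul_relIndex S ⁅H, H⁆ H (sylow_le_derived hG hH hpH hS) H.commutator_le_self]
      exact h.mul_right _)⟩
    obtain ⟨k, hk, e⟩ := hSD.conj hTD
    have hTH : Grp.IsSylowIn p T H :=
      e ▸ hS.smul (Grp.mem_normalizer_iff_smul.1 (le_normalizer (H.commutator_le_self hk)))
    set Ts : Sylow p G := hT.2.1.toSylow (sigma_sylow hG hH hpH hTH).2 with hTs
    have hTs' : (Ts : Subgroup G) = T := rfl
    have hT1 : (Ts : Subgroup G) ≠ ⊥ := by rw [hTs']; exact ne_bot_of_le_ne_bot hP1 hPT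
    obtain ⟨S1, hS1, hWS1, y, hyT, hyS, hyC⟩ := frattini_move hG Ts hT1 hW (hTs'.symm ▸ hWT)
    rw [hTs'] at hyT hyC hS1
    by_cases hc : IsCyclic S1
    · have hNS : normalizer (S1 : Set G) ≤ normalizer (W : Set G) := by
        intro g hg
        rw [Grp.mem_normalizer_iff_smul]
        exact eq_of_card_cyclic hc (Grp.mem_normalizer_iff_smul.1 hg ▸
          Subgroup.pointwise_smul_le_pointwise_smul_iff.2 hWS1) hWS1 (Grp.card_conj_smul _ _)
      have hTN : T ≤ normalizer (W : Set G) := (le_centralizer_iff.1 hWT).trans (centralizer_le_normalizer _)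
      by_cases hNM : normalizer (W : Set G) ≤ M
      · exact hnd (dvd_derived_of_moves hT.2.1 (hTN.trans hNM) (hNM (hNS hyS)) hyT hyC)
      obtain ⟨L, hL, hNL⟩ := exists_coatom_normalizer hG hW1 fun e => hM.1 (top_le_iff.1 (e ▸ hWM))
      have hne : L ≠ M := fun e => hNM (e ▸ hNL)
      obtain ⟨N, hNl, hLN, -, hcov, hNp⟩ := exists_cover hG hM hqσ hW hW1 hWM hL hne hNL
      have hdL := dvd_derived_of_moves hT.2.1 (hTN.trans hNL) (hNL (hNS hyS)) hyT hyC
      have hpN := dvd_factor_of_derived hNl hLN inf_le_right hcov hdL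
        fun h => hnd (h.trans (card_dvd_of_le (Subgroup.commutator_mono inf_le_left inf_le_left)))
      obtain ⟨hpL, hqp'⟩ := hNp p hp.out hpN
      have hpβL := hqp' (sigma_of_tau1_fixed hG hM hqσ hτ hW hW1 hWM hL hne hNL hPM (hPW.trans hNL) hP hpL)
      have hTL : Grp.IsSylowIn p T L := ⟨hTN.trans hNL, hT.2.1, fun h =>
        (sigma_sylow hG hH hpH hTH).2 (h.trans (relIndex_dvd_index_of_le (hTN.trans hNL)))⟩
      have hLH : L = H := (u_of_rank hG hL (beta_subset hpβL) hTL).unique ⟨hL, hTL.1⟩ ⟨hH, hTH.1⟩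
      exact hpβ (hLH ▸ hpβL)
    · obtain ⟨g, hg⟩ := exists_conj_le hG hM hqσ hS1.2.1
      have hSM : MulAut.conj g⁻¹ • S1 ≤ M := by
        have := (Subgroup.pointwise_smul_le_pointwise_smul_iff (a := MulAut.conj g⁻¹)).2 hg
        rwa [Grp.conj_smul_conj_smul, inv_mul_cancel, map_one, one_smul] at this
      have hNM : normalizer ((MulAut.conj g⁻¹ • S1 : Subgroup G) : Set G) ≤ M :=
        (Cfsg.Agent.S1420.result hG M hM Eb hEb).2.2.1 q _ hqσ (hS1.2.1.map _) hSM fun h => hc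
          ((MulEquiv.isCyclic (Subgroup.equivSMul (MulAut.conj g⁻¹) S1)).2 h)
      refine hnd (dvd_derived_of_moves (T := MulAut.conj g⁻¹ • T) (hT.2.1.map _) ?_
        (y := MulAut.conj g⁻¹ y) ?_ ?_ ?_)
      · exact ((smul_centralizer_le (le_centralizer_iff.1 hS1.1) g⁻¹).trans (centralizer_le_normalizer _)).trans hNM
      · exact hNM (smul_le_normalizer (le_refl (normalizer (S1 : Set G))) g⁻¹ (mem_map_of_mem _ hyS))
      · exact smul_le_normalizer (le_refl (normalizer (T : Set G))) g⁻¹ (mem_map_of_mem _ hyT)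
      · intro h
        refine hyC (mem_centralizer_iff.2 fun t ht => (MulAut.conj g⁻¹).injective ?_)
        rw [map_mul, map_mul]
        exact mem_centralizer_iff.1 h _ (mem_map_of_mem _ ht)
  -- `r` has rank one in `H`
  have hr1 : Cfsg.PRankLE r 1 H := by
    by_contra hr1
    have hτr : r ∈ Cfsg.tau2 H := ⟨hr.out, hrH, by
      by_contra h; exact hrH (alpha_subset_sigma hG hH ⟨hr.out, h⟩), hr1⟩
    obtain ⟨A, A₀, hexc⟩ := tau2_exc hG hH hτr
    have hqH : q ∉ Cfsg.sigma H := sigma_disjoint hG hM hH hnc hexc.nilpotent hqσ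
    obtain ⟨B, -, hB, hB2, hBW, hid⟩ := tau2_comm hG hH hτr (sup_le hRH hWH) (hUσ hqH) hWU
      fun hd => hqr (eq_of_dvd_pGroup hW hr.out hd).symm
    by_cases hrM : Cfsg.PRankLE r 1 M
    · refine hW1 ?_
      rw [← hWR, commutator_comm]
      exact commutator_eq_bot_iff_le_centralizer.2 (centralizes_of_plane hG hM hqσ hrM hid hW hWM hB hB2 hBW hRr hRW)
    have hτM : r ∈ Cfsg.tau2 M := ⟨hr.out, hrσ, by
      by_contra h; exact hrσ (alpha_subset_sigma hG hM ⟨hr.out, h⟩), hrM⟩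
    obtain ⟨E, hE, hRE⟩ := exists_compl_ge hG hM hRM fun s hs hd => by
      rw [eq_of_dvd_pGroup hRr hs hd]; exact hrσ
    obtain ⟨T, hT⟩ := Grp.exists_isSylowIn r E
    obtain ⟨A', hA'T, hA', hA'2⟩ := tau2_plane hG hM hE hτM hT
    have hA'E : A' ≤ E := hA'T.trans hT.1
    obtain ⟨⟨-, hlines⟩, -⟩ := Cfsg.Agent.S1418.result hG M hM E hE r hτM A' ⟨hA'E, hA', hA'2⟩
    obtain ⟨x, hx, hx1, hxR⟩ := exists_generator_line hR
    have hxo : orderOf x = r := by rw [← Nat.card_zpowers, hxR, hR]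
    obtain ⟨z, hz, hz1, -⟩ := exists_generator_line hP
    have hzK : z ∈ Cfsg.sigmaCore H := by
      obtain ⟨S, hS, hPS⟩ := exists_sylowIn_ge hPH hPp
      exact sylow_le_piCore hG hH (alpha_subset_sigma hG hH) le_rfl hpH hS (hPS hz)
    obtain ⟨Eh, hEh, -⟩ := exists_compl_ge hG hH (U := ⊥) bot_le fun s hs hd => by
      rw [Subgroup.card_bot] at hd; exact absurd hd hs.not_dvd_one
    have hCx := ((Cfsg.Agent.S1420.result hG H hH Eh hEh).2.2.2 x (hRH hx) hx1
      (fun s hs hd => by rw [hxo, Nat.prime_dvd_prime_iff_eq hs hr.out] at hd; exact hd ▸ hτr)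
      ⟨hRH hx, z, hzK, hz1, (mem_centralizer_iff.1 (hRP hx) z hz).symm⟩).1
    rw [← centralizer_closure, ← zpowers_eq_closure, hxR] at hCx
    have hA'H : A' ≤ H := ((le_centralizer_iff_isMulCommutative.2 hA'.1).trans
      (Subgroup.centralizer_le (hlines R hRE hR))).trans hCx
    obtain ⟨-, -, -, -, hmeet, -⟩ := Cfsg.Agent.S1417.result hG M hM r hτM A' ⟨hA'E.trans hE.1, hA', hA'2⟩
    obtain ⟨S, hS, hWS⟩ := exists_sylowIn_ge hWM hW
    refine hW1 (le_bot_iff.1 (hmeet H hH hHM hA'H ▸ le_inf ?_ hWH))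
    exact hWS.trans (sylow_le_piCore hG hM (alpha_subset_sigma hG hM) le_rfl hqσ hS)
  have hrD : ¬ r ∣ Nat.card ↥⁅H, H⁆ := fun h => hRD (le_derived_of_rank_one hG hr1 h hRH hRr)
  -- fixed points of `R` on `H_α`
  have hpα : p ∈ Cfsg.alpha H := beta_subset hpβ
  have hrα : r ∉ Cfsg.alpha H := fun h => hrH (alpha_subset_sigma hG hH h)
  set K := Cfsg.alphaCore H with hK
  have hKH : K ≤ H := TransHyp.piCoreOf_le H
  have hPK : P ≤ K := by
    obtain ⟨S, hS, hPS⟩ := exists_sylowIn_ge hPH hPp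
    exact hPS.trans (sylow_le_piCore hG hH (π := Cfsg.alpha H) le_rfl (alpha_subset_sigma hG hH) hpα hS)
  have hZ : Cfsg.RankLE 1 ↥(K ⊓ centralizer (R : Set G)) := by
    by_contra h
    have hu := cent_alpha_uniq hG hH hRH (fun s hs hd => by rw [eq_of_dvd_pGroup hRr hs hd]; exact hrα) h
    obtain ⟨L, hL, hNL⟩ := exists_coatom_normalizer hG hR1 fun e => hH.1 (top_le_iff.1 (e ▸ hRH))
    have hLH : L = H := hu.unique ⟨hL, (inf_le_right.trans (centralizer_le_normalizer _)).trans hNL⟩ ⟨hH, inf_le_left⟩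
    exact (normalizer_prime_order hG hH hrH hR (hLH ▸ hNL)).1.2 hr1
  haveI := isSolvable_of_le hKH
  have hRK : R ⊔ W ≤ normalizer (K : Set G) := (sup_le hRH hWH).trans (TransHyp.le_normalizer_piCoreOf H)
  have hRWP : R ⊔ W ≤ centralizer (P : Set G) := sup_le hRP hWP
  obtain ⟨S, hS, hRWS, hPS⟩ := Grp.exists_invariant_sylow_ge (R ⊔ W) K hRK (Nat.coprime_of_dvd fun s hs h1 h2 => by
    have h3 : s ∈ Cfsg.alpha H := TransHyp.piCoreOf_primes (π := Cfsg.alpha H) (X := H) hs h2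
    rcases hs.dvd_mul.1 (h1.trans (Grp.card_sup_dvd_mul hRW)) with h | h
    · exact hrα (eq_of_dvd_pGroup hRr hs h ▸ h3)
    · exact not_alpha_of_sigma hG hM hH hnc hqσ (eq_of_dvd_pGroup hW hs h ▸ h3))
    (Or.inr inferInstance) hPK hPp (hRWP.trans (centralizer_le_normalizer _))
  have hSH : Grp.IsSylowIn p S H := ⟨hS.1.trans hKH, hS.2.1, fun h => by
    rw [← Subgroup.relIndex_mul_relIndex S K H hS.1 hKH] at h
    exact (hp.out.dvd_mul.1 h).elim hS.2.2
      ((isPiHallOf_piCore hG hH (π := Cfsg.alpha H) le_rfl (alpha_subset_sigma hG hH)).2.2 p hp.out hpα)⟩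
  have hp2 : p ≠ 2 := ne_two hG (hP.symm.dvd.trans (card_subgroup_dvd_card P))
  have hq2 : q ≠ 2 := ne_two hG ((dvd_card_of_pGroup hW hW1).trans (card_subgroup_dvd_card W))
  have hWS : W ≤ centralizer (S : Set G) := by
    refine centralizes_of_fixed hp2 hq2 (Ne.symm hqp) (Ne.symm hrp) hqr hR hW hRW hWR S hS.2.1
      (le_sup_left.trans hRWS) (le_sup_right.trans hRWS) fun x hx hxp hxR => ?_
    have hcyc : IsCyclic ↥(S ⊓ centralizer (R : Set G)) := cyclic_of_rank_one hG (hS.2.1.to_le inf_le_left)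
      (inf_le_inf_right _ hS.1) (hZ p hp.out)
    rcases eq_or_ne x 1 with rfl | hx1
    · exact one_mem _
    have heq : zpowers x = P := eq_of_card_cyclic hcyc (zpowers_le.2 ⟨hx, hxR⟩)
      (le_inf hPS (le_centralizer_iff.1 hRP)) (by rw [Nat.card_zpowers, hP, orderOf_eq_prime hxp hx1])
    exact le_centralizer_iff.1 hWP (heq ▸ mem_zpowers x)
  have hSW : S ≤ normalizer (W : Set G) := (le_centralizer_iff.1 hWS).trans (centralizer_le_normalizer _)
  have hNM : ¬ normalizer (W : Set G) ≤ M := fun h => by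
    obtain ⟨D, hD, hDe, hD3⟩ := exists_elem_sylow hpα.2 hSH
    exact not_prank_of_elem ((hD.trans hSW).trans h) hDe
      ((Nat.pow_le_pow_right hp.out.pos (by norm_num)).trans hD3) hr1M
  obtain ⟨L, hL, hNL⟩ := exists_coatom_normalizer hG hW1 fun e => hM.1 (top_le_iff.1 (e ▸ hWM))
  obtain rfl : L = H := (u_of_rank hG hH hpα hSH).unique ⟨hL, hSW.trans hNL⟩ ⟨hH, hSH.1⟩
  have hqH : q ∈ Cfsg.sigma L := sigma_of_tau1_fixed hG hM hqσ hτ hW hW1 hWM hL hHM hNL hPM hPH hP hpH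
  -- a Sylow subgroup centralising `P`
  refine ⟨L, hL, hHM, hCH, hNM, ?_⟩
  haveI := isSolvable_of_le (inf_le_left : M ⊓ L ≤ M)
  obtain ⟨S', hS', hWS'⟩ := exists_sylowIn_ge (le_inf hWM hWH) hW
  obtain ⟨T', hT'⟩ := Grp.isSylowIn_iff.1 hS'
  obtain ⟨-, -, hidx⟩ := Cfsg.Agent.S1424.result hG M hM q hqσ W hW hW1 hWM L hL hHM hNL T' (hT' ▸ hWS')
  rw [hT'] at hidx
  have hS'G : ¬ q ∣ S'.index := (sigma_sylow hG hL hqH ⟨hS'.1.trans inf_le_right, hS'.2.1, hidx⟩).2
  have hS'M : Grp.IsSylowIn q S' M :=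
    ⟨hS'.1.trans inf_le_left, hS'.2.1, fun h => hS'G (h.trans (relIndex_dvd_index_of_le (hS'.1.trans inf_le_left)))⟩
  set K₀ := M ⊓ Cfsg.piCoreOf (Cfsg.beta L) L with hK₀
  have hPK₀ : P ≤ K₀ := by
    obtain ⟨U, hU, hPU⟩ := exists_sylowIn_ge hPH hPp
    exact le_inf hPM (hPU.trans (sylow_le_beta hG hL hpβ hU))
  have hK₀ML : K₀ ≤ M ⊓ L := inf_le_inf_left M (TransHyp.piCoreOf_le L)
  have hMK₀ : M ⊓ L ≤ normalizer (K₀ : Set G) := le_normalizer_inf' (inf_le_left.trans le_normalizer)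
    (inf_le_right.trans (TransHyp.le_normalizer_piCoreOf L))
  haveI := isSolvable_of_le (inf_le_left : K₀ ≤ M)
  obtain ⟨T, hT, hPT⟩ := exists_sylowIn_ge hPK₀ hPp
  set C := M ⊓ L ⊓ centralizer (P : Set G) with hC
  have hcov : M ⊓ L ≤ C ⊔ K₀ := by
    intro m hm
    obtain ⟨k, hk, e⟩ := hT.conj (hT.smul (Grp.mem_normalizer_iff_smul.1 (hMK₀ hm)))
    have hn : k⁻¹ * m ∈ normalizer (T : Set G) := by
      rw [Grp.mem_normalizer_iff_smul, ← Grp.conj_smul_conj_smul, ← e, Grp.conj_smul_conj_smul, inv_mul_cancel,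
        map_one, one_smul]
    have hkm : k⁻¹ * m ∈ M ⊓ L := Subgroup.mul_mem _ (Subgroup.inv_mem _ (hK₀ML hk)) hm
    have hkc : k⁻¹ * m ∈ centralizer (T : Set G) := by
      by_contra hh
      exact hnd (dvd_derived_of_moves hT.2.1 (hT.1.trans inf_le_left) hkm.1 hn hh)
    have h1 : k⁻¹ * m ∈ C := ⟨hkm, Subgroup.centralizer_le hPT hkc⟩
    have := Subgroup.mul_mem_sup (S := K₀) (T := C) hk h1
    rw [mul_inv_cancel_left, sup_comm] at this
    exact this
  have hidxC : C.relIndex (M ⊓ L) ∣ Nat.card K₀ := by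
    refine Nat.dvd_of_mul_dvd_mul_left (k := Nat.card C) Nat.card_pos ?_
    rw [Grp.card_mul_relIndex inf_le_left]
    refine (dvd_of_eq (congrArg (fun X : Subgroup G => Nat.card X)
      (le_antisymm hcov (sup_le inf_le_left hK₀ML)))).trans (Grp.card_sup_dvd_mul ?_)
    exact inf_le_left.trans hMK₀
  obtain ⟨Q, hQ⟩ := Grp.exists_isSylowIn q C
  have hQ' : Grp.IsSylowIn q Q (M ⊓ L) := ⟨hQ.1.trans inf_le_left, hQ.2.1, fun h => by
    rw [← Subgroup.relIndex_mul_relIndex Q C (M ⊓ L) hQ.1 inf_le_left] at h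
    exact (hq.out.dvd_mul.1 h).elim hQ.2.2 fun h => hqβ
      (TransHyp.piCoreOf_primes (π := Cfsg.beta L) (X := L) hq.out ((h.trans hidxC).trans (card_dvd_of_le inf_le_right)))⟩
  obtain ⟨k, hk, e⟩ := hS'.conj hQ'
  exact ⟨Q, e ▸ hS'M.smul (Grp.mem_normalizer_iff_smul.1 (le_normalizer hk.1)), hQ.1.trans inf_le_right⟩

end Cfsg.Agent.Transfer.Loc
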