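import Cfsg.Agent.Lib.Transfer.Local.TauOneFixed
import Cfsg.Agent.Lib.Transfer.Local.TauTwoHall
import Cfsg.Agent.S1423
import Cfsg.Agent.Lib.Transfer.Local.SigmaMeet

/-!
Fixed points of `τ₁`-subgroups of prime order lie in `M_σ'` outside `β(M)` and have centraliser in `M` only.
-/

set_option autoImplicit false
set_option linter.style.haveILetI false
set_option linter.unusedSectionVars false
set_option maxHeartbeats 1000000

namespace Cfsg.Agent.Transfer.Loc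

open Subgroup
open scoped commutatorElement Pointwise

universe u

variable {G : Type u} [Group G] [Finite G] (hG : Cfsg.IsMinSimpleOddOrder G) {M : Subgroup G} (hM : IsCoatom M)
include hG hM

/-- A `σ'`-prime of rank at least two is in `τ₂`. -/
theorem tau2_of_not_rank_one {p : ℕ} [hp : Fact p.Prime] (hσ : p ∉ Cfsg.sigma M) (h : ¬ Cfsg.PRankLE p 1 M) :
    p ∈ Cfsg.tau2 M :=
  ⟨hp.out, hσ, by_contra fun h' => hσ (alpha_subset_sigma hG hM ⟨hp.out, h'⟩), h⟩

/-- Outside `σ(M)` the rank is one unless the prime is in `τ₂(M)`. -/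
theorem rank_one_of_not_tau2 {p : ℕ} [hp : Fact p.Prime] (hσ : p ∉ Cfsg.sigma M) (h : p ∉ Cfsg.tau2 M) :
    Cfsg.PRankLE p 1 M := by_contra fun h' => h (tau2_of_not_rank_one hG hM hσ h')

/-- A `p`-group of rank one commuting with `P` centralises `C_{M_σ}(P)`. -/
theorem cent_tau1_pgroup {p s : ℕ} [hp : Fact p.Prime] [hs : Fact s.Prime] (hτ : p ∈ Cfsg.tau1 M)
    {P T : Subgroup G} (hPM : P ≤ M) (hP : Nat.card P = p) (hT : IsPGroup s T) (hTM : T ≤ M)
    (hTP : T ≤ centralizer (P : Set G)) (hsσ : s ∉ Cfsg.sigma M) (hr : Cfsg.PRankLE s 1 M) :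
    Cfsg.sigmaCore M ⊓ centralizer (P : Set G) ≤ centralizer (T : Set G) := by
  rcases eq_or_ne T ⊥ with h0 | h0
  · subst h0
    exact fun w _ => mem_centralizer_iff.2 fun b hb => by simp [mem_bot.1 hb]
  obtain ⟨z, hz⟩ := exists_prime_orderOf_dvd_card' (G := T) s (dvd_card_of_pGroup hT h0)
  have hZ : Nat.card (zpowers (z : G)) = s := by rw [Nat.card_zpowers, Subgroup.orderOf_coe, hz]
  exact (le_inf inf_le_left (cent_tau1 hG hM hτ hPM hP (zpowers_le.2 (hTM z.2)) hZ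
    (zpowers_le.2 (hTP z.2)) hsσ)).trans (prime_action hG hM hsσ hr hT hTM (zpowers_le.2 z.2) hZ)

/-- Subgroups of rank one outside `σ(M)` commuting with `P` centralise `C_{M_σ}(P)`. -/
theorem cent_tau1_sub {p : ℕ} [hp : Fact p.Prime] (hτ : p ∈ Cfsg.tau1 M)
    {P D : Subgroup G} (hPM : P ≤ M) (hP : Nat.card P = p) (hDM : D ≤ M)
    (hDP : D ≤ centralizer (P : Set G))
    (hr : ∀ s : ℕ, s.Prime → s ∣ Nat.card D → s ∉ Cfsg.sigma M ∧ Cfsg.PRankLE s 1 M) :
    Cfsg.sigmaCore M ⊓ centralizer (P : Set G) ≤ centralizer (D : Set G) := by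
  refine le_centralizer_iff.1 ((Grp.le_of_forall_sylow (inf_le_left : D ⊓ _ ≤ D) fun s hs => ?_).trans inf_le_right)
  obtain ⟨T, hT⟩ := Grp.exists_isSylowIn s D
  refine ⟨T, hT, le_inf hT.1 ?_⟩
  rcases eq_or_ne T ⊥ with h0 | h0
  · rw [h0]; exact bot_le
  obtain ⟨h1, h2⟩ := hr s hs.out ((dvd_card_of_pGroup hT.2.1 h0).trans (card_dvd_of_le hT.1))
  exact le_centralizer_iff.1 (cent_tau1_pgroup hG hM hτ hPM hP hT.2.1 (hT.1.trans hDM) (hT.1.trans hDP) h1 h2)

/-- `E'` centralises the `E`-invariant `q`-subgroups of `M_σ` for `q ∉ β(M)`. -/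
theorem derived_centralizes {E : Subgroup G} (hE : Cfsg.IsComplIn E (Cfsg.sigmaCore M) M) {q : ℕ} [hq : Fact q.Prime]
    (hqβ : q ∉ Cfsg.beta M) {S : Subgroup G} (hS : IsPGroup q S) (hSσ : S ≤ Cfsg.sigmaCore M)
    (hES : E ≤ normalizer (S : Set G)) : ⁅E, E⁆ ≤ centralizer (S : Set G) := by
  haveI := solvable_of_ne_top hG hM.1
  refine (Grp.le_of_forall_sylow (inf_le_left : ⁅E, E⁆ ⊓ centralizer (S : Set G) ≤ _) fun s hs => ?_).trans inf_le_right
  obtain ⟨T, hT⟩ := Grp.exists_isSylowIn s (⁅E, E⁆ : Subgroup G)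
  refine ⟨T, hT, le_inf hT.1 ?_⟩
  rcases eq_or_ne T ⊥ with h0 | h0
  · rw [h0]; exact bot_le
  rcases eq_or_ne S ⊥ with h1 | h1
  · rw [h1]; exact fun x _ => mem_centralizer_iff.2 fun y hy => by simp [mem_bot.1 hy]
  have hsσ : s ∉ Cfsg.sigma M := compl_prime hG hM hE hs.out
    ((dvd_card_of_pGroup hT.2.1 h0).trans (card_dvd_of_le (hT.1.trans E.commutator_le_self)))
  have hqσ : q ∈ Cfsg.sigma M := TransHyp.piCoreOf_primes (π := Cfsg.sigma M) (X := M) hq.out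
    ((dvd_card_of_pGroup hS h1).trans (card_dvd_of_le hSσ))
  exact derived_comm hG hM (fun e : s = q => hsσ (e ▸ hqσ)) hS hT.2.1 (hSσ.trans (sigmaCore_le_derived hG hM))
    (hT.1.trans (Subgroup.commutator_mono hE.1 hE.1)) ((hT.1.trans E.commutator_le_self).trans hES) hqβ

/-- An element of order `q ∉ β(M)` of `C_{M_σ}(P)`, `p ∈ τ₁(M)`, lies in `M_σ'`. -/
theorem tau1_fixed_derived {p q : ℕ} [hp : Fact p.Prime] [hq : Fact q.Prime] (hτ : p ∈ Cfsg.tau1 M)
    {P X : Subgroup G} (hPM : P ≤ M) (hP : Nat.card P = p) (hX : Nat.card X = q)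
    (hXσ : X ≤ Cfsg.sigmaCore M ⊓ centralizer (P : Set G)) (hqβ : q ∉ Cfsg.beta M) :
    X ≤ ⁅Cfsg.sigmaCore M, Cfsg.sigmaCore M⁆ := by
  haveI := solvable_of_ne_top hG hM.1
  have hPp : IsPGroup p P := IsPGroup.of_card (n := 1) (by rw [hP, pow_one])
  have hXq : IsPGroup q X := IsPGroup.of_card (n := 1) (by rw [hX, pow_one])
  obtain ⟨E, hE, hPE⟩ := exists_compl_ge hG hM hPM fun r hr hd => by
    rw [eq_of_dvd_pGroup hPp hr hd]; exact hτ.2.1
  haveI := isSolvable_of_le hE.1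
  have hSM : Cfsg.sigmaCore M ≤ M := TransHyp.piCoreOf_le M
  have hEN : E ≤ normalizer (Cfsg.sigmaCore M : Set G) := hE.1.trans (TransHyp.le_normalizer_piCoreOf M)
  obtain ⟨S₀, hS₀, hES₀⟩ := Grp.exists_invariant_sylow E _ hEN (compl_coprime hG hM hE) (Or.inl inferInstance) q
  have hcopP : (Nat.card P).Coprime (Nat.card (Cfsg.sigmaCore M)) :=
    (compl_coprime hG hM hE).coprime_dvd_left (card_dvd_of_le hPE)
  have hPsol : Group.IsSolvable P ∨ Group.IsSolvable (Cfsg.sigmaCore M) :=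
    Or.inl (isSolvable_of_le hPE)
  obtain ⟨S₁, hS₁, hPS₁, hXS₁⟩ := Grp.exists_invariant_sylow_ge P _ (hPE.trans hEN) hcopP hPsol
    (hXσ.trans inf_le_left) hXq ((le_centralizer_iff.1 (hXσ.trans inf_le_right)).trans (centralizer_le_normalizer _))
  obtain ⟨c, hc, e⟩ := Grp.invariant_sylow_conj P _ (hPE.trans hEN) hcopP hPsol hS₁ hS₀ hPS₁ (hPE.trans hES₀)
  set X' := MulAut.conj c • X with hX'
  have hX'S : X' ≤ S₀ := e ▸ Subgroup.pointwise_smul_le_pointwise_smul_iff.2 hXS₁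
  have hPX' : X' ≤ centralizer (P : Set G) := by
    have h1 := smul_centralizer_le (hXσ.trans inf_le_right : X ≤ centralizer (P : Set G)) c
    rwa [Grp.mem_normalizer_iff_smul.1 (centralizer_le_normalizer _ hc.2)] at h1
  have hX'σ : X' ≤ Cfsg.sigmaCore M ⊓ centralizer (P : Set G) := le_inf (hX'S.trans hS₀.1) hPX'
  have hE' : ⁅E, E⁆ ≤ centralizer (X' : Set G) :=
    (derived_centralizes hG hM hE hqβ hS₀.2.1 hS₀.1 hES₀).trans (Subgroup.centralizer_le hX'S)
  -- `τ₂(M)` is empty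
  have hrank : ∀ s : ℕ, s.Prime → s ∣ Nat.card E → s ∉ Cfsg.sigma M ∧ Cfsg.PRankLE s 1 M := by
    intro s hs hd
    haveI := Fact.mk hs
    have hsσ := compl_prime hG hM hE hs hd
    refine ⟨hsσ, rank_one_of_not_tau2 hG hM hsσ fun hτ2 => ?_⟩
    obtain ⟨T, hT⟩ := Grp.exists_isSylowIn s E
    obtain ⟨A, hAT, hA, hA2⟩ := tau2_plane hG hM hE hτ2 hT
    have hAE : A ≤ E := hAT.trans hT.1
    obtain ⟨A₀, hexc⟩ := exists_exc hG hM (hAE.trans hE.1) hA hA2 hsσ
    have hPA : P ≤ normalizer (A : Set G) := hPE.trans (hexc.compl_normalizes hE hAE)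
    have hsp : s ≠ p := fun e => hτ2.2.2.2 (e ▸ hτ.2.2.2.2)
    have hAX : A ≤ centralizer (X' : Set G) := by
      rw [← Grp.commutator_sup_fixed P A hPA (coprime_O hsp.symm hPp (Grp.elemAb_isPGroup hA))
        (Or.inl (isSolvable_of_le hPE))]
      refine sup_le ((Subgroup.commutator_mono hAE hPE).trans hE') fun a ha => ?_
      rcases eq_or_ne a 1 with rfl | ha1
      · exact one_mem _
      have hac : Nat.card (zpowers a) = s := by
        rw [Nat.card_zpowers]; exact orderOf_eq_prime (hA.2 a ha.1) ha1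
      exact le_centralizer_iff.1 (hX'σ.trans (cent_tau1 hG hM hτ hPM hP (zpowers_le.2 (hE.1 (hAE ha.1))) hac
        (zpowers_le.2 ha.2) hsσ)) (mem_zpowers a)
    have h1 : X' ≤ Cfsg.sigmaCore M ⊓ centralizer (A : Set G) :=
      le_inf (hX'S.trans hS₀.1) (le_centralizer_iff.1 hAX)
    rw [hexc.fixed_plane, le_bot_iff] at h1
    have h2 : Nat.card X' = q := by rw [hX', Grp.card_conj_smul, hX]
    rw [h1, Subgroup.card_bot] at h2
    exact hq.out.ne_one h2.symm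
  -- `E = E' C_E(P)`
  have hcover : E ≤ ⁅E, E⁆ ⊔ (E ⊓ centralizer (P : Set G)) := by
    intro x hx
    have hPD : P ≤ normalizer ((⁅E, E⁆ : Subgroup G) : Set G) := hPE.trans (le_normalizer_commutator' le_normalizer le_normalizer)
    have hndvd : ¬ p ∣ Nat.card ↥⁅E, E⁆ := fun h =>
      hτ.2.2.2.1 (h.trans (card_dvd_of_le (Subgroup.commutator_mono hE.1 hE.1)))
    have hxP : MulAut.conj x • P ≤ P ⊔ ⁅E, E⁆ := by
      rintro _ ⟨b, hb, rfl⟩
      show MulAut.conj x b ∈ _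
      rw [MulAut.conj_apply, show x * b * x⁻¹ = ⁅x, b⁆ * b by rw [commutatorElement_def]; group, sup_comm]
      exact Subgroup.mul_mem_sup (commutator_mem_commutator hx (hPE hb)) hb
    have hidx : P.relIndex (P ⊔ ⁅E, E⁆) ∣ Nat.card ↥⁅E, E⁆ := by
      refine Nat.dvd_of_mul_dvd_mul_left (k := Nat.card P) Nat.card_pos ?_
      rw [Grp.card_mul_relIndex le_sup_left]
      exact Grp.card_sup_dvd_mul hPD
    have hS1 : Grp.IsSylowIn p P (P ⊔ ⁅E, E⁆) := ⟨le_sup_left, hPp, fun h => hndvd (h.trans hidx)⟩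
    have hS2 : Grp.IsSylowIn p (MulAut.conj x • P) (P ⊔ ⁅E, E⁆) := by
      haveI : Group.IsSolvable ↥(P ⊔ ⁅E, E⁆) := isSolvable_of_le (sup_le hPE E.commutator_le_self)
      obtain ⟨V, hV, hxV⟩ := exists_sylowIn_ge hxP (hPp.map _)
      have : MulAut.conj x • P = V := Subgroup.eq_of_le_of_card_ge hxV (by
        rw [hV.card, ← hS1.card, Grp.card_conj_smul])
      rw [this]; exact hV
    obtain ⟨d, hd, e⟩ := hS1.conj hS2
    rw [sup_comm] at hd
    obtain ⟨a, ha, b, hb, rfl⟩ : ∃ a ∈ ⁅E, E⁆, ∃ b ∈ P, d = a * b := by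
      rw [← SetLike.mem_coe, Subgroup.coe_mul_of_right_le_normalizer_left _ P hPD] at hd
      obtain ⟨a, ha, b, hb, e'⟩ := hd
      exact ⟨a, ha, b, hb, e'.symm⟩
    rw [← Grp.conj_smul_conj_smul, Grp.conj_smul_eq_self_of_mem hb] at e
    have hn : a⁻¹ * x ∈ normalizer (P : Set G) := by
      rw [Grp.mem_normalizer_iff_smul, ← Grp.conj_smul_conj_smul, ← e, Grp.conj_smul_conj_smul, inv_mul_cancel,
        map_one, one_smul]
    have hnE : a⁻¹ * x ∈ E := E.mul_mem (E.inv_mem (E.commutator_le_self ha)) hx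
    have hbot : P ⊓ ⁅E, E⁆ = ⊥ := Grp.inf_eq_bot_of_coprime (Nat.coprime_of_dvd fun r hr h1 h2 => by
      rw [eq_of_dvd_pGroup hPp hr h1] at h2; exact hndvd h2)
    have hnC : a⁻¹ * x ∈ centralizer (P : Set G) := by
      refine mem_centralizer_iff.2 fun b hb => commutatorElement_eq_one_iff_mul_comm.1 (mem_bot.1 (hbot ▸
        ⟨?_, commutator_mem_commutator (hPE hb) hnE⟩))
      rw [commutatorElement_def, show b * (a⁻¹ * x) * b⁻¹ * (a⁻¹ * x)⁻¹ = b * ((a⁻¹ * x) * b⁻¹ * (a⁻¹ * x)⁻¹) by group]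
      exact P.mul_mem hb ((Subgroup.mem_normalizer_iff.1 hn b⁻¹).1 (P.inv_mem hb))
    have := Subgroup.mul_mem_sup (S := ⁅E, E⁆) (T := E ⊓ centralizer (P : Set G)) ha ⟨hnE, hnC⟩
    rwa [mul_inv_cancel_left] at this
  have hEX : E ≤ centralizer (X' : Set G) := hcover.trans (sup_le hE' (le_centralizer_iff.1
    (hX'σ.trans (cent_tau1_sub hG hM hτ hPM hP (inf_le_left.trans hE.1) inf_le_right
      fun s hs hd => hrank s hs (hd.trans (card_dvd_of_le inf_le_left))))))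
  have h1 : X' ≤ ⁅Cfsg.sigmaCore M, Cfsg.sigmaCore M⁆ :=
    (le_inf (hX'S.trans hS₀.1) (le_centralizer_iff.1 hEX)).trans (centralizer_compl_le hG hM hE)
  have h2 : MulAut.conj c • ⁅Cfsg.sigmaCore M, Cfsg.sigmaCore M⁆ = ⁅Cfsg.sigmaCore M, Cfsg.sigmaCore M⁆ :=
    Grp.mem_normalizer_iff_smul.1 (le_normalizer_commutator' le_normalizer le_normalizer hc.1)
  rw [← h2, hX'] at h1
  exact Subgroup.pointwise_smul_le_pointwise_smul_iff.1 h1

/-- Elements of prime order of `C_{M_σ}(P)`, `p ∈ τ₁(M)`, have their centralisers only in `M`. -/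
theorem tau1_unique {p q : ℕ} [hp : Fact p.Prime] [hq : Fact q.Prime] (hτ : p ∈ Cfsg.tau1 M)
    {P X : Subgroup G} (hPM : P ≤ M) (hP : Nat.card P = p) (hX : Nat.card X = q)
    (hXσ : X ≤ Cfsg.sigmaCore M ⊓ centralizer (P : Set G)) :
    centralizer (X : Set G) ≤ M ∧ ∀ L : Subgroup G, IsCoatom L → centralizer (X : Set G) ≤ L → L = M := by
  have hqσ : q ∈ Cfsg.sigma M := TransHyp.piCoreOf_primes (π := Cfsg.sigma M) (X := M) hq.out
    (hX.symm.dvd.trans (card_dvd_of_le (hXσ.trans inf_le_left)))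
  obtain ⟨S⟩ : Nonempty (Sylow q ↥(Cfsg.sigmaCore M)) := inferInstance
  refine (Cfsg.Agent.S1423.result hG M hM q hqσ X ((hXσ.trans inf_le_left).trans (TransHyp.piCoreOf_le M)) hX S
    ?_).1
  exact or_iff_not_imp_left.2 fun hβ => tau1_fixed_derived hG hM hτ hPM hP hX hXσ hβ

/-- Uniqueness of `C(X)` gives `N(X) ≤ M`. -/
theorem normalizer_le_of_unique {X : Subgroup G} (h : centralizer (X : Set G) ≤ M ∧
    ∀ L : Subgroup G, IsCoatom L → centralizer (X : Set G) ≤ L → L = M) : normalizer (X : Set G) ≤ M := by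
  intro n hn
  have hCn := Grp.mem_normalizer_iff_smul.1 (normalizer_le_normalizer_centralizer hn)
  have e := h.2 (MulAut.conj n • M) (isCoatom_conj hG hM n)
    (hCn ▸ Subgroup.pointwise_smul_le_pointwise_smul_iff.2 h.1)
  rw [← normalizer_eq_of_le hG hM (coatom_ne_bot hG hM) le_rfl le_normalizer]
  exact Grp.mem_normalizer_iff_smul.2 e

end Cfsg.Agent.Transfer.Loc
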