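import Cfsg.Agent.Lib.Transfer.Local.RankOneFixed
import Cfsg.Agent.Lib.Transfer.Local.TauOneUnique
import Cfsg.Agent.S1439

/-!
A subgroup moved by an operator of prime order is trivial on a group if it fixes the fixed points of the operator.
-/

set_option autoImplicit false
set_option linter.style.haveILetI false
set_option linter.unusedSectionVars false
set_option maxHeartbeats 1000000

namespace Cfsg.Agent.Transfer.Loc

open Subgroup
open scoped commutatorElement Pointwise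

universe u

variable {G : Type u} [Group G] [Finite G]

/-- Elements of `⁅K, K⁆` centralise cyclic subgroups normalised by `K`. -/
theorem derived_centralizes_cyclic {K Y : Subgroup G} [IsCyclic Y] (hKY : K ≤ normalizer (Y : Set G)) :
    ⁅K, K⁆ ≤ centralizer (Y : Set G) := by
  obtain ⟨⟨g, hgY⟩, hgen⟩ := IsCyclic.exists_generator (α := Y)
  have hpow : ∀ a ∈ K, ∃ i : ℤ, a * g * a⁻¹ = g ^ i := fun a ha => by
    obtain ⟨i, hi⟩ := hgen ⟨a * g * a⁻¹, Grp.mem_conj_normalizer (hKY ha) hgY⟩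
    exact ⟨i, (congrArg Subtype.val hi).symm⟩
  rw [Subgroup.commutator_le]
  intro a ha b hb
  obtain ⟨i, hi⟩ := hpow a⁻¹ (K.inv_mem ha)
  obtain ⟨j, hj⟩ := hpow b⁻¹ (K.inv_mem hb)
  rw [inv_inv] at hi hj
  have e1 : (a⁻¹ * b⁻¹) * g * (a⁻¹ * b⁻¹)⁻¹ = g ^ (i * j) := by
    rw [show (a⁻¹ * b⁻¹) * g * (a⁻¹ * b⁻¹)⁻¹ = a⁻¹ * (b⁻¹ * g * b) * (a⁻¹)⁻¹ by group, hj, ← conj_zpow, inv_inv, hi,
      ← zpow_mul]
  have e2 : (b⁻¹ * a⁻¹) * g * (b⁻¹ * a⁻¹)⁻¹ = g ^ (i * j) := by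
    rw [show (b⁻¹ * a⁻¹) * g * (b⁻¹ * a⁻¹)⁻¹ = b⁻¹ * (a⁻¹ * g * a) * (b⁻¹)⁻¹ by group, hi, ← conj_zpow, inv_inv, hj,
      ← zpow_mul, mul_comm]
  have hfix : Commute ⁅a, b⁆ g := by
    show ⁅a, b⁆ * g = g * ⁅a, b⁆
    calc ⁅a, b⁆ * g = (b⁻¹ * a⁻¹)⁻¹ * ((a⁻¹ * b⁻¹) * g * (a⁻¹ * b⁻¹)⁻¹) * (a⁻¹ * b⁻¹) := by
          rw [commutatorElement_def]; group
      _ = (b⁻¹ * a⁻¹)⁻¹ * ((b⁻¹ * a⁻¹) * g * (b⁻¹ * a⁻¹)⁻¹) * (a⁻¹ * b⁻¹) := by rw [e1, e2]
      _ = g * ⁅a, b⁆ := by rw [commutatorElement_def]; group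
  refine mem_centralizer_iff.2 fun y hy => ?_
  obtain ⟨k, hk⟩ := hgen ⟨y, hy⟩
  have hk' : g ^ k = y := congrArg Subtype.val hk
  rw [← hk']
  exact (hfix.zpow_right k).eq.symm

variable (hG : Cfsg.IsMinSimpleOddOrder G)
include hG

/-- `W = [W, X]`, `X` of prime order, centralises a coprime group if it centralises the fixed points of `X`. -/
theorem centralizes_of_fixed_group {q r : ℕ} [hq : Fact q.Prime] [hr : Fact r.Prime] (hqr : q ≠ r)
    {X W : Subgroup G} (hX : Nat.card X = r) (hW : IsPGroup q W) (hXW : X ≤ normalizer (W : Set G))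
    (hWX : ⁅W, X⁆ = W) {N : Subgroup G} (hXN : X ≤ normalizer (N : Set G)) (hWN : W ≤ normalizer (N : Set G))
    (hN : ∀ p : ℕ, p.Prime → p ∣ Nat.card N → p ≠ q ∧ p ≠ r) (hsol : Group.IsSolvable ↥(W ⊔ X))
    (hfix : N ⊓ centralizer (X : Set G) ≤ centralizer (W : Set G)) : W ≤ centralizer (N : Set G) := by
  rcases eq_or_ne W ⊥ with h0 | h0
  · rw [h0]; exact bot_le
  have hXr : IsPGroup r X := IsPGroup.of_card (n := 1) (by rw [hX, pow_one])
  refine le_centralizer_iff.1 ((Grp.le_of_forall_sylow (inf_le_left : N ⊓ _ ≤ N) fun p hp => ?_).trans inf_le_right)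
  obtain ⟨S, hS, hAS⟩ := Grp.exists_invariant_sylow (W ⊔ X) N (sup_le hWN hXN) (Nat.coprime_of_dvd fun s hs h1 h2 => by
    rcases hs.dvd_mul.1 ((h1.trans (dvd_of_eq (congrArg (fun K : Subgroup G => Nat.card K) (sup_comm W X)))).trans
      (Grp.card_sup_dvd_mul hXW)) with h | h
    · exact (hN s hs h2).2 (eq_of_dvd_pGroup hXr hs h)
    · exact (hN s hs h2).1 (eq_of_dvd_pGroup hW hs h)) (Or.inl hsol) p
  refine ⟨S, hS, le_inf hS.1 ?_⟩
  rcases eq_or_ne S ⊥ with h1 | h1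
  · rw [h1]; exact bot_le
  obtain ⟨hpq, hpr⟩ := hN p hp.out ((dvd_card_of_pGroup hS.2.1 h1).trans (card_dvd_of_le hS.1))
  exact le_centralizer_iff.1 (centralizes_of_fixed (ne_two hG ((dvd_card_of_pGroup hS.2.1 h1).trans
      (card_subgroup_dvd_card S))) (ne_two hG ((dvd_card_of_pGroup hW h0).trans (card_subgroup_dvd_card W)))
    hpq hpr hqr hX hW hXW hWX S hS.2.1 (le_sup_right.trans hAS) (le_sup_left.trans hAS)
    fun x hx _ hxc => hfix ⟨hS.1 hx, hxc⟩)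

variable {M : Subgroup G} (hM : IsCoatom M)
include hM

/-- A subgroup of `M'` of order `p ∉ σ(M) ∪ τ₂(M)` does not centralise `M_σ`. -/
theorem not_centralizes_sigma {p : ℕ} [hp : Fact p.Prime] (hσ : p ∉ Cfsg.sigma M) (hτ : p ∉ Cfsg.tau2 M)
    {P : Subgroup G} (hPM : P ≤ ⁅M, M⁆) (hP : Nat.card P = p) :
    ¬ P ≤ centralizer (Cfsg.sigmaCore M : Set G) := by
  intro hPC
  haveI := solvable_of_ne_top hG hM.1
  obtain ⟨hcyc, hYτ, hF⟩ := Cfsg.Agent.S1439.result hG M hM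
  set Y := Cfsg.piCoreOf {q | q.Prime ∧ q ∉ Cfsg.sigma M} (Cfsg.fittingOf M) with hY
  have hMY : M ≤ normalizer (Y : Set G) := le_normalizer_core (le_normalizer_fittingOf M)
  haveI := hcyc
  have hPY : P ≤ centralizer (Y : Set G) := hPM.trans (derived_centralizes_cyclic hMY)
  have hFS : Cfsg.fittingOf (Cfsg.sigmaCore M) ≤ Cfsg.sigmaCore M := fittingOf_le _
  have hPF : P ≤ centralizer (Cfsg.fittingOf M : Set G) := by
    refine le_centralizer_iff.1 ?_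
    rw [hF]
    exact sup_le (hFS.trans (le_centralizer_iff.1 hPC)) (le_centralizer_iff.1 hPY)
  have h1 := (le_inf (hPM.trans M.commutator_le_self) hPF).trans (centralizer_fittingOf_le M)
  rw [hF] at h1
  have h2 : p ∣ Nat.card ↥(Cfsg.fittingOf (Cfsg.sigmaCore M) ⊔ Y) := hP ▸ card_dvd_of_le h1
  rcases hp.out.dvd_mul.1 (h2.trans (Grp.card_sup_dvd_mul
      ((hFS.trans (TransHyp.piCoreOf_le M)).trans hMY))) with h | h
  · exact not_dvd_sigmaCore hσ (h.trans (card_dvd_of_le hFS))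
  · exact hτ (hYτ p hp.out h)

end Cfsg.Agent.Transfer.Loc
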