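import Cfsg.Agent.Lib.Transfer.Local.TauOneCross
import Cfsg.Agent.Lib.Transfer.Local.TauOneTrick
import Cfsg.Agent.S1449

/-!
Basics on the `τ₃`-primes and on operators of a plane.
-/

set_option autoImplicit false
set_option linter.style.haveILetI false
set_option linter.unusedSectionVars false
set_option maxHeartbeats 1000000

namespace Cfsg.Agent.Transfer.Loc

open Subgroup
open scoped commutatorElement Pointwise

universe u

variable {G : Type u} [Group G] [Finite G] (hG : Cfsg.IsMinSimpleOddOrder G) {M E : Subgroup G} (hM : IsCoatom M)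
  (hE : Cfsg.IsComplIn E (Cfsg.sigmaCore M) M)
include hG hM hE

/-- A rank one `r`-subgroup of `E` outside `E'` belongs to a `τ₁`-prime. -/
theorem tau1_of_not_le_derived {r : ℕ} [hr : Fact r.Prime] {T : Subgroup G} (hT : IsPGroup r T) (hTE : T ≤ E)
    (hTD : ¬ T ≤ ⁅E, E⁆) (hrk : Cfsg.PRankLE r 1 M) : r ∈ Cfsg.tau1 M := by
  haveI := solvable_of_ne_top hG hM.1
  haveI := isSolvable_of_le hE.1
  have hT1 : T ≠ ⊥ := fun e => hTD (e ▸ bot_le)
  have hd : r ∣ Nat.card E := (dvd_card_of_pGroup hT hT1).trans (card_dvd_of_le hTE)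
  have hσ := compl_prime hG hM hE hr.out hd
  exact ⟨hr.out, hσ, hd.trans (card_dvd_of_le hE.1), fun h => hTD
    (le_derived_of_rank_one hG (prankLE_mono hE.1 hrk) (compl_dvd_derived hG hM hE hσ h) hTE hT), hrk⟩

/-- A subgroup of order `p` of rank one in `E'` is moved by `E`. -/
theorem compl_moves {p : ℕ} [hp : Fact p.Prime] (hσ : p ∉ Cfsg.sigma M) (hrk : Cfsg.PRankLE p 1 M)
    (hd : p ∣ Nat.card ↥⁅M, M⁆) {P : Subgroup G} (hPE : P ≤ E) (hP : Nat.card P = p) :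
    ¬ E ≤ centralizer (P : Set G) := by
  intro hEC
  haveI := solvable_of_ne_top hG hM.1
  haveI := isSolvable_of_le hE.1
  have hτ : p ∈ Cfsg.tau3 M := ⟨hp.out, hσ, hd, hrk⟩
  obtain ⟨T, hT, hPT⟩ := exists_sylowIn_ge hPE (IsPGroup.of_card (n := 1) (by rw [hP, pow_one]) : IsPGroup p P)
  obtain ⟨hTc, hTD⟩ := compl_tau3_le hG hM hE hτ hT
  obtain ⟨S, hS⟩ := Grp.isSylowIn_iff.1 hT
  haveI : IsCyclic (S : Subgroup E) := by
    subst hS
    exact isCyclic_of_surjective _ ((S : Subgroup E).equivMapOfInjective E.subtype E.subtype_injective).symm.surjective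
  obtain ⟨z, hzP, hz1⟩ := (P.bot_or_exists_ne_one).resolve_left fun e =>
    hp.out.ne_one (hP.symm.trans (by rw [e, Subgroup.card_bot]))
  have hNC : normalizer ((S : Subgroup E) : Set E) ≤ centralizer ((S : Subgroup E) : Set E) := fun m hm => by
    refine Transfer.CyclicSyl.mem_centralizer_of_normalizer S hm (Or.inl ⟨⟨z, hPE hzP⟩, ?_, ?_, ?_⟩)
    · have h := hPT hzP
      rw [← hS] at h
      obtain ⟨w, hw, e⟩ := h
      rwa [← show w = (⟨z, hPE hzP⟩ : E) from Subtype.ext e]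
    · exact fun e => hz1 (congrArg Subtype.val e)
    · exact Subtype.ext (mem_centralizer_iff.1 (hEC m.2) z hzP).symm
  have hab : IsMulCommutative (S : Subgroup E) :=
    letI := IsCyclic.commGroup (α := (S : Subgroup E)); ⟨⟨fun a b => mul_comm a b⟩⟩
  have h1 := (Transfer.abelian_sylow_inf_commutator S hab).1
  replace h1 := h1.trans (commutator_eq_bot_iff_le_centralizer.2 (le_centralizer_iff.1 hNC)).le
  have h2 : (⟨z, hPE hzP⟩ : E) ∈ commutator E ⊓ (S : Subgroup E) := by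
    have h := hTD (hPT hzP)
    rw [derived_eq_map E] at h
    obtain ⟨w, hw, e⟩ := h
    have h' := hPT hzP
    rw [← hS] at h'
    obtain ⟨w', hw', e'⟩ := h'
    exact ⟨(show w = (⟨z, hPE hzP⟩ : E) from Subtype.ext e) ▸ hw,
      (show w' = (⟨z, hPE hzP⟩ : E) from Subtype.ext e') ▸ hw'⟩
  exact hz1 (congrArg Subtype.val (mem_bot.1 (h1 h2)))

/-- A mover of such a subgroup belongs to a `τ₁`-prime when `τ₂(M)` is empty. -/
theorem exists_tau1_mover {p : ℕ} [hp : Fact p.Prime] (hσ : p ∉ Cfsg.sigma M) (hrk : Cfsg.PRankLE p 1 M)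
    (hd : p ∣ Nat.card ↥⁅M, M⁆) {P : Subgroup G} (hPE : P ≤ E) (hP : Nat.card P = p)
    (hτ2 : ∀ s : ℕ, s.Prime → s ∉ Cfsg.tau2 M) :
    ∃ (r : ℕ) (_ : Fact r.Prime) (T R : Subgroup G), r ∈ Cfsg.tau1 M ∧ IsPGroup r T ∧ T ≤ E ∧ R ≤ T ∧
      Nat.card R = r ∧ ¬ T ≤ centralizer (P : Set G) := by
  obtain ⟨hPD, -⟩ := tau3_normal hG hM hE hσ hrk hd hPE hP
  have hab : IsMulCommutative ↥⁅E, E⁆ := (Cfsg.Agent.S1420.result hG M hM E hE).2.1
  by_contra h
  refine compl_moves hG hM hE hσ hrk hd hPE hP ((Grp.le_of_forall_sylow (inf_le_left : E ⊓ _ ≤ E) fun r hr => ?_).trans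
    inf_le_right)
  obtain ⟨T, hT⟩ := Grp.exists_isSylowIn r E
  refine ⟨T, hT, le_inf hT.1 ?_⟩
  rcases eq_or_ne T ⊥ with h0 | h0
  · rw [h0]; exact bot_le
  by_cases hTD : T ≤ ⁅E, E⁆
  · exact (hTD.trans (le_centralizer_iff_isMulCommutative.2 hab)).trans (Subgroup.centralizer_le hPD)
  have hrE : r ∣ Nat.card E := (dvd_card_of_pGroup hT.2.1 h0).trans (card_dvd_of_le hT.1)
  have hr1 := rank_one_of_not_tau2 hG hM (compl_prime hG hM hE hr.out hrE) (hτ2 r hr.out)
  by_contra hTC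
  obtain ⟨z, hz⟩ := exists_prime_orderOf_dvd_card' (G := T) r (dvd_card_of_pGroup hT.2.1 h0)
  exact h ⟨r, hr, T, zpowers (z : G), tau1_of_not_le_derived hG hM hE hT.2.1 hT.1 hTD hr1, hT.2.1, hT.1,
    zpowers_le.2 z.2, by rw [Nat.card_zpowers, Subgroup.orderOf_coe, hz], hTC⟩

/-- `E = E' C_E(P)` for a subgroup of prime order `p ∤ |E'|`. -/
theorem compl_cover {p : ℕ} [hp : Fact p.Prime] {P : Subgroup G} (hPE : P ≤ E) (hP : Nat.card P = p)
    (hnd : ¬ p ∣ Nat.card ↥⁅E, E⁆) : E ≤ ⁅E, E⁆ ⊔ (E ⊓ centralizer (P : Set G)) := by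
  haveI := solvable_of_ne_top hG hM.1
  haveI := isSolvable_of_le hE.1
  have hPp : IsPGroup p P := IsPGroup.of_card (n := 1) (by rw [hP, pow_one])
  intro x hx
  have hPD : P ≤ normalizer ((⁅E, E⁆ : Subgroup G) : Set G) :=
    hPE.trans (le_normalizer_commutator' le_normalizer le_normalizer)
  have hxP : MulAut.conj x • P ≤ P ⊔ ⁅E, E⁆ := by
    rintro _ ⟨b, hb, rfl⟩
    show MulAut.conj x b ∈ _
    rw [MulAut.conj_apply, show x * b * x⁻¹ = ⁅x, b⁆ * b by rw [commutatorElement_def]; group, sup_comm]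
    exact Subgroup.mul_mem_sup (commutator_mem_commutator hx (hPE hb)) hb
  have hidx : P.relIndex (P ⊔ ⁅E, E⁆) ∣ Nat.card ↥⁅E, E⁆ := by
    refine Nat.dvd_of_mul_dvd_mul_left (k := Nat.card P) Nat.card_pos ?_
    rw [Grp.card_mul_relIndex le_sup_left]
    exact Grp.card_sup_dvd_mul hPD
  have hS1 : Grp.IsSylowIn p P (P ⊔ ⁅E, E⁆) := ⟨le_sup_left, hPp, fun h => hnd (h.trans hidx)⟩
  have hS2 : Grp.IsSylowIn p (MulAut.conj x • P) (P ⊔ ⁅E, E⁆) := by
    haveI : Group.IsSolvable ↥(P ⊔ ⁅E, E⁆) := isSolvable_of_le (sup_le hPE E.commutator_le_self)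
    obtain ⟨V, hV, hxV⟩ := exists_sylowIn_ge hxP (hPp.map _)
    have : MulAut.conj x • P = V := Subgroup.eq_of_le_of_card_ge hxV (by
      rw [hV.card, ← hS1.card, Grp.card_conj_smul])
    rw [this]; exact hV
  obtain ⟨d, hd, e⟩ := hS1.conj hS2
  rw [sup_comm] at hd
  obtain ⟨a, ha, b, hb, rfl⟩ : ∃ a ∈ ⁅E, E⁆, ∃ b ∈ P, d = a * b := by
    rw [← SetLike.mem_coe, Subgroup.coe_mul_of_right_le_normalizer_left _ P hPD] at hd
    obtain ⟨a, ha, b, hb, e'⟩ := hd
    exact ⟨a, ha, b, hb, e'.symm⟩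
  rw [← Grp.conj_smul_conj_smul, Grp.conj_smul_eq_self_of_mem hb] at e
  have hn : a⁻¹ * x ∈ normalizer (P : Set G) := by
    rw [Grp.mem_normalizer_iff_smul, ← Grp.conj_smul_conj_smul, ← e, Grp.conj_smul_conj_smul, inv_mul_cancel,
      map_one, one_smul]
  have hnE : a⁻¹ * x ∈ E := E.mul_mem (E.inv_mem (E.commutator_le_self ha)) hx
  have hbot : P ⊓ ⁅E, E⁆ = ⊥ := Grp.inf_eq_bot_of_coprime (Nat.coprime_of_dvd fun r hr h1 h2 => by
    rw [eq_of_dvd_pGroup hPp hr h1] at h2; exact hnd h2)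
  have hnC : a⁻¹ * x ∈ centralizer (P : Set G) := by
    refine mem_centralizer_iff.2 fun b hb => commutatorElement_eq_one_iff_mul_comm.1 (mem_bot.1 (hbot ▸
      ⟨?_, commutator_mem_commutator (hPE hb) hnE⟩))
    rw [commutatorElement_def, show b * (a⁻¹ * x) * b⁻¹ * (a⁻¹ * x)⁻¹ = b * ((a⁻¹ * x) * b⁻¹ * (a⁻¹ * x)⁻¹) by group]
    exact P.mul_mem hb ((Subgroup.mem_normalizer_iff.1 hn b⁻¹).1 (P.inv_mem hb))
  have := Subgroup.mul_mem_sup (S := ⁅E, E⁆) (T := E ⊓ centralizer (P : Set G)) ha ⟨hnE, hnC⟩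
  rwa [mul_inv_cancel_left] at this

/-- A plane of a `τ₂`-prime is centralised by the `p'`-subgroups of `E'`. -/
theorem derived_centralizes_plane {p : ℕ} [hp : Fact p.Prime] (hτ : p ∈ Cfsg.tau2 M) {A W : Subgroup G} (hAE : A ≤ E)
    (hA : Cfsg.IsElementaryAbelian p A) (hA2 : Nat.card A = p ^ 2) (hWE : W ≤ ⁅E, E⁆) (hWp : ¬ p ∣ Nat.card W) :
    W ≤ centralizer (A : Set G) := by
  obtain ⟨A₀, h⟩ := exists_exc hG hM (hAE.trans hE.1) hA hA2 hτ.2.1
  haveI hc : IsMulCommutative ↥⁅E, E⁆ := (Cfsg.Agent.S1420.result hG M hM E hE).2.1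
  have h1 : W ≤ O' p ⁅E, E⁆ := le_O' hWE
    ((le_centralizer_iff_isMulCommutative.2 hc).trans ((Subgroup.centralizer_le hWE).trans (centralizer_le_normalizer _)))
    (hp.out.coprime_iff_not_dvd.2 hWp).symm
  have h2 : O' p ⁅E, E⁆ ≤ O' p E := le_O' ((O'_le p _).trans E.commutator_le_self)
    (le_normalizer_core (Grp.left_le_normalizer_commutator E E)) (O'_coprime _)
  exact (h1.trans h2).trans (h.core_le hE hAE)

/-- With abelian Sylow subgroups a line fixed by an operator moving the plane is normalised by `N(A)`. -/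
theorem plane_line_invariant {p : ℕ} [hp : Fact p.Prime] (hτ : p ∈ Cfsg.tau2 M)
    (habel : ∀ S : Sylow p G, IsMulCommutative (S : Subgroup G)) {A P X : Subgroup G} (hAE : A ≤ E)
    (hA : Cfsg.IsElementaryAbelian p A) (hA2 : Nat.card A = p ^ 2) (hPA : P ≤ A) (hP : Nat.card P = p)
    (hXA : X ≤ normalizer (A : Set G)) (hXp : ¬ p ∣ Nat.card X) (hXP : X ≤ centralizer (P : Set G))
    (hXC : ¬ X ≤ centralizer (A : Set G)) : normalizer (A : Set G) ≤ normalizer (P : Set G) := by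
  set N := normalizer (A : Set G) with hN
  have hp2 : p ≠ 2 := ne_two hG ((hA2.symm ▸ dvd_pow_self p two_ne_zero : p ∣ Nat.card A).trans
    (card_subgroup_dvd_card A))
  haveI : Group.IsSolvable N := solvable_of_ne_top hG (TransHyp.normalizer_ne_top hG
    (fun e => by rw [e, Subgroup.card_bot] at hA2; nlinarith [hp.out.two_le])
    fun e => hM.1 (top_le_iff.1 (e ▸ hAE.trans hE.1)))
  set π : Set ℕ := {s | s ≠ p}
  obtain ⟨V₀, hV₀⟩ := Grp.PiHall.exists_piHall π N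
  obtain ⟨a, ha, hXV⟩ := Grp.PiHall.dominate hV₀ hXA fun s hs hd => fun e : s = p => hXp (e ▸ hd)
  have hV := Grp.PiHall.smul hV₀ (Grp.mem_normalizer_iff_smul.1 (le_normalizer ha))
  set V := MulAut.conj a • V₀ with hVdef
  have hVp : (Nat.card V).Coprime p :=
    (hp.out.coprime_iff_not_dvd.2 fun h => hV.2.1 p hp.out h rfl).symm
  set K := V ⊓ centralizer (A : Set G) with hK
  have hVA : V ≤ normalizer (A : Set G) := hV.1
  have hVK : V ≤ normalizer (K : Set G) := le_normalizer_inf' le_normalizer (le_normalizer_centralizer' hVA)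
  have hAK : A ≤ normalizer (K : Set G) :=
    (le_centralizer_iff.1 (inf_le_right : K ≤ centralizer (A : Set G))).trans (centralizer_le_normalizer _)
  have hAp := Grp.elemAb_isPGroup hA
  haveI : Group.IsSolvable V := isSolvable_of_le hV.1
  -- the image of `V` is abelian
  have hVV : ⁅V, V⁆ ≤ K := by
    have hfix : qimg K V ⊓ centralizer (qimg K A : Set (Qt K)) = ⊥ := by
      rw [eq_bot_iff]
      rintro _ ⟨⟨⟨v, hvN⟩, hv, rfl⟩, hvc⟩
      rw [mem_bot]
      refine (QuotientGroup.eq_one_iff _).2 ⟨hv, mem_centralizer_iff.2 fun x hx => ?_⟩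
      have h1 := mem_centralizer_iff.1 hvc _ (mem_qimg hx (hAK hx))
      rw [← map_mul, ← map_mul] at h1
      have h2 : (x * v)⁻¹ * (v * x) ∈ K := show ((⟨x, hAK hx⟩ : normalizer (K : Set G)) * ⟨v, hvN⟩)⁻¹ *
        (⟨v, hvN⟩ * ⟨x, hAK hx⟩) ∈ K.subgroupOf (normalizer (K : Set G)) from QuotientGroup.eq.1 h1
      have h3 : x⁻¹ * (v⁻¹ * x⁻¹ * v) * x * x ∈ A := by
        refine A.mul_mem (A.mul_mem (A.mul_mem (A.inv_mem hx) ?_) hx) hx
        exact Grp.mem_conj_normalizer' (hVA hv) (A.inv_mem hx)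
      have h4 : (x * v)⁻¹ * (v * x) ∈ A := by
        rw [show (x * v)⁻¹ * (v * x) = (v⁻¹ * x⁻¹ * v) * x by group]
        exact A.mul_mem (Grp.mem_conj_normalizer' (hVA hv) (A.inv_mem hx)) hx
      have h5 : (x * v)⁻¹ * (v * x) = 1 := by
        rw [← mem_bot, ← Grp.inf_eq_bot_of_coprime (H := A) (K := K) (Nat.coprime_of_dvd fun s hs h1 h2 => by
          rw [eq_of_dvd_pGroup hAp hs h1] at h2
          exact hV.2.1 p hp.out (h2.trans (card_dvd_of_le inf_le_left)) rfl)]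
        exact ⟨h4, h2⟩
      exact inv_mul_eq_one.1 h5
    have hrk : Cfsg.PRankLE p 2 ↥(qimg K A) := fun C _ _ => by
      exact (Nat.le_of_dvd Nat.card_pos (card_subgroup_dvd_card C)).trans
        ((Nat.le_of_dvd Nat.card_pos (card_qimg_dvd hAK)).trans hA2.le)
    haveI : Group.IsSolvable ↥(qimg K V) := by
      haveI : Group.IsSolvable ↥(V.subgroupOf (normalizer (K : Set G))) :=
        solvable_of_solvable_injective (f := (subgroupOfEquivOfLe hVK).toMonoidHom) (subgroupOfEquivOfLe hVK).injective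
      exact solvable_of_surjective (f := (QuotientGroup.mk' _).subgroupMap _) (MonoidHom.subgroupMap_surjective _ _)
    have hodd : Odd (Nat.card ↥(qimg K V)) :=
      Odd.of_dvd_nat hG.1 (((card_qimg_dvd hVK).trans (card_subgroup_dvd_card V)))
    have h := Cfsg.Agent.S1449.result p hp2 (qimg K A) (qimg K V) (qimg_isPGroup hAK hAp) hrk
      (qimg_normalizer hVA) inferInstance hodd hfix
    rw [← qimg_commutator hVK hVK] at h
    refine (qimg_eq_bot (V.commutator_le_self.trans hVK)).1 (Subgroup.card_eq_one.1 ?_)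
    obtain ⟨n, hn⟩ := IsPGroup.iff_card.1 h
    refine Nat.eq_one_of_dvd_coprimes (hVp.symm.pow_left n) (dvd_of_eq hn) ?_
    exact (card_qimg_dvd (V.commutator_le_self.trans hVK)).trans (card_dvd_of_le V.commutator_le_self)
  -- `V` fixes the line
  have hAP : A ⊓ centralizer (X : Set G) = P := by
    refine le_antisymm ?_ (le_inf hPA (le_centralizer_iff.1 hXP))
    have hd : Nat.card ↥(A ⊓ centralizer (X : Set G)) ∣ p ^ 2 := hA2 ▸ card_dvd_of_le inf_le_left
    obtain ⟨i, hi, hci⟩ := (Nat.dvd_prime_pow hp.out).1 hd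
    have hne : i ≠ 2 := fun e => hXC (le_centralizer_iff.1 (inf_eq_left.1
      (Subgroup.eq_of_le_of_card_ge inf_le_left (by rw [hci, e, hA2]))))
    refine (Subgroup.eq_of_le_of_card_ge (le_inf hPA (le_centralizer_iff.1 hXP)) ?_).ge
    rw [hci, hP]
    calc p ^ i ≤ p ^ 1 := Nat.pow_le_pow_right hp.out.pos (by omega)
      _ = p := pow_one p
  have hVP : V ≤ normalizer (P : Set G) := by
    refine Grp.PiHall.le_normalizer_of_conj_mem fun v hv z hz => ?_
    rw [← hAP] at hz ⊢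
    refine ⟨Grp.mem_conj_normalizer (hVA hv) hz.1, mem_centralizer_iff.2 fun x hx => ?_⟩
    have hc : ⁅v⁻¹, x⁆ ∈ centralizer (A : Set G) :=
      (hVV (commutator_mem_commutator (V.inv_mem hv) (hXV hx))).2
    have h1 := mem_centralizer_iff.1 hz.2 x hx
    have h2 := mem_centralizer_iff.1 hc z hz.1
    calc x * (v * z * v⁻¹) = v * (⁅v⁻¹, x⁆ * (x * z)) * v⁻¹ := by rw [commutatorElement_def]; group
      _ = v * (z * ⁅v⁻¹, x⁆ * x) * v⁻¹ := by rw [h1, show ⁅v⁻¹, x⁆ * (z * x) = (⁅v⁻¹, x⁆ * z) * x by group, ← h2]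
      _ = v * z * v⁻¹ * x := by rw [commutatorElement_def]; group
  refine (Grp.le_of_forall_sylow (inf_le_left : N ⊓ normalizer (P : Set G) ≤ N) fun s hs => ?_).trans inf_le_right
  by_cases hsp : s = p
  · subst hsp
    obtain ⟨T, hT⟩ := Grp.exists_isSylowIn s N
    refine ⟨T, hT, le_inf hT.1 ?_⟩
    have h1 : IsPGroup s ↥(A ⊔ T) := hAp.to_sup_of_normal_left' hT.2.1 hT.1
    have hAT : A ≤ T := by
      rw [hT.eq_of_le le_sup_right (sup_le le_normalizer hT.1) h1]; exact le_sup_left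
    obtain ⟨S, hTS⟩ := hT.2.1.exists_le_sylow
    exact ((hTS.trans (le_centralizer_iff_isMulCommutative.2 (habel S))).trans
      (Subgroup.centralizer_le (hPA.trans (hAT.trans hTS)))).trans (centralizer_le_normalizer _)
  · obtain ⟨T, hT⟩ := Grp.exists_isSylowIn s V
    refine ⟨T, ⟨hT.1.trans hV.1, hT.2.1, fun hd => ?_⟩, le_inf (hT.1.trans hV.1) (hT.1.trans hVP)⟩
    rw [← Subgroup.relIndex_mul_relIndex T V N hT.1 hV.1] at hd
    exact (hs.out.dvd_mul.1 hd).elim hT.2.2 fun h => hV.2.2 s hs.out hsp h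

end Cfsg.Agent.Transfer.Loc
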