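import Cfsg.Agent.Lib.Transfer.Local.TauThreeShared
import Cfsg.Agent.S1424

/-!
A complement acts in a prime manner when a `τ₃`-subgroup has fixed points.
-/

set_option autoImplicit false
set_option linter.style.haveILetI false
set_option linter.unusedSectionVars false
set_option maxHeartbeats 2000000

namespace Cfsg.Agent.Transfer.Loc

open Subgroup
open scoped commutatorElement Pointwise

universe u

variable {G : Type u} [Group G] [Finite G]

namespace Irregular

variable {M E L P : Subgroup G} {p : ℕ} [hp : Fact p.Prime] (h : Irregular M E L p P)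
include h

theorem P_le_sigmaCore : P ≤ Cfsg.sigmaCore L := by
  haveI := solvable_of_ne_top h.hG h.hL.1
  obtain ⟨S, hS, hPS⟩ := exists_sylowIn_ge h.P_le_L (IsPGroup.of_card (n := 1) (by rw [h.hP, pow_one]) : IsPGroup p P)
  exact hPS.trans (sylow_le_piCore h.hG h.hL (alpha_subset_sigma h.hG h.hL) le_rfl h.sigma_L hS)

/-- The primes of `M_σ ∩ L` have rank one in `L`. -/
theorem meet_rank_one {t : ℕ} [ht : Fact t.Prime] (hd : t ∣ Nat.card ↥(Cfsg.sigmaCore M ⊓ L)) :
    t ∈ Cfsg.sigma M ∧ t ∉ Cfsg.sigma L ∧ Cfsg.PRankLE t 1 L := by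
  have hG := h.hG
  have hM := h.hM
  have hL := h.hL
  haveI := solvable_of_ne_top hG hL.1
  haveI := solvable_of_ne_top hG hM.1
  have htM : t ∈ Cfsg.sigma M :=
    TransHyp.piCoreOf_primes (π := Cfsg.sigma M) (X := M) ht.out (hd.trans (card_dvd_of_le inf_le_left))
  have htL := h.not_shared htM
  refine ⟨htM, htL, rank_one_of_not_tau2 hG hL htL fun hτt => ?_⟩
  obtain ⟨z, hz⟩ := exists_prime_orderOf_dvd_card' t hd
  set X := zpowers (z : G) with hXdef
  have hXc : Nat.card X = t := by rw [hXdef, Nat.card_zpowers, Subgroup.orderOf_coe, hz]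
  have hXt : IsPGroup t X := IsPGroup.of_card (n := 1) (by rw [hXc, pow_one])
  have hX1 : X ≠ ⊥ := fun e => ht.out.ne_one (hXc.symm.trans (by rw [e, Subgroup.card_bot]))
  have hXW : X ≤ Cfsg.sigmaCore M ⊓ L := zpowers_le.2 z.2
  have hXL : X ≤ L := hXW.trans inf_le_right
  have hXM : X ≤ M := (hXW.trans inf_le_left).trans (TransHyp.piCoreOf_le M)
  have hXP : P ≤ centralizer (X : Set G) := le_centralizer_iff.1 (hXW.trans (h.meet_eq.le.trans inf_le_right))
  have hP1 : P ≠ ⊥ := fun e => hp.out.ne_one (h.hP.symm.trans (by rw [e, Subgroup.card_bot]))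
  have hne : Cfsg.sigmaCore L ⊓ centralizer (X : Set G) ≠ ⊥ := fun e => hP1 (le_bot_iff.1
    (e ▸ le_inf h.P_le_sigmaCore hXP))
  obtain ⟨E', hE', hXE⟩ := exists_compl_ge hG hL hXL fun q hq hd' => by
    rw [eq_of_dvd_pGroup hXt hq hd']; exact htL
  obtain ⟨T, hT⟩ := Grp.exists_isSylowIn t E'
  obtain ⟨B, hBT, hB, hB2⟩ := tau2_plane hG hL hE' hτt hT
  have h18 := Cfsg.Agent.S1418.result hG L hL E' hE' t hτt B ⟨hBT.trans hT.1, hB, hB2⟩
  have hu := h18.2.2 X (h18.1.2 X hXE hXc) hXc hne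
  haveI : Group.IsSolvable ↥(M ⊓ L) := isSolvable_of_le inf_le_left
  obtain ⟨U, hU, hXU⟩ := exists_sylowIn_ge (le_inf hXM hXL : X ≤ M ⊓ L) hXt
  obtain ⟨U', hU'⟩ := Grp.isSylowIn_iff.1 hU
  subst hU'
  obtain ⟨-, -, hidx⟩ := Cfsg.Agent.S1424.result hG M hM t htM X hXt hX1 hXM L hL h.ne_L
    (normalizer_le_of_unique hG hL hu) U' hXU
  set S := (U' : Subgroup ↥(M ⊓ L)).map (M ⊓ L).subtype
  have hSL : Grp.IsSylowIn t S L := ⟨hU.1.trans inf_le_right, hU.2.1, hidx⟩
  obtain ⟨B', hB'S, hB', hB'2⟩ := exists_elem_sylow hτt.2.2.2 hSL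
  obtain ⟨S₂, hS₂, hSS₂⟩ := exists_sylowIn_ge (hU.1.trans inf_le_left) hU.2.1
  have hB'W : B' ≤ Cfsg.sigmaCore M ⊓ L := hB'S.trans (le_inf
    (hSS₂.trans (sylow_le_piCore hG hM (alpha_subset_sigma hG hM) le_rfl htM hS₂)) hSL.1)
  have hB'c : Nat.card B' = t ^ 2 := by
    refine le_antisymm ?_ hB'2
    by_contra hlt
    obtain ⟨n, hn⟩ := IsPGroup.iff_card.1 (Grp.elemAb_isPGroup hB')
    refine not_prank_of_elem (hB'S.trans hSL.1) hB' ?_ hτt.2.2.1
    rw [hn] at hlt ⊢
    exact Nat.pow_le_pow_right ht.out.pos ((Nat.pow_lt_pow_iff_right ht.out.one_lt).1 (not_le.1 hlt))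
  obtain ⟨B₀, hexc⟩ := exists_exc hG hL (hB'S.trans hSL.1) hB' hB'c htL
  exact hP1 (le_bot_iff.1 (hexc.fixed_plane ▸
    le_inf h.P_le_sigmaCore (le_centralizer_iff.1 (hB'W.trans (h.meet_eq.le.trans inf_le_right)))))

/-- The subgroups of prime order of a `τ₁`-prime centralise `P`. -/
theorem prime_centralizes {r : ℕ} [hr : Fact r.Prime] (hτr : r ∈ Cfsg.tau1 M) {R : Subgroup G} (hRE : R ≤ E)
    (hR : Nat.card R = r) : R ≤ centralizer (P : Set G) := by
  by_contra hmove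
  have hG := h.hG
  have hM := h.hM
  have hL := h.hL
  haveI := solvable_of_ne_top hG hM.1
  haveI := solvable_of_ne_top hG hL.1
  haveI := isSolvable_of_le h.hE.1
  have hRr : IsPGroup r R := IsPGroup.of_card (n := 1) (by rw [hR, pow_one])
  have hRM : R ≤ M := hRE.trans h.hE.1
  have hRL : R ≤ L := hRE.trans h.compl_le_L
  set K := Cfsg.sigmaCore M with hK
  have hMK : M ≤ normalizer (K : Set G) := TransHyp.le_normalizer_piCoreOf M
  set W := K ⊓ L with hW
  have hWP : W ≤ centralizer (P : Set G) := h.meet_eq.le.trans inf_le_right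
  have hEW : E ≤ normalizer (W : Set G) := le_normalizer_inf' (h.hE.1.trans hMK) (h.compl_le_L.trans le_normalizer)
  have hWσ := fun (t : ℕ) (ht : Fact t.Prime) (hd : t ∣ Nat.card W) => h.meet_rank_one (t := t) hd
  have hdisj : K ⊓ Cfsg.sigmaCore L = ⊥ := Grp.inf_eq_bot_of_coprime (Nat.coprime_of_dvd fun s hs h1 h2 => by
    haveI := Fact.mk hs
    exact h.not_shared (TransHyp.piCoreOf_primes (π := Cfsg.sigma M) (X := M) hs h1)
      (TransHyp.piCoreOf_primes (π := Cfsg.sigma L) (X := L) hs h2))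
  have hpick : ∀ (t : ℕ) [Fact t.Prime], t ∣ Nat.card W → ∃ X : Subgroup G, Nat.card X = t ∧ X ≤ W := by
    intro t _ hd
    obtain ⟨z, hz⟩ := exists_prime_orderOf_dvd_card' t hd
    exact ⟨zpowers (z : G), by rw [Nat.card_zpowers, Subgroup.orderOf_coe, hz], zpowers_le.2 z.2⟩
  obtain ⟨t₀, ht₀, ht₀W⟩ : ∃ t : ℕ, t.Prime ∧ t ∣ Nat.card W :=
    Nat.exists_prime_and_dvd fun e => h.meet_ne (Subgroup.card_eq_one.1 e)
  haveI := Fact.mk ht₀
  by_cases hrL : r ∈ Cfsg.sigma L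
  · obtain ⟨U, hU, hRU⟩ := exists_sylowIn_ge hRL hRr
    have hRσ : R ≤ Cfsg.sigmaCore L := hRU.trans (sylow_le_piCore hG hL (alpha_subset_sigma hG hL) le_rfl hrL hU)
    have hWR : W ≤ centralizer (R : Set G) := by
      rw [← commutator_eq_bot_iff_le_centralizer, eq_bot_iff, ← hdisj]
      refine le_inf ((Grp.commutator_le_left_of_le_normalizer (hRE.trans hEW)).trans inf_le_left) ?_
      rw [commutator_comm]
      exact (Subgroup.commutator_mono hRσ inf_le_right).trans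
        (Grp.commutator_le_left_of_le_normalizer (TransHyp.le_normalizer_piCoreOf L))
    obtain ⟨X, hXc, hXW⟩ := hpick t₀ ht₀W
    obtain ⟨htM, htL, htr⟩ := hWσ t₀ ‹_› ht₀W
    have hXu := tau1_unique hG hM hτr hRM hR hXc (le_inf (hXW.trans inf_le_left) (hXW.trans hWR))
    have hXL : X ≤ L := hXW.trans inf_le_right
    have hXR : R ≤ centralizer (X : Set G) := le_centralizer_iff.1 (hXW.trans hWR)
    by_cases hrβ : r ∈ Cfsg.beta L
    · obtain ⟨U'⟩ : Nonempty (Sylow r ↥(Cfsg.sigmaCore L)) := inferInstance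
      exact h.trick hRE hR hmove (inf_le_right.trans
        (Cfsg.Agent.S1423.result hG L hL r hrL R hRL hR U' (Or.inl hrβ)).1.1)
    by_cases htd : t₀ ∣ Nat.card ↥⁅L, L⁆
    · obtain ⟨E', hE', hXE⟩ := exists_compl_ge hG hL hXL fun q hq hd => by
        rw [hXc] at hd; rw [(Nat.prime_dvd_prime_iff_eq hq ht₀).1 hd]; exact htL
      haveI := isSolvable_of_le hE'.1
      obtain ⟨S₀, hS₀, hES₀⟩ := Grp.exists_invariant_sylow E' (Cfsg.sigmaCore L)
        (hE'.1.trans (TransHyp.le_normalizer_piCoreOf L)) (compl_coprime hG hL hE') (Or.inl inferInstance) r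
      have hS₀C : S₀ ≤ centralizer (X : Set G) := le_centralizer_iff.1 ((tau3_normal hG hL hE' htL htr htd hXE hXc).1.trans
        (derived_centralizes hG hL hE' hrβ hS₀.2.1 hS₀.1 hES₀))
      haveI : Group.IsSolvable ↥(L ⊓ centralizer (X : Set G)) := isSolvable_of_le inf_le_left
      obtain ⟨T, hT, hRT⟩ := exists_sylowIn_ge (le_inf hRL hXR : R ≤ L ⊓ centralizer (X : Set G)) hRr
      obtain ⟨S₁, hS₁⟩ := Grp.exists_isSylowIn r L
      obtain ⟨k, hk, e⟩ := (sigmaCore_sylow hG hL hrL hS₁).conj hS₀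
      have hS₀L : Grp.IsSylowIn r S₀ L := e ▸ hS₁.smul
        (Grp.mem_normalizer_iff_smul.1 (le_normalizer (TransHyp.piCoreOf_le L hk)))
      have hTL : Grp.IsSylowIn r T L := by
        refine ⟨hT.1.trans inf_le_left, hT.2.1, fun hd => ?_⟩
        obtain ⟨T', hT', hTT'⟩ := exists_sylowIn_ge (hT.1.trans inf_le_left) hT.2.1
        have hS₀T : Grp.IsSylowIn r S₀ (L ⊓ centralizer (X : Set G)) := ⟨le_inf hS₀L.1 hS₀C, hS₀.2.1, fun hd' =>
          hS₀L.2.2 (by
            rw [← Subgroup.relIndex_mul_relIndex S₀ _ L (le_inf hS₀L.1 hS₀C) inf_le_left]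
            exact hd'.mul_right _)⟩
        have : T = T' := Subgroup.eq_of_le_of_card_ge hTT'
          (by rw [hT'.card, ← hS₀L.card, hT.card, ← hS₀T.card])
        exact hT'.2.2 (this ▸ hd)
      exact h.trick hRE hR hmove (((le_inf inf_le_left (prime_action hG hM hτr.2.1 hτr.2.2.2.2 hT.2.1
        ((hT.1.trans inf_le_right).trans hXu.1) hRT hR)).trans inf_le_right).trans
        ((centralizer_le_normalizer _).trans (sigma_sylow hG hL hrL hTL).1))
    · exact h.trick hRE hR hmove (inf_le_right.trans (tau1_unique hG hL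
        ⟨ht₀, htL, hXc ▸ card_dvd_of_le hXL, htd, htr⟩ hXL hXc hR (le_inf hRσ hXR)).1)
  -- `R` centralises `W`
  have hrσM : r ∉ Cfsg.sigma M := hτr.2.1
  have hWR : W ≤ centralizer (R : Set G) := by
    refine (Grp.le_of_forall_sylow (inf_le_left : W ⊓ _ ≤ W) fun t ht => ?_).trans inf_le_right
    obtain ⟨Q, hQ, hRQ⟩ := Grp.exists_invariant_sylow R W (hRE.trans hEW) (Nat.coprime_of_dvd fun q hq h1 h2 =>
      compl_prime hG hM h.hE hq (h1.trans (card_dvd_of_le hRE))
        (TransHyp.piCoreOf_primes (π := Cfsg.sigma M) (X := M) hq (h2.trans (card_dvd_of_le inf_le_left))))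
      (Or.inl (isSolvable_of_le hRM)) t
    refine ⟨Q, hQ, le_inf hQ.1 ?_⟩
    by_contra hQR
    have hQ1 : Q ≠ ⊥ := fun e => hQR (e ▸ bot_le)
    obtain ⟨htM, htL, htr1⟩ := hWσ t ht ((dvd_card_of_pGroup hQ.2.1 hQ1).trans (card_dvd_of_le hQ.1))
    have hQL : Q ≤ L := hQ.1.trans inf_le_right
    have htr : r ≠ t := fun e => hrσM (e ▸ htM)
    have hne : ¬ R ≤ centralizer (Q : Set G) := fun hc => hQR (le_centralizer_iff.1 hc)
    obtain ⟨hτrL, htD⟩ := tau1_of_moves hG hL hRL hR hQL hQ.2.1 hrL htL htr hRQ hne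
    have hfix : Cfsg.sigmaCore L ⊓ centralizer (R : Set G) ≠ ⊥ := by
      intro hbot
      have hc := comm_centralizes_of_fixed_bot hG hL hRL hR hQL hQ.2.1 hrL htL htr hRQ hbot
      obtain ⟨hYt, hRY, hYQ⟩ := comm_facts hQ.2.1 hRQ
      obtain ⟨z, hz⟩ := exists_prime_orderOf_dvd_card' (G := (⁅Q, R⁆ : Subgroup G)) t (dvd_card_of_pGroup hYt
        fun e => hne (le_centralizer_iff.1 (commutator_eq_bot_iff_le_centralizer.1 e)))
      exact not_centralizes_sigma hG hL htL (fun h2 => h2.2.2.2 htr1)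
        ((zpowers_le.2 z.2).trans (Subgroup.commutator_mono hQL hRL))
        (by rw [Nat.card_zpowers, Subgroup.orderOf_coe, hz]) ((zpowers_le.2 z.2).trans hc)
    obtain ⟨z', hz', hzp⟩ := Grp.exists_prime_order_mem hfix
    haveI := Fact.mk hzp
    exact h.trick hRE hR hmove (cross_into hG hM hL h.not_conj h.hE h.compl_le_L hτr hτrL hRE hR
      (zpowers_le.2 hz') (by rw [Nat.card_zpowers]))
  -- every prime of `W` divides `|L'|`
  have hdvd : ∀ (t : ℕ) [Fact t.Prime], t ∣ Nat.card W → t ∣ Nat.card ↥⁅L, L⁆ := by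
    intro t ht hd
    by_contra htd
    obtain ⟨X, hXc, hXW⟩ := hpick t hd
    obtain ⟨htM, htL, htr⟩ := hWσ t ht hd
    have hXL : X ≤ L := hXW.trans inf_le_right
    exact hmove (le_centralizer_iff.1 ((le_inf h.P_le_sigmaCore (le_centralizer_iff.1 (hXW.trans hWP))).trans
      (cent_tau1 hG hL ⟨ht.out, htL, hXc ▸ card_dvd_of_le hXL, htd, htr⟩ hXL hXc hRL hR
        (le_centralizer_iff.1 (hXW.trans hWR)) hrL)))
  obtain ⟨htM, htL, htr⟩ := hWσ t₀ ‹_› ht₀W
  have htd := hdvd t₀ ht₀W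
  obtain ⟨Q, hQ, hEQ⟩ := Grp.exists_invariant_sylow E W hEW
    ((compl_coprime hG hM h.hE).coprime_dvd_right (card_dvd_of_le inf_le_left)) (Or.inl inferInstance) t₀
  haveI hQc : IsCyclic Q := cyclic_of_rank_one hG hQ.2.1 (hQ.1.trans inf_le_right) htr
  obtain ⟨z, hz⟩ := exists_prime_orderOf_dvd_card' (G := Q) t₀
    (dvd_card_of_pGroup hQ.2.1 (sylow_ne_bot_of_dvd hQ ht₀W))
  set X := zpowers (z : G) with hXdef
  have hXc : Nat.card X = t₀ := by rw [hXdef, Nat.card_zpowers, Subgroup.orderOf_coe, hz]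
  have hXQ : X ≤ Q := zpowers_le.2 z.2
  have hXW : X ≤ W := hXQ.trans hQ.1
  have hXL : X ≤ L := hXW.trans inf_le_right
  have hXu := tau1_unique hG hM hτr hRM hR hXc (le_inf (hXW.trans inf_le_left) (hXW.trans hWR))
  -- `E` centralises `X`
  have hEX : E ≤ centralizer (X : Set G) := by
    refine (compl_cover hG hM h.hE hRE hR fun hd =>
      hτr.2.2.2.1 (hd.trans (card_dvd_of_le (Subgroup.commutator_mono h.hE.1 h.hE.1)))).trans (sup_le ?_ ?_)
    · exact (derived_centralizes_cyclic hEQ).trans (Subgroup.centralizer_le hXQ)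
    · exact le_centralizer_iff.1 ((le_inf (hXW.trans inf_le_left) (hXW.trans hWR)).trans
        (cent_tau1_sub hG hM hτr hRM hR (inf_le_left.trans h.hE.1) inf_le_right fun s hs hd =>
          haveI := Fact.mk hs
          have hσ := compl_prime hG hM h.hE hs (hd.trans (card_dvd_of_le inf_le_left))
          ⟨hσ, h.rank_one hσ⟩))
  obtain ⟨E', hE', hXE⟩ := exists_compl_ge hG hL hXL fun q hq hd => by
    rw [hXc] at hd; rw [(Nat.prime_dvd_prime_iff_eq hq ht₀).1 hd]; exact htL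
  haveI := isSolvable_of_le hE'.1
  obtain ⟨hXD, hEN⟩ := tau3_normal hG hL hE' htL htr htd hXE hXc
  have hE'M : E' ≤ M := hEN.trans (normalizer_le_of_unique hG hM hXu)
  have hab : IsMulCommutative ↥⁅E', E'⁆ := (Cfsg.Agent.S1420.result hG L hL E' hE').2.1
  -- `M ∩ L` normalises `X`
  have hnormX : M ⊓ L ≤ normalizer (X : Set G) := by
    have hLX : L ≤ normalizer ((X ⊔ Cfsg.sigmaCore L : Subgroup G) : Set G) := by
      refine (compl_sup hE').ge.trans ?_
      exact sup_le (Grp.le_normalizer_sup' hEN (hE'.1.trans (TransHyp.le_normalizer_piCoreOf L)))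
        (le_sup_right.trans le_normalizer)
    have hXeq : (X ⊔ Cfsg.sigmaCore L) ⊓ W = X := by
      refine (Subgroup.eq_of_le_of_card_ge (le_inf le_sup_left hXW) ?_).symm
      refine Nat.le_of_dvd (by rw [hXc]; exact ht₀.pos) ?_
      have h1 : Nat.card ↥((X ⊔ Cfsg.sigmaCore L) ⊓ W) ∣ Nat.card X * Nat.card (Cfsg.sigmaCore L) :=
        (card_dvd_of_le inf_le_left).trans (Grp.card_sup_dvd_mul (hXL.trans (TransHyp.le_normalizer_piCoreOf L)))
      refine (Nat.Coprime.dvd_mul_right (Nat.coprime_of_dvd fun q hq h2 h3 => ?_)).1 h1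
      haveI := Fact.mk hq
      exact (hWσ q ‹_› (h2.trans (card_dvd_of_le inf_le_right))).2.1
        (TransHyp.piCoreOf_primes (π := Cfsg.sigma L) (X := L) hq h3)
    rw [← hXeq]
    exact le_normalizer_inf' (inf_le_right.trans hLX) (le_normalizer_inf' (inf_le_left.trans hMK)
      (inf_le_right.trans le_normalizer))
  refine compl_moves hG hL hE' htL htr htd hXE hXc ((Grp.le_of_forall_sylow (inf_le_left : E' ⊓ _ ≤ E')
    fun s hs => ?_).trans inf_le_right)
  obtain ⟨U, hU⟩ := Grp.exists_isSylowIn s E'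
  refine ⟨U, hU, le_inf hU.1 ?_⟩
  rcases eq_or_ne U ⊥ with h0 | h0
  · rw [h0]; exact bot_le
  have hUD : U ≤ ⁅E', E'⁆ → U ≤ centralizer (X : Set G) := fun hle =>
    (hle.trans (le_centralizer_iff_isMulCommutative.2 hab)).trans (Subgroup.centralizer_le hXD)
  by_cases hsM : s ∈ Cfsg.sigma M
  · obtain ⟨S', hS', hUS⟩ := exists_sylowIn_ge (hU.1.trans hE'M) hU.2.1
    have hUW : U ≤ W := le_inf (hUS.trans (sylow_le_piCore hG hM (alpha_subset_sigma hG hM) le_rfl hsM hS'))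
      (hU.1.trans hE'.1)
    have hsW : s ∣ Nat.card W := (dvd_card_of_pGroup hU.2.1 h0).trans (card_dvd_of_le hUW)
    obtain ⟨-, hsL, hsr⟩ := hWσ s hs hsW
    exact hUD (le_derived_of_rank_one hG (prankLE_mono hE'.1 hsr) (compl_dvd_derived hG hL hE' hsL (hdvd s hsW))
      hU.1 hU.2.1)
  · have hHall : Cfsg.IsPiHallOf {q | q ∉ Cfsg.sigma M} E (M ⊓ L) := by
      refine ⟨le_inf h.hE.1 h.compl_le_L, fun q hq hd => compl_prime hG hM h.hE hq hd, fun q hq hqσ hd => ?_⟩
      haveI := Fact.mk hq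
      have e : E.relIndex M = Nat.card K := Nat.eq_of_mul_eq_mul_left
        (Nat.card_pos (α := E)) ((Grp.card_mul_relIndex h.hE.1).trans (compl_card h.hE).symm)
      refine not_dvd_sigmaCore hqσ (hd.trans (dvd_trans ?_ (dvd_of_eq e)))
      rw [← Subgroup.relIndex_mul_relIndex E (M ⊓ L) M (le_inf h.hE.1 h.compl_le_L) inf_le_left]
      exact dvd_mul_right _ _
    haveI : Group.IsSolvable ↥(M ⊓ L) := isSolvable_of_le inf_le_left
    obtain ⟨g, hg, hUg⟩ := Grp.PiHall.dominate hHall (le_inf (hU.1.trans hE'M) (hU.1.trans hE'.1)) fun q hq hd => by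
      rw [eq_of_dvd_pGroup hU.2.1 hq hd]; exact hsM
    have h2 := smul_centralizer_le hEX g
    rw [Grp.mem_normalizer_iff_smul.1 (hnormX hg)] at h2
    exact hUg.trans h2

/-- A complement centralises `C_{M_σ}(P)`. -/
theorem compl_centralizes : E ≤ centralizer ((Cfsg.sigmaCore M ⊓ centralizer (P : Set G) : Subgroup G) : Set G) := by
  have hG := h.hG
  have hM := h.hM
  have hL := h.hL
  haveI := solvable_of_ne_top hG hM.1
  haveI := solvable_of_ne_top hG hL.1
  haveI := isSolvable_of_le h.hE.1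
  rw [← h.meet_eq]
  set K := Cfsg.sigmaCore M with hK
  have hMK : M ≤ normalizer (K : Set G) := TransHyp.le_normalizer_piCoreOf M
  set W := K ⊓ L with hW
  have hEW : E ≤ normalizer (W : Set G) := le_normalizer_inf' (h.hE.1.trans hMK) (h.compl_le_L.trans le_normalizer)
  refine le_centralizer_iff.1 ((Grp.le_of_forall_sylow (inf_le_left : W ⊓ _ ≤ W) fun t ht => ?_).trans inf_le_right)
  obtain ⟨Q, hQ, hEQ⟩ := Grp.exists_invariant_sylow E W hEW
    ((compl_coprime hG hM h.hE).coprime_dvd_right (card_dvd_of_le inf_le_left)) (Or.inl inferInstance) t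
  refine ⟨Q, hQ, le_inf hQ.1 ?_⟩
  rcases eq_or_ne Q ⊥ with hQ1 | hQ1
  · rw [hQ1]; exact bot_le
  obtain ⟨htM, htL, htr⟩ := h.meet_rank_one (t := t) ((dvd_card_of_pGroup hQ.2.1 hQ1).trans (card_dvd_of_le hQ.1))
  have hQL : Q ≤ L := hQ.1.trans inf_le_right
  haveI hQc : IsCyclic Q := cyclic_of_rank_one hG hQ.2.1 hQL htr
  have hQab : IsMulCommutative Q := IsCyclic.isMulCommutative
  refine le_centralizer_iff.1 ((Grp.le_of_forall_sylow (inf_le_left : E ⊓ _ ≤ E) fun r hr => ?_).trans inf_le_right)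
  obtain ⟨T, hT⟩ := Grp.exists_isSylowIn r E
  refine ⟨T, hT, le_inf hT.1 ?_⟩
  rcases eq_or_ne T ⊥ with hT1 | hT1
  · rw [hT1]; exact bot_le
  by_cases hTD : T ≤ ⁅E, E⁆
  · exact hTD.trans (derived_centralizes_cyclic hEQ)
  have hrσ := compl_prime hG hM h.hE hr.out ((dvd_card_of_pGroup hT.2.1 hT1).trans (card_dvd_of_le hT.1))
  have hτr := tau1_of_not_le_derived hG hM h.hE hT.2.1 hT.1 hTD (h.rank_one hrσ)
  obtain ⟨y, hy⟩ := exists_prime_orderOf_dvd_card' (G := T) r (dvd_card_of_pGroup hT.2.1 hT1)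
  set R := zpowers (y : G) with hRdef
  have hR : Nat.card R = r := by rw [hRdef, Nat.card_zpowers, Subgroup.orderOf_coe, hy]
  have hRT : R ≤ T := zpowers_le.2 y.2
  have hRE : R ≤ E := hRT.trans hT.1
  have hRr : IsPGroup r R := IsPGroup.of_card (n := 1) (by rw [hR, pow_one])
  have hRM : R ≤ M := hRE.trans h.hE.1
  have hRL : R ≤ L := hRE.trans h.compl_le_L
  have hRQ : R ≤ normalizer (Q : Set G) := hRE.trans hEQ
  have hRP := h.prime_centralizes hτr hRE hR
  by_cases hRQC : R ≤ centralizer (Q : Set G)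
  · exact le_centralizer_iff.1 ((le_inf (hQ.1.trans inf_le_left) (le_centralizer_iff.1 hRQC)).trans
      (prime_action hG hM hrσ hτr.2.2.2.2 hT.2.1 (hT.1.trans h.hE.1) hRT hR))
  exfalso
  have htr' : r ≠ t := fun e => hrσ (e ▸ htM)
  have hdisj : K ⊓ Cfsg.sigmaCore L = ⊥ := Grp.inf_eq_bot_of_coprime (Nat.coprime_of_dvd fun s hs h1 h2 => by
    haveI := Fact.mk hs
    exact h.not_shared (TransHyp.piCoreOf_primes (π := Cfsg.sigma M) (X := M) hs h1)
      (TransHyp.piCoreOf_primes (π := Cfsg.sigma L) (X := L) hs h2))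
  have hrL : r ∉ Cfsg.sigma L := fun hσ => by
    obtain ⟨U, hU, hRU⟩ := exists_sylowIn_ge hRL hRr
    refine hRQC (le_centralizer_iff.1 (commutator_eq_bot_iff_le_centralizer.1 ?_))
    rw [eq_bot_iff, ← hdisj]
    refine le_inf ((Grp.commutator_le_left_of_le_normalizer hRQ).trans (hQ.1.trans inf_le_left)) ?_
    rw [commutator_comm]
    exact (Subgroup.commutator_mono (hRU.trans (sylow_le_piCore hG hL (alpha_subset_sigma hG hL) le_rfl hσ hU)) hQL).trans
      (Grp.commutator_le_left_of_le_normalizer (TransHyp.le_normalizer_piCoreOf L))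
  obtain ⟨hτrL, htD⟩ := tau1_of_moves hG hL hRL hR hQL hQ.2.1 hrL htL htr' hRQ hRQC
  obtain ⟨z, hz⟩ := exists_prime_orderOf_dvd_card' (G := Q) t (dvd_card_of_pGroup hQ.2.1 hQ1)
  set X := zpowers (z : G) with hXdef
  have hXc : Nat.card X = t := by rw [hXdef, Nat.card_zpowers, Subgroup.orderOf_coe, hz]
  have hXQ : X ≤ Q := zpowers_le.2 z.2
  have hRX : ¬ R ≤ centralizer (X : Set G) := by
    intro hc
    obtain ⟨hYt, -, hYQ⟩ := comm_facts hQ.2.1 hRQ
    obtain ⟨w, hw⟩ := exists_prime_orderOf_dvd_card' (G := (⁅Q, R⁆ : Subgroup G)) t (dvd_card_of_pGroup hYt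
      fun e => hRQC (le_centralizer_iff.1 (commutator_eq_bot_iff_le_centralizer.1 e)))
    have hwc : Nat.card (zpowers (w : G)) = t := by rw [Nat.card_zpowers, Subgroup.orderOf_coe, hw]
    have he := eq_of_card_cyclic hQc hXQ ((zpowers_le.2 w.2).trans hYQ) (hXc.trans hwc.symm)
    have h1 : X ≤ (Q ⊓ centralizer (R : Set G)) ⊓ ⁅Q, R⁆ :=
      le_inf (le_inf hXQ (le_centralizer_iff.1 hc)) (he ▸ zpowers_le.2 w.2)
    rw [Grp.abelian_commutator_inf_fixed R Q hRQ (coprime_O htr' hRr hQ.2.1), le_bot_iff] at h1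
    rw [h1, Subgroup.card_bot] at hXc
    exact ht.out.ne_one hXc.symm
  have hXL : X ≤ L := hXQ.trans hQL
  have hXW : X ≤ W := hXQ.trans hQ.1
  have hXt : IsPGroup t X := hQ.2.1.to_le hXQ
  have hRXn : R ≤ normalizer (X : Set G) := by
    refine fun a ha => Grp.mem_normalizer_iff_smul.2 (eq_of_card_cyclic hQc ?_ hXQ (by rw [Grp.card_conj_smul]))
    exact (Subgroup.pointwise_smul_le_pointwise_smul_iff.2 hXQ).trans (Grp.mem_normalizer_iff_smul.1 (hRQ ha)).le
  obtain ⟨E', hE', hle⟩ := exists_compl_ge hG hL (sup_le hRL hXL : R ⊔ X ≤ L) fun q hq hd => by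
    rcases hq.dvd_mul.1 (hd.trans (Grp.card_sup_dvd_mul hRXn)) with h' | h'
    · rw [eq_of_dvd_pGroup hRr hq h']; exact hrL
    · rw [eq_of_dvd_pGroup hXt hq h']; exact htL
  have hX1 : X ≠ ⊥ := fun e => ht.out.ne_one (hXc.symm.trans (by rw [e, Subgroup.card_bot]))
  obtain ⟨L₁, hL₁, hNX⟩ := exists_coatom_normalizer hG hX1 fun e => hL.1 (top_le_iff.1 (e ▸ hXL))
  have hP1 : P ≠ ⊥ := fun e => hp.out.ne_one (h.hP.symm.trans (by rw [e, Subgroup.card_bot]))
  have h' : Irregular L E' L₁ t X :=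
    { hG := hG, hM := hL, hE := hE', hτ := ⟨ht.out, htL, htD, htr⟩, hPE := le_sup_right.trans hle, hP := hXc,
      hfix := fun e => hP1 (le_bot_iff.1 (e ▸ le_inf h.P_le_sigmaCore
        (le_centralizer_iff.1 (hXW.trans (h.meet_eq.le.trans inf_le_right)))))
      hL := hL₁, hNL := hNX }
  exact hRX (h'.prime_centralizes hτrL (le_sup_left.trans hle) hR)

end Irregular

end Cfsg.Agent.Transfer.Loc
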