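import Cfsg.Agent.Lib.Transfer.Local.TauThreeBasics

/-!
A `τ₃`-subgroup of prime order with nontrivial fixed points: first consequences.
-/

set_option autoImplicit false
set_option linter.style.haveILetI false
set_option linter.unusedSectionVars false
set_option maxHeartbeats 1000000

namespace Cfsg.Agent.Transfer.Loc

open Subgroup
open scoped commutatorElement Pointwise

universe u

variable {G : Type u} [Group G] [Finite G]

/-- An operator moving a subgroup of prime order gives it as commutator. -/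
theorem comm_eq_of_moves {p : ℕ} [hp : Fact p.Prime] {P R : Subgroup G} (hP : Nat.card P = p)
    (hRP : R ≤ normalizer (P : Set G)) (hne : ¬ R ≤ centralizer (P : Set G)) : ⁅P, R⁆ = P := by
  have hle := Grp.commutator_le_left_of_le_normalizer hRP
  refine Subgroup.eq_of_le_of_card_ge hle ?_
  rcases (Nat.dvd_prime hp.out).1 (hP ▸ card_dvd_of_le hle) with h | h
  · exact absurd (le_centralizer_iff.1 (commutator_eq_bot_iff_le_centralizer.1 (Subgroup.card_eq_one.1 h))) hne
  · rw [h, hP]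

/-- A `τ₃`-subgroup `P` of prime order in a complement `E` with fixed points in `M_σ`, and `L ⊇ N(P)` maximal. -/
structure Irregular (M E L : Subgroup G) (p : ℕ) (P : Subgroup G) : Prop where
  hG : Cfsg.IsMinSimpleOddOrder G
  hM : IsCoatom M
  hE : Cfsg.IsComplIn E (Cfsg.sigmaCore M) M
  hτ : p ∈ Cfsg.tau3 M
  hPE : P ≤ E
  hP : Nat.card P = p
  hfix : Cfsg.sigmaCore M ⊓ centralizer (P : Set G) ≠ ⊥
  hL : IsCoatom L
  hNL : normalizer (P : Set G) ≤ L

namespace Irregular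

variable {M E L P : Subgroup G} {p : ℕ} [hp : Fact p.Prime] (h : Irregular M E L p P)
include h

theorem derived : P ≤ ⁅E, E⁆ ∧ E ≤ normalizer (P : Set G) :=
  tau3_normal h.hG h.hM h.hE h.hτ.2.1 h.hτ.2.2.2 h.hτ.2.2.1 h.hPE h.hP

theorem compl_le_L : E ≤ L := h.derived.2.trans h.hNL

theorem centralizer_le_L : centralizer (P : Set G) ≤ L := (centralizer_le_normalizer _).trans h.hNL

theorem P_le_L : P ≤ L := h.hPE.trans h.compl_le_L

theorem not_conj : ∀ g : G, L ≠ MulAut.conj g • M :=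
  rank_one_not_conj h.hG h.hM h.hτ.2.1 h.hτ.2.2.2 h.hP h.hNL

theorem not_conj' : ∀ g : G, M ≠ MulAut.conj g • L := fun g e => h.not_conj g⁻¹ (by
  rw [e, Grp.conj_smul_conj_smul, inv_mul_cancel, map_one, one_smul])

theorem ne_L : L ≠ M := fun e => h.not_conj 1 (by rw [map_one, one_smul]; exact e)

theorem sigma_or : p ∈ Cfsg.sigma L ∨ p ∈ Cfsg.tau2 L := sigma_or_tau2 h.hG h.hP h.hL h.hNL

theorem plane_L (hτ2 : p ∈ Cfsg.tau2 L) :
    ∃ A : Subgroup G, A ≤ L ∧ P ≤ A ∧ Cfsg.IsElementaryAbelian p A ∧ Nat.card A = p ^ 2 := by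
  obtain ⟨-, -, A, hA, hA2, hPA⟩ := normalizer_prime_order h.hG h.hL hτ2.2.1 h.hP h.hNL
  exact ⟨A, ((le_centralizer_iff_isMulCommutative.2 hA.1).trans (Subgroup.centralizer_le hPA)).trans h.centralizer_le_L,
    hPA, hA, hA2⟩

/-- A normal subgroup of `L` containing `P` for the primes of `σ(L)` and `p`. -/
theorem normal_over : ∃ N : Subgroup G, L ≤ normalizer (N : Set G) ∧ P ≤ N ∧
    ∀ s : ℕ, s.Prime → s ∣ Nat.card N → s ∈ Cfsg.sigma L ∨ s = p := by
  haveI := solvable_of_ne_top h.hG h.hL.1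
  rcases h.sigma_or with hσ | hτ2
  · obtain ⟨S, hS, hPS⟩ := exists_sylowIn_ge h.P_le_L (IsPGroup.of_card (n := 1) (by rw [h.hP, pow_one]) : IsPGroup p P)
    exact ⟨_, TransHyp.le_normalizer_piCoreOf L,
      hPS.trans (sylow_le_piCore h.hG h.hL (alpha_subset_sigma h.hG h.hL) le_rfl hσ hS),
      fun s hs hd => Or.inl (TransHyp.piCoreOf_primes (π := Cfsg.sigma L) (X := L) hs hd)⟩
  · obtain ⟨A, hAL, hPA, hA, hA2⟩ := h.plane_L hτ2
    refine ⟨Cfsg.sigmaCore L ⊔ A, (Cfsg.Agent.S1417.result h.hG L h.hL p hτ2 A ⟨hAL, hA, hA2⟩).2.2.1,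
      hPA.trans le_sup_right, fun s hs hd => ?_⟩
    rw [sup_comm] at hd
    rcases hs.dvd_mul.1 (hd.trans (Grp.card_sup_dvd_mul (hAL.trans (TransHyp.le_normalizer_piCoreOf L)))) with h' | h'
    · exact Or.inr (eq_of_dvd_pGroup (Grp.elemAb_isPGroup hA) hs h')
    · exact Or.inl (TransHyp.piCoreOf_primes (π := Cfsg.sigma L) (X := L) hs h')

/-- `M_σ ∩ L = C_{M_σ}(P)`. -/
theorem meet_eq : Cfsg.sigmaCore M ⊓ L = Cfsg.sigmaCore M ⊓ centralizer (P : Set G) := by
  refine le_antisymm (le_inf inf_le_left ?_) (le_inf inf_le_left (inf_le_right.trans h.centralizer_le_L))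
  haveI := solvable_of_ne_top h.hG h.hM.1
  obtain ⟨N, hLN, hPN, hNp⟩ := h.normal_over
  set K := Cfsg.sigmaCore M ⊓ L with hK
  set J := Cfsg.sigmaCore M ⊓ N with hJ
  have hMσ : M ≤ normalizer (Cfsg.sigmaCore M : Set G) := TransHyp.le_normalizer_piCoreOf M
  have hEJ : E ≤ normalizer (J : Set G) := le_normalizer_inf' (h.hE.1.trans hMσ) (h.compl_le_L.trans hLN)
  have hJC : J ≤ centralizer (P : Set G) := by
    refine (Grp.le_of_forall_sylow (inf_le_left : J ⊓ _ ≤ J) fun t ht => ?_).trans inf_le_right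
    haveI := isSolvable_of_le h.hE.1
    obtain ⟨S, hS, hES⟩ := Grp.exists_invariant_sylow E J hEJ
      ((compl_coprime h.hG h.hM h.hE).coprime_dvd_right (card_dvd_of_le inf_le_left)) (Or.inl inferInstance) t
    refine ⟨S, hS, le_inf hS.1 ?_⟩
    rcases eq_or_ne S ⊥ with h0 | h0
    · rw [h0]; exact bot_le
    have hd := (dvd_card_of_pGroup hS.2.1 h0).trans (card_dvd_of_le hS.1)
    have htM : t ∈ Cfsg.sigma M :=
      TransHyp.piCoreOf_primes (π := Cfsg.sigma M) (X := M) ht.out (hd.trans (card_dvd_of_le inf_le_left))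
    have htL : t ∈ Cfsg.sigma L := (hNp t ht.out (hd.trans (card_dvd_of_le inf_le_right))).resolve_right
      fun e => h.hτ.2.1 (e ▸ htM)
    have htβ : t ∉ Cfsg.beta M := fun hβ =>
      not_alpha_of_sigma h.hG h.hL h.hM h.not_conj' htL (beta_subset hβ)
    exact le_centralizer_iff.1
      (h.derived.1.trans (derived_centralizes h.hG h.hM h.hE htβ hS.2.1 (hS.1.trans inf_le_left) hES))
  refine le_centralizer_iff.1 (Grp.le_centralizer_of_series P K J ?_ ?_ (Or.inl ?_) ?_ ?_)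
  · exact le_normalizer_inf' ((h.hPE.trans h.hE.1).trans hMσ) (h.P_le_L.trans le_normalizer)
  · exact ((compl_coprime h.hG h.hM h.hE).coprime_dvd_left (card_dvd_of_le h.hPE)).coprime_dvd_right
      (card_dvd_of_le inf_le_left)
  · exact isSolvable_of_le (h.hPE.trans h.hE.1)
  · exact le_inf ((Subgroup.commutator_mono inf_le_left le_rfl).trans
        (Grp.commutator_le_left_of_le_normalizer ((h.hPE.trans h.hE.1).trans hMσ)))
      ((Subgroup.commutator_mono inf_le_right hPN).trans (by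
        rw [commutator_comm]; exact Grp.commutator_le_left_of_le_normalizer hLN))
  · exact commutator_eq_bot_iff_le_centralizer.2 hJC

theorem meet_ne : Cfsg.sigmaCore M ⊓ L ≠ ⊥ := by rw [h.meet_eq]; exact h.hfix

/-- `τ₂(M)` is empty. -/
theorem tau2_empty (s : ℕ) (hs : s.Prime) : s ∉ Cfsg.tau2 M := by
  haveI := Fact.mk hs
  intro hτ2
  haveI := solvable_of_ne_top h.hG h.hL.1
  obtain ⟨T, hT⟩ := Grp.exists_isSylowIn s E
  obtain ⟨A, hAT, hA, hA2⟩ := tau2_plane h.hG h.hM h.hE hτ2 hT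
  have hAE : A ≤ E := hAT.trans hT.1
  obtain ⟨A₀, hexc⟩ := exists_exc h.hG h.hM (hAE.trans h.hE.1) hA hA2 hτ2.2.1
  have hsp : ¬ s ∣ Nat.card P := fun hd => hτ2.2.2.2 (by
    rw [h.hP] at hd; rw [(Nat.prime_dvd_prime_iff_eq hs hp.out).1 hd]; exact h.hτ.2.2.2)
  have hAL : A ≤ L := (le_centralizer_iff.1 (derived_centralizes_plane h.hG h.hM h.hE hτ2 hAE hA hA2 h.derived.1 hsp)).trans
    h.centralizer_le_L
  set W := Cfsg.sigmaCore M ⊓ L with hW
  have hAW : A ≤ normalizer (W : Set G) := le_normalizer_inf'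
    ((hAE.trans h.hE.1).trans (TransHyp.le_normalizer_piCoreOf M)) (hAL.trans le_normalizer)
  have hWA : W ≤ centralizer (A : Set G) := by
    by_cases hsL : s ∈ Cfsg.sigma L
    · obtain ⟨S, hS, hAS⟩ := exists_sylowIn_ge hAL (Grp.elemAb_isPGroup hA)
      have hALσ : A ≤ Cfsg.sigmaCore L :=
        hAS.trans (sylow_le_piCore h.hG h.hL (alpha_subset_sigma h.hG h.hL) le_rfl hsL hS)
      have hbot : Cfsg.sigmaCore M ⊓ Cfsg.sigmaCore L = ⊥ :=
        Grp.inf_eq_bot_of_coprime (Nat.coprime_of_dvd fun r hr h1 h2 => by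
          haveI := Fact.mk hr
          exact sigma_disjoint h.hG h.hL h.hM h.not_conj' hexc.nilpotent
            (TransHyp.piCoreOf_primes (π := Cfsg.sigma L) (X := L) hr h2)
            (TransHyp.piCoreOf_primes (π := Cfsg.sigma M) (X := M) hr h1))
      refine le_centralizer_iff.1 (commutator_eq_bot_iff_le_centralizer.1 (le_bot_iff.1 (hbot ▸ le_inf ?_ ?_)))
      · rw [commutator_comm]
        exact (Grp.commutator_le_left_of_le_normalizer hAW).trans inf_le_left
      · exact (Subgroup.commutator_mono hALσ inf_le_right).trans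
          (Grp.commutator_le_left_of_le_normalizer (TransHyp.le_normalizer_piCoreOf L))
    · have hτ2L : s ∈ Cfsg.tau2 L := tau2_of_not_rank_one h.hG h.hL hsL
        (not_prank_of_elem hAL hA hA2.ge)
      obtain ⟨E', hE', hle⟩ := exists_compl_ge h.hG h.hL (sup_le inf_le_right hAL : W ⊔ A ≤ L) fun r hr hd => by
        haveI := Fact.mk hr
        rw [sup_comm] at hd
        rcases hr.dvd_mul.1 (hd.trans (Grp.card_sup_dvd_mul hAW)) with h' | h'
        · rw [eq_of_dvd_pGroup (Grp.elemAb_isPGroup hA) hr h']; exact hsL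
        · exact fun hrL => sigma_disjoint h.hG h.hL h.hM h.not_conj' hexc.nilpotent hrL
            (TransHyp.piCoreOf_primes (π := Cfsg.sigma M) (X := M) hr (h'.trans (card_dvd_of_le inf_le_left)))
      obtain ⟨⟨hEA, -⟩, -⟩ := Cfsg.Agent.S1418.result h.hG L h.hL E' hE' s hτ2L A ⟨le_sup_right.trans hle, hA, hA2⟩
      exact commute_of_coprime ((le_sup_left.trans hle).trans hEA) hAW
        ((compl_coprime h.hG h.hM h.hE).symm.coprime_dvd_left (card_dvd_of_le inf_le_left) |>.coprime_dvd_right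
          (card_dvd_of_le hAE))
  exact h.meet_ne (le_bot_iff.1 (hexc.fixed_plane ▸ le_inf inf_le_left hWA))

theorem rank_one {s : ℕ} [hs : Fact s.Prime] (hσ : s ∉ Cfsg.sigma M) : Cfsg.PRankLE s 1 M :=
  rank_one_of_not_tau2 h.hG h.hM hσ (h.tau2_empty s hs.out)

/-- A subgroup moving `P` whose fixed points lie in `L` is impossible. -/
theorem trick {r : ℕ} [hr : Fact r.Prime] {R : Subgroup G} (hRE : R ≤ E) (hR : Nat.card R = r)
    (hmove : ¬ R ≤ centralizer (P : Set G)) (hfixL : Cfsg.sigmaCore M ⊓ centralizer (R : Set G) ≤ L) : False := by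
  have hMσ : M ≤ normalizer (Cfsg.sigmaCore M : Set G) := TransHyp.le_normalizer_piCoreOf M
  have hpr : p ≠ r := by
    intro e
    subst e
    refine hmove ?_
    have h1 : IsPGroup p ↥(P ⊔ R) := (IsPGroup.of_card (n := 1) (by rw [h.hP, pow_one])).to_sup_of_normal_left'
      (IsPGroup.of_card (n := 1) (by rw [hR, pow_one])) (hRE.trans h.derived.2)
    rw [eq_of_card_cyclic (cyclic_of_rank_one h.hG h1 (sup_le (h.hPE.trans h.hE.1) (hRE.trans h.hE.1)) h.hτ.2.2.2)
      le_sup_right le_sup_left (by rw [hR, h.hP])]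
    exact le_centralizer_self h.hP
  haveI := solvable_of_ne_top h.hG h.hM.1
  have hc : P ≤ centralizer (Cfsg.sigmaCore M : Set G) := centralizes_of_fixed_group h.hG hpr hR
    (IsPGroup.of_card (n := 1) (by rw [h.hP, pow_one])) (hRE.trans h.derived.2)
    (comm_eq_of_moves h.hP (hRE.trans h.derived.2) hmove) ((hRE.trans h.hE.1).trans hMσ)
    ((h.hPE.trans h.hE.1).trans hMσ) (fun s hs hd => by
      have hsσ := TransHyp.piCoreOf_primes (π := Cfsg.sigma M) (X := M) hs hd
      exact ⟨fun e => h.hτ.2.1 (e ▸ hsσ), fun e => compl_prime h.hG h.hM h.hE hr.out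
        (hR ▸ card_dvd_of_le hRE) (e ▸ hsσ)⟩)
    (isSolvable_of_le (sup_le (h.hPE.trans h.hE.1) (hRE.trans h.hE.1)))
    ((le_inf inf_le_left hfixL).trans (h.meet_eq.le.trans inf_le_right))
  exact not_centralizes_sigma h.hG h.hM h.hτ.2.1 (h.tau2_empty p hp.out)
    (h.derived.1.trans (Subgroup.commutator_mono h.hE.1 h.hE.1)) h.hP hc

/-- Some subgroup of a `τ₁`-prime moves `P`. -/
theorem mover : ∃ (r : ℕ) (_ : Fact r.Prime) (T R : Subgroup G), r ∈ Cfsg.tau1 M ∧ IsPGroup r T ∧ T ≤ E ∧ R ≤ T ∧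
    Nat.card R = r ∧ ¬ T ≤ centralizer (P : Set G) :=
  exists_tau1_mover h.hG h.hM h.hE h.hτ.2.1 h.hτ.2.2.2 h.hτ.2.2.1 h.hPE h.hP h.tau2_empty

end Irregular

end Cfsg.Agent.Transfer.Loc
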