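import Cfsg.Agent.Lib.Transfer.Local.TauThreeSigma

/-!
`σ(M)` and `σ(L)` share no prime for an irregular `τ₃`-subgroup with `L ⊇ N(P)`.
-/

set_option autoImplicit false
set_option linter.style.haveILetI false
set_option linter.unusedSectionVars false
set_option maxHeartbeats 1000000

namespace Cfsg.Agent.Transfer.Loc

open Subgroup
open scoped commutatorElement Pointwise

universe u

variable {G : Type u} [Group G] [Finite G]

/-- A normal `p`-complement of `M_σ` as a core. -/
theorem sigmaCore_le_O'_sup (hG : Cfsg.IsMinSimpleOddOrder G) {M : Subgroup G} (hM : IsCoatom M) {p : ℕ}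
    [hp : Fact p.Prime] (hσ : p ∈ Cfsg.sigma M) (hβ : p ∉ Cfsg.beta M) {S : Subgroup G} (hS : Grp.IsSylowIn p S M) :
    Cfsg.sigmaCore M ≤ O' p (Cfsg.sigmaCore M) ⊔ S := by
  set K := Cfsg.sigmaCore M
  have hSK : S ≤ K := sylow_le_piCore hG hM (alpha_subset_sigma hG hM) le_rfl hσ hS
  obtain ⟨N, hN, hNd, k, hk⟩ := hasNormalPComplement_iff_exists.1
    ((Cfsg.Agent.S1414.result hG M hM).2.2.2.2 p hp.out hσ.2.1 hβ).2.1
  haveI := hN
  have hle : N ≤ Cfsg.pPrimeCore p ↥K := Grp.le_pPrimeCore hN (hp.out.coprime_iff_not_dvd.2 hNd).symm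
  set S' := S.subgroupOf K
  have htop : N ⊔ S' = ⊤ := by
    rw [← Subgroup.index_eq_one]
    obtain ⟨j, -, hj⟩ := (Nat.dvd_prime_pow hp.out).1 (hk ▸ Subgroup.index_dvd_of_le (le_sup_left : N ≤ N ⊔ S'))
    rcases Nat.eq_zero_or_pos j with rfl | hj0
    · rw [hj, pow_zero]
    exfalso
    have h1 : p ∣ S'.index := by
      refine dvd_trans ?_ (Subgroup.index_dvd_of_le (le_sup_right : S' ≤ N ⊔ S'))
      rw [hj]; exact dvd_pow_self p hj0.ne'
    refine hS.2.2 (h1.trans ?_)
    rw [← Subgroup.relIndex_mul_relIndex S K M hSK (TransHyp.piCoreOf_le M)]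
    exact dvd_mul_right _ _
  have h := map_mono (f := K.subtype) (htop.ge.trans (sup_le_sup_right hle S'))
  rwa [← MonoidHom.range_eq_map, range_subtype, Subgroup.map_sup, ← O'_eq, map_subgroupOf_eq_of_le hSK] at h

variable {M E L P : Subgroup G} {p : ℕ} [hp : Fact p.Prime] (h : Irregular M E L p P)
include h

theorem Irregular.not_shared {t : ℕ} [ht : Fact t.Prime] (htM : t ∈ Cfsg.sigma M) : t ∉ Cfsg.sigma L := by
  intro htL
  have hG := h.hG
  have hM := h.hM
  have hL := h.hL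
  haveI := solvable_of_ne_top hG hM.1
  haveI := solvable_of_ne_top hG hL.1
  haveI := isSolvable_of_le h.hE.1
  have htβ : t ∉ Cfsg.beta M := fun hβ => not_alpha_of_sigma hG hL hM h.not_conj' htL (beta_subset hβ)
  have hnil : ¬ Group.IsNilpotent (Cfsg.sigmaCore L) := fun hn => sigma_disjoint hG hM hL h.not_conj hn htM htL
  set K := Cfsg.sigmaCore M with hK
  have hKM : K ≤ M := TransHyp.piCoreOf_le M
  have hMK : M ≤ normalizer (K : Set G) := TransHyp.le_normalizer_piCoreOf M
  obtain ⟨S, hSK, hES⟩ := Grp.exists_invariant_sylow E K (h.hE.1.trans hMK) (compl_coprime hG hM h.hE)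
    (Or.inl inferInstance) t
  obtain ⟨S₁, hS₁⟩ := Grp.exists_isSylowIn t M
  obtain ⟨k, hk, e⟩ := (sigmaCore_sylow hG hM htM hS₁).conj hSK
  have hS : Grp.IsSylowIn t S M := e ▸ hS₁.smul (Grp.mem_normalizer_iff_smul.1 (le_normalizer (hKM hk)))
  have hS1 : S ≠ ⊥ := sylow_ne_bot_of_dvd hS htM.2.1
  have hSM : S ≤ M := hS.1
  have hPS : P ≤ centralizer (S : Set G) := h.derived.1.trans (derived_centralizes hG hM h.hE htβ hS.2.1 hSK.1 hES)
  have hSL : S ≤ L := (le_centralizer_iff.1 hPS).trans h.centralizer_le_L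
  have hSab : IsMulCommutative S := by
    by_contra hna
    exact h.ne_L ((Cfsg.Agent.S1422.result hG t S hS.2.1 hna).unique ⟨hL, hSL⟩ ⟨hM, hSM⟩)
  have hprivate : ∀ (r : ℕ) [Fact r.Prime] (R : Subgroup G), r ∈ Cfsg.tau1 M → R ≤ M → Nat.card R = r →
      ∀ Y : Subgroup G, IsPGroup t Y → Y ≤ K ⊓ centralizer (R : Set G) → Y = ⊥ := by
    intro r _ R hτ hRM hR Y hY hYK
    by_contra hY1
    obtain ⟨z, hz⟩ := exists_prime_orderOf_dvd_card' (G := Y) t (dvd_card_of_pGroup hY hY1)
    exact tau1_private hG hM hτ hRM hR (X := zpowers (z : G)) (q := t)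
      (by rw [Nat.card_zpowers, Subgroup.orderOf_coe, hz]) ((zpowers_le.2 z.2).trans hYK) hL h.not_conj htL
  obtain ⟨r, hr, T, hT, hTS⟩ : ∃ (r : ℕ) (_ : Fact r.Prime) (T : Subgroup G), Grp.IsSylowIn r T E ∧
      ¬ T ≤ centralizer (S : Set G) := by
    by_contra hno
    push Not at hno
    have hEC : E ≤ centralizer (S : Set G) := (Grp.le_of_forall_sylow (inf_le_left : E ⊓ _ ≤ E) fun r hr => by
      obtain ⟨T, hT⟩ := Grp.exists_isSylowIn r E
      exact ⟨T, hT, le_inf hT.1 (hno r hr T hT)⟩).trans inf_le_right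
    have h1 := (le_inf ((le_inf hSK.1 (le_centralizer_iff.1 hEC)).trans (centralizer_compl_le hG hM h.hE)) le_rfl).trans
      (sigma_derived_inf_sylow hG hM htM htβ hS)
    rw [commutator_eq_bot_iff_le_centralizer.2 (le_centralizer_iff_isMulCommutative.2 hSab)] at h1
    exact hS1 (le_bot_iff.1 h1)
  haveI := hr
  have hTD : ¬ T ≤ ⁅E, E⁆ := fun hle => hTS (hle.trans (derived_centralizes hG hM h.hE htβ hS.2.1 hSK.1 hES))
  have hT1 : T ≠ ⊥ := fun e => hTS (e ▸ bot_le)
  have hrσ := compl_prime hG hM h.hE hr.out ((dvd_card_of_pGroup hT.2.1 hT1).trans (card_dvd_of_le hT.1))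
  have hτr := tau1_of_not_le_derived hG hM h.hE hT.2.1 hT.1 hTD (h.rank_one hrσ)
  obtain ⟨z, hz⟩ := exists_prime_orderOf_dvd_card' (G := T) r (dvd_card_of_pGroup hT.2.1 hT1)
  set R := zpowers (z : G) with hRdef
  have hR : Nat.card R = r := by rw [hRdef, Nat.card_zpowers, Subgroup.orderOf_coe, hz]
  have hRE : R ≤ E := (zpowers_le.2 z.2).trans hT.1
  have hRr : IsPGroup r R := IsPGroup.of_card (n := 1) (by rw [hR, pow_one])
  have hRM : R ≤ M := hRE.trans h.hE.1
  have hRL : R ≤ L := hRE.trans h.compl_le_L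
  have hRS : R ≤ normalizer (S : Set G) := hRE.trans hES
  have htr : r ≠ t := fun e => hrσ (e ▸ htM)
  have hfix0 : S ⊓ centralizer (R : Set G) = ⊥ :=
    hprivate r R hτr hRM hR _ (hS.2.1.to_le inf_le_left) (inf_le_inf_right _ hSK.1)
  have hSR : ⁅S, R⁆ = S := by
    have h1 := Grp.commutator_sup_fixed R S hRS (coprime_O htr hRr hS.2.1) (Or.inl (isSolvable_of_le hRM))
    rwa [hfix0, sup_bot_eq] at h1
  set V := K ⊓ centralizer (R : Set G) with hV
  have hVL : V ≤ L := by
    by_cases hRP : R ≤ centralizer (P : Set G)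
    · exact (le_centralizer_iff.1 ((le_centralizer_iff.1
        (cent_tau1 hG hM hτr hRM hR (h.hPE.trans h.hE.1) h.hP (le_centralizer_iff.1 hRP) h.hτ.2.1)))).trans
        h.centralizer_le_L
    · have hrD : ¬ r ∣ Nat.card ↥⁅L, L⁆ ∨ ¬ Cfsg.PRankLE r 1 L := by
        by_contra hc
        push Not at hc
        exact hS1 (kills hG hM hL h.not_conj htM htr hS.2.1 hRr hSL
          (le_derived_of_rank_one hG hc.2 hc.1 hRL hRr) hRS hSR)
      have hrL : r ∉ Cfsg.sigma L := fun hσ => by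
        obtain ⟨U, hU, hRU⟩ := exists_sylowIn_ge hRL hRr
        exact hS1 (kills hG hM hL h.not_conj htM htr hS.2.1 hRr hSL (hRU.trans (sylow_le_derived hG hL hσ hU)) hRS hSR)
      have hrk : Cfsg.PRankLE r 1 L := by
        by_contra hc
        obtain ⟨A, A₀, hexc⟩ := tau2_exc hG hL (tau2_of_not_rank_one hG hL hrL hc)
        exact hnil hexc.nilpotent
      have hτrL : r ∈ Cfsg.tau1 L :=
        ⟨hr.out, hrL, hR ▸ card_dvd_of_le hRL, hrD.resolve_right (fun hc => hc hrk), hrk⟩
      have hfix : Cfsg.sigmaCore L ⊓ centralizer (R : Set G) ≠ ⊥ := fun e => hnil (by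
        refine Grp.isNilpotent_of_fpf (p := r) (b := (z : G)) ?_
          (TransHyp.le_normalizer_piCoreOf L (hRL (mem_zpowers _))) ?_
        · rw [← hz, ← Subgroup.orderOf_coe, pow_orderOf_eq_one]
        · rwa [Grp.centralizer_singleton_eq_zpowers])
      obtain ⟨z', hz', hzp⟩ := Grp.exists_prime_order_mem hfix
      haveI := Fact.mk hzp
      exact cross_into hG hM hL h.not_conj h.hE h.compl_le_L hτr hτrL hRE hR (zpowers_le.2 hz')
        (by rw [Nat.card_zpowers])
  -- the meet of the cores is nilpotent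
  set J := K ⊓ Cfsg.sigmaCore L with hJ
  have hJnil : Group.IsNilpotent J := beta_nilpotent hG hM (inf_le_left.trans (sigmaCore_le_derived hG hM))
    fun q hq hd hβ => by
      haveI := Fact.mk hq
      exact not_alpha_of_sigma hG hL hM h.not_conj' (TransHyp.piCoreOf_primes (π := Cfsg.sigma L) (X := L) hq
        (hd.trans (card_dvd_of_le inf_le_right))) (beta_subset hβ)
  have hSJ : Grp.IsSylowIn t S J := by
    obtain ⟨U, hU, hSU⟩ := exists_sylowIn_ge hSL hS.2.1
    have hle : S ≤ J := le_inf hSK.1 (hSU.trans (sylow_le_piCore hG hL (alpha_subset_sigma hG hL) le_rfl htL hU))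
    refine ⟨hle, hS.2.1, fun hd => hS.2.2 ?_⟩
    rw [← Subgroup.relIndex_mul_relIndex S J M hle (inf_le_left.trans hKM)]
    exact hd.mul_right _
  have hmeet : M ⊓ L ≤ normalizer (S : Set G) :=
    (le_normalizer_inf' (inf_le_left.trans hMK) (inf_le_right.trans (TransHyp.le_normalizer_piCoreOf L))).trans
      (normalizer_le_sylow hJnil hSJ)
  have hVS : V ≤ centralizer (S : Set G) := by
    refine (Grp.le_of_forall_sylow (inf_le_left : V ⊓ _ ≤ V) fun s hs => ?_).trans inf_le_right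
    obtain ⟨Y, hY⟩ := Grp.exists_isSylowIn s V
    refine ⟨Y, hY, le_inf hY.1 ?_⟩
    by_cases hst : s = t
    · subst hst
      rw [hprivate r R hτr hRM hR Y hY.2.1 hY.1]; exact bot_le
    · exact derived_comm hG hM hst hS.2.1 hY.2.1 (sylow_le_derived hG hM htM hS)
        ((hY.1.trans inf_le_left).trans (sigmaCore_le_derived hG hM))
        ((hY.1.trans (le_inf (inf_le_left.trans hKM) hVL)).trans hmeet) htβ
  set N := O' t K with hN
  have hNK : N ≤ K := O'_le t K
  have hMN : M ≤ normalizer (N : Set G) := le_normalizer_core hMK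
  have hSC : S ≤ centralizer (N : Set G) := centralizes_of_fixed_group hG htr.symm hR hS.2.1 hRS hSR
    (hRM.trans hMN) (hSM.trans hMN)
    (fun q hq hd => ⟨fun e => ht.out.ne_one
      (Nat.eq_one_of_dvd_coprimes (O'_coprime (r := t) K) ((dvd_of_eq e.symm).trans hd) dvd_rfl),
      fun e => hrσ (e ▸ TransHyp.piCoreOf_primes (π := Cfsg.sigma M) (X := M) hq (hd.trans (card_dvd_of_le hNK)))⟩)
    (isSolvable_of_le (sup_le hSM hRM)) ((inf_le_inf_right _ hNK).trans hVS)
  have hMS : M ≤ normalizer (S : Set G) := by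
    rw [← compl_sup h.hE]
    refine sup_le hES ((sigmaCore_le_O'_sup hG hM htM htβ hS).trans (sup_le ?_ le_normalizer))
    exact (le_centralizer_iff.1 hSC).trans (centralizer_le_normalizer _)
  have hSL' : Grp.IsSylowIn t S L := by
    refine ⟨hSL, hS.2.1, fun hd => (sigma_sylow hG hM htM hS).2 (hd.trans ?_)⟩
    exact Subgroup.relIndex_dvd_index_of_le hSL
  have hle : M ≤ L := hMS.trans (sigma_sylow hG hL htL hSL').1
  rcases hM.le_iff.1 hle with h' | h'
  · exact hL.1 h'
  · exact h.ne_L h'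

end Cfsg.Agent.Transfer.Loc
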