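import Cfsg.Agent.Lib.Transfer.Local.TauThreeSetup
import Cfsg.Agent.S1419
import Cfsg.Agent.S1446

/-!
For an irregular `τ₃`-subgroup `P` its prime lies in `σ(L)`, `L ⊇ N(P)`.
-/

set_option autoImplicit false
set_option linter.style.haveILetI false
set_option linter.unusedSectionVars false
set_option maxHeartbeats 2000000

namespace Cfsg.Agent.Transfer.Loc

open Subgroup
open scoped commutatorElement Pointwise

universe u

variable {G : Type u} [Group G] [Finite G]

/-- The fixed line of an operator on a plane. -/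
theorem plane_fixed_line {p : ℕ} [hp : Fact p.Prime] {A P X : Subgroup G} (hA2 : Nat.card A = p ^ 2) (hPA : P ≤ A)
    (hP : Nat.card P = p) (hPX : P ≤ centralizer (X : Set G)) (hXC : ¬ X ≤ centralizer (A : Set G)) :
    A ⊓ centralizer (X : Set G) = P := by
  obtain ⟨i, hi, hci⟩ := (Nat.dvd_prime_pow hp.out).1
    (hA2 ▸ card_dvd_of_le inf_le_left : Nat.card ↥(A ⊓ centralizer (X : Set G)) ∣ p ^ 2)
  have hne : i ≠ 2 := fun e => hXC (le_centralizer_iff.1 (inf_eq_left.1
    (Subgroup.eq_of_le_of_card_ge inf_le_left (by rw [hci, e, hA2]))))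
  refine (Subgroup.eq_of_le_of_card_ge (le_inf hPA hPX) ?_).symm
  rw [hci, hP]
  calc p ^ i ≤ p ^ 1 := Nat.pow_le_pow_right hp.out.pos (by omega)
    _ = p := pow_one p

variable (hG : Cfsg.IsMinSimpleOddOrder G) {L : Subgroup G} (hL : IsCoatom L)
include hG hL

/-- An operator of prime order moving a `σ'`-subgroup of prime power order is a `τ₁`-subgroup. -/
theorem tau1_of_moves {r s : ℕ} [hr : Fact r.Prime] [hs : Fact s.Prime] {R Y : Subgroup G} (hRL : R ≤ L)
    (hR : Nat.card R = r) (hYL : Y ≤ L) (hY : IsPGroup s Y) (hrσ : r ∉ Cfsg.sigma L) (hsσ : s ∉ Cfsg.sigma L)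
    (hsr : r ≠ s) (hRY : R ≤ normalizer (Y : Set G)) (hne : ¬ R ≤ centralizer (Y : Set G)) :
    r ∈ Cfsg.tau1 L ∧ s ∣ Nat.card ↥⁅L, L⁆ := by
  haveI := solvable_of_ne_top hG hL.1
  have hRr : IsPGroup r R := IsPGroup.of_card (n := 1) (by rw [hR, pow_one])
  obtain ⟨hWs, hRW, hWY⟩ := comm_facts hY hRY
  have hWR : ⁅⁅Y, R⁆, R⁆ = ⁅Y, R⁆ := comm_idem hsr hY hRr hRY
  have hW1 : ⁅Y, R⁆ ≠ ⊥ := fun e => hne (le_centralizer_iff.1 (commutator_eq_bot_iff_le_centralizer.1 e))
  obtain ⟨E', hE', hle⟩ := exists_compl_ge hG hL (sup_le hRL hYL : R ⊔ Y ≤ L) fun q hq hd => by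
    rcases hq.dvd_mul.1 (hd.trans (Grp.card_sup_dvd_mul hRY)) with h | h
    · rw [eq_of_dvd_pGroup hRr hq h]; exact hrσ
    · rw [eq_of_dvd_pGroup hY hq h]; exact hsσ
  haveI := isSolvable_of_le hE'.1
  have hWE : ⁅Y, R⁆ ≤ ⁅E', E'⁆ := Subgroup.commutator_mono (le_sup_right.trans hle) (le_sup_left.trans hle)
  have hsD : s ∣ Nat.card ↥⁅L, L⁆ := (dvd_card_of_pGroup hWs hW1).trans
    (card_dvd_of_le (hWE.trans (Subgroup.commutator_mono hE'.1 hE'.1)))
  refine ⟨?_, hsD⟩
  have hfalse : ¬ R ≤ centralizer ((⁅Y, R⁆ : Subgroup G) : Set G) := fun h => hW1 (by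
    rw [← hWR]; exact commutator_eq_bot_iff_le_centralizer.2 (le_centralizer_iff.1 h))
  have hrk : Cfsg.PRankLE r 1 L := by
    by_contra h
    have hτ2 := tau2_of_not_rank_one hG hL hrσ h
    obtain ⟨T, hT⟩ := Grp.exists_isSylowIn r E'
    obtain ⟨B, hBT, hB, hB2⟩ := tau2_plane hG hL hE' hτ2 hT
    have h18 := Cfsg.Agent.S1418.result hG L hL E' hE' r hτ2 B ⟨hBT.trans hT.1, hB, hB2⟩
    exact hfalse (le_centralizer_iff.1 ((derived_centralizes_plane hG hL hE' hτ2 (hBT.trans hT.1) hB hB2 hWE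
      fun hd => hsr (eq_of_dvd_pGroup hWs hr.out hd)).trans
        (Subgroup.centralizer_le (h18.1.2 R (le_sup_left.trans hle) hR))))
  refine ⟨hr.out, hrσ, hR ▸ card_dvd_of_le hRL, fun hd => hfalse ?_, hrk⟩
  have hRE : R ≤ ⁅E', E'⁆ := le_derived_of_rank_one hG (prankLE_mono hE'.1 hrk)
    (compl_dvd_derived hG hL hE' hrσ hd) (le_sup_left.trans hle) hRr
  exact (hRE.trans (le_centralizer_iff_isMulCommutative.2 (Cfsg.Agent.S1420.result hG L hL E' hE').2.1)).trans
    (Subgroup.centralizer_le hWE)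

/-- An operator with trivial fixed points in `L_σ` makes its commutators centralise `L_σ`. -/
theorem comm_centralizes_of_fixed_bot {r s : ℕ} [hr : Fact r.Prime] [hs : Fact s.Prime] {R Y : Subgroup G}
    (hRL : R ≤ L) (hR : Nat.card R = r) (hYL : Y ≤ L) (hY : IsPGroup s Y) (hrσ : r ∉ Cfsg.sigma L)
    (hsσ : s ∉ Cfsg.sigma L) (hsr : r ≠ s) (hRY : R ≤ normalizer (Y : Set G))
    (hfix : Cfsg.sigmaCore L ⊓ centralizer (R : Set G) = ⊥) :
    ⁅Y, R⁆ ≤ centralizer (Cfsg.sigmaCore L : Set G) := by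
  haveI := solvable_of_ne_top hG hL.1
  have hRr : IsPGroup r R := IsPGroup.of_card (n := 1) (by rw [hR, pow_one])
  obtain ⟨hWs, hRW, hWY⟩ := comm_facts hY hRY
  have hLN : L ≤ normalizer (Cfsg.sigmaCore L : Set G) := TransHyp.le_normalizer_piCoreOf L
  exact centralizes_of_fixed_group hG hsr.symm hR hWs hRW (comm_idem hsr hY hRr hRY) (hRL.trans hLN)
    ((hWY.trans hYL).trans hLN) (fun q hq hd => by
      have hqσ := TransHyp.piCoreOf_primes (π := Cfsg.sigma L) (X := L) hq hd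
      exact ⟨fun e => hsσ (e ▸ hqσ), fun e => hrσ (e ▸ hqσ)⟩)
    (isSolvable_of_le (sup_le (hWY.trans hYL) hRL)) (hfix.le.trans bot_le)

variable {M E P : Subgroup G} {p : ℕ} [hp : Fact p.Prime] (h : Irregular M E L p P)
omit hG hL
include h

theorem Irregular.sigma_L : p ∈ Cfsg.sigma L := by
  rcases h.sigma_or with hσ | hτ2
  · exact hσ
  exfalso
  have hG := h.hG
  have hM := h.hM
  have hL := h.hL
  have hpL : p ∉ Cfsg.sigma L := hτ2.2.1
  haveI := solvable_of_ne_top hG hM.1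
  haveI := solvable_of_ne_top hG hL.1
  obtain ⟨⟨-, hr1⟩, hid, -⟩ := normalizer_prime_order hG hL hpL h.hP h.hNL
  obtain ⟨A₁, hA₁L, -, hA₁, hA₁2⟩ := h.plane_L hτ2
  have hnil : Group.IsNilpotent (Cfsg.sigmaCore L) := (Cfsg.Agent.S1417.result hG L hL p hτ2 A₁ ⟨hA₁L, hA₁, hA₁2⟩).1
  have hdisj : ∀ t : ℕ, t.Prime → t ∈ Cfsg.sigma M → t ∉ Cfsg.sigma L := fun t ht htM => by
    haveI := Fact.mk ht
    exact sigma_disjoint hG hM hL h.not_conj hnil htM
  obtain ⟨r, hr, T, R, hτr, hT, hTE, hRT, hR, hTP⟩ := h.mover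
  haveI := hr
  have hRE : R ≤ E := hRT.trans hTE
  have hRr : IsPGroup r R := IsPGroup.of_card (n := 1) (by rw [hR, pow_one])
  have hRM : R ≤ M := hRE.trans h.hE.1
  have hRL : R ≤ L := hRE.trans h.compl_le_L
  have hPp : IsPGroup p P := IsPGroup.of_card (n := 1) (by rw [h.hP, pow_one])
  have hrp : r ≠ p := fun e => hτr.2.2.2.1 (e ▸ h.hτ.2.2.1)
  have hrL : r ∉ Cfsg.sigma L := fun hσ => by
    obtain ⟨S, hS, hTS⟩ := exists_sylowIn_ge (hTE.trans h.compl_le_L) hT
    have h1 : ⁅P, T⁆ = P := comm_eq_of_moves h.hP (hTE.trans h.derived.2) hTP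
    have h2 : P ≤ Cfsg.sigmaCore L := h1.ge.trans ((Subgroup.commutator_mono h.P_le_L (hTS.trans
      (sylow_le_piCore hG hL (alpha_subset_sigma hG hL) le_rfl hσ hS))).trans (by
      rw [commutator_comm]; exact Grp.commutator_le_left_of_le_normalizer (TransHyp.le_normalizer_piCoreOf L)))
    exact not_dvd_sigmaCore hpL (h.hP ▸ card_dvd_of_le h2)
  set W := Cfsg.sigmaCore M ⊓ L with hW
  have hWσ : ∀ t : ℕ, t.Prime → t ∣ Nat.card W → t ∈ Cfsg.sigma M ∧ t ∉ Cfsg.sigma L := fun t ht hd =>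
    have h1 := TransHyp.piCoreOf_primes (π := Cfsg.sigma M) (X := M) ht (hd.trans (card_dvd_of_le inf_le_left))
    ⟨h1, hdisj t ht h1⟩
  have hWP : W ≤ centralizer (P : Set G) := h.meet_eq.le.trans inf_le_right
  have hRW : R ≤ normalizer (W : Set G) :=
    le_normalizer_inf' (hRM.trans (TransHyp.le_normalizer_piCoreOf M)) (hRL.trans le_normalizer)
  obtain ⟨t, ht, Q, hQ, hRQ, hQ1⟩ : ∃ (t : ℕ) (_ : Fact t.Prime) (Q : Subgroup G), Grp.IsSylowIn t Q W ∧
      R ≤ normalizer (Q : Set G) ∧ Q ≠ ⊥ := by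
    obtain ⟨t, ht, hd⟩ := Nat.exists_prime_and_dvd fun e => h.meet_ne (Subgroup.card_eq_one.1 e)
    haveI := Fact.mk ht
    obtain ⟨Q, hQ, hRQ⟩ := Grp.exists_invariant_sylow R W hRW (Nat.coprime_of_dvd fun q hq h1 h2 =>
      compl_prime hG hM h.hE hq (h1.trans (card_dvd_of_le hRE)) (hWσ q hq h2).1) (Or.inl (isSolvable_of_le hRM)) t
    exact ⟨t, ‹_›, Q, hQ, hRQ, sylow_ne_bot_of_dvd hQ hd⟩
  haveI := ht
  obtain ⟨htM, htL⟩ := hWσ t ht.out ((dvd_card_of_pGroup hQ.2.1 hQ1).trans (card_dvd_of_le hQ.1))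
  have hQL : Q ≤ L := hQ.1.trans inf_le_right
  have hQM : Q ≤ M := (hQ.1.trans inf_le_left).trans (TransHyp.piCoreOf_le M)
  have htr : r ≠ t := fun e => hτr.2.1 (e ▸ htM)
  have htp : t ≠ p := fun e => h.hτ.2.1 (e ▸ htM)
  by_cases hRQC : R ≤ centralizer (Q : Set G)
  swap
  · -- `R` moves `Q`
    obtain ⟨hYt, hRY, hYQ⟩ := comm_facts hQ.2.1 hRQ
    have hY1 : ⁅Q, R⁆ ≠ ⊥ := fun e => hRQC (le_centralizer_iff.1 (commutator_eq_bot_iff_le_centralizer.1 e))
    obtain ⟨hτrL, htD⟩ := tau1_of_moves hG hL hRL hR hQL hQ.2.1 hrL htL htr hRQ hRQC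
    obtain ⟨E', hE', hle⟩ := exists_compl_ge hG hL (sup_le hRL hQL : R ⊔ Q ≤ L) fun q hq hd => by
      rcases hq.dvd_mul.1 (hd.trans (Grp.card_sup_dvd_mul hRQ)) with h' | h'
      · rw [eq_of_dvd_pGroup hRr hq h']; exact hrL
      · rw [eq_of_dvd_pGroup hQ.2.1 hq h']; exact htL
    obtain ⟨T', hT'⟩ := Grp.exists_isSylowIn p E'
    obtain ⟨A, hAT, hA, hA2⟩ := tau2_plane hG hL hE' hτ2 hT'
    have hYE : ⁅Q, R⁆ ≤ ⁅E', E'⁆ := Subgroup.commutator_mono (le_sup_right.trans hle) (le_sup_left.trans hle)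
    have hYA : ⁅Q, R⁆ ≤ centralizer (A : Set G) := derived_centralizes_plane hG hL hE' hτ2 (hAT.trans hT'.1) hA hA2 hYE
      fun hd => htp (eq_of_dvd_pGroup hYt hp.out hd).symm
    by_cases hRP : R ≤ centralizer (P : Set G)
    · -- the fixed points of `R` give another overgroup of `C(P)`
      obtain ⟨L₁, hL₁, hNY, hL₁M, hpL₁, hq⟩ := plane_cover hG hM htM h.hτ.2.2.2 hYt hY1 (hYQ.trans hQM) hA hA2
        (le_centralizer_iff.1 hYA)
      haveI := solvable_of_ne_top hG hL₁.1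
      have htL₁ : t ∉ Cfsg.sigma L₁ := fun hσ => hid (hq hσ).2
      have hRL₁ : R ≤ L₁ := hRY.trans hNY
      have hYL₁ : ⁅Q, R⁆ ≤ L₁ := le_normalizer.trans hNY
      have hidem : ⁅⁅Q, R⁆, R⁆ = ⁅Q, R⁆ := comm_idem htr hQ.2.1 hRr hRQ
      have hrL₁ : r ∉ Cfsg.sigma L₁ := fun hσ => by
        obtain ⟨S, hS, hRS⟩ := exists_sylowIn_ge hRL₁ hRr
        have h2 : ⁅Q, R⁆ ≤ Cfsg.sigmaCore L₁ := hidem.ge.trans ((Subgroup.commutator_mono hYL₁ (hRS.trans
          (sylow_le_piCore hG hL₁ (alpha_subset_sigma hG hL₁) le_rfl hσ hS))).trans (by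
          rw [commutator_comm]; exact Grp.commutator_le_left_of_le_normalizer (TransHyp.le_normalizer_piCoreOf L₁)))
        exact not_dvd_sigmaCore htL₁ ((dvd_card_of_pGroup hYt hY1).trans (card_dvd_of_le h2))
      obtain ⟨hτ₁, -⟩ := tau1_of_moves hG hL₁ hRL₁ hR hYL₁ hYt hrL₁ htL₁ htr hRY fun hc => hY1 (by
        rw [← hidem]; exact commutator_eq_bot_iff_le_centralizer.2 (le_centralizer_iff.1 hc))
      have hPL₁ : P ≤ L₁ := ((le_centralizer_iff.1 ((hYQ.trans hQ.1).trans hWP)).trans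
        (centralizer_le_normalizer _)).trans hNY
      obtain ⟨S, hS, hPS⟩ := exists_sylowIn_ge hPL₁ hPp
      have hPσ : P ≤ Cfsg.sigmaCore L₁ :=
        hPS.trans (sylow_le_piCore hG hL₁ (alpha_subset_sigma hG hL₁) le_rfl hpL₁ hS)
      have hu := tau1_unique hG hL₁ hτ₁ hRL₁ hR h.hP (le_inf hPσ (le_centralizer_iff.1 hRP))
      exact hpL (hu.2 L hL h.centralizer_le_L ▸ hpL₁)
    · have hmove : ¬ R ≤ centralizer (P : Set G) := hRP
      have hfix : Cfsg.sigmaCore L ⊓ centralizer (R : Set G) ≠ ⊥ := by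
        intro hbot
        have hc := comm_centralizes_of_fixed_bot hG hL hRL hR hQL hQ.2.1 hrL htL htr hRQ hbot
        obtain ⟨z, hz⟩ := exists_prime_orderOf_dvd_card' (G := (⁅Q, R⁆ : Subgroup G)) t (dvd_card_of_pGroup hYt hY1)
        set Z := zpowers (z : G) with hZdef
        have hZc : Nat.card Z = t := by rw [hZdef, Nat.card_zpowers, Subgroup.orderOf_coe, hz]
        have hZY : Z ≤ ⁅Q, R⁆ := zpowers_le.2 z.2
        have hZE : Z ≤ E' := (hZY.trans hYE).trans E'.commutator_le_self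
        by_cases htr1 : Cfsg.PRankLE t 1 L
        · exact not_centralizes_sigma hG hL htL (fun h2 => h2.2.2.2 htr1)
            ((hZY.trans hYE).trans (Subgroup.commutator_mono hE'.1 hE'.1)) hZc (hZY.trans hc)
        · have hτt := tau2_of_not_rank_one hG hL htL htr1
          obtain ⟨T'', hT''⟩ := Grp.exists_isSylowIn t E'
          obtain ⟨B, hBT, hB, hB2⟩ := tau2_plane hG hL hE' hτt hT''
          have h18 := Cfsg.Agent.S1418.result hG L hL E' hE' t hτt B ⟨hBT.trans hT''.1, hB, hB2⟩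
          have hne : Cfsg.sigmaCore L ⊓ centralizer (Z : Set G) ≠ ⊥ := fun e => sigmaCore_ne_bot hG hL (le_bot_iff.1
            ((le_inf le_rfl (le_centralizer_iff.1 (hZY.trans hc))).trans e.le))
          obtain ⟨-, hu⟩ := h18.2.2 Z (h18.1.2 Z hZE hZc) hZc hne
          obtain ⟨L₁, hL₁, hNZ, -, hpL₁, -⟩ := plane_cover hG hM htM h.hτ.2.2.2 (hYt.to_le hZY)
            (fun e => ht.out.ne_one (hZc.symm.trans (by rw [e, Subgroup.card_bot]))) ((hZY.trans hYQ).trans hQM)
            hA hA2 (le_centralizer_iff.1 (hZY.trans hYA))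
          exact hpL (hu L₁ hL₁ ((centralizer_le_normalizer _).trans hNZ) ▸ hpL₁)
      obtain ⟨z, hz, hzp⟩ := Grp.exists_prime_order_mem hfix
      haveI := Fact.mk hzp
      exact h.trick hRE hR hmove (cross_into hG hM hL h.not_conj h.hE h.compl_le_L hτr hτrL hRE hR
        (zpowers_le.2 hz) (by rw [Nat.card_zpowers]))
  -- `R` centralises `Q`
  obtain ⟨z, hz⟩ := exists_prime_orderOf_dvd_card' (G := Q) t (dvd_card_of_pGroup hQ.2.1 hQ1)
  set X := zpowers (z : G) with hXdef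
  have hXc : Nat.card X = t := by rw [hXdef, Nat.card_zpowers, Subgroup.orderOf_coe, hz]
  have hXQ : X ≤ Q := zpowers_le.2 z.2
  have hXt : IsPGroup t X := hQ.2.1.to_le hXQ
  have hXσ : X ≤ Cfsg.sigmaCore M ⊓ centralizer (R : Set G) :=
    le_inf ((hXQ.trans hQ.1).trans inf_le_left) (hXQ.trans (le_centralizer_iff.1 hRQC))
  have hXu := tau1_unique hG hM hτr hRM hR hXc hXσ
  have hXL : X ≤ L := hXQ.trans hQL
  have hXP : X ≤ centralizer (P : Set G) := (hXQ.trans hQ.1).trans hWP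
  have hXR : X ≤ centralizer (R : Set G) := hXσ.trans inf_le_right
  have hPRN : R ≤ normalizer (P : Set G) := hRE.trans h.derived.2
  obtain ⟨E', hE', hle⟩ := exists_compl_ge hG hL (sup_le (sup_le h.P_le_L hXL) hRL : (P ⊔ X) ⊔ R ≤ L)
    fun q hq hd => by
      rw [sup_comm] at hd
      have hRPX : R ≤ normalizer ((P ⊔ X : Subgroup G) : Set G) :=
        Grp.le_normalizer_sup' hPRN ((le_centralizer_iff.1 hXR).trans (centralizer_le_normalizer _))
      rcases hq.dvd_mul.1 (hd.trans (Grp.card_sup_dvd_mul hRPX)) with h' | h'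
      · rw [eq_of_dvd_pGroup hRr hq h']; exact hrL
      · rw [sup_comm] at h'
        rcases hq.dvd_mul.1 (h'.trans (Grp.card_sup_dvd_mul (hXP.trans (centralizer_le_normalizer _)))) with h'' | h''
        · rw [eq_of_dvd_pGroup hXt hq h'']; exact htL
        · rw [eq_of_dvd_pGroup hPp hq h'']; exact hpL
  have hPE' : P ≤ E' := le_sup_left.trans (le_sup_left.trans hle)
  have hXE' : X ≤ E' := le_sup_right.trans (le_sup_left.trans hle)
  have hRE' : R ≤ E' := le_sup_right.trans hle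
  obtain ⟨T', hT'⟩ := Grp.exists_isSylowIn p E'
  obtain ⟨A, hAT, hA, hA2⟩ := tau2_plane hG hL hE' hτ2 hT'
  have hAE' : A ≤ E' := hAT.trans hT'.1
  have hAp := Grp.elemAb_isPGroup hA
  have h18 := Cfsg.Agent.S1418.result hG L hL E' hE' p hτ2 A ⟨hAE', hA, hA2⟩
  have hPA : P ≤ A := h18.1.2 P hPE' h.hP
  have hEA : E' ≤ normalizer (A : Set G) := h18.1.1
  obtain ⟨A₀, hexc⟩ := exists_exc hG hL (hAE'.trans hE'.1) hA hA2 hpL
  have hXA : ¬ X ≤ centralizer (A : Set G) := fun hc =>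
    not_prank_of_elem (n := 1) ((le_centralizer_iff.1 hc).trans hXu.1) hA hA2.ge h.hτ.2.2.2
  obtain ⟨hτtL, -⟩ := tau1_of_moves hG hL hXL hXc (hAE'.trans hE'.1) hAp htL hpL htp (hXE'.trans hEA) hXA
  have hRXL : R ≤ centralizer (X : Set G) := le_centralizer_iff.1 hXR
  have hAX : A ⊓ centralizer (X : Set G) = P := plane_fixed_line hA2 hPA h.hP (le_centralizer_iff.1 hXP) hXA
  have hXNA := hXE'.trans hEA
  have hAeq : ⁅A, X⁆ ⊔ P = A := by
    rw [← hAX]
    exact Grp.commutator_sup_fixed X A hXNA (coprime_O htp hXt hAp) (Or.inl (isSolvable_of_le hXL))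
  have hfixX : Cfsg.sigmaCore L ⊓ centralizer (X : Set G) ≠ ⊥ → Cfsg.sigmaCore L ⊓ centralizer (R : Set G) ≠ ⊥ :=
    fun hne hbot => hne (le_bot_iff.1 ((le_inf inf_le_left (cent_tau1 hG hL hτtL hXL hXc hRL hR hRXL hrL)).trans
      hbot.le))
  by_cases hRP : R ≤ centralizer (P : Set G)
  swap
  · have hfixR : Cfsg.sigmaCore L ⊓ centralizer (R : Set G) ≠ ⊥ := by
      intro hbot
      have hc := comm_centralizes_of_fixed_bot hG hL hRL hR h.P_le_L hPp hrL hpL hrp hPRN hbot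
      rw [comm_eq_of_moves h.hP hPRN hRP] at hc
      refine hfixX (fun hX0 => ?_) hbot
      have hc' := comm_centralizes_of_fixed_bot hG hL hXL hXc (hAE'.trans hE'.1) hAp htL hpL htp hXNA hX0
      refine sigmaCore_ne_bot hG hL (le_bot_iff.1 (hexc.fixed_plane ▸ le_inf le_rfl (le_centralizer_iff.1 ?_)))
      rw [← hAeq]; exact sup_le hc' hc
    obtain ⟨hτrL, -⟩ := tau1_of_moves hG hL hRL hR h.P_le_L hPp hrL hpL hrp hPRN hRP
    obtain ⟨z', hz', hzp⟩ := Grp.exists_prime_order_mem hfixR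
    haveI := Fact.mk hzp
    exact h.trick hRE hR hRP (cross_into hG hM hL h.not_conj h.hE h.compl_le_L hτr hτrL hRE hR
      (zpowers_le.2 hz') (by rw [Nat.card_zpowers]))
  -- `R` centralises `P`: the Sylow subgroups are nonabelian
  have hS : ∀ S : Sylow p G, ¬ IsMulCommutative (S : Subgroup G) := by
    intro S hS
    haveI := hS
    refine h18.2.1.2.2 ((plane_line_invariant hG hL hE' hτ2 (fun S' => ?_) hAE' hA hA2 hPA h.hP hXNA
      (fun hd => htp (eq_of_dvd_pGroup hXt hp.out hd).symm) hXP hXA).trans h.hNL)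
    exact ⟨⟨fun a b => (Sylow.equiv S S').symm.injective (by rw [map_mul, map_mul, hS.is_comm.comm])⟩⟩
  obtain ⟨hτ2eq, ⟨hA₀c, -⟩, hlines⟩ := Cfsg.Agent.S1419.result hG L hL E' hE' p hτ2 hS A ⟨hAE', hA, hA2⟩
  have hPA₀ : P = A ⊓ centralizer (Cfsg.sigmaCore L : Set G) := by
    by_contra hne
    exact (hlines P hPE' h.hP hne).2 h.centralizer_le_L
  set P' := ⁅A, X⁆ with hP'
  have hP'A : P' ≤ A := Grp.commutator_le_left_of_le_normalizer hXNA
  have hdis : P' ⊓ P = ⊥ := by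
    haveI := hA.1
    rw [← le_bot_iff, ← Grp.abelian_commutator_inf_fixed X A hXNA (coprime_O htp hXt hAp), hAX]
    exact le_inf inf_le_right inf_le_left
  have hP'c : Nat.card P' = p := by
    have h1 := Grp.card_sup_mul_card_inf (H := P') (N := P) ((hP'A.trans hexc.hA.le_centralizer).trans
      ((Subgroup.centralizer_le hPA).trans (centralizer_le_normalizer _)))
    rw [hAeq, hdis, Subgroup.card_bot, mul_one, hA2, h.hP, pow_two] at h1
    exact (Nat.eq_of_mul_eq_mul_right hp.out.pos h1).symm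
  have hP'ne : P' ≠ A ⊓ centralizer (Cfsg.sigmaCore L : Set G) := fun e => by
    rw [← hPA₀] at e
    rw [e, inf_idem] at hdis
    exact hp.out.ne_one (h.hP.symm.trans (by rw [hdis, Subgroup.card_bot]))
  have hP'fix := (hlines P' (hP'A.trans hAE') hP'c hP'ne).1
  have hP'p : IsPGroup p P' := hAp.to_le hP'A
  have hRP' : R ≤ normalizer (P' : Set G) :=
    le_normalizer_commutator' (hRE'.trans hEA) (hRXL.trans (centralizer_le_normalizer _))
  by_cases hRP'C : R ≤ centralizer (P' : Set G)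
  · -- `A ≤ C(R)`
    have hRA : A ≤ centralizer (R : Set G) := hAeq ▸ sup_le (le_centralizer_iff.1 hRP'C) (le_centralizer_iff.1 hRP)
    have hR1 : R ≠ ⊥ := fun e => hr.out.ne_one (hR.symm.trans (by rw [e, Subgroup.card_bot]))
    obtain ⟨H, hH, hNH⟩ := exists_coatom_normalizer hG hR1 fun e => hM.1 (top_le_iff.1 (e ▸ hRM))
    haveI := solvable_of_ne_top hG hH.1
    have hCH : centralizer (R : Set G) ≤ H := (centralizer_le_normalizer _).trans hNH
    have hAH : A ≤ H := hRA.trans hCH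
    have hXH : X ≤ H := hXR.trans hCH
    have hHM := rank_one_not_conj hG hM hτr.2.1 hτr.2.2.2.2 hR hNH
    have htH : t ∉ Cfsg.sigma H := tau1_private hG hM hτr hRM hR hXc hXσ hH hHM
    by_cases hpH : p ∈ Cfsg.sigma H
    · have hpβ : p ∉ Cfsg.beta H := fun hβ => hid hβ.2
      have htr1 := tau1_fixed_rank_one hG hM hτr hRM hR hXσ hXc hH hNH
      obtain ⟨S, hS', hPS⟩ := exists_sylowIn_ge (hPA.trans hAH) hPp
      have hPσ : P ≤ Cfsg.sigmaCore H := hPS.trans (sylow_le_piCore hG hH (alpha_subset_sigma hG hH) le_rfl hpH hS')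
      by_cases htd : t ∣ Nat.card ↥⁅H, H⁆
      · obtain ⟨EH, hEH, hXEH⟩ := exists_compl_ge hG hH hXH fun q hq hd => by
          rw [eq_of_dvd_pGroup hXt hq hd]; exact htH
        haveI := isSolvable_of_le hEH.1
        obtain ⟨S₀, hS₀, hES₀⟩ := Grp.exists_invariant_sylow EH (Cfsg.sigmaCore H)
          (hEH.1.trans (TransHyp.le_normalizer_piCoreOf H)) (compl_coprime hG hH hEH) (Or.inl inferInstance) p
        have hS₀M : S₀ ≤ M := (le_centralizer_iff.1 ((tau3_normal hG hH hEH htH htr1 htd hXEH hXc).1.trans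
          (derived_centralizes hG hH hEH hpβ hS₀.2.1 hS₀.1 hES₀))).trans hXu.1
        obtain ⟨S₂, hS₂, hAS₂⟩ := exists_sylowIn_ge hAH hAp
        obtain ⟨k, -, e⟩ := (sigmaCore_sylow hG hH hpH hS₂).conj hS₀
        refine not_prank_of_elem (n := 1) (E := MulAut.conj k • A) ((Subgroup.pointwise_smul_le_pointwise_smul_iff.2
          hAS₂).trans (e.le.trans hS₀M)) ?_ (by rw [Grp.card_conj_smul, hA2]) h.hτ.2.2.2
        refine ⟨?_, ?_⟩
        · haveI := hA.1
          exact Subgroup.map_isMulCommutative _ _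
        · rintro _ ⟨a, ha, rfl⟩
          show MulAut.conj k a ^ p = 1
          rw [← map_pow, hA.2 a ha, map_one]
      · have hu := tau1_unique hG hH ⟨ht.out, htH, hXc ▸ card_dvd_of_le hXH, htd, htr1⟩ hXH hXc h.hP
          (le_inf hPσ (le_centralizer_iff.1 hXP))
        exact hpL (hu.2 L hL h.centralizer_le_L ▸ hpH)
    · have hτpH : p ∈ Cfsg.tau2 H := tau2_of_not_rank_one hG hH hpH (not_prank_of_elem hAH hA hA2.ge)
      rcases sigma_or_tau2 hG hR hH hNH with hrH | hrH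
      · obtain ⟨S, hS', hRS⟩ := exists_sylowIn_ge ((le_centralizer_self hR).trans hCH) hRr
        have hRσ : R ≤ Cfsg.sigmaCore H := hRS.trans (sylow_le_piCore hG hH (alpha_subset_sigma hG hH) le_rfl hrH hS')
        obtain ⟨A₂, hexc₂⟩ := exists_exc hG hH hAH hA hA2 hpH
        exact hR1 (le_bot_iff.1 (hexc₂.fixed_plane ▸ le_inf hRσ (le_centralizer_iff.1 hRA)))
      · obtain ⟨EH, hEH, hAEH⟩ := exists_compl_ge hG hH hAH fun q hq hd => by
          rw [eq_of_dvd_pGroup hAp hq hd]; exact hpH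
        have h19 := (Cfsg.Agent.S1419.result hG H hH EH hEH p hτpH hS A ⟨hAEH, hA, hA2⟩).1
        rw [h19] at hrH
        exact hrp hrH
  · -- `RX` acts in a prime manner
    obtain ⟨hτrL, -⟩ := tau1_of_moves hG hL hRL hR (hP'A.trans (hAE'.trans hE'.1)) hP'p hrL hpL hrp hRP' hRP'C
    have hXP' : X ≤ normalizer (P' : Set G) := Grp.right_le_normalizer_commutator X A
    have hXP'C : ¬ X ≤ centralizer (P' : Set G) := fun hc => hXA (le_centralizer_iff.1 (hAeq ▸
      sup_le (le_centralizer_iff.1 hc) (le_centralizer_iff.1 hXP)))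
    have hRXN : R ≤ normalizer (X : Set G) := hRXL.trans (centralizer_le_normalizer _)
    have hgen : ∀ x ∈ R ⊔ X, x ≠ 1 → R ≤ zpowers x ∨ X ≤ zpowers x := by
      intro x hx hx1
      rw [← SetLike.mem_coe, Subgroup.coe_mul_of_left_le_normalizer_right R X hRXN] at hx
      obtain ⟨a, ha, b, hb, rfl⟩ := hx
      have hcomm : Commute a b := (mem_centralizer_iff.1 (hRXL ha) b hb).symm
      rcases eq_or_ne b 1 with rfl | hb1
      · left
        simp only [mul_one] at hx1 ⊢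
        refine (Subgroup.eq_of_le_of_card_ge (zpowers_le.2 ha) ?_).ge
        rw [Nat.card_zpowers, hR, orderOf_eq_prime ((elem_of_card_prime hR).2 a ha) hx1]
      · right
        have h1 : (a * b) ^ r = b ^ r := by rw [hcomm.mul_pow, (elem_of_card_prime hR).2 a ha, one_mul]
        have hbo : orderOf b = t := orderOf_eq_prime ((elem_of_card_prime hXc).2 b hb) hb1
        have h2 : orderOf (b ^ r) = t := by
          rw [Nat.Coprime.orderOf_pow (by rw [hbo]; exact (Nat.coprime_primes ht.out hr.out).2 htr.symm), hbo]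
        have h3 : zpowers (b ^ r) = X := Subgroup.eq_of_le_of_card_ge (zpowers_le.2 (X.pow_mem hb r))
          (by rw [Nat.card_zpowers (b ^ r), h2]; exact hXc.le)
        rw [← h3, ← h1]
        exact zpowers_le.2 (pow_mem (mem_zpowers _) r)
    have hfix1 : ∀ Y : Subgroup G, Y ≤ normalizer (P' : Set G) → ¬ Y ≤ centralizer (P' : Set G) →
        ∀ x : G, Y ≤ zpowers x → P' ⊓ centralizer ({x} : Set G) = ⊥ := by
      intro Y _ hY x hx
      rcases (Nat.dvd_prime hp.out).1 (hP'c ▸ card_dvd_of_le (inf_le_left : P' ⊓ centralizer ({x} : Set G) ≤ P')) with h' | h'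
      · exact Subgroup.card_eq_one.1 h'
      · refine absurd (hx.trans (le_centralizer_iff.1 ?_)) hY
        rw [← Grp.centralizer_singleton_eq_zpowers]
        exact (Subgroup.eq_of_le_of_card_ge inf_le_left (by rw [h', hP'c])).ge.trans inf_le_right
    have hLσN : L ≤ normalizer (Cfsg.sigmaCore L : Set G) := TransHyp.le_normalizer_piCoreOf L
    have hP'L : P' ≤ L := hP'A.trans (hAE'.trans hE'.1)
    have hcardK : ∀ q : ℕ, q.Prime → q ∣ Nat.card ↥(P' ⊔ (R ⊔ X)) → q ∉ Cfsg.sigma L := fun q hq hd => by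
      rw [sup_comm] at hd
      rcases hq.dvd_mul.1 (hd.trans (Grp.card_sup_dvd_mul (sup_le hRP' hXP'))) with h' | h'
      · rcases hq.dvd_mul.1 (h'.trans (Grp.card_sup_dvd_mul hRXN)) with h'' | h''
        · rw [eq_of_dvd_pGroup hRr hq h'']; exact hrL
        · rw [eq_of_dvd_pGroup hXt hq h'']; exact htL
      · rw [eq_of_dvd_pGroup hP'p hq h']; exact hpL
    have hcoinf : Nat.card ↥(R ⊔ X) = r * t := by
      have h1 := Grp.card_sup_mul_card_inf (H := R) (N := X) hRXN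
      rwa [Grp.inf_eq_bot_of_coprime (coprime_O htr hRr hXt), Subgroup.card_bot, mul_one, hR, hXc] at h1
    have h46 := (Cfsg.Agent.S1446.result P' (R ⊔ X) (Cfsg.sigmaCore L)
      (fun e => hp.out.ne_one (hP'c.symm.trans (by rw [e, Subgroup.card_bot])))
      (fun e => by
        rw [e, Subgroup.card_bot] at hcoinf
        nlinarith [hr.out.two_le, ht.out.two_le])
      (Grp.inf_eq_bot_of_coprime (Nat.coprime_of_dvd fun q hq h1 h2 => by
        rw [eq_of_dvd_pGroup hP'p hq h1, hcoinf] at h2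
        rcases hp.out.dvd_mul.1 h2 with h' | h'
        · exact hrp ((Nat.prime_dvd_prime_iff_eq hp.out hr.out).1 h').symm
        · exact htp ((Nat.prime_dvd_prime_iff_eq hp.out ht.out).1 h').symm))
      (sup_le hRP' hXP')
      (fun x hx hx1 => (hgen x hx hx1).elim (hfix1 R hRP' hRP'C x) (hfix1 X hXP' hXP'C x))
      (isSolvable_of_le (sup_le hP'L (sup_le hRL hXL)))
      (Odd.of_dvd_nat hG.1 (card_subgroup_dvd_card _))
      (sigmaCore_ne_bot hG hL) hnil (hP'L.trans hLσN) (sup_le (hRL.trans hLσN) (hXL.trans hLσN))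
      (Nat.coprime_of_dvd fun q hq h1 h2 =>
        hcardK q hq h1 (TransHyp.piCoreOf_primes (π := Cfsg.sigma L) (X := L) hq h2))
      hP'fix
      (fun x hx hx1 => by
        refine le_antisymm (le_inf inf_le_left ?_) (inf_le_inf_left _ ?_)
        · have hRc := cent_tau1 hG hL hτrL hRL hR hXL hXc hXR htL
          have hXc' := cent_tau1 hG hL hτtL hXL hXc hRL hR hRXL hrL
          rw [Grp.centralizer_singleton_eq_zpowers]
          rcases hgen x hx hx1 with h' | h'
          · have h1 := inf_le_inf_left (Cfsg.sigmaCore L) (Subgroup.centralizer_le (show (R : Set G) ⊆ zpowers x from h'))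
            exact le_centralizer_iff.1 (sup_le (le_centralizer_iff.1 (h1.trans inf_le_right))
              (le_centralizer_iff.1 (h1.trans hRc)))
          · have h1 := inf_le_inf_left (Cfsg.sigmaCore L) (Subgroup.centralizer_le (show (X : Set G) ⊆ zpowers x from h'))
            exact le_centralizer_iff.1 (sup_le (le_centralizer_iff.1 (h1.trans hXc'))
              (le_centralizer_iff.1 (h1.trans inf_le_right)))
        · exact Subgroup.centralizer_le (Set.singleton_subset_iff.2 hx))).1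
    rw [hcoinf] at h46
    exact Nat.not_prime_mul hr.out.ne_one ht.out.ne_one h46

end Cfsg.Agent.Transfer.Loc
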