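import Cfsg.Agent.Lib.Transfer.Local.TauTwoIrreducible
import Cfsg.Agent.Lib.Transfer.Local.KappaOvergroup

/-!
A free cyclic subgroup of maximal order in a `τ₂`-Sylow subgroup, normalised by the `τ₁ ∪ τ₃`-operators.
-/

set_option autoImplicit false
set_option linter.style.haveILetI false
set_option linter.unusedSectionVars false
set_option maxHeartbeats 2000000

namespace Cfsg.Agent.Transfer.Loc.TauPlane

open Subgroup
open scoped commutatorElement Pointwise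

universe u

variable {G : Type u} [Group G] [Finite G] {M E A T : Subgroup G} {p : ℕ} [hp : Fact p.Prime]
  (h : TauPlane M E p A T)
include h

theorem not_cyclic {C : Subgroup G} (hC : IsCyclic C) : ¬ A ≤ C := fun hAC => by
  haveI := hC
  obtain ⟨x, hx⟩ := (Subgroup.isCyclic_of_le hAC : IsCyclic A).exists_generator
  have h1 : Nat.card A = orderOf x := (orderOf_eq_card_of_forall_mem_zpowers hx).symm
  have h2 : orderOf x ∣ p := orderOf_dvd_of_pow_eq_one (Subtype.ext (h.elem.2 x x.2))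
  rw [← h1, h.card] at h2
  have h3 : p ^ 2 ∣ p ^ 1 := by rwa [pow_one]
  exact absurd ((Nat.pow_dvd_pow_iff_le_right hp.out.one_lt).1 h3) (by norm_num)

theorem cyclic_of_not_ge {K : Subgroup G} (hK : K ≤ T) (hne : ¬ A ≤ K) : IsCyclic K := by
  by_contra hc
  obtain ⟨D, hD, hDe, hD2⟩ := exists_elem_of_not_prank
    (not_prank_one_of_not_cyclic h.hG h.prime_ne_two (h.hT.2.1.to_le hK) hc)
  have hDA : D ≤ A := fun d hd => h.mem_plane (h.hT.1 (hK (hD hd))) (hDe.2 d hd)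
  exact hne ((Subgroup.eq_of_le_of_card_ge hDA (by rw [h.card]; exact hD2)).ge.trans hD)

theorem plane_inf_cyclic {C : Subgroup G} (hC : IsCyclic C) {L : Subgroup G} (hLA : L ≤ A) (hLC : L ≤ C)
    (hLc : Nat.card L = p) : A ⊓ C = L := by
  refine (Subgroup.eq_of_le_of_card_ge (le_inf hLA hLC) ?_).symm
  obtain ⟨i, hi, hci⟩ := (Nat.dvd_prime_pow hp.out).1 (h.card ▸ card_dvd_of_le inf_le_left :
    Nat.card ↥(A ⊓ C) ∣ p ^ 2)
  rw [hci, hLc]
  interval_cases i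
  · simp [hp.out.one_le]
  · simp
  · exact absurd ((Subgroup.eq_of_le_of_card_ge inf_le_left (by rw [hci, h.card])).ge.trans inf_le_right)
      (h.not_cyclic hC)

/-- The image of a power map of `T` is not a fixing line. -/
theorem image_line_contra {L : Subgroup G} (hLA : L ≤ A) (hLc : Nat.card L = p) (hf : FixesCore M L) {m : ℕ}
    (hall : ∀ t ∈ T, t ^ p ^ m ∈ L) (hne : ∃ t ∈ T, t ^ p ^ m ≠ 1) : False := by
  refine h.not_sylow_normalizer (le_trans ?_ (h.unique_of_fixes hLA hLc hf))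
  obtain ⟨t, ht, ht1⟩ := hne
  intro g hg
  have hgen := zpowers_eq_of_prime hLc (hall t ht) ht1
  rw [← hgen]
  refine mem_normalizer_zpowers ?_
  rw [hgen, ← conj_pow]
  exact hall _ (Grp.mem_conj_normalizer hg ht)

/-- A free cyclic subgroup of maximal order normalised by the operators. -/
theorem exists_free_cyclic {R : Subgroup G} (hRE : R ≤ E) (hRT : R ≤ normalizer (T : Set G))
    (hRτ : ∀ q : ℕ, q.Prime → q ∣ Nat.card R → q ∉ Cfsg.tau2 M)
    (hfree : ∀ y ∈ R, (orderOf y).Prime → Cfsg.sigmaCore M ⊓ centralizer ({y} : Set G) = ⊥) :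
    ∃ C : Subgroup G, C ≤ T ∧ IsCyclic C ∧ R ≤ normalizer (C : Set G) ∧
      (∀ y ∈ C, orderOf y = p → Cfsg.sigmaCore M ⊓ centralizer ({y} : Set G) = ⊥) ∧
      ∀ t ∈ T, orderOf t ∣ Nat.card C := by
  have hG := h.hG
  have hM := h.hM
  haveI := solvable_of_ne_top hG hM.1
  haveI : IsMulCommutative T := h.sylow_comm
  have hpR : ¬ p ∣ Nat.card R := fun hd => hRτ p hp.out hd h.hτ
  have hzp : ∀ r ∈ R, ¬ p ∣ orderOf r := fun r hr hd => hpR (hd.trans (Subgroup.orderOf_dvd_natCard _ hr))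
  have hRA : R ≤ normalizer (A : Set G) := hRE.trans h.compl_normalizes
  have hcopT : (Nat.card R).Coprime (Nat.card T) := by
    obtain ⟨i, hi⟩ := IsPGroup.iff_card.1 h.hT.2.1
    rw [hi]
    exact ((hp.out.coprime_iff_not_dvd.2 hpR).symm).pow_right i
  have hR' : ⁅R, R⁆ ≤ centralizer (T : Set G) := by
    refine centralizes_of_omZ h.hT.2.1 ((R.commutator_le_self).trans hRT)
      (hcopT.coprime_dvd_left (card_dvd_of_le R.commutator_le_self)) ?_
    refine (derived_centralizes_plane hG hM h.hE h.hτ h.hAE h.elem h.card (commutator_mono hRE hRE)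
      fun hd => hpR (hd.trans (card_dvd_of_le R.commutator_le_self))).trans (centralizer_le fun x hx => ?_)
    exact h.mem_plane (h.hT.1 (omZ_le T hx)) hx.2.2
  have hline : ∀ {L : Subgroup G} {C : Subgroup G}, IsCyclic C → C ≤ T → L ≤ A → L ≤ C → Nat.card L = p →
      ¬ FixesCore M L → ∀ y ∈ C, orderOf y = p → Cfsg.sigmaCore M ⊓ centralizer ({y} : Set G) = ⊥ := by
    intro L C hC hCT hLA hLC hLc hnf y hy hyo
    have hyL : y ∈ L := (h.plane_inf_cyclic hC hLA hLC hLc).le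
      ⟨h.mem_plane (h.hT.1 (hCT hy)) (by rw [← hyo, pow_orderOf_eq_one]), hy⟩
    have hgen := zpowers_eq_of_prime hLc hyL fun e => hp.out.ne_one (by rw [← hyo, e, orderOf_one])
    rw [← centralizer_zpowers_eq y, hgen]
    exact not_not.1 hnf
  by_cases hscal : ∀ r ∈ R, ∀ L : Subgroup G, L ≤ A → Nat.card L = p → r ∈ normalizer (L : Set G)
  · -- all operators are power maps
    have hpow : ∀ t ∈ T, R ≤ normalizer (zpowers t : Set G) := fun t ht r hr =>
      mem_normalizer_zpowers (h.power_of_all_lines (hRT hr) (hzp r hr) (hscal r hr) t ht)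
    obtain ⟨y, hy⟩ := Finite.exists_max fun t : T => orderOf (t : G)
    obtain ⟨n, hn⟩ := IsPGroup.iff_orderOf.1 h.hT.2.1 y
    rw [← Subgroup.orderOf_coe] at hn
    have hmax : ∀ t ∈ T, t ^ p ^ n = 1 := fun t ht => by
      obtain ⟨i, hi⟩ := IsPGroup.iff_orderOf.1 h.hT.2.1 (⟨t, ht⟩ : T)
      rw [← Subgroup.orderOf_coe] at hi
      have h1 : p ^ i ≤ p ^ n := hi ▸ hn ▸ hy ⟨t, ht⟩
      rw [← orderOf_dvd_iff_pow_eq_one, show orderOf t = p ^ i from hi]
      exact pow_dvd_pow p ((Nat.pow_le_pow_iff_right hp.out.one_lt).1 h1)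
    obtain ⟨L₀, hL₀, hL₀c, hL₀f⟩ := h.exists_free
    obtain ⟨x, hx, hx1, hxgen⟩ := exists_generator_line hL₀c
    rcases n with _ | m
    · exact absurd (by simpa using hmax x (h.le_sylow (hL₀ hx))) hx1
    by_cases hgood : ∃ t ∈ T, t ^ p ^ m ≠ 1 ∧ ¬ FixesCore M (zpowers (t ^ p ^ m))
    · obtain ⟨t, ht, ht1, htf⟩ := hgood
      have hto : orderOf t = p ^ (m + 1) := orderOf_eq_prime_pow ht1 (hmax t ht)
      have h2 : (t ^ p ^ m) ^ p = 1 := by rw [← pow_mul, ← pow_succ]; exact hmax t ht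
      refine ⟨zpowers t, zpowers_le.2 ht, inferInstance, hpow t ht, hline inferInstance (zpowers_le.2 ht)
        (zpowers_le.2 (h.mem_plane (h.hT.1 (pow_mem ht _)) h2)) (zpowers_le.2 (npow_mem_zpowers t _))
        (by rw [Nat.card_zpowers, orderOf_eq_prime h2 ht1]) htf, fun s hs => ?_⟩
      rw [Nat.card_zpowers, hto]
      exact orderOf_dvd_of_pow_eq_one (hmax s hs)
    exfalso
    push Not at hgood
    have hy1 : (y : G) ^ p ^ m ≠ 1 := fun e => by
      have := orderOf_dvd_of_pow_eq_one e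
      rw [hn, Nat.pow_dvd_pow_iff_le_right hp.out.one_lt] at this
      omega
    have hsoc : ∀ t ∈ T, t ^ p ^ m ∈ A := fun t ht => h.mem_plane (h.hT.1 (pow_mem ht _))
      (by rw [← pow_mul, ← pow_succ]; exact hmax t ht)
    have hLc : Nat.card (zpowers ((y : G) ^ p ^ m)) = p := by
      rw [Nat.card_zpowers, orderOf_eq_prime (h.elem.2 _ (hsoc y y.2)) hy1]
    refine h.image_line_contra (zpowers_le.2 (hsoc y y.2)) hLc (hgood y y.2 hy1) (m := m) ?_ ⟨y, y.2, hy1⟩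
    intro t ht
    by_contra htL
    have ht1 : t ^ p ^ m ≠ 1 := fun e => htL (e ▸ one_mem _)
    have htc : Nat.card (zpowers (t ^ p ^ m)) = p := by
      rw [Nat.card_zpowers, orderOf_eq_prime (h.elem.2 _ (hsoc t ht)) ht1]
    have hsup := sup_lines h.card (zpowers_le.2 (hsoc y y.2)) (zpowers_le.2 (hsoc t ht)) hLc htc
      fun e => htL (e ▸ mem_zpowers _)
    have hxs : x ∈ zpowers ((y : G) ^ p ^ m) ⊔ zpowers (t ^ p ^ m) := hsup.ge (hL₀ hx)
    rw [← SetLike.mem_coe, Subgroup.coe_mul_of_left_le_normalizer_right _ (zpowers (t ^ p ^ m))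
      (((zpowers_le.2 (hsoc y y.2)).trans (le_centralizer_iff_isMulCommutative.2 h.elem.1)).trans
        ((centralizer_le (zpowers_le.2 (hsoc t ht))).trans (centralizer_le_normalizer _)))] at hxs
    obtain ⟨_, ⟨i, rfl⟩, _, ⟨j, rfl⟩, he⟩ := hxs
    simp only at he
    have hcy : Commute ((y : G) ^ i) (t ^ j) :=
      (show Commute (y : G) t from congrArg Subtype.val (h.sylow_comm.is_comm.comm y ⟨t, ht⟩)).zpow_zpow i j
    have hw : ((y : G) ^ i * t ^ j) ^ p ^ m = x := by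
      rw [hcy.mul_pow, ← he, ← zpow_natCast, ← zpow_natCast, ← zpow_natCast, ← zpow_natCast, ← zpow_mul,
        ← zpow_mul, ← zpow_mul, ← zpow_mul, mul_comm i, mul_comm j]
    exact hL₀f (hxgen ▸ hw ▸ hgood _ (T.mul_mem (T.zpow_mem y.2 i) (T.zpow_mem ht j)) (hw ▸ hx1))
  · -- an operator with two eigenlines
    push Not at hscal
    obtain ⟨z₀, hz₀, L', hL', hL'c, hz₀L⟩ := hscal
    obtain ⟨r, hr, z, hzz, hzr, hzL⟩ : ∃ r : ℕ, ∃ _ : Fact r.Prime, ∃ z ∈ zpowers z₀, (∃ m, z ^ r ^ m = 1) ∧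
        z ∉ normalizer (L' : Set G) := by
      by_contra hcon
      push Not at hcon
      refine hz₀L ((Grp.le_of_forall_sylow (inf_le_left : zpowers z₀ ⊓ normalizer (L' : Set G) ≤ zpowers z₀)
        fun q hq => ?_) (mem_zpowers z₀)).2
      obtain ⟨X, hX⟩ := Grp.exists_isSylowIn q (zpowers z₀)
      refine ⟨X, hX, le_inf hX.1 fun w hw => hcon q hq w (hX.1 hw) ?_⟩
      obtain ⟨k, hk⟩ := hX.2.1 ⟨w, hw⟩
      exact ⟨k, by simpa using congrArg Subtype.val hk⟩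
    have hzR : z ∈ R := (zpowers_le.2 hz₀) hzz
    obtain ⟨m, hm⟩ := hzr
    have hzA := hRA hzR
    have hz1 : z ≠ 1 := fun e => hzL (e ▸ one_mem _)
    have hrτ : r ∉ Cfsg.tau2 M := by
      refine hRτ r hr.out (dvd_trans ?_ (Subgroup.orderOf_dvd_natCard _ hzR))
      obtain ⟨i, -, hi⟩ := (Nat.dvd_prime_pow hr.out).1 (orderOf_dvd_of_pow_eq_one hm)
      rw [hi]
      exact dvd_pow_self r fun e => hz1 (orderOf_eq_one_iff.1 (by rw [hi, e, pow_zero]))
    obtain ⟨L, hL, hLc, hzN⟩ : ∃ L : Subgroup G, L ≤ A ∧ Nat.card L = p ∧ z ∈ normalizer (L : Set G) := by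
      by_contra hcon
      push Not at hcon
      exact h.no_line_contra (hRE hzR) hm hrτ (fun w hw hwo => hfree w ((zpowers_le.2 hzR) hw) (hwo ▸ hr.out)) hcon
    obtain ⟨x, hx, hx1, hxgen⟩ := exists_generator_line hLc
    have hxo : orderOf x = p := orderOf_eq_prime (h.elem.2 x (hL hx)) hx1
    obtain ⟨a, ha⟩ := exists_nat_pow_conj (hxgen.symm ▸ hzN : z ∈ normalizer (zpowers x : Set G))
    have hLa : ∀ w ∈ L, z * w * z⁻¹ = w ^ a := by
      intro w hw
      obtain ⟨i, rfl⟩ := (Submonoid.mem_powers_iff _ _).1 (mem_powers_iff_mem_zpowers.2 (hxgen.symm ▸ hw : w ∈ zpowers x))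
      rw [← conj_pow, ha, ← pow_mul, ← pow_mul, mul_comm]
    have hnon : ∃ w ∈ A, z * w * z⁻¹ ≠ w ^ a := by
      by_contra hcon
      push Not at hcon
      obtain ⟨x', hx', -, hx'gen⟩ := exists_generator_line hL'c
      refine hzL (hx'gen ▸ mem_normalizer_zpowers ?_)
      rw [hcon x' (hL' hx')]
      exact npow_mem_zpowers x' a
    obtain ⟨K₁, K₂, a', hK₁T, hK₂T, hbot, hdec, hK₁, hp', hinv⟩ := exists_twist_split h.sylow_comm h.hT.2.1
      (hRT hzR) (hzp z hzR) (h.le_sylow (hL hx)) hxo ha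
    have hRK : R ≤ normalizer (K₁ : Set G) ∧ R ≤ normalizer (K₂ : Set G) :=
      ⟨fun g hg => (hinv g (hRT hg) (hR' (commutator_mem_commutator hg hzR))).1,
        fun g hg => (hinv g (hRT hg) (hR' (commutator_mem_commutator hg hzR))).2⟩
    have hLK : L ≤ K₁ := fun w hw => (hK₁ w (h.le_sylow (hL hw))).2 (by
      rw [hp' w (h.le_sylow (hL hw)) (h.elem.2 w (hL hw))]; exact hLa w hw)
    obtain ⟨w₀, hw₀, hw₀a⟩ := hnon
    have hAK₁ : ¬ A ≤ K₁ := fun hle => hw₀a (by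
      rw [(hK₁ w₀ (h.le_sylow hw₀)).1 (hle hw₀), hp' w₀ (h.le_sylow hw₀) (h.elem.2 w₀ hw₀)])
    have hK₂1 : K₂ ≠ ⊥ := fun e => hAK₁ fun w hw => by
      obtain ⟨t₁, ht₁, t₂, ht₂, e'⟩ := hdec w (h.le_sylow hw)
      rw [e, mem_bot] at ht₂
      rw [e', ht₂, mul_one]; exact ht₁
    obtain ⟨x₂, hx₂⟩ := exists_prime_orderOf_dvd_card' p (dvd_card_of_pGroup (h.hT.2.1.to_le hK₂T) hK₂1)
    have hx₂o : orderOf (x₂ : G) = p := by rw [Subgroup.orderOf_coe, hx₂]
    set L₂ := zpowers (x₂ : G) with hL₂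
    have hL₂A : L₂ ≤ A := zpowers_le.2 (h.mem_plane (h.hT.1 (hK₂T x₂.2)) (by rw [← hx₂o, pow_orderOf_eq_one]))
    have hL₂K : L₂ ≤ K₂ := zpowers_le.2 x₂.2
    have hL₂c : Nat.card L₂ = p := by rw [hL₂, Nat.card_zpowers, hx₂o]
    have hne : L ≠ L₂ := fun e => hx1 (by
      have : x ∈ K₁ ⊓ K₂ := ⟨hLK hx, hL₂K (e ▸ hx)⟩
      rwa [hbot, mem_bot] at this)
    have hAK₂ : ¬ A ≤ K₂ := fun hle => hx1 (by
      have : x ∈ K₁ ⊓ K₂ := ⟨hLK hx, hle (hL hx)⟩
      rwa [hbot, mem_bot] at this)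
    have hc₁ := h.cyclic_of_not_ge hK₁T hAK₁
    have hc₂ := h.cyclic_of_not_ge hK₂T hAK₂
    have hpick : ∀ (C D : Subgroup G) (LC : Subgroup G), IsCyclic C → C ≤ T → D ≤ T → R ≤ normalizer (C : Set G) →
        LC ≤ A → LC ≤ C → Nat.card LC = p → Nat.card D ∣ Nat.card C →
        (∀ t ∈ T, ∃ c ∈ C, ∃ d ∈ D, t = c * d) → (Nat.card D = Nat.card C → ¬ FixesCore M LC) →
        ∃ C : Subgroup G, C ≤ T ∧ IsCyclic C ∧ R ≤ normalizer (C : Set G) ∧
          (∀ y ∈ C, orderOf y = p → Cfsg.sigmaCore M ⊓ centralizer ({y} : Set G) = ⊥) ∧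
          ∀ t ∈ T, orderOf t ∣ Nat.card C := by
      intro C D LC hC hCT hDT hRC hLA hLC hLCc hdvd hdec hfr
      have hexp : ∀ t ∈ T, orderOf t ∣ Nat.card C := fun t ht => by
        obtain ⟨c, hc, d, hd, rfl⟩ := hdec t ht
        have hcd : Commute c d := congrArg Subtype.val (h.sylow_comm.is_comm.comm (⟨c, hCT hc⟩ : T) ⟨d, hDT hd⟩)
        exact hcd.orderOf_mul_dvd_lcm.trans (Nat.lcm_dvd (Subgroup.orderOf_dvd_natCard _ hc)
          ((Subgroup.orderOf_dvd_natCard _ hd).trans hdvd))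
      by_cases hf : FixesCore M LC
      swap
      · exact ⟨C, hCT, hC, hRC, hline hC hCT hLA hLC hLCc hf, hexp⟩
      exfalso
      obtain ⟨i, hi⟩ := IsPGroup.iff_card.1 (h.hT.2.1.to_le hCT)
      obtain ⟨j, hj⟩ := IsPGroup.iff_card.1 (h.hT.2.1.to_le hDT)
      rw [hi, hj, Nat.pow_dvd_pow_iff_le_right hp.out.one_lt] at hdvd
      have hji : j < i := lt_of_le_of_ne hdvd fun e => hfr (by rw [hi, hj, e]) hf
      obtain ⟨g, hg⟩ := hC.exists_generator
      have hgo : orderOf (g : G) = p ^ i := by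
        rw [Subgroup.orderOf_coe, ← hi]; exact orderOf_eq_card_of_forall_mem_zpowers hg
      refine h.image_line_contra hLA hLCc hf (m := i - 1) (fun t ht => ?_) ⟨g, hCT g.2, fun e => ?_⟩
      · obtain ⟨c, hc, d, hd, rfl⟩ := hdec t ht
        have hcd : Commute c d := congrArg Subtype.val (h.sylow_comm.is_comm.comm (⟨c, hCT hc⟩ : T) ⟨d, hDT hd⟩)
        have hd1 : d ^ p ^ (i - 1) = 1 := by
          rw [← orderOf_dvd_iff_pow_eq_one]
          exact ((Subgroup.orderOf_dvd_natCard _ hd).trans (dvd_of_eq hj)).trans (pow_dvd_pow p (by omega))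
        rw [hcd.mul_pow, hd1, mul_one]
        refine (h.plane_inf_cyclic hC hLA hLC hLCc).le ⟨h.mem_plane (h.hT.1 (hCT (C.pow_mem hc _))) ?_, C.pow_mem hc _⟩
        rw [← pow_mul, ← pow_succ, ← orderOf_dvd_iff_pow_eq_one, Nat.sub_add_cancel (by omega)]
        exact (Subgroup.orderOf_dvd_natCard _ hc).trans (dvd_of_eq hi)
      · have := orderOf_dvd_of_pow_eq_one e
        rw [hgo, Nat.pow_dvd_pow_iff_le_right hp.out.one_lt] at this
        omega
    have hdec₂ : ∀ t ∈ T, ∃ c ∈ K₂, ∃ d ∈ K₁, t = c * d := fun t ht => by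
      obtain ⟨t₁, h1, t₂, h2, e⟩ := hdec t ht
      exact ⟨t₂, h2, t₁, h1, e.trans (congrArg Subtype.val
        (h.sylow_comm.is_comm.comm (⟨t₁, hK₁T h1⟩ : T) ⟨t₂, hK₂T h2⟩))⟩
    obtain ⟨i, hi⟩ := IsPGroup.iff_card.1 (h.hT.2.1.to_le hK₁T)
    obtain ⟨j, hj⟩ := IsPGroup.iff_card.1 (h.hT.2.1.to_le hK₂T)
    rcases lt_trichotomy i j with hij | hij | hij
    · exact hpick K₂ K₁ L₂ hc₂ hK₂T hK₁T hRK.2 hL₂A hL₂K hL₂c (by rw [hi, hj]; exact pow_dvd_pow p hij.le) hdec₂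
        fun e => absurd (Nat.pow_right_injective hp.out.two_le (hi.symm.trans (e.trans hj))) hij.ne
    · by_cases hf : FixesCore M L
      · refine hpick K₂ K₁ L₂ hc₂ hK₂T hK₁T hRK.2 hL₂A hL₂K hL₂c (by rw [hi, hj, hij]) hdec₂ fun _ hf' => ?_
        exact h.not_both_fixing hzA (hzp z hzR) hL hL₂A hLc hL₂c hne hLa ⟨w₀, hw₀, hw₀a⟩ hf hf'
      · exact hpick K₁ K₂ L hc₁ hK₁T hK₂T hRK.1 hL hLK hLc (by rw [hi, hj, hij]) hdec fun _ => hf
    · exact hpick K₁ K₂ L hc₁ hK₁T hK₂T hRK.1 hL hLK hLc (by rw [hi, hj]; exact pow_dvd_pow p hij.le) hdec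
        fun e => absurd (Nat.pow_right_injective hp.out.two_le (hj.symm.trans (e.trans hi))) hij.ne

end Cfsg.Agent.Transfer.Loc.TauPlane
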