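import Cfsg.Agent.Lib.Transfer.Local.TauTwoMover

/-!
A `τ₁`-element with fixed points in `M_σ` acts freely on every `τ₂`-plane.
-/

set_option autoImplicit false
set_option linter.style.haveILetI false
set_option linter.unusedSectionVars false
set_option maxHeartbeats 1000000

namespace Cfsg.Agent.Transfer.Loc

open Subgroup
open scoped commutatorElement Pointwise

universe u

variable {G : Type u} [Group G] [Finite G]

/-- A `τ₁`-subgroup of order `r` fixing a point of `M_σ` fixes no point of a `τ₂`-plane. -/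
theorem tau1_tau2_free (hG : Cfsg.IsMinSimpleOddOrder G) {M E : Subgroup G} (hM : IsCoatom M)
    (hE : Cfsg.IsComplIn E (Cfsg.sigmaCore M) M) {r s : ℕ} [hr : Fact r.Prime] [hs : Fact s.Prime]
    (hτ : r ∈ Cfsg.tau1 M) {R : Subgroup G} (hRE : R ≤ E) (hR : Nat.card R = r)
    (hfix : Cfsg.sigmaCore M ⊓ centralizer (R : Set G) ≠ ⊥) (hτs : s ∈ Cfsg.tau2 M) {A : Subgroup G}
    (hAE : A ≤ E) (hA : Cfsg.IsElementaryAbelian s A) (hA2 : Nat.card A = s ^ 2) :
    A ⊓ centralizer (R : Set G) = ⊥ := by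
  by_contra hne
  haveI := solvable_of_ne_top hG hM.1
  have hAp := Grp.elemAb_isPGroup hA
  have hRM : R ≤ M := hRE.trans hE.1
  have hAM : A ≤ M := hAE.trans hE.1
  have hrs : r ≠ s := fun e => hτs.2.2.2 (e ▸ hτ.2.2.2.2)
  obtain ⟨L, hLA, hLR, hL⟩ : ∃ L : Subgroup G, L ≤ A ∧ L ≤ centralizer (R : Set G) ∧ Nat.card L = s := by
    obtain ⟨a, ha, ha1⟩ := (A ⊓ centralizer (R : Set G)).bot_or_exists_ne_one.resolve_left hne
    exact ⟨zpowers a, zpowers_le.2 ha.1, zpowers_le.2 ha.2,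
      by rw [Nat.card_zpowers, orderOf_eq_prime (hA.2 a ha.1) ha1]⟩
  set W := Cfsg.sigmaCore M ⊓ centralizer (R : Set G) with hW
  have hWL : W ≤ centralizer (L : Set G) := cent_tau1 hG hM hτ hRM hR (hLA.trans hAM) hL hLR hτs.2.1
  have hLfix : Cfsg.sigmaCore M ⊓ centralizer (L : Set G) ≠ ⊥ := ne_bot_of_le_ne_bot hfix (le_inf inf_le_left hWL)
  obtain ⟨⟨hEA, -⟩, ⟨-, hME, hNA⟩, huniq⟩ := Cfsg.Agent.S1418.result hG M hM E hE s hτs A ⟨hAE, hA, hA2⟩
  have hCL := huniq L hLA hL hLfix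
  have hNL := normalizer_le_of_unique hG hM hCL
  have hexc : Exc M s A L :=
    ⟨hG, hM, hτs.2.1, hAM, IsMaxPlane.of_sigma' hG hM hτs.2.1 hAM hA hA2, hLA, hL, hNL⟩
  -- `R` moves the plane
  have hRA : ¬ R ≤ centralizer (A : Set G) := fun hc => by
    refine hfix (le_bot_iff.1 ((le_inf inf_le_left (le_centralizer_iff.1 fun a ha => ?_)).trans hexc.fixed_plane.le))
    rcases eq_or_ne a 1 with rfl | ha1
    · exact one_mem _
    have := cent_tau1 hG hM hτ hRM hR (zpowers_le.2 (hAM ha))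
      (by rw [Nat.card_zpowers, orderOf_eq_prime (hA.2 a ha) ha1])
      (zpowers_le.2 ((le_centralizer_iff.1 hc) ha)) hτs.2.1
    exact mem_centralizer_iff.2 fun w hw => (mem_centralizer_iff.1 (this hw) a (mem_zpowers a)).symm
  have hRN : R ≤ normalizer (A : Set G) := hRE.trans hEA
  have hRL : R ≤ centralizer (L : Set G) := le_centralizer_iff.1 hLR
  by_cases habel : ∀ S : Sylow s G, IsMulCommutative (S : Subgroup G)
  · refine hNA ((plane_line_invariant hG hM hE hτs habel hAE hA hA2 hLA hL hRN (fun hd => ?_) hRL hRA).trans hNL)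
    exact hrs.symm ((Nat.prime_dvd_prime_iff_eq hs.out hr.out).1 (hR ▸ hd))
  -- the nonabelian case
  push Not at habel
  obtain ⟨S₀, hS₀⟩ := habel
  have hna : ∀ S : Sylow s G, ¬ IsMulCommutative (S : Subgroup G) := fun S hab => hS₀ (by
    haveI := hab
    exact ⟨⟨fun a b => (S.equiv S₀).symm.injective (by
      rw [map_mul, map_mul]; exact hab.is_comm.comm _ _)⟩⟩)
  obtain ⟨x, hxR, hx1, hxgen⟩ := exists_generator_line hR
  have hxr : x ^ r = 1 := by
    rw [← orderOf_dvd_iff_pow_eq_one, ← Nat.card_zpowers, hxgen, hR]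
  have hxC : x ∉ centralizer (A : Set G) := fun hc => hRA (by rw [← hxgen, zpowers_le]; exact hc)
  have hEL := line_moved hexc hE hτs hAE hna hr.out hrs hxr (hRN hxR) (hRL hxR) hxC
  obtain ⟨S, hAS⟩ := hAp.exists_le_sylow
  obtain ⟨hML, -⟩ := hexc.lines_facts hAS (hna S)
  have hLeq : A ⊓ centralizer (Cfsg.sigmaCore M : Set G) = L := by
    have h0 : L ≤ A ⊓ centralizer (Cfsg.sigmaCore M : Set G) := le_inf hLA (le_centralizer_iff.1 hML)
    refine (Subgroup.eq_of_le_of_card_ge h0 ?_).symm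
    obtain ⟨i, hi, hci⟩ := (Nat.dvd_prime_pow hs.out).1 (hA2 ▸ card_dvd_of_le
      (inf_le_left : A ⊓ centralizer (Cfsg.sigmaCore M : Set G) ≤ A))
    rw [hci, hL]
    refine (Nat.pow_le_pow_right hs.out.pos (?_ : i ≤ 1)).trans (pow_one s).le
    by_contra hi1
    have hfull : A ⊓ centralizer (Cfsg.sigmaCore M : Set G) = A := Subgroup.eq_of_le_of_card_ge inf_le_left (by
      rw [hci, hA2]; exact Nat.pow_le_pow_right hs.out.pos (by omega))
    exact sigmaCore_ne_bot hG hM (le_bot_iff.1 ((le_inf le_rfl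
      (le_centralizer_iff.1 (hfull.ge.trans inf_le_right))).trans hexc.fixed_plane.le))
  have hEL' : E ≤ normalizer (L : Set G) := hLeq ▸ Grp.le_normalizer_inf' hEA
    ((hE.1.trans (sigma_le_normalizer hE)).trans (normalizer_le_normalizer_cent _))
  have hLE : L ≤ E := hLA.trans hAE
  -- `E'` centralises the line, so some element of `C_E(R)` moves it
  have hLD : L ≤ ⁅E, E⁆ := by
    have h1 := comm_eq_of_moves hL hEL' hEL
    exact h1.ge.trans (Subgroup.commutator_mono hLE le_rfl)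
  have hDL : ⁅E, E⁆ ≤ centralizer (L : Set G) :=
    (le_centralizer_iff_isMulCommutative.2 (Cfsg.Agent.S1420.result hG M hM E hE).2.1).trans (centralizer_le hLD)
  have hnd : ¬ r ∣ Nat.card ↥⁅E, E⁆ := fun h => hτ.2.2.2.1 (h.trans (card_dvd_of_le (commutator_mono hE.1 hE.1)))
  have hCE : ¬ E ⊓ centralizer (R : Set G) ≤ centralizer (L : Set G) := fun h =>
    hEL ((compl_cover hG hM hE hRE hR hnd).trans (sup_le hDL h))
  obtain ⟨H, hH, hNH⟩ := exists_coatom_normalizer hG (K := R)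
    (fun e => hr.out.ne_one (hR.symm.trans (by rw [e, Subgroup.card_bot]))) fun e => hM.1 (top_le_iff.1 (e ▸ hRM))
  have hnc : ∀ g : G, H ≠ MulAut.conj g • M := rank_one_not_conj hG hM hτ.2.1 hτ.2.2.2.2 hR hNH
  have hHM : H ≠ M := fun e => hnc 1 (by rw [map_one, one_smul]; exact e)
  have hCH : centralizer (R : Set G) ≤ H := (centralizer_le_normalizer _).trans hNH
  have hLH : L ≤ H := hLR.trans hCH
  have hRH : R ≤ H := le_normalizer.trans hNH
  have hLH' : L ≤ ⁅H, H⁆ := by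
    have h1 := comm_eq_of_moves hL (inf_le_left.trans hEL') hCE
    exact h1.ge.trans (Subgroup.commutator_mono hLH (inf_le_right.trans hCH))
  have hsH : s ∣ Nat.card ↥⁅H, H⁆ := hL ▸ card_dvd_of_le hLH'
  -- a fixed point of `R`
  obtain ⟨t, ht, htW⟩ := Nat.exists_prime_and_dvd (n := Nat.card W) fun e => hfix (card_eq_one.1 e)
  haveI := Fact.mk ht
  obtain ⟨z, hz⟩ := exists_prime_orderOf_dvd_card' (G := W) t htW
  have hZ : Nat.card (zpowers (z : G)) = t := by rw [Nat.card_zpowers, Subgroup.orderOf_coe, hz]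
  set Z := zpowers (z : G) with hZdef
  have hZW : Z ≤ W := zpowers_le.2 z.2
  have hCZ := tau1_unique hG hM hτ hRM hR hZ hZW
  have hNZ := normalizer_le_of_unique hG hM hCZ
  have htH : t ∉ Cfsg.sigma H := tau1_private hG hM hτ hRM hR hZ hZW hH hnc
  have htH1 : Cfsg.PRankLE t 1 H := tau1_fixed_rank_one hG hM hτ hRM hR hZW hZ hH hNH
  have hZH : Z ≤ H := (hZW.trans inf_le_right).trans hCH
  have hLZ : L ≤ centralizer (Z : Set G) := le_centralizer_iff.1 (hZW.trans hWL)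
  have hrH : r ∈ Cfsg.sigma H ∨ r ∈ Cfsg.tau2 H := sigma_or_tau2 hG hR hH hNH
  haveI := solvable_of_ne_top hG hH.1
  have hcompl : ∀ {q : ℕ} [Fact q.Prime] (X : Subgroup G), Nat.card X = q → X ≤ H → q ∉ Cfsg.sigma H →
      ∃ F : Subgroup G, Cfsg.IsComplIn F (Cfsg.sigmaCore H) H ∧ X ≤ F := fun {q} _ X hX hXH hq =>
    exists_compl_ge hG hH hXH fun p hp hd => by
      rw [hX, Nat.prime_dvd_prime_iff_eq hp (Fact.out (p := q.Prime))] at hd; exact hd ▸ hq
  have hsigmaR : r ∈ Cfsg.sigma H → R ≤ Cfsg.sigmaCore H := fun hσ => by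
    obtain ⟨T, hT, hle⟩ := exists_sylowIn_ge hRH (IsPGroup.of_card (n := 1) (by rw [hR, pow_one]) : IsPGroup r R)
    exact hle.trans (sylow_le_piCore hG hH (alpha_subset_sigma hG hH) le_rfl hσ hT)
  have hR1 : R ≠ ⊥ := fun e => hr.out.ne_one (hR.symm.trans (by rw [e, Subgroup.card_bot]))
  by_cases hsσ : s ∈ Cfsg.sigma H
  · have hLσ : L ≤ Cfsg.sigmaCore H := by
      obtain ⟨T, hT, hle⟩ := exists_sylowIn_ge hLH (IsPGroup.of_card (n := 1) (by rw [hL, pow_one]) : IsPGroup s L)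
      exact hle.trans (sylow_le_piCore hG hH (alpha_subset_sigma hG hH) le_rfl hsσ hT)
    have htdH : t ∣ Nat.card H := hZ ▸ card_dvd_of_le hZH
    by_cases htd : t ∣ Nat.card ↥⁅H, H⁆
    · obtain ⟨F, hF, hZF⟩ := hcompl Z hZ hZH htH
      have hirr : Irregular H F M t Z := ⟨hG, hH, hF, ⟨ht, htH, htd, htH1⟩, hZF, hZ,
        ne_bot_of_le_ne_bot (fun e => hs.out.ne_one (hL.symm.trans (by rw [e, Subgroup.card_bot])))
          (le_inf hLσ hLZ), hM, hNZ⟩
      exact hτs.2.2.2 (hirr.meet_rank_one (t := s) (hL ▸ card_dvd_of_le (le_inf hLσ (hLA.trans hAM)))).2.2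
    · exact hHM ((tau1_unique hG hH ⟨ht, htH, htdH, htd, htH1⟩ hZH hZ hL (le_inf hLσ hLZ)).2 M hM hCL.1).symm
  obtain ⟨F, hF, hLF⟩ := hcompl L hL hLH hsσ
  haveI := isSolvable_of_le hF.1
  by_cases hs1 : Cfsg.PRankLE s 1 H
  · rcases hrH with hrσ | hrτ
    · have hirr : Irregular H F M s L := ⟨hG, hH, hF, ⟨hs.out, hsσ, hsH, hs1⟩, hLF, hL,
        ne_bot_of_le_ne_bot hR1 (le_inf (hsigmaR hrσ) hRL), hM, hNL⟩
      exact hτs.2.1 hirr.sigma_L
    · obtain ⟨T, hT⟩ := Grp.exists_isSylowIn r F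
      obtain ⟨B, hBT, hB, hB2⟩ := tau2_plane hG hH hF hrτ hT
      have h1 := derived_centralizes_plane hG hH hF hrτ (hBT.trans hT.1) hB hB2
        (tau3_normal hG hH hF hsσ hs1 hsH hLF hL).1 (fun hd => hrs ((Nat.prime_dvd_prime_iff_eq hr.out hs.out).1
          (hL ▸ hd)))
      exact not_prank_of_elem ((le_centralizer_iff.1 h1).trans hCL.1) hB hB2.ge hτ.2.2.2.2
  · have hsτ : s ∈ Cfsg.tau2 H := tau2_of_not_rank_one hG hH hsσ hs1
    obtain ⟨T, hT, hLT⟩ := exists_sylowIn_ge hLF (IsPGroup.of_card (n := 1) (by rw [hL, pow_one]) : IsPGroup s L)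
    obtain ⟨B, hBT, hB, hB2⟩ := tau2_plane hG hH hF hsτ hT
    rcases hrH with hrσ | hrτ
    · obtain ⟨⟨-, hlines⟩, -, hu⟩ := Cfsg.Agent.S1418.result hG H hH F hF s hsτ B ⟨hBT.trans hT.1, hB, hB2⟩
      exact hHM ((hu L (hlines L hLF hL) hL (ne_bot_of_le_ne_bot hR1 (le_inf (hsigmaR hrσ) hRL))).2 M hM hCL.1).symm
    · have h1 := (Cfsg.Agent.S1419.result hG H hH F hF s hsτ hna B ⟨hBT.trans hT.1, hB, hB2⟩).1
      rw [h1] at hrτ
      exact hrs hrτ

end Cfsg.Agent.Transfer.Loc
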