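import Cfsg.Agent.Lib.Transfer.Local.TauTwoPlane
import Cfsg.Agent.Lib.Transfer.Local.SigmaPartition

/-!
A free `p'`-operator of a `τ₂`-plane normalises a line.
-/

set_option autoImplicit false
set_option linter.style.haveILetI false
set_option linter.unusedSectionVars false
set_option maxHeartbeats 2000000

namespace Cfsg.Agent.Transfer.Loc.TauPlane

open Subgroup
open scoped commutatorElement Pointwise

universe u

variable {G : Type u} [Group G] [Finite G] {M E A T : Subgroup G} {p : ℕ} [hp : Fact p.Prime]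
  (h : TauPlane M E p A T)
include h

/-- An element commuting with `z` fixes nothing of the plane if `z` normalises no line. -/
theorem free_of_commute {z x : G} (hzA : z ∈ normalizer (A : Set G))
    (hno : ∀ L : Subgroup G, L ≤ A → Nat.card L = p → z ∉ normalizer (L : Set G))
    (hzx : z * x = x * z) (hx : x ∉ centralizer (A : Set G)) : A ⊓ centralizer ({x} : Set G) = ⊥ := by
  by_contra hne
  refine hno (A ⊓ centralizer ({x} : Set G)) inf_le_left (h.fixed_card hne hx) ?_
  rw [Grp.mem_normalizer_iff_smul]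
  refine Subgroup.eq_of_le_of_card_ge ?_ (by rw [Grp.card_conj_smul])
  rintro _ ⟨a, ha, rfl⟩
  refine ⟨Grp.mem_conj_normalizer hzA ha.1, mem_centralizer_singleton_iff.2 ?_⟩
  show MulAut.conj z a * x = x * MulAut.conj z a
  rw [MulAut.conj_apply]
  calc z * a * z⁻¹ * x = z * (a * (z⁻¹ * x * z)) * z⁻¹ := by group
    _ = z * (a * x) * z⁻¹ := by rw [mul_assoc z⁻¹ x z, ← hzx, inv_mul_cancel_left]
    _ = z * (x * a) * z⁻¹ := by rw [mem_centralizer_singleton_iff.1 ha.2]
    _ = x * (z * a * z⁻¹) := by rw [← mul_assoc z x a, hzx]; group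

/-- A `τ₁ ∪ τ₃`-operator acting freely on `M_σ` normalises some line. -/
theorem no_line_contra {z : G} (hz : z ∈ E) {r m : ℕ} [hr : Fact r.Prime] (hzo : z ^ r ^ m = 1)
    (hrτ : r ∉ Cfsg.tau2 M)
    (hfree : ∀ y ∈ zpowers z, orderOf y = r → Cfsg.sigmaCore M ⊓ centralizer ({y} : Set G) = ⊥)
    (hno : ∀ L : Subgroup G, L ≤ A → Nat.card L = p → z ∉ normalizer (L : Set G)) : False := by
  have hG := h.hG
  have hM := h.hM
  haveI := solvable_of_ne_top hG hM.1
  haveI := isSolvable_of_le h.hE.1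
  have hzM : z ∈ M := h.hE.1 hz
  have hzA : z ∈ normalizer (A : Set G) := h.compl_normalizes hz
  set S := Cfsg.sigmaCore M with hS
  have hMS : M ≤ normalizer (S : Set G) := TransHyp.le_normalizer_piCoreOf M
  obtain ⟨L₀, hL₀, hL₀c, -⟩ := h.exists_free
  have hzC : z ∉ centralizer (A : Set G) := fun hc => hno L₀ hL₀ hL₀c
    (centralizer_le_normalizer _ (centralizer_le hL₀ hc))
  have hrp : r ≠ p := fun e => hrτ (e ▸ h.hτ)
  have hzne : z ≠ 1 := fun e => hzC (e ▸ one_mem _)
  obtain ⟨r', hr', y, hy, hyo, hyc, hr'd⟩ := exists_prime_zpowers_le hzne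
  have hr'r : r' = r := (Nat.prime_dvd_prime_iff_eq hr'.out hr.out).1
    (hr'.out.dvd_of_dvd_pow (hr'd.trans (orderOf_dvd_of_pow_eq_one hzo)))
  subst hr'r
  have hyE : y ∈ E := (zpowers_le.2 hz) hy
  have hzy : z * y = y * z := by
    obtain ⟨i, rfl⟩ := hy
    exact ((Commute.refl z).zpow_right i).eq
  have hrσ : r' ∉ Cfsg.sigma M :=
    compl_prime hG hM h.hE hr.out (hyo ▸ Subgroup.orderOf_dvd_natCard _ hyE)
  have hA1 : A ≠ ⊥ := fun e => by
    have := h.card; rw [e, Subgroup.card_bot] at this; nlinarith [hp.out.two_le]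
  haveI : IsMulCommutative A := h.elem.1
  -- the element of prime order centralises the plane
  have hyA : y ∈ centralizer (A : Set G) := by
    by_contra hc
    refine h.not_all_fixing le_rfl (le_centralizer_of_fpf (p := r') (b := y) (by rw [← hyo, pow_orderOf_eq_one])
      (hMS (h.hE.1 hyE)) (h.compl_normalizes hyE) ((h.hAE.trans h.hE.1).trans hMS) ?_ (hfree y hy hyo)
      (h.free_of_commute hzA hno hzy hc))
    exact ((compl_coprime hG hM h.hE).coprime_dvd_left (card_dvd_of_le h.hAE)).symm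
  have hrk : Cfsg.PRankLE r' 1 M := rank_one_of_not_tau2 hG hM hrσ hrτ
  have hzr : IsPGroup r' (zpowers z) := isPGroup_of_primes fun q hq hd => (Nat.prime_dvd_prime_iff_eq hq hr.out).1
    (hq.dvd_of_dvd_pow ((Nat.card_zpowers z ▸ hd).trans (orderOf_dvd_of_pow_eq_one hzo)))
  have hzZ : zpowers z ≤ normalizer (A : Set G) := zpowers_le.2 hzA
  -- `[A, z] = A`
  have hAz : ⁅A, zpowers z⁆ = A := by
    have h0 : A ⊓ centralizer (zpowers z : Set G) = ⊥ := by
      refine le_bot_iff.1 (le_trans (inf_le_inf_left A (centralizer_le (Set.singleton_subset_iff.2 (mem_zpowers z))))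
        (h.free_of_commute hzA hno rfl hzC).le)
    have h1 := Grp.commutator_sup_fixed (zpowers z) A hzZ (by
      obtain ⟨i, hi⟩ := IsPGroup.iff_card.1 hzr
      rw [hi, h.card]
      exact Nat.Coprime.pow _ _ ((Nat.coprime_primes hr.out hp.out).2 hrp))
      (Or.inl inferInstance)
    rwa [h0, sup_bot_eq] at h1
  -- a maximal overgroup of the normaliser of `y`
  have hy1 : zpowers y ≠ ⊥ := fun e => hr.out.ne_one (by rw [← hyc, e, Subgroup.card_bot])
  obtain ⟨H, hH, hNH⟩ := exists_coatom_normalizer hG hy1 fun e =>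
    hM.1 (top_le_iff.1 (e ▸ zpowers_le.2 (h.hE.1 hyE)))
  haveI := solvable_of_ne_top hG hH.1
  have hAH : A ≤ H := fun a ha => hNH (centralizer_le_normalizer _ (mem_centralizer_iff.2 fun w hw => by
    obtain ⟨i, rfl⟩ := hw
    exact ((show Commute y a from (mem_centralizer_iff.1 hyA a ha).symm).zpow_left i).eq))
  have hzH : z ∈ H := hNH (centralizer_le_normalizer _ (mem_centralizer_iff.2 fun w hw => by
    obtain ⟨i, rfl⟩ := hw
    exact ((show Commute y z from hzy.symm).zpow_left i).eq))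
  have hzpi : ∀ q : ℕ, q.Prime → q ∣ orderOf z → q = r' := fun q hq hd =>
    (Nat.prime_dvd_prime_iff_eq hq hr.out).1 (hq.dvd_of_dvd_pow (hd.trans (orderOf_dvd_of_pow_eq_one hzo)))
  rcases sigma_or_tau2 hG hyc hH hNH with hσH | hτH
  · -- `z` and `A` lie in `H_σ`
    have hzS : z ∈ Cfsg.sigmaCore H := mem_sigmaCore_of_pi hG hH hzH fun q hq hd => hzpi q hq hd ▸ hσH
    have hAS : A ≤ Cfsg.sigmaCore H := by
      rw [← hAz]
      refine commutator_le.2 fun a ha w hw => ?_
      rw [commutatorElement_def]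
      exact mul_mem (Grp.mem_conj_normalizer (TransHyp.le_normalizer_piCoreOf H (hAH ha)) ((zpowers_le.2 hzS) hw))
        (inv_mem ((zpowers_le.2 hzS) hw))
    have hcop : ∀ a ∈ A, ∀ w ∈ zpowers z, (orderOf w).Coprime (orderOf a) := fun a ha w hw => by
      refine Nat.Coprime.coprime_dvd_left ((orderOf_dvd_of_mem_zpowers hw).trans (orderOf_dvd_of_pow_eq_one hzo)) ?_
      refine Nat.Coprime.coprime_dvd_right (orderOf_dvd_of_pow_eq_one (h.elem.2 a ha)) ?_
      exact ((Nat.coprime_primes hr.out hp.out).2 hrp).pow_left m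
    by_cases hnil : Group.IsNilpotent (Cfsg.sigmaCore H)
    · refine hA1 (hAz ▸ commutator_eq_bot_iff_le_centralizer.2 fun a ha => mem_centralizer_iff.2 fun w hw => ?_)
      exact TypeP.commute_of_coprime_orderOf hnil ((zpowers_le.2 hzS) hw) (hAS ha) (hcop a ha w hw)
    obtain ⟨K, U, hKU⟩ := exists_decomp_of_max hG hH
    obtain ⟨-, -, -, -, hqp, hβ, Q, hQ, hMQ, -, -, hn, -⟩ := sigmaCore_structure hG hH hKU hnil
    have hSN : Cfsg.sigmaCore H ≤ normalizer (Q : Set G) := (TransHyp.piCoreOf_le H).trans hMQ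
    have hAQ : A ≤ Q := by
      rw [← hAz]
      refine commutator_le.2 fun a ha w hw => ?_
      have hwS := (zpowers_le.2 hzS) hw
      have hc : ⁅QuotientGroup.mk' (Q.subgroupOf (normalizer (Q : Set G))) ⟨a, hSN (hAS ha)⟩,
          QuotientGroup.mk' (Q.subgroupOf (normalizer (Q : Set G))) ⟨w, hSN hwS⟩⁆ = 1 := by
        refine commutatorElement_eq_one_iff_mul_comm.2 (TypeP.commute_of_coprime_orderOf hn
          (mem_qimg (hAS ha) _) (mem_qimg hwS _) ?_)
        refine ((hcop a ha w hw).symm.coprime_dvd_left ?_).coprime_dvd_right ?_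
        · exact (orderOf_map_dvd _ _).trans (Subgroup.orderOf_mk a (hSN (hAS ha))).dvd
        · exact (orderOf_map_dvd _ _).trans (Subgroup.orderOf_mk w (hSN hwS)).dvd
      rw [← map_commutatorElement, QuotientGroup.mk'_apply, QuotientGroup.eq_one_iff, Subgroup.mem_subgroupOf] at hc
      exact hc
    haveI := Fact.mk hqp
    have hpq : p = Nat.card (kStar H K) :=
      eq_of_dvd_pGroup hQ.2.1 hp.out (h.dvd_card.trans (card_dvd_of_le hAQ))
    exact (Cfsg.Agent.S1408.result hG M hM p h.hτ.2.1 h.hτ.2.2.1 h.hτ.2.2.2).1 (hpq ▸ hβ.2)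
  -- an `r`-plane centralised by `z` inside `N(A)`
  obtain ⟨B, hB, hB2, hBA, hzB⟩ : ∃ B : Subgroup G, Cfsg.IsElementaryAbelian r' B ∧ Nat.card B = r' ^ 2 ∧
      B ≤ normalizer (A : Set G) ∧ z ∈ centralizer (B : Set G) := by
    have hplane : ∀ E' : Subgroup G, Cfsg.IsComplIn E' (Cfsg.sigmaCore H) H → z ∈ E' →
        ∃ B : Subgroup G, B ≤ E' ∧ Cfsg.IsElementaryAbelian r' B ∧ Nat.card B = r' ^ 2 ∧
          z ∈ centralizer (B : Set G) := by
      intro E' hE' hzE'
      haveI := isSolvable_of_le hE'.1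
      obtain ⟨V, hV⟩ := Grp.exists_isSylowIn r' E'
      obtain ⟨B, hBV, hB, hB2⟩ := tau2_plane hG hH hE' hτH hV
      exact ⟨B, hBV.trans hV.1, hB, hB2, tau2_centralizes hG hH hE' hτH hτH (hBV.trans hV.1) hB hB2
        (zpowers_le.2 hzE') hzr (mem_zpowers z)⟩
    by_cases hpH : p ∈ Cfsg.sigma H
    · obtain ⟨E', hE', hzE'⟩ := exists_compl_ge hG hH (zpowers_le.2 hzH) fun q hq hd => by
        rw [Nat.card_zpowers] at hd; exact hzpi q hq hd ▸ hτH.2.1
      obtain ⟨B, hBE', hB, hB2, hzB⟩ := hplane E' hE' (hzE' (mem_zpowers z))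
      refine ⟨B, hB, hB2, ?_, hzB⟩
      have hBH : B ≤ H := hBE'.trans hE'.1
      have hnil := (Cfsg.Agent.S1417.result hG H hH r' hτH B ⟨hBH, hB, hB2⟩).1
      have hAO : A ≤ O p H := fun a ha => mem_O_of_mem_fittingOf
        (le_fittingOf (TransHyp.piCoreOf_le H) (TransHyp.le_normalizer_piCoreOf H) hnil
          (mem_sigmaCore_of_pi hG hH (hAH ha) fun q hq hd => by
            rw [(Nat.prime_dvd_prime_iff_eq hq hp.out).1 (hd.trans (orderOf_dvd_of_pow_eq_one (h.elem.2 a ha)))]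
            exact hpH)) (k := 1) (by rw [pow_one]; exact h.elem.2 a ha)
      obtain ⟨S', hOS⟩ := (O_isPGroup p H).exists_le_sylow
      by_cases hab : IsMulCommutative (S' : Subgroup G)
      · intro w hw
        rw [Grp.mem_normalizer_iff_smul]
        refine Subgroup.eq_of_le_of_card_ge ?_ (by rw [Grp.card_conj_smul])
        rintro _ ⟨a, ha, rfl⟩
        refine (tau2_sylow_compl hG hM h.hE h.hτ h.hAE h.elem h.card hab (hAO.trans hOS)).2.2 _
          (hOS (Grp.mem_conj_normalizer (le_normalizer_core' H (hBH hw)) (hAO ha))) ?_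
        show MulAut.conj w a ^ p = 1
        rw [← map_pow, h.elem.2 a ha, map_one]
      · exfalso
        obtain ⟨A₁, hexc⟩ := exists_exc hG hM (h.hAE.trans h.hE.1) h.elem h.card h.hτ.2.1
        obtain ⟨hSA₁, hlines⟩ := hexc.lines_facts (hAO.trans hOS) hab
        refine hno A₁ hexc.hA₀ hexc.hA₀c (Grp.mem_normalizer_iff_smul.2 ?_)
        by_contra hne
        have hle : MulAut.conj z • A₁ ≤ A := (Subgroup.pointwise_smul_le_pointwise_smul_iff.2 hexc.hA₀).trans
          (Grp.mem_normalizer_iff_smul.1 hzA).le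
        have h1 := smul_centralizer_le hSA₁ z
        rw [Grp.mem_normalizer_iff_smul.1 (hMS hzM)] at h1
        exact sigmaCore_ne_bot hG hM (le_bot_iff.1 ((le_inf le_rfl h1).trans
          (hlines _ hle (by rw [Grp.card_conj_smul, hexc.hA₀c]) hne).1.le))
    · obtain ⟨E', hE', hU⟩ := exists_compl_ge hG hH (sup_le (zpowers_le.2 hzH) hAH) fun q hq hd => by
        rcases hq.dvd_mul.1 (hd.trans (Grp.card_sup_dvd_mul hzZ)) with h1 | h1
        · rw [Nat.card_zpowers] at h1; exact hzpi q hq h1 ▸ hτH.2.1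
        · rw [h.card] at h1; exact (Nat.prime_dvd_prime_iff_eq hq hp.out).1 (hq.dvd_of_dvd_pow h1) ▸ hpH
      obtain ⟨B, hBE', hB, hB2, hzB⟩ := hplane E' hE' (hU (mem_sup_left (mem_zpowers z)))
      refine ⟨B, hB, hB2, ?_, hzB⟩
      have hτp : p ∈ Cfsg.tau2 H :=
        tau2_of_not_rank_one hG hH hpH (not_prank_of_elem hAH h.elem (by rw [h.card]))
      exact hBE'.trans (Cfsg.Agent.S1418.result hG H hH E' hE' p hτp A ⟨le_sup_right.trans hU, h.elem, h.card⟩).1.1
  obtain ⟨b, hb, hbM⟩ : ∃ b ∈ B, b ∉ M := SetLike.not_le_iff_exists.1 fun hle =>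
    not_prank_of_elem hle hB (by rw [hB2]) hrk
  have hzb : z * b = b * z := (mem_centralizer_iff.1 hzB b hb).symm
  -- the least power of `z` outside `C(A)`
  obtain ⟨z₁, hz₁, hz₁C, hz₁r⟩ : ∃ z₁ ∈ zpowers z, z₁ ∉ centralizer (A : Set G) ∧
      z₁ ^ r' ∈ centralizer (A : Set G) := by
    classical
    have hex : ∃ j, z ^ r' ^ j ∈ centralizer (A : Set G) := ⟨m, hzo ▸ one_mem _⟩
    have h0 : Nat.find hex ≠ 0 := fun e => hzC (by
      have := Nat.find_spec hex; rwa [e, pow_zero, pow_one] at this)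
    refine ⟨z ^ r' ^ (Nat.find hex - 1), npow_mem_zpowers z _, Nat.find_min hex (by omega), ?_⟩
    rw [← pow_mul, ← pow_succ, Nat.sub_add_cancel (Nat.pos_of_ne_zero h0)]
    exact Nat.find_spec hex
  obtain ⟨l, rfl⟩ := hz₁
  have hlM : z ^ l ∈ M := M.zpow_mem hzM l
  have hlA : z ^ l ∈ normalizer (A : Set G) := hzZ (zpow_mem_zpowers z l)
  have hzl : z * z ^ l = z ^ l * z := ((Commute.refl z).zpow_right l).eq
  have hblA : ∀ i : ℕ, b * (z ^ l) ^ i ∉ centralizer (A : Set G) := fun i hc => hbM (by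
    have := M.mul_mem ((Cfsg.Agent.S1418.result hG M hM E h.hE p h.hτ A h.data).2.1.1 hc).1
      (M.inv_mem (M.pow_mem hlM i))
    rwa [mul_inv_cancel_right] at this)
  have hbA := hBA hb
  letI : CommGroup A := { (inferInstance : Group A) with mul_comm := fun a b => h.elem.1.is_comm.comm a b }
  have hα : ∀ x : A, (conjHom A hlA)^[r'] x = x := fun x => Subtype.ext (by
    rw [conjHom_iterate, ← mem_centralizer_iff.1 hz₁r x x.2, mul_inv_cancel_right])
  have hβ : ∀ x : A, (conjHom A hbA)^[r'] x = x := fun x => Subtype.ext (by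
    rw [conjHom_iterate, hB.2 b hb, one_mul, inv_one, mul_one])
  have hcomm : Function.Commute (⇑(conjHom A hlA)) (⇑(conjHom A hbA)) := fun x => Subtype.ext (by
    show z ^ l * (b * x * b⁻¹) * (z ^ l)⁻¹ = b * (z ^ l * x * (z ^ l)⁻¹) * b⁻¹
    have hbz : Commute b (z ^ l) := (show Commute b z from hzb.symm).zpow_right l
    rw [show z ^ l * (b * x * b⁻¹) * (z ^ l)⁻¹ = z ^ l * b * x * (z ^ l * b)⁻¹ by group, ← hbz.eq]
    group)
  have hfix : ∀ w : G, z * w = w * z → w ∉ centralizer (A : Set G) → ∀ x : A, w * x * w⁻¹ = x → x = 1 := by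
    intro w hzw hwC x hx
    have h1 : (x : G) ∈ A ⊓ centralizer ({w} : Set G) :=
      ⟨x.2, mem_centralizer_singleton_iff.2 (by rw [mul_inv_eq_iff_eq_mul] at hx; exact hx.symm)⟩
    rw [h.free_of_commute hzA hno hzw hwC, mem_bot] at h1
    exact Subtype.ext h1
  obtain ⟨a, ha, ha1⟩ := (bot_or_exists_ne_one A).resolve_left hA1
  have hr1 := pow_eq_one_of_free (conjHom A hlA) (conjHom A hbA) hr.out hα hβ hcomm
    (fun x hx => hfix (z ^ l) hzl hz₁C x (congrArg Subtype.val hx)) (fun i _ x hx => by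
      refine hfix (b * (z ^ l) ^ i) ?_ (hblA i) x ?_
      · exact (((show Commute z b from hzb)).mul_right ((show Commute z (z ^ l) from hzl).pow_right i)).eq
      · have h1 : b * (((conjHom A hlA)^[i] x : A) : G) * b⁻¹ = x := congrArg Subtype.val hx
        rw [conjHom_iterate] at h1
        exact (show b * (z ^ l) ^ i * (x : G) * (b * (z ^ l) ^ i)⁻¹ =
          b * ((z ^ l) ^ i * x * ((z ^ l) ^ i)⁻¹) * b⁻¹ by group).trans h1) ⟨a, ha⟩
  refine ha1 (orderOf_eq_one_iff.1 (Nat.eq_one_of_dvd_coprimes ((Nat.coprime_primes hr.out hp.out).2 hrp)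
    (orderOf_dvd_of_pow_eq_one (congrArg Subtype.val hr1)) (orderOf_dvd_of_pow_eq_one (h.elem.2 a ha))))

end Cfsg.Agent.Transfer.Loc.TauPlane
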