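import Cfsg.Agent.Lib.Transfer.Local.TauThreeMain
import Cfsg.Agent.S1411
import Cfsg.Agent.S1412
import Cfsg.Agent.S1419

/-!
An element moving a plane with nonabelian Sylow subgroup while fixing its line `A₀` forces `E` to move `A₀`.
-/

set_option autoImplicit false
set_option linter.style.haveILetI false
set_option linter.unusedSectionVars false
set_option maxHeartbeats 1000000

namespace Cfsg.Agent.Transfer.Loc

open Subgroup
open scoped commutatorElement Pointwise

universe u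

variable {G : Type u} [Group G] [Finite G] {s : ℕ} [hs : Fact s.Prime]

/-- In a group of order `s³` commutators are central. -/
theorem derived_central_of_card_cube {P : Subgroup G} (hP : Nat.card P = s ^ 3) {a b : G} (ha : a ∈ P) (hb : b ∈ P) :
    ∀ c ∈ P, c * ⁅a, b⁆ = ⁅a, b⁆ * c := by
  haveI : Nontrivial P := Finite.one_lt_card_iff_nontrivial.1 (hP ▸ Nat.one_lt_pow (by norm_num) hs.out.one_lt)
  have hPp : IsPGroup s P := IsPGroup.of_card hP
  haveI := hPp.center_nontrivial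
  have h1 : ∀ u v : P ⧸ center P, u * v = v * u := by
    obtain ⟨k, hk⟩ := IsPGroup.iff_card.1 (hPp.to_quotient (center P))
    have hlt : Nat.card (P ⧸ center P) < s ^ 3 := by
      rw [← hP, card_eq_card_quotient_mul_card_subgroup (center P)]
      exact lt_mul_of_one_lt_right Nat.card_pos Finite.one_lt_card
    rw [hk] at hlt
    have hk3 := (Nat.pow_lt_pow_iff_right hs.out.one_lt).1 hlt
    interval_cases k
    · intro u v
      haveI := (Nat.card_eq_one_iff_unique.1 (hk.trans (pow_zero s))).1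
      exact Subsingleton.elim _ _
    · haveI : IsCyclic (P ⧸ center P) := isCyclic_of_prime_card (hk.trans (pow_one s))
      intro u v
      exact (IsCyclic.isMulCommutative (α := P ⧸ center P)).is_comm.comm u v
    · exact IsPGroup.commutative_of_card_eq_prime_sq hk
  intro c hc
  have h2 : ⁅(⟨a, ha⟩ : P), ⟨b, hb⟩⁆ ∈ center P := by
    rw [← QuotientGroup.eq_one_iff]
    show (QuotientGroup.mk' (center P)) ⁅(⟨a, ha⟩ : P), ⟨b, hb⟩⁆ = 1
    rw [map_commutatorElement, commutatorElement_eq_one_iff_mul_comm]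
    exact h1 _ _
  have h3 := congrArg Subtype.val (mem_center_iff.1 h2 ⟨c, hc⟩)
  simpa [commutatorElement_def] using h3

/-- A `p'`-element normalising a `p`-group can be moved to normalise a Sylow subgroup over it. -/
theorem exists_sylow_mover (hG : Cfsg.IsMinSimpleOddOrder G) {A : Subgroup G} (hA1 : A ≠ ⊥) (hA : IsPGroup s A)
    {x : G} (hx : x ∈ normalizer (A : Set G)) {r : ℕ} (hr : r.Prime) (hrs : r ≠ s) (hxr : x ^ r = 1) :
    ∃ (S : Sylow s G) (n : G), A ≤ (S : Subgroup G) ∧ n ∈ normalizer ((S : Subgroup G) : Set G) ∧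
      n ∈ normalizer (A : Set G) ∧ n⁻¹ * x ∈ centralizer (A : Set G) ∧ (orderOf n).Coprime s := by
  obtain ⟨Y, -, hY⟩ := (Set.toFinite {Y : Subgroup G | IsPGroup s Y ∧ A ≤ Y ∧
    ∃ n ∈ normalizer (Y : Set G), n ∈ normalizer (A : Set G) ∧ n⁻¹ * x ∈ centralizer (A : Set G)}).exists_le_maximal
    (a := A) ⟨hA, le_rfl, x, hx, hx, by simp⟩
  obtain ⟨hYp, hAY, n, hnY, hnA, hnC⟩ := hY.1
  set X := normalizer (Y : Set G) with hXdef
  have hX : X ≠ ⊤ := TransHyp.normalizer_ne_top hG (ne_bot_of_le_ne_bot hA1 hAY) (ne_top_of_pGroup hG hYp)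
  haveI : Group.IsSolvable X := solvable_of_ne_top hG hX
  obtain ⟨T, hT, hYT⟩ := exists_sylowIn_ge (K := X) le_normalizer hYp
  have hO : O' s X ≤ centralizer (Y : Set G) := commute_of_coprime (O'_le s X)
    ((le_normalizer (H := Y)).trans (le_normalizer_core' X)) (by
      obtain ⟨j, hj⟩ := IsPGroup.iff_card.1 hYp
      rw [hj]; exact (O'_coprime (r := s) X).pow_right j)
  have hdec := pPrimeCore_sup_normalizer hG hX hT hnY
  rw [← SetLike.mem_coe, Subgroup.coe_mul_of_right_le_normalizer_left _ _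
    (inf_le_left.trans (le_normalizer_core' X))] at hdec
  obtain ⟨o, ho, m, hm, rfl⟩ := hdec
  have hoC : o ∈ centralizer (A : Set G) := centralizer_le hAY (hO ho)
  have hmA : m ∈ normalizer (A : Set G) := by
    have h := (normalizer (A : Set G)).mul_mem ((normalizer (A : Set G)).inv_mem (centralizer_le_normalizer _ hoC)) hnA
    rwa [inv_mul_cancel_left] at h
  have hmC : m⁻¹ * x ∈ centralizer (A : Set G) := by
    have h1 := Grp.mem_conj_normalizer' (normalizer_le_normalizer_cent _ hx) hoC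
    have h2 := mul_mem hnC h1
    rwa [show ((o * m)⁻¹ * x) * (x⁻¹ * o * x) = m⁻¹ * x by group] at h2
  have hTY : T = Y := le_antisymm (hY.2 ⟨hT.2.1, hAY.trans hYT, m, hm.2, hmA, hmC⟩ hYT) hYT
  obtain ⟨S, hYS⟩ := hYp.exists_le_sylow
  have hSY : (S : Subgroup G) = Y := by
    refine le_antisymm ?_ hYS
    by_contra h
    have hlt := exists_grow S.isPGroup' (lt_of_le_of_ne hYS fun e => h e.ge)
    refine hlt.ne ?_
    rw [← hTY] at hlt ⊢
    exact (hT.eq_of_le hlt.le (by rw [hXdef, hTY]; exact inf_le_right) (S.isPGroup'.to_le inf_le_left))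
  obtain ⟨a, m₀, hm₀, he⟩ := Nat.exists_eq_pow_mul_and_not_dvd (orderOf_pos (o * m)).ne' s hs.out.ne_one
  obtain ⟨k, hk1, hk2⟩ := Nat.chineseRemainder (((Nat.coprime_primes hr hs.out).2 hrs).pow_right a) 1 0
  refine ⟨S, (o * m) ^ k, hSY ▸ hAY, by rw [hSY]; exact pow_mem hnY k, pow_mem hnA k, ?_, ?_⟩
  · have h : ∀ j : ℕ, ((o * m) ^ j)⁻¹ * x ^ j ∈ centralizer (A : Set G) := by
      intro j
      induction j with
      | zero => simp
      | succ j ih =>
        have h1 := Grp.mem_conj_normalizer' (normalizer_le_normalizer_cent _ hnA) ih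
        have h2 := mul_mem (mul_mem h1 hnC) (one_mem (centralizer (A : Set G)))
        have h3 : (o * m)⁻¹ * (((o * m) ^ j)⁻¹ * x ^ j) * x ∈ centralizer (A : Set G) := by
          convert h2 using 1
          group
        convert h3 using 1
        rw [pow_succ, pow_succ]
        group
    have hxk : x ^ k = x := by
      have h1 : x ^ k = x ^ 1 := by
        rw [pow_eq_pow_iff_modEq]
        exact hk1.of_dvd (orderOf_dvd_of_pow_eq_one hxr)
      rwa [pow_one] at h1
    simpa [hxk] using h k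
  · refine Nat.Coprime.coprime_dvd_left ?_ (hs.out.coprime_iff_not_dvd.2 hm₀).symm
    refine orderOf_dvd_of_pow_eq_one ?_
    rw [← pow_mul, ← orderOf_dvd_iff_pow_eq_one, he]
    exact Nat.mul_dvd_mul_right ((Nat.modEq_zero_iff_dvd).1 hk2) m₀

namespace Exc

variable {M A A₀ : Subgroup G} (h : Exc M s A A₀) {S : Sylow s G} (hAS : A ≤ (S : Subgroup G))
  (hna : ¬ IsMulCommutative (S : Subgroup G))
include h hAS hna

/-- The line `A₀` meets the derived group of a nonabelian Sylow subgroup trivially. -/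
theorem line_inf_derived {a : G} (ha : a ∈ A₀) (had : a ∈ ⁅(S : Subgroup G), (S : Subgroup G)⁆) : a = 1 := by
  obtain ⟨hZc, hZA, hZne, -⟩ := h.exists_mover hAS hna
  by_contra ha1
  suffices hc : a ∈ centralizer ((S : Subgroup G) : Set G) from hZne (by
    rw [← zpowers_eq_of_prime hZc (x := a) ⟨hAS (h.hA₀ ha), hc, h.hA.elem.2 _ (h.hA₀ ha)⟩ ha1,
      zpowers_eq_of_prime h.hA₀c ha ha1])
  by_cases hr : Cfsg.PRankLE s 2 (S : Subgroup G)
  · rcases Cfsg.Agent.S1412.result h.hG s S hr with hab | ⟨S₁, S₂, hsup, hc12, -, hcard, -, hcyc, -⟩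
    · exact absurd hab hna
    haveI := hcyc
    have hS12 : S₁ ≤ normalizer (S₂ : Set G) := fun u hu => centralizer_le_normalizer _
      (mem_centralizer_iff.2 fun b hb => (hc12 u hu b hb).symm)
    suffices hle : ⁅(S : Subgroup G), (S : Subgroup G)⁆ ≤ centralizer ((S : Subgroup G) : Set G) from hle had
    rw [commutator_le]
    intro g₁ hg₁ g₂ hg₂
    rw [← hsup, ← SetLike.mem_coe, Subgroup.coe_mul_of_left_le_normalizer_right S₁ S₂ hS12] at hg₁ hg₂
    obtain ⟨a₁, ha₁, b₁, hb₁, rfl⟩ := hg₁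
    obtain ⟨a₂, ha₂, b₂, hb₂, rfl⟩ := hg₂
    have hbb : ∀ c ∈ S₂, ∀ d ∈ S₂, Commute c d := fun c hc d hd =>
      congrArg Subtype.val ((IsCyclic.isMulCommutative (α := S₂)).is_comm.comm ⟨c, hc⟩ ⟨d, hd⟩)
    have e : ⁅a₁ * b₁, a₂ * b₂⁆ = ⁅a₁, a₂⁆ := by
      have c1 : Commute b₁ (a₂ * b₂) := (show Commute a₂ b₁ from hc12 _ ha₂ _ hb₁).symm.mul_right (hbb _ hb₁ _ hb₂)
      have c2 : Commute b₂ a₁ := (show Commute a₁ b₂ from hc12 _ ha₁ _ hb₂).symm
      rw [commutatorElement_def, commutatorElement_def]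
      calc a₁ * b₁ * (a₂ * b₂) * (a₁ * b₁)⁻¹ * (a₂ * b₂)⁻¹
          = a₁ * (b₁ * (a₂ * b₂) * b₁⁻¹) * a₁⁻¹ * (a₂ * b₂)⁻¹ := by group
        _ = a₁ * (a₂ * b₂) * a₁⁻¹ * (a₂ * b₂)⁻¹ := by rw [c1.eq, mul_inv_cancel_right]
        _ = a₁ * a₂ * (b₂ * a₁⁻¹ * b₂⁻¹) * a₂⁻¹ := by group
        _ = a₁ * a₂ * a₁⁻¹ * a₂⁻¹ := by rw [c2.inv_right.eq, mul_inv_cancel_right]
    rw [e, mem_centralizer_iff]
    intro c hc
    rw [← hsup, Subgroup.coe_mul_of_left_le_normalizer_right S₁ S₂ hS12] at hc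
    obtain ⟨a₃, ha₃, b₃, hb₃, rfl⟩ := hc
    have c3 : Commute a₃ ⁅a₁, a₂⁆ := derived_central_of_card_cube hcard ha₁ ha₂ a₃ ha₃
    have c4 : Commute b₃ ⁅a₁, a₂⁆ := by
      refine (show Commute ⁅a₁, a₂⁆ b₃ from hc12 _ ?_ _ hb₃).symm
      exact S₁.commutator_le_self (commutator_mem_commutator ha₁ ha₂)
    exact (c3.mul_left c4).eq
  · haveI := h.hA.elem.1
    set E := A.subgroupOf (S : Subgroup G) with hE
    have hEmax : ∀ B : Subgroup (S : Subgroup G), Cfsg.IsElementaryAbelian s B → E ≤ B → B = E := by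
      intro B hB hle
      haveI := hB.1
      have h1 : B.map (S : Subgroup G).subtype = A := h.hA.2.2 _ ⟨Subgroup.map_isMulCommutative _ _, by
        rintro _ ⟨d, hd, rfl⟩
        exact congrArg Subtype.val (hB.2 d hd)⟩ ((map_subgroupOf_eq_of_le hAS).ge.trans (map_mono hle))
      rw [← comap_map_eq_self_of_injective (S : Subgroup G).subtype_injective B, h1]
      rfl
    have hc := maxPlane_derived (ne_two h.hG h.hA.dvd_card_group) S.isPGroup' hr (E := E)
      ⟨inferInstance, fun b hb => Subtype.ext (h.hA.elem.2 _ hb)⟩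
      (by rw [Nat.card_congr (subgroupOfEquivOfLe hAS).toEquiv, h.hA.card]) hEmax
      (x := ⟨a, hAS (h.hA₀ ha)⟩) (show a ∈ A from h.hA₀ ha) (by
        obtain ⟨w, hw, e⟩ := (derived_eq_map (S : Subgroup G)).le had
        rwa [show (⟨a, hAS (h.hA₀ ha)⟩ : (S : Subgroup G)) = w from Subtype.ext e.symm])
    exact mem_centralizer_iff.2 fun v hv => congrArg Subtype.val (mem_center_iff.1 hc ⟨v, hv⟩)

omit hAS hna in
/-- The Sylow subgroups of a group with a maximal plane are narrow. -/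
theorem narrow {T : Sylow s G} (hAT : A ≤ (T : Subgroup G)) : Cfsg.IsNarrow s (T : Subgroup G) := by
  by_cases hr : Cfsg.PRankLE s 2 (T : Subgroup G)
  · exact Or.inl hr
  · exact narrow_of_maxPlane (ne_two h.hG h.hA.dvd_card_group) T.isPGroup' hr (hasMaxPlane_of_le h.hA hAT)

end Exc

/-- An element fixing the line `A₀` and moving the plane forces the complement to move `A₀`. -/
theorem line_moved {M E A A₀ : Subgroup G} (h : Exc M s A A₀) (hE : Cfsg.IsComplIn E (Cfsg.sigmaCore M) M)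
    (hτ : s ∈ Cfsg.tau2 M) (hAE : A ≤ E) (hna : ∀ S : Sylow s G, ¬ IsMulCommutative (S : Subgroup G))
    {r : ℕ} (hr : r.Prime) (hrs : r ≠ s) {x : G} (hxr : x ^ r = 1) (hxA : x ∈ normalizer (A : Set G))
    (hx0 : x ∈ centralizer (A₀ : Set G)) (hxC : x ∉ centralizer (A : Set G)) :
    ¬ E ≤ centralizer (A₀ : Set G) := by
  intro hEC
  obtain ⟨S, n, hAS, hnS, hnA, hnC, hno⟩ := exists_sylow_mover h.hG h.hA.ne_bot (Grp.elemAb_isPGroup h.hA.elem)
    hxA hr hrs hxr
  obtain ⟨hZc, hZA, hZne, -⟩ := h.exists_mover hAS (hna S)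
  set Z := omZ s (S : Subgroup G) with hZdef
  set N := normalizer ((S : Subgroup G) : Set G) with hNdef
  have hA0' : A₀ ≠ ⊥ := fun e => hs.out.ne_one (h.hA₀c.symm.trans (by rw [e, Subgroup.card_bot]))
  haveI : Group.IsSolvable N := solvable_of_ne_top h.hG (TransHyp.normalizer_ne_top h.hG
    (ne_bot_of_le_ne_bot h.hA.ne_bot hAS) (ne_top_of_pGroup h.hG S.isPGroup'))
  obtain ⟨V₀, hV₀⟩ := Grp.PiHall.exists_piHall {p | p ≠ s} N
  obtain ⟨a, ha, hnV⟩ := Grp.PiHall.dominate hV₀ (U := zpowers n) (zpowers_le.2 hnS) fun p hp hd => fun e : p = s => by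
    rw [Nat.card_zpowers] at hd
    exact hp.ne_one (Nat.eq_one_of_dvd_coprimes hno hd (dvd_of_eq e))
  have hV := Grp.PiHall.smul hV₀ (Grp.mem_normalizer_iff_smul.1 (le_normalizer ha))
  set V := MulAut.conj a • V₀ with hVdef
  have hVN : V ≤ N := hV.1
  have hVs : ¬ s ∣ Nat.card V := fun hd => hV.2.1 s hs.out hd rfl
  haveI : Group.IsSolvable V := isSolvable_of_le hVN
  -- derived operators centralise `S`
  have hVV : ⁅V, V⁆ ≤ centralizer ((S : Subgroup G) : Set G) := by
    refine (Grp.le_of_forall_sylow (inf_le_left : ⁅V, V⁆ ⊓ _ ≤ ⁅V, V⁆) fun p hp => ?_).trans inf_le_right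
    obtain ⟨T, hT⟩ := Grp.exists_isSylowIn p ⁅V, V⁆
    refine ⟨T, hT, le_inf hT.1 ?_⟩
    rcases eq_or_ne T ⊥ with h0 | h0
    · rw [h0]; exact bot_le
    have hps : p ≠ s := fun e => hVs (e ▸ ((dvd_card_of_pGroup hT.2.1 h0).trans (card_dvd_of_le hT.1)).trans
      (card_dvd_of_le V.commutator_le_self))
    exact le_centralizer_of_narrow (ne_two h.hG h.hA.dvd_card_group) hps S.isPGroup' (h.narrow hAS) hVN
      (h.hG.1.of_dvd_nat (card_subgroup_dvd_card V)) hT.1 hT.2.1
  -- the fixed group of `n` on `S` has `A₀` as its only line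
  set Q := (S : Subgroup G) ⊓ centralizer ({n} : Set G) with hQdef
  have hn0 : n ∈ centralizer (A₀ : Set G) := by
    have h1 := mul_mem hx0 (inv_mem (centralizer_le h.hA₀ hnC))
    rwa [show x * (n⁻¹ * x)⁻¹ = n by group] at h1
  have hA0Q : A₀ ≤ Q := le_inf (h.hA₀.trans hAS) fun b hb =>
    mem_centralizer_singleton_iff.2 (mem_centralizer_iff.1 hn0 b hb)
  have hfixA : A ⊓ centralizer ({n} : Set G) = A₀ := by
    refine (Subgroup.eq_of_le_of_card_ge (le_inf h.hA₀ (hA0Q.trans inf_le_right)) ?_).symm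
    obtain ⟨i, hi, hci⟩ := (Nat.dvd_prime_pow hs.out).1 (h.hA.card ▸ card_dvd_of_le
      (inf_le_left : A ⊓ centralizer ({n} : Set G) ≤ A))
    rw [hci, h.hA₀c]
    refine (Nat.pow_le_pow_right hs.out.pos (?_ : i ≤ 1)).trans (pow_one s).le
    by_contra hi1
    have hfull : A ⊓ centralizer ({n} : Set G) = A := Subgroup.eq_of_le_of_card_ge inf_le_left (by
      rw [hci, h.hA.card]; exact Nat.pow_le_pow_right hs.out.pos (by omega))
    have hn' : n ∈ centralizer (A : Set G) := mem_centralizer_iff.2 fun b hb =>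
      mem_centralizer_singleton_iff.1 ((hfull.ge hb).2)
    have := mul_mem hn' hnC
    rw [mul_inv_cancel_left] at this
    exact hxC this
  have hkey : ∀ z ∈ Q, z ^ s = 1 → z ∈ centralizer (A₀ : Set G) → z ∈ A₀ := by
    intro z hz hzs hz0
    rw [← hfixA]
    refine ⟨h.hA.mem hzs ?_, hz.2⟩
    rw [← sup_lines h.hA.card h.hA₀ hZA h.hA₀c hZc hZne.symm, ← Subgroup.zpowers_le, le_centralizer_iff]
    refine sup_le ?_ ?_ <;> rw [le_centralizer_iff, Subgroup.zpowers_le]
    · exact hz0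
    · exact mem_centralizer_iff.2 fun w hw => (mem_centralizer_iff.1 (omZ_le_centralizer _ hw) z hz.1).symm
  have homQ : omZ s Q = A₀ := by
    have hQp : IsPGroup s Q := S.isPGroup'.to_le inf_le_left
    have h1 : omZ s Q ≤ A₀ := fun z hz => hkey z hz.1 hz.2.2 (centralizer_le hA0Q hz.2.1)
    refine Subgroup.eq_of_le_of_card_ge h1 (h.hA₀c.trans_le (Nat.le_of_dvd Nat.card_pos ?_))
    exact dvd_card_of_pGroup (hQp.to_le (omZ_le Q)) (omZ_ne_bot hQp (ne_bot_of_le_ne_bot hA0' hA0Q))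
  have hline : ∀ z ∈ Q, z ^ s = 1 → z ∈ A₀ := fun z hz hzs => hkey z hz hzs (mem_centralizer_iff.2 fun w hw =>
    (mem_centralizer_iff.1 (omZ_le_centralizer Q (homQ.ge hw)) z hz).symm)
  -- `V` centralises `A₀`
  have hVA0 : V ≤ centralizer (A₀ : Set G) := by
    intro v hv
    have hvS : v ∈ N := hVN hv
    have hvA0 : v ∈ normalizer (A₀ : Set G) := by
      rw [Grp.mem_normalizer_iff_smul]
      refine Subgroup.eq_of_le_of_card_ge ?_ (by rw [Grp.card_conj_smul])
      rintro _ ⟨b, hb, rfl⟩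
      show MulAut.conj v b ∈ A₀
      refine hline _ ⟨Grp.mem_conj_normalizer hvS (hA0Q hb).1, ?_⟩
        (by rw [← map_pow, h.hA.elem.2 b (h.hA₀ hb), map_one])
      rw [MulAut.conj_apply]
      refine mem_centralizer_singleton_iff.2 ?_
      have hw := hVV (commutator_mem_commutator (V.inv_mem hv) (hnV (mem_zpowers n)))
      have e1 := mem_centralizer_singleton_iff.1 (hA0Q hb).2
      have e2 := mem_centralizer_iff.1 hw b (hA0Q hb).1
      calc v * b * v⁻¹ * n = v * (b * ⁅v⁻¹, n⁆) * n * v⁻¹ := by rw [commutatorElement_def]; group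
        _ = v * ⁅v⁻¹, n⁆ * (b * n) * v⁻¹ := by rw [e2]; group
        _ = n * (v * b * v⁻¹) := by rw [e1, commutatorElement_def]; group
    have hvA : v ∈ normalizer (A : Set G) := by
      rw [Grp.mem_normalizer_iff_smul, ← sup_lines h.hA.card h.hA₀ hZA h.hA₀c hZc hZne.symm, Subgroup.smul_sup,
        Grp.mem_normalizer_iff_smul.1 hvA0, Grp.mem_normalizer_iff_smul.1 (normalizer_le_omZ _ hvS)]
    exact hEC ((Cfsg.Agent.S1418.result h.hG M h.hM E hE s hτ A ⟨hAE, h.hA.elem, h.hA.card⟩).2.1.2.1.le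
      ⟨h.hN hvA0, hvA⟩)
  -- so `A₀ ≤ S'`
  have hcard : (Nat.card V).Coprime (Nat.card (S : Subgroup G)) := by
    obtain ⟨j, hj⟩ := IsPGroup.iff_card.1 S.isPGroup'
    rw [hj]; exact ((hs.out.coprime_iff_not_dvd.2 hVs).symm).pow_right j
  have hcompl : Cfsg.IsComplIn (S : Subgroup G) V N := by
    have hbot : (S : Subgroup G) ⊓ V = ⊥ := Grp.inf_eq_bot_of_coprime hcard.symm
    have hSN : (S : Subgroup G) ≤ N := le_normalizer
    have hsup : (S : Subgroup G) ⊔ V = N := le_antisymm (sup_le hSN hVN) <|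
      Grp.le_of_forall_sylow (sup_le hSN hVN) fun p hp => by
      by_cases hps : p = s
      · subst hps
        refine ⟨S, ⟨hSN, S.isPGroup', fun hd => ?_⟩, le_sup_left⟩
        exact (Sylow.not_dvd_index S) (hd.trans (relIndex_dvd_index_of_le hSN))
      · obtain ⟨T, hT⟩ := Grp.exists_isSylowIn p V
        refine ⟨T, ⟨hT.1.trans hVN, hT.2.1, fun hd => ?_⟩, hT.1.trans le_sup_right⟩
        rw [← Subgroup.relIndex_mul_relIndex T V N hT.1 hVN] at hd
        exact (hp.out.dvd_mul.1 hd).elim hT.2.2 fun hd' => hV.2.2 p hp.out hps hd'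
    refine ⟨hSN, hVN, hbot, fun g hg => ?_⟩
    rw [← hsup, ← SetLike.mem_coe, Subgroup.coe_mul_of_right_le_normalizer_left _ V hVN] at hg
    obtain ⟨u, hu, v, hv, e⟩ := hg
    exact ⟨u, hu, v, hv, e.symm⟩
  have hSV := (Cfsg.Agent.S1411.result h.hG s S V hcompl).1
  set D := ⁅(S : Subgroup G), (S : Subgroup G)⁆ with hDdef
  have hSD : (S : Subgroup G) ≤ normalizer (D : Set G) := le_normalizer_commutator' le_normalizer le_normalizer
  have hVD : V ≤ normalizer (D : Set G) := le_normalizer_commutator' hVN hVN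
  haveI : IsMulCommutative ↥(qimg D (S : Subgroup G)) := by
    refine le_centralizer_iff_isMulCommutative.1 (Subgroup.commutator_eq_bot_iff_le_centralizer.1 ?_)
    rw [← qimg_commutator hSD hSD]
    exact (qimg_eq_bot ((Subgroup.commutator_le_self _).trans hSD)).2 le_rfl
  have hfix := Grp.abelian_commutator_inf_fixed (qimg D V) (qimg D (S : Subgroup G)) (qimg_normalizer hVN)
    ((hcard.coprime_dvd_left (card_qimg_dvd hVD)).coprime_dvd_right (card_qimg_dvd hSD))
  rw [← qimg_commutator hSD hVD, ← hSV, inf_right_comm, inf_idem] at hfix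
  obtain ⟨a₀, ha₀, ha₁, -⟩ := exists_generator_line h.hA₀c
  refine ha₁ (h.line_inf_derived hAS (hna S) ha₀ ?_)
  have haN : a₀ ∈ normalizer (D : Set G) := hSD (hA0Q ha₀).1
  have hmem : QuotientGroup.mk' (D.subgroupOf (normalizer (D : Set G))) ⟨a₀, haN⟩ ∈
      qimg D (S : Subgroup G) ⊓ centralizer (qimg D V : Set (Qt D)) := by
    refine ⟨mem_qimg (hA0Q ha₀).1 haN, mem_centralizer_iff.2 ?_⟩
    rintro _ ⟨⟨v, hvN⟩, hv, rfl⟩
    rw [← map_mul, ← map_mul]
    exact congrArg _ (Subtype.ext (mem_centralizer_iff.1 (hVA0 hv) a₀ ha₀).symm)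
  rw [hfix, mem_bot] at hmem
  exact (QuotientGroup.eq_one_iff (⟨a₀, haN⟩ : normalizer (D : Set G))).1 hmem

end Cfsg.Agent.Transfer.Loc
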