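import Cfsg.Agent.Lib.Transfer.Local.PlaneSplit
import Cfsg.Agent.Lib.Transfer.Local.TauTwoPart
import Cfsg.Agent.Lib.Transfer.Local.TauOneCross
import Cfsg.Agent.Lib.Transfer.Local.TauOneUnique
import Cfsg.Agent.Lib.Transfer.Local.FrobAction
import Cfsg.Agent.Lib.Transfer.Local.CoreFitting
import Cfsg.Agent.S1408
import Cfsg.Agent.S1417
import Cfsg.Agent.S1418

/-!
The lines of a `τ₂`-plane of a complement and the operators on it.
-/

set_option autoImplicit false
set_option linter.style.haveILetI false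
set_option linter.unusedSectionVars false
set_option maxHeartbeats 2000000

namespace Cfsg.Agent.Transfer.Loc

open Subgroup
open scoped commutatorElement Pointwise

universe u

variable {G : Type u} [Group G] [Finite G]

theorem exists_nat_pow_conj {x z : G} (hz : z ∈ normalizer (zpowers x : Set G)) :
    ∃ a : ℕ, z * x * z⁻¹ = x ^ a := by
  obtain ⟨a, ha⟩ := (Submonoid.mem_powers_iff _ _).1 (mem_powers_iff_mem_zpowers.2
    (Grp.mem_conj_normalizer hz (mem_zpowers x)))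
  exact ⟨a, ha.symm⟩

theorem mem_normalizer_zpowers {x z : G} (h : z * x * z⁻¹ ∈ zpowers x) :
    z ∈ normalizer (zpowers x : Set G) := by
  rw [Grp.mem_normalizer_iff_smul, ← Grp.map_conj_eq_smul, MonoidHom.map_zpowers]
  refine Subgroup.eq_of_le_of_card_ge (zpowers_le.2 h) ?_
  rw [Nat.card_zpowers, Nat.card_zpowers]
  exact (MulEquiv.orderOf_eq (MulAut.conj z) x).ge

/-- A `τ₂`-plane of a complement `E` inside a Sylow subgroup `T` of `E`. -/
structure TauPlane (M E : Subgroup G) (p : ℕ) (A T : Subgroup G) : Prop where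
  hG : Cfsg.IsMinSimpleOddOrder G
  hM : IsCoatom M
  hE : Cfsg.IsComplIn E (Cfsg.sigmaCore M) M
  hτ : p ∈ Cfsg.tau2 M
  hAE : A ≤ E
  elem : Cfsg.IsElementaryAbelian p A
  card : Nat.card A = p ^ 2
  hT : Grp.IsSylowIn p T E

/-- The line `L` fixes a point of `M_σ`. -/
def FixesCore (M L : Subgroup G) : Prop := Cfsg.sigmaCore M ⊓ centralizer (L : Set G) ≠ ⊥

namespace TauPlane

variable {M E A T : Subgroup G} {p : ℕ} [hp : Fact p.Prime] (h : TauPlane M E p A T)
include h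

theorem data : A ≤ E ∧ Cfsg.IsElementaryAbelian p A ∧ Nat.card A = p ^ 2 := ⟨h.hAE, h.elem, h.card⟩

theorem dvd_card : p ∣ Nat.card A := by rw [h.card]; exact dvd_pow_self p two_ne_zero

theorem compl_normalizes : E ≤ normalizer (A : Set G) :=
  (Cfsg.Agent.S1418.result h.hG M h.hM E h.hE p h.hτ A h.data).1.1

theorem le_sylow : A ≤ T := by
  have h1 : IsPGroup p ↥(A ⊔ T) :=
    (Grp.elemAb_isPGroup h.elem).to_sup_of_normal_left' h.hT.2.1 (h.hT.1.trans h.compl_normalizes)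
  rw [h.hT.eq_of_le le_sup_right (sup_le h.hAE h.hT.1) h1]
  exact le_sup_left

theorem sylow_in_M : Grp.IsSylowIn p T M :=
  compl_sylow h.hG h.hM h.hE (h.dvd_card.trans (card_dvd_of_le h.hAE)) h.hT

theorem sylow_comm : IsMulCommutative T := by
  obtain ⟨P, hP⟩ := Grp.isSylowIn_iff.1 h.sylow_in_M
  have h1 := ((Cfsg.Agent.S1417.result h.hG M h.hM p h.hτ A ⟨h.hAE.trans h.hE.1, h.elem, h.card⟩).2.1 P).1
  rw [← hP]
  exact Subgroup.map_isMulCommutative _ _

theorem mem_plane {x : G} (hx : x ∈ E) (hxp : x ^ p = 1) : x ∈ A := by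
  rcases eq_or_ne x 1 with rfl | hx1
  · exact one_mem _
  exact (Cfsg.Agent.S1418.result h.hG M h.hM E h.hE p h.hτ A h.data).1.2 (zpowers x) (zpowers_le.2 hx)
    (by rw [Nat.card_zpowers, orderOf_eq_prime hxp hx1]) (mem_zpowers x)

theorem sylow_le_centralizer : T ≤ centralizer (A : Set G) :=
  (le_centralizer_iff_isMulCommutative.2 h.sylow_comm).trans (centralizer_le h.le_sylow)

theorem not_sylow_normalizer : ¬ normalizer (T : Set G) ≤ M :=
  not_normalizer_le (h.dvd_card.trans (card_dvd_of_le (h.hAE.trans h.hE.1))) h.hτ.2.1 h.sylow_in_M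

theorem unique_of_fixes {L : Subgroup G} (hL : L ≤ A) (hLc : Nat.card L = p) (hf : FixesCore M L) :
    normalizer (L : Set G) ≤ M :=
  normalizer_le_of_unique h.hG h.hM ((Cfsg.Agent.S1418.result h.hG M h.hM E h.hE p h.hτ A h.data).2.2 L hL hLc hf)

theorem exists_free : ∃ L : Subgroup G, L ≤ A ∧ Nat.card L = p ∧ ¬ FixesCore M L := by
  obtain ⟨-, -, -, -, -, L, hL, hLc, hfree⟩ :=
    Cfsg.Agent.S1417.result h.hG M h.hM p h.hτ A ⟨h.hAE.trans h.hE.1, h.elem, h.card⟩
  exact ⟨L, hL, hLc, fun hf => hf hfree⟩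

theorem not_all_fixing {D : Subgroup G} (hD : A ≤ D) : ¬ D ≤ centralizer (Cfsg.sigmaCore M : Set G) := fun hc =>
  sigmaCore_ne_bot h.hG h.hM (le_bot_iff.1 ((le_inf le_rfl (le_centralizer_iff.1 (hD.trans hc))).trans
    (Cfsg.Agent.S1417.result h.hG M h.hM p h.hτ A ⟨h.hAE.trans h.hE.1, h.elem, h.card⟩).2.2.2.1.le))

theorem prime_ne_two : p ≠ 2 :=
  ne_two h.hG (h.dvd_card.trans (card_subgroup_dvd_card A))

/-- The fixed points of a nontrivial operator form a line. -/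
theorem fixed_card {x : G} (hne : A ⊓ centralizer ({x} : Set G) ≠ ⊥) (hx : x ∉ centralizer (A : Set G)) :
    Nat.card ↥(A ⊓ centralizer ({x} : Set G)) = p := by
  obtain ⟨i, hi, hci⟩ := (Nat.dvd_prime_pow hp.out).1
    (h.card ▸ card_dvd_of_le inf_le_left : Nat.card ↥(A ⊓ centralizer ({x} : Set G)) ∣ p ^ 2)
  interval_cases i
  · exact absurd (Subgroup.card_eq_one.1 (by simpa using hci)) hne
  · simpa using hci
  · refine absurd (mem_centralizer_iff.2 fun a ha => ?_) hx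
    have e : A ⊓ centralizer ({x} : Set G) = A :=
      Subgroup.eq_of_le_of_card_ge inf_le_left (by rw [hci, h.card])
    exact mem_centralizer_singleton_iff.1 (e.ge ha).2

/-- An operator normalising every line is a power map on `T`. -/
theorem power_of_all_lines {z : G} (hzT : z ∈ normalizer (T : Set G)) (hzp : ¬ p ∣ orderOf z)
    (hall : ∀ L : Subgroup G, L ≤ A → Nat.card L = p → z ∈ normalizer (L : Set G)) :
    ∀ t ∈ T, z * t * z⁻¹ ∈ zpowers t := by
  obtain ⟨L, hL, hLc, -⟩ := h.exists_free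
  obtain ⟨x, hx, hx1, hgen⟩ := exists_generator_line hLc
  have hxo : orderOf x = p := orderOf_eq_prime (h.elem.2 x (hL hx)) hx1
  obtain ⟨a, ha⟩ := exists_nat_pow_conj (hgen.symm ▸ hall L hL hLc : z ∈ normalizer (zpowers x : Set G))
  -- every element of the plane gets the same exponent
  have hkey : ∀ w ∈ A, z * w * z⁻¹ = w ^ a := by
    intro w hw
    by_cases hwx : w ∈ zpowers x
    · obtain ⟨i, rfl⟩ := (Submonoid.mem_powers_iff _ _).1 (mem_powers_iff_mem_zpowers.2 hwx)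
      rw [← conj_pow, ha, ← pow_mul, ← pow_mul, mul_comm]
    have hw1 : w ≠ 1 := fun e => hwx (e ▸ one_mem _)
    have hxw : x * w ∈ A := A.mul_mem (hL hx) hw
    have hxw1 : x * w ≠ 1 := fun e => hwx (by rw [eq_inv_of_mul_eq_one_right e]; exact inv_mem (mem_zpowers x))
    have hline : ∀ v ∈ A, v ≠ 1 → ∃ c : ℕ, z * v * z⁻¹ = v ^ c := fun v hv hv1 => exists_nat_pow_conj
      (hall (zpowers v) (zpowers_le.2 hv) (by rw [Nat.card_zpowers, orderOf_eq_prime (h.elem.2 v hv) hv1]))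
    obtain ⟨b, hb⟩ := hline w hw hw1
    obtain ⟨c, hc⟩ := hline (x * w) hxw hxw1
    have hcomm : Commute x w :=
      show x * w = w * x from congrArg Subtype.val (h.elem.1.is_comm.comm (⟨x, hL hx⟩ : A) ⟨w, hw⟩)
    rw [show z * (x * w) * z⁻¹ = z * x * z⁻¹ * (z * w * z⁻¹) by group, ha, hb, hcomm.mul_pow] at hc
    have hi : (x ^ c)⁻¹ * x ^ a = w ^ c * (w ^ b)⁻¹ := by
      rw [eq_mul_inv_iff_mul_eq, mul_assoc, hc, inv_mul_cancel_left]
    have hbot : zpowers x ⊓ zpowers w = ⊥ := by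
      by_contra hne
      have hle : zpowers x ⊓ zpowers w = zpowers w := Subgroup.eq_of_le_of_card_ge inf_le_right (by
        have hd : Nat.card ↥(zpowers x ⊓ zpowers w) ∣ p := by
          rw [← hxo, ← Nat.card_zpowers]; exact card_dvd_of_le inf_le_left
        rcases (Nat.dvd_prime hp.out).1 hd with h1 | h1
        · exact absurd (Subgroup.card_eq_one.1 h1) hne
        · rw [h1, Nat.card_zpowers, orderOf_eq_prime (h.elem.2 w hw) hw1])
      exact hwx ((hle.ge (mem_zpowers w)).1)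
    have h0 : (x ^ c)⁻¹ * x ^ a ∈ (⊥ : Subgroup G) := hbot ▸
      ⟨(zpowers x).mul_mem ((zpowers x).inv_mem (npow_mem_zpowers x c)) (npow_mem_zpowers x a),
        hi ▸ (zpowers w).mul_mem (npow_mem_zpowers w c) ((zpowers w).inv_mem (npow_mem_zpowers w b))⟩
    rw [mem_bot] at h0
    have h2 : w ^ c * (w ^ b)⁻¹ = 1 := hi ▸ h0
    rw [mul_inv_eq_one] at h2
    rw [inv_mul_eq_one] at h0
    rw [hb, ← h2]
    refine pow_eq_pow_iff_modEq.2 ?_
    rw [orderOf_eq_prime (h.elem.2 w hw) hw1, ← hxo]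
    exact pow_eq_pow_iff_modEq.1 h0
  obtain ⟨K₁, K₂, a', -, hK₂, hbot, hdec, hK₁, hp', -⟩ := exists_twist_split h.sylow_comm h.hT.2.1 hzT hzp
    (h.le_sylow (hL hx)) hxo ha
  have hK₂1 : K₂ = ⊥ := by
    by_contra hne
    obtain ⟨w, hw⟩ := exists_prime_orderOf_dvd_card' p (dvd_card_of_pGroup (h.hT.2.1.to_le hK₂) hne)
    have hwo : orderOf (w : G) = p := by rw [Subgroup.orderOf_coe, hw]
    have hwp : (w : G) ^ p = 1 := by rw [← hwo, pow_orderOf_eq_one]
    have hwT := hK₂ w.2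
    have hwK : (w : G) ∈ K₁ ⊓ K₂ :=
      ⟨(hK₁ w hwT).2 (by rw [hp' w hwT hwp]; exact hkey w (h.mem_plane (h.hT.1 hwT) hwp)), w.2⟩
    rw [hbot, mem_bot] at hwK
    exact hp.out.ne_one (by rw [← hwo, hwK, orderOf_one])
  intro t ht
  obtain ⟨t₁, ht₁, t₂, ht₂, e⟩ := hdec t ht
  rw [hK₂1, mem_bot] at ht₂
  rw [ht₂, mul_one] at e
  rw [(hK₁ t ht).1 (e ▸ ht₁)]
  exact npow_mem_zpowers t a'

/-- With abelian Sylow subgroups an eigenline is normalised by `N(A)`. -/
theorem eigenline_normal (habel : ∀ S : Sylow p G, IsMulCommutative (S : Subgroup G)) {z : G}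
    (hzA : z ∈ normalizer (A : Set G)) (hzp : ¬ p ∣ orderOf z) {L : Subgroup G} (hLA : L ≤ A)
    (hLc : Nat.card L = p) {a : ℕ} (hLa : ∀ x ∈ L, z * x * z⁻¹ = x ^ a) (hne : ∃ w ∈ A, z * w * z⁻¹ ≠ w ^ a) :
    normalizer (A : Set G) ≤ normalizer (L : Set G) := by
  have hA1 : A ≠ ⊥ := fun e => by
    have := h.card; rw [e, Subgroup.card_bot] at this; nlinarith [hp.out.two_le]
  set N := normalizer (A : Set G) with hN
  haveI : Group.IsSolvable N := solvable_of_ne_top h.hG (TransHyp.normalizer_ne_top h.hG hA1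
    fun e => h.hM.1 (top_le_iff.1 (e ▸ h.hAE.trans h.hE.1)))
  set π : Set ℕ := {s | s ≠ p}
  obtain ⟨V₀, hV₀⟩ := Grp.PiHall.exists_piHall π N
  obtain ⟨c, hc, hzV⟩ := Grp.PiHall.dominate hV₀ (zpowers_le.2 hzA) fun s hs hd => fun e : s = p =>
    hzp (e ▸ (Nat.card_zpowers z ▸ hd))
  have hV := Grp.PiHall.smul hV₀ (Grp.mem_normalizer_iff_smul.1 (le_normalizer hc))
  set V := MulAut.conj c • V₀ with hVdef
  haveI : Group.IsSolvable V := isSolvable_of_le hV.1
  have hcomm := plane_operators_abelian h.hG.1 h.prime_ne_two h.elem h.card (hV.1 : V ≤ N)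
    fun hd => hV.2.1 p hp.out hd rfl
  refine (Grp.le_of_forall_sylow (inf_le_left : N ⊓ normalizer (L : Set G) ≤ N) fun s hs => ?_).trans inf_le_right
  by_cases hsp : s = p
  · subst hsp
    obtain ⟨T', hT'⟩ := Grp.exists_isSylowIn s N
    refine ⟨T', hT', le_inf hT'.1 ?_⟩
    have h1 : IsPGroup s ↥(A ⊔ T') := (Grp.elemAb_isPGroup h.elem).to_sup_of_normal_left' hT'.2.1 hT'.1
    have hAT : A ≤ T' := by
      rw [hT'.eq_of_le le_sup_right (sup_le le_normalizer hT'.1) h1]; exact le_sup_left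
    obtain ⟨S, hTS⟩ := hT'.2.1.exists_le_sylow
    exact ((hTS.trans (le_centralizer_iff_isMulCommutative.2 (habel S))).trans
      (Subgroup.centralizer_le (hLA.trans (hAT.trans hTS)))).trans (centralizer_le_normalizer _)
  · obtain ⟨T', hT'⟩ := Grp.exists_isSylowIn s V
    refine ⟨T', ⟨hT'.1.trans hV.1, hT'.2.1, fun hd => ?_⟩, le_inf (hT'.1.trans hV.1) fun w hw => ?_⟩
    · rw [← Subgroup.relIndex_mul_relIndex T' V N hT'.1 hV.1] at hd
      exact (hs.out.dvd_mul.1 hd).elim hT'.2.2 fun h' => hV.2.2 s hs.out hsp h'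
    rw [Grp.mem_normalizer_iff_smul]
    by_contra hL'
    have hwA : w ∈ N := hV.1 (hT'.1 hw)
    have hL'A : MulAut.conj w • L ≤ A := (Subgroup.pointwise_smul_le_pointwise_smul_iff.2 hLA).trans
      (Grp.mem_normalizer_iff_smul.1 hwA).le
    have hz : ∀ y ∈ MulAut.conj w • L, z * y * z⁻¹ = y ^ a := by
      rintro _ ⟨x, hx, rfl⟩
      show z * MulAut.conj w x * z⁻¹ = MulAut.conj w x ^ a
      rw [MulAut.conj_apply, conj_pow, ← hLa x hx]
      have hd := hcomm (commutator_mem_commutator (V.inv_mem (hT'.1 hw)) (hzV (mem_zpowers z)))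
      have h2 := mem_centralizer_iff.1 hd (z * x * z⁻¹) (Grp.mem_conj_normalizer hzA (hLA hx))
      calc z * (w * x * w⁻¹) * z⁻¹ = w * (⁅w⁻¹, z⁆ * (z * x * z⁻¹) * ⁅w⁻¹, z⁆⁻¹) * w⁻¹ := by
            rw [commutatorElement_def]; group
        _ = w * (z * x * z⁻¹) * w⁻¹ := by rw [← h2, mul_inv_cancel_right]
    obtain ⟨v, hv, hv'⟩ := hne
    refine hv' ?_
    have hsup := sup_lines h.card hL'A hLA (by rw [Grp.card_conj_smul, hLc]) hLc hL'
    rw [← hsup, ← SetLike.mem_coe, Subgroup.coe_mul_of_left_le_normalizer_right _ L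
      ((hL'A.trans (le_centralizer_iff_isMulCommutative.2 h.elem.1)).trans
        ((centralizer_le hLA).trans (centralizer_le_normalizer _)))] at hv
    obtain ⟨y, hy, x, hx, rfl⟩ := hv
    have hyx : Commute y x :=
      show y * x = x * y from congrArg Subtype.val (h.elem.1.is_comm.comm (⟨y, hL'A hy⟩ : A) ⟨x, hLA hx⟩)
    show z * (y * x) * z⁻¹ = (y * x) ^ a
    rw [hyx.mul_pow, ← hz y hy, ← hLa x hx]
    group

/-- Two eigenlines with different exponents are not both fixing. -/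
theorem not_both_fixing {z : G} (hzA : z ∈ normalizer (A : Set G)) (hzp : ¬ p ∣ orderOf z) {L L' : Subgroup G}
    (hLA : L ≤ A) (hL'A : L' ≤ A) (hLc : Nat.card L = p) (hL'c : Nat.card L' = p) (hne : L ≠ L') {a : ℕ}
    (hLa : ∀ x ∈ L, z * x * z⁻¹ = x ^ a) (hw : ∃ w ∈ A, z * w * z⁻¹ ≠ w ^ a) (hf : FixesCore M L)
    (hf' : FixesCore M L') : False := by
  by_cases hab : ∀ S : Sylow p G, IsMulCommutative (S : Subgroup G)
  · refine (Cfsg.Agent.S1418.result h.hG M h.hM E h.hE p h.hτ A h.data).2.1.2.2 ?_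
    exact (h.eigenline_normal hab hzA hzp hLA hLc hLa hw).trans (h.unique_of_fixes hLA hLc hf)
  push Not at hab
  obtain ⟨A₁, hexc⟩ := exists_exc h.hG h.hM (h.hAE.trans h.hE.1) h.elem h.card h.hτ.2.1
  obtain ⟨S₀, hS₀⟩ := hab
  obtain ⟨R, hAR⟩ := (Grp.elemAb_isPGroup h.elem).exists_le_sylow
  have hna : ¬ IsMulCommutative (R : Subgroup G) := fun hc =>
    hS₀ ⟨⟨fun a b => (S₀.equiv R).injective (by rw [map_mul, map_mul]; exact hc.is_comm.comm _ _)⟩⟩
  have h1 : ∀ L : Subgroup G, L ≤ A → Nat.card L = p → FixesCore M L → L = A₁ := fun L hL hLc hf => by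
    by_contra e
    exact hf ((hexc.lines_facts hAR hna).2 L hL hLc e).1
  exact hne ((h1 L hLA hLc hf).trans (h1 L' hL'A hL'c hf').symm)

end TauPlane

end Cfsg.Agent.Transfer.Loc
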