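import Cfsg.Agent.Lib.Transfer.Local.TauTwoPlane
import Cfsg.Agent.Lib.Transfer.Local.TauTwoPart
import Cfsg.Agent.Lib.Transfer.Local.KappaFixed
import Cfsg.Agent.Lib.Transfer.Abelian
import Cfsg.Agent.Lib.Grp.CoprimeAbelian
import Cfsg.Agent.S1417
import Cfsg.Agent.S1418
import Cfsg.Agent.S1419

/-!
A complement `E` of `M_σ` whose derived group centralises `M_σ`: abelian Sylow subgroups of `τ₂`-primes with a
central line are central, and `E` is abelian.
-/

set_option autoImplicit false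
set_option linter.style.haveILetI false
set_option linter.unusedSectionVars false
set_option maxHeartbeats 1000000

namespace Cfsg.Agent.Transfer.Loc

open Subgroup
open scoped commutatorElement Pointwise

universe u

variable {G : Type u} [Group G] [Finite G] (hG : Cfsg.IsMinSimpleOddOrder G) {M : Subgroup G} (hM : IsCoatom M)
  {E : Subgroup G} (hE : Cfsg.IsComplIn E (Cfsg.sigmaCore M) M)
include hG hM hE

/-- An element of order `r` centralising `M_σ` makes the abelian Sylow `r`-subgroup central in `E`. -/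
theorem tau2_fixed_central (hEC : ⁅E, E⁆ ≤ centralizer (Cfsg.sigmaCore M : Set G)) {r : ℕ} [hr : Fact r.Prime]
    (hτ : r ∈ Cfsg.tau2 M) (habel : ∀ S : Sylow r G, IsMulCommutative (S : Subgroup G)) {v : G} (hvE : v ∈ E)
    (hvo : orderOf v = r) (hvS : v ∈ centralizer (Cfsg.sigmaCore M : Set G)) :
    ∃ (S : Sylow r G) (A : Subgroup G), TauPlane M E r A (S : Subgroup G) ∧ v ∈ A ∧
      E ≤ centralizer ((S : Subgroup G) : Set G) := by
  haveI := solvable_of_ne_top hG hM.1
  haveI := isSolvable_of_le hE.1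
  obtain ⟨T, hT⟩ := Grp.exists_isSylowIn r E
  obtain ⟨A, hAT, hA, hA2⟩ := tau2_plane hG hM hE hτ hT
  have hAE := hAT.trans hT.1
  obtain ⟨S, hAS⟩ := (Grp.elemAb_isPGroup hA).exists_le_sylow
  obtain ⟨-, hSE, hmem⟩ := tau2_sylow_compl hG hM hE hτ hAE hA hA2 (habel S) hAS
  have h : TauPlane M E r A (S : Subgroup G) := ⟨hG, hM, hE, hτ, hAE, hA, hA2, hSE⟩
  have hvA : v ∈ A := h.mem_plane hvE (by rw [← hvo, pow_orderOf_eq_one])
  refine ⟨S, A, h, hvA, ?_⟩
  have hv1 : v ≠ 1 := fun e => hr.out.ne_one (by rw [← hvo, e, orderOf_one])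
  have hvc : Nat.card (zpowers v) = r := by rw [Nat.card_zpowers, hvo]
  have hEA := h.compl_normalizes
  -- commutators with `E` fall into the line of `v`
  have hline : ∀ c ∈ A, c ∈ centralizer (Cfsg.sigmaCore M : Set G) → c ∈ zpowers v := by
    intro c hc hcS
    by_contra hcv
    have hc1 : c ≠ 1 := fun e => hcv (e ▸ one_mem _)
    have hcc : Nat.card (zpowers c) = r := by rw [Nat.card_zpowers, orderOf_eq_prime (hA.2 c hc) hc1]
    refine h.not_all_fixing le_rfl ?_
    rw [← sup_lines hA2 (zpowers_le.2 hc) (zpowers_le.2 hvA) hcc hvc fun e => hcv (e ▸ mem_zpowers c)]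
    exact sup_le (zpowers_le.2 hcS) (zpowers_le.2 hvS)
  have hnotM : ¬ normalizer (A : Set G) ≤ normalizer (zpowers v : Set G) := fun hle => by
    refine (Cfsg.Agent.S1418.result hG M hM E hE r hτ A h.data).2.1.2.2 (hle.trans
      (h.unique_of_fixes (zpowers_le.2 hvA) hvc fun e => sigmaCore_ne_bot hG hM ?_))
    rw [← le_bot_iff, ← e]
    exact le_inf le_rfl (le_centralizer_iff.1 (zpowers_le.2 hvS))
  -- the Sylow subgroups of `E`
  refine (Grp.le_of_forall_sylow (inf_le_left : E ⊓ centralizer ((S : Subgroup G) : Set G) ≤ E)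
    fun s hs => ?_).trans inf_le_right
  by_cases hsr : s = r
  · subst hsr
    exact ⟨S, hSE, le_inf hSE.1 (le_centralizer_iff_isMulCommutative.2 (habel S))⟩
  obtain ⟨W, hW⟩ := Grp.exists_isSylowIn s E
  refine ⟨W, hW, le_inf hW.1 fun d hd => ?_⟩
  have hdE := hW.1 hd
  have hcopr : (orderOf d).Coprime r := by
    obtain ⟨i, hi⟩ := IsPGroup.iff_card.1 hW.2.1
    exact Nat.Coprime.coprime_dvd_left (Subgroup.orderOf_dvd_natCard _ hd)
      (hi ▸ ((Nat.coprime_primes hs.out hr.out).2 hsr).pow_left i)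
  have hdA : zpowers d ≤ normalizer (A : Set G) := zpowers_le.2 (hEA hdE)
  haveI : IsMulCommutative A := hA.1
  have hcop : (Nat.card (zpowers d)).Coprime (Nat.card A) := by
    rw [Nat.card_zpowers, hA2]; exact hcopr.pow_right 2
  have hsplit := Grp.commutator_sup_fixed (zpowers d) A hdA hcop (Or.inl inferInstance)
  have hcomm : ⁅A, zpowers d⁆ ≤ zpowers v := commutator_le.2 fun a ha c hc => hline _
    (by
      rw [commutatorElement_def, mul_assoc, mul_assoc, ← mul_assoc c]
      exact A.mul_mem ha (Grp.mem_conj_normalizer (hdA hc) (A.inv_mem ha)))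
    (hEC (commutator_mem_commutator (hAE ha) ((zpowers_le.2 hdE) hc)))
  obtain ⟨w, hw, hwv⟩ : ∃ w ∈ A ⊓ centralizer (zpowers d : Set G), w ∉ zpowers v := by
    by_contra hno
    push Not at hno
    have h1 : Nat.card A ≤ r := hvc ▸ Nat.le_of_dvd Nat.card_pos
      (card_dvd_of_le (hsplit.ge.trans (sup_le hcomm hno)))
    rw [hA2] at h1
    nlinarith [hr.out.two_le]
  have hwd : d * w = w * d := mem_centralizer_iff.1 hw.2 d (mem_zpowers d)
  have hw1 : w ≠ 1 := fun e => hwv (e ▸ one_mem _)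
  have hwo : orderOf w = r := orderOf_eq_prime (hA.2 w hw.1) hw1
  have hdv : d ∈ centralizer ({v} : Set G) := by
    by_contra hmove
    have hdn : d ∈ normalizer (zpowers v : Set G) := mem_normalizer_zpowers (hline _
      (Grp.mem_conj_normalizer (hEA hdE) hvA) (mem_centralizer_iff.2 fun y hy => by
        have hy' : d⁻¹ * y * d ∈ Cfsg.sigmaCore M :=
          Grp.mem_conj_normalizer' (TransHyp.le_normalizer_piCoreOf M (hE.1 hdE)) hy
        have e := mem_centralizer_iff.1 hvS _ hy'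
        calc y * (d * v * d⁻¹) = d * ((d⁻¹ * y * d) * v) * d⁻¹ := by group
          _ = d * (v * (d⁻¹ * y * d)) * d⁻¹ := by rw [e]
          _ = d * v * d⁻¹ * y := by group))
    obtain ⟨n, hn⟩ := exists_nat_pow_conj hdn
    refine hnotM (h.eigenline_normal habel (hEA hdE) (fun hd' => hr.out.ne_one
      (Nat.eq_one_of_dvd_coprimes hcopr hd' dvd_rfl)) (zpowers_le.2 hvA) hvc (a := n) ?_ ⟨w, hw.1, fun e => ?_⟩)
    · intro x hx
      obtain ⟨i, rfl⟩ := mem_zpowers_iff.1 hx
      rw [← conj_zpow, hn, ← zpow_natCast (v ^ i) n, ← zpow_natCast v n, ← zpow_mul, ← zpow_mul, mul_comm]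
    · rw [hwd, mul_inv_cancel_right] at e
      refine hmove (mem_centralizer_singleton_iff.2 ?_)
      have h1 : v ^ n = v ^ 1 := pow_eq_pow_iff_modEq.2 (by
        rw [hvo, ← hwo]; exact pow_eq_pow_iff_modEq.1 (by rw [← e, pow_one]))
      rw [pow_one] at h1
      rw [h1] at hn
      exact mul_inv_eq_iff_eq_mul.1 hn
  have hdC : zpowers d ≤ centralizer (A : Set G) := by
    refine le_centralizer_iff.1 ?_
    rw [← sup_lines hA2 (zpowers_le.2 hw.1) (zpowers_le.2 hvA) (by rw [Nat.card_zpowers, hwo]) hvc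
      fun e => hwv (e ▸ mem_zpowers w)]
    refine sup_le (zpowers_le.2 hw.2) (zpowers_le.2 (mem_centralizer_iff.2 fun c hc => ?_))
    obtain ⟨i, rfl⟩ := mem_zpowers_iff.1 hc
    exact ((show Commute d v from mem_centralizer_singleton_iff.1 hdv).zpow_left i).eq
  haveI := habel S
  refine (centralizes_of_omZ S.isPGroup' (zpowers_le.2 (tau2_sylow_normal hG hM hE hτ hAE hA hA2 (habel S) hAS hdE))
    ?_ (hdC.trans (centralizer_le fun x hx => hmem x hx.1 hx.2.2))) (mem_zpowers d)
  obtain ⟨i, hi⟩ := IsPGroup.iff_card.1 S.isPGroup'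
  rw [hi, Nat.card_zpowers]
  exact hcopr.pow_right i

/-- With one such prime, `E` is abelian. -/
theorem compl_comm (hEC : ⁅E, E⁆ ≤ centralizer (Cfsg.sigmaCore M : Set G)) (hκ : Cfsg.kappa M = ∅) {r : ℕ}
    [hr : Fact r.Prime] (hτ : r ∈ Cfsg.tau2 M) (habel : ∀ S : Sylow r G, IsMulCommutative (S : Subgroup G)) :
    IsMulCommutative E := by
  haveI := solvable_of_ne_top hG hM.1
  haveI := isSolvable_of_le hE.1
  rw [← le_centralizer_iff_isMulCommutative, ← commutator_eq_bot_iff_le_centralizer]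
  by_contra hne
  obtain ⟨s, hs, hsd⟩ := Nat.exists_prime_and_dvd fun e => hne (Subgroup.card_eq_one.1 e)
  haveI := Fact.mk hs
  obtain ⟨x, hx⟩ := exists_prime_orderOf_dvd_card' (G := ↥⁅E, E⁆) s hsd
  have hxo : orderOf (x : G) = s := by rw [Subgroup.orderOf_coe, hx]
  have hxE : (x : G) ∈ E := E.commutator_le_self x.2
  have hxS := hEC x.2
  have hx1 : (x : G) ≠ 1 := fun e => hs.ne_one (by rw [← hxo, e, orderOf_one])
  have hsτ : s ∈ Cfsg.tau2 M := by
    refine (fixed_primes_cases hG hM (hE.1 hxE) hx1 (fun t ht hd => compl_prime hG hM hE ht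
      (hd.trans (Subgroup.orderOf_dvd_natCard _ hxE))) fun e => sigmaCore_ne_bot hG hM ?_).elim
        (fun h => absurd (h s hs hxo.symm.dvd) (by rw [hκ]; exact Set.notMem_empty s)) (fun h => h s hs hxo.symm.dvd)
    rw [← le_bot_iff, ← e]
    exact le_inf le_rfl fun y hy => mem_centralizer_singleton_iff.2 (mem_centralizer_iff.1 hxS y hy)
  have habels : ∀ S : Sylow s G, IsMulCommutative (S : Subgroup G) := by
    by_contra hno
    push Not at hno
    obtain ⟨S₀, hS₀⟩ := hno
    obtain ⟨T, hT⟩ := Grp.exists_isSylowIn s E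
    obtain ⟨B, hBT, hB, hB2⟩ := tau2_plane hG hM hE hsτ hT
    have hna : ∀ S : Sylow s G, ¬ IsMulCommutative (S : Subgroup G) := fun S hc => hS₀
      ⟨⟨fun a b => (S₀.equiv S).injective (by rw [map_mul, map_mul]; exact hc.is_comm.comm _ _)⟩⟩
    have h1 := (Cfsg.Agent.S1419.result hG M hM E hE s hsτ hna B ⟨hBT.trans hT.1, hB, hB2⟩).1
    have h2 : r = s := by rwa [h1, Set.mem_singleton_iff] at hτ
    subst h2
    exact hS₀ (habel S₀)
  obtain ⟨S, B, h, hxB, hcen⟩ := tau2_fixed_central hG hM hE hEC hsτ habels hxE hxo hxS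
  set H := (S : Subgroup G).subgroupOf E
  have hc : IsMulCommutative H := ⟨⟨fun a b => Subtype.ext (Subtype.ext
    (congrArg Subtype.val ((habels S).is_comm.comm ⟨_, a.2⟩ ⟨_, b.2⟩) :))⟩⟩
  have hHall : Nat.Coprime (Nat.card H) H.index := by
    obtain ⟨i, hi⟩ := IsPGroup.iff_card.1 h.hT.2.1
    rw [Nat.card_congr (subgroupOfEquivOfLe h.hT.1).toEquiv, hi]
    exact (hs.coprime_iff_not_dvd.2 h.hT.2.2).pow_left i
  have h3 := hall_inf_commutator_inf_center H hc hHall
  have hx' : (⟨(x : G), hxE⟩ : E) ∈ H ⊓ commutator E ⊓ center E := by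
    refine ⟨⟨h.le_sylow hxB, ?_⟩, Subgroup.mem_center_iff.2 fun g => Subtype.ext ?_⟩
    · have h4 : (x : G) ∈ (commutator E).map E.subtype := by
        rw [Subgroup.map_subtype_commutator]; exact x.2
      obtain ⟨y, hy, e⟩ := h4
      rwa [show (⟨(x : G), hxE⟩ : E) = y from Subtype.ext e.symm]
    · exact (mem_centralizer_iff.1 (hcen g.2) (x : G) (h.le_sylow hxB)).symm
  rw [h3, mem_bot] at hx'
  exact hx1 (congrArg Subtype.val hx')

end Cfsg.Agent.Transfer.Loc
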