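import Cfsg.Agent.Lib.Transfer.Local.TwistCentral
import Cfsg.Agent.Lib.Transfer.Local.CoreStructure
import Cfsg.Agent.Lib.Transfer.Local.Types
import Cfsg.Agent.Lib.Transfer.Local.SigmaTilde
import Cfsg.Agent.Lib.Transfer.PGroups
import Cfsg.Agent.Lib.Grp.CoprimeAbelian
import Cfsg.Agent.S1408

/-!
The kernel `[Q, S]` of `H_σ` over the centraliser of a plane with abelian Sylow subgroup.
-/

set_option autoImplicit false
set_option linter.style.haveILetI false
set_option linter.unusedSectionVars false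
set_option maxHeartbeats 2000000

namespace Cfsg.Agent.Transfer.Loc

open Subgroup
open scoped commutatorElement Pointwise

universe u

variable {G : Type u} [Group G] [Finite G]

/-- A `q`-group with a cyclic central subgroup `Q₀` that contains the centre, the commutators and the `q`-th powers
(these in `Q₀^q`) has even rank over `Q₀`. -/
theorem even_of_central {q : ℕ} [hq : Fact q.Prime] (hq2 : q ≠ 2) {Q Q₀ : Subgroup G} (hQ : IsPGroup q Q)
    (h0Q : Q₀ ≤ Q) (hcyc : IsCyclic Q₀) (h01 : Q₀ ≠ ⊥) (hcen : ∀ z ∈ Q₀, ∀ x ∈ Q, z * x = x * z)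
    (hcomm : ∀ a ∈ Q, ∀ b ∈ Q, ⁅a, b⁆ ∈ Q₀) (hpow : ∀ x ∈ Q, ∃ y ∈ Q₀, x ^ q = y ^ q)
    (hZ : ∀ z ∈ Q, (∀ x ∈ Q, z * x = x * z) → z ∈ Q₀) {n : ℕ} (hn : Nat.card Q = Nat.card Q₀ * q ^ n) :
    Even n := by
  have hck : ∀ a ∈ Q, ∀ b ∈ Q, ∀ k : ℕ, ⁅a ^ k, b⁆ = ⁅a, b⁆ ^ k := by
    intro a ha b hb k
    induction k with
    | zero => simp
    | succ k ih =>
      rw [pow_succ, PGroups.comm_mul (Z := Q₀) (fun z hz => hcen z hz _ (Q.pow_mem ha k)) (hcomm a ha b hb)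
        (fun z hz => hcen z hz _ (h0Q (hcomm _ (Q.pow_mem ha k) b hb))), ih, ← pow_succ]
  have hcq : ∀ a ∈ Q, ∀ b ∈ Q, ⁅a, b⁆ ^ q = 1 := by
    intro a ha b hb
    obtain ⟨y, hy, e⟩ := hpow a ha
    rw [← hck a ha b hb, e, commutatorElement_eq_one_iff_mul_comm]
    exact hcen _ (Q₀.pow_mem hy q) b hb
  let Ω : Subgroup G :=
    { carrier := {x | x ∈ Q ∧ x ^ q = 1}
      one_mem' := ⟨Q.one_mem, one_pow q⟩
      inv_mem' := fun {x} hx => ⟨Q.inv_mem hx.1, by rw [inv_pow, hx.2, inv_one]⟩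
      mul_mem' := fun {a b} ha hb => ⟨Q.mul_mem ha.1 hb.1, by
        have hc := hcen _ (hcomm b hb.1 a ha.1)
        rw [Cfsg.Agent.Grp.mul_pow_class_two (x := a) (y := b) (c := ⁅b, a⁆)
          (by rw [commutatorElement_def]; group) (hc a ha.1) (hc b hb.1) q, ha.2, hb.2, mul_one, mul_one]
        obtain ⟨t, ht⟩ := hq.out.dvd_choose_self (by norm_num : 2 ≠ 0)
          (lt_of_le_of_ne hq.out.two_le (Ne.symm hq2))
        rw [ht, pow_mul, hcq b hb.1 a ha.1, one_pow]⟩ }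
  set Z : Subgroup G := Ω ⊓ Q₀ with hZdef
  have hΩQ : Ω ≤ Q := fun x hx => hx.1
  haveI := hcyc
  have hZc : Nat.card Z = q := by
    haveI : IsCyclic Z := Subgroup.isCyclic_of_le inf_le_right
    refine le_antisymm (card_le_prime_of_cyclic inferInstance fun x hx => hx.1.2) ?_
    obtain ⟨y, hy⟩ := exists_prime_orderOf_dvd_card' (G := Q₀) q (dvd_card_of_pGroup (hQ.to_le h0Q) h01)
    have hyo : orderOf (y : G) = q := by rw [Subgroup.orderOf_coe, hy]
    have hyZ : (y : G) ∈ Z := ⟨⟨h0Q y.2, by rw [← hyo, pow_orderOf_eq_one]⟩, y.2⟩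
    have h1 : orderOf (⟨(y : G), hyZ⟩ : Z) = q := by rw [Subgroup.orderOf_mk, hyo]
    rw [← h1]
    exact Nat.le_of_dvd Nat.card_pos (orderOf_dvd_natCard _)
  have hcov : ∀ x ∈ Q, ∃ w ∈ Ω, ∃ y ∈ Q₀, x = w * y := by
    intro x hx
    obtain ⟨y, hy, e⟩ := hpow x hx
    refine ⟨x * y⁻¹, ⟨Q.mul_mem hx (Q.inv_mem (h0Q hy)), ?_⟩, y, hy, by group⟩
    rw [(show Commute x y⁻¹ from (hcen y⁻¹ (Q₀.inv_mem hy) x hx).symm).mul_pow, e, inv_pow, mul_inv_cancel]
  have hg : PGroups.Good Z Ω :=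
    ⟨inf_le_left, fun a ha b hb => ⟨⟨h0Q (hcomm a ha.1 b hb.1), hcq a ha.1 b hb.1⟩, hcomm a ha.1 b hb.1⟩,
      fun z hz h hh => hcen z hz.2 h hh.1, fun z hz hc => ⟨hz, hZ z hz.1 fun x hx => by
        obtain ⟨w, hw, y, hy, rfl⟩ := hcov x hx
        exact ((show Commute z w from hc w hw).mul_right (show Commute z y from (hcen y hy z hz.1).symm)).eq⟩⟩
  obtain ⟨m, hm⟩ := PGroups.good_card hZc hg
  have hnorm : Ω ≤ normalizer (Q₀ : Set G) := fun w hw => centralizer_le_normalizer _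
    (mem_centralizer_iff.2 fun z hz => hcen z hz w hw.1)
  have hsup : Ω ⊔ Q₀ = Q := le_antisymm (sup_le hΩQ h0Q) fun x hx => by
    obtain ⟨w, hw, y, hy, rfl⟩ := hcov x hx
    exact mul_mem_sup hw hy
  have h1 := Grp.card_sup_mul_card_inf hnorm
  rw [hsup, hn, ← hZdef, hZc, hm, mul_comm (q ^ (2 * m + 1)), mul_assoc, ← pow_succ] at h1
  have h2 := Nat.pow_right_injective hq.out.two_le (Nat.eq_of_mul_eq_mul_left Nat.card_pos h1)
  exact ⟨m, by omega⟩

variable (hG : Cfsg.IsMinSimpleOddOrder G) {M : Subgroup G} (hM : IsCoatom M) {H : Subgroup G} (hH : IsCoatom H)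
  (hMH : ∀ g : G, H ≠ MulAut.conj g • M) {E : Subgroup G} (hEM : E ≤ M) (hEc : IsMulCommutative E) {r : ℕ}
  [hr : Fact r.Prime] {A S : Subgroup G} (hCA : centralizer (A : Set G) = E) (hAS : A ≤ S)
  (hSc : IsMulCommutative S) (hS : Grp.IsSylowIn r S (Cfsg.sigmaCore H)) (hideal : ¬ Cfsg.IsIdealPrime r G)
include hG hM hH hMH hEM hEc hCA hAS hSc hS hideal

/-- A normal subgroup of `H` inside `H_σ` meeting `E` trivially and covering `H_σ` with `C(A)`. -/
theorem twist_kernel : ∃ O : Subgroup G, O ≤ Cfsg.sigmaCore H ∧ H ≤ normalizer (O : Set G) ∧ O ⊓ E = ⊥ ∧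
    Cfsg.sigmaCore H ≤ O ⊔ (Cfsg.sigmaCore H ⊓ E) ∧
    (O = ⊥ ∨ ¬ Group.IsNilpotent (Cfsg.sigmaCore H)) := by
  haveI := solvable_of_ne_top hG hH.1
  set T := Cfsg.sigmaCore H with hT
  have hSE : S ≤ E := hCA ▸ (le_centralizer_iff_isMulCommutative.2 hSc).trans (centralizer_le hAS)
  have hCS : centralizer (S : Set G) ≤ E := hCA ▸ centralizer_le hAS
  have hnilC : ∀ D : Subgroup G, D ≤ T → Group.IsNilpotent D → S ≤ D → D ≤ E := by
    intro D hDT hDn hSD
    have hSD' : Grp.IsSylowIn r S D := ⟨hSD, hS.2.1, fun hd => hS.2.2 (by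
      rw [← relIndex_mul_relIndex S D T hSD hDT]; exact hd.mul_right _)⟩
    refine (((Grp.le_of_forall_sylow (inf_le_left : D ⊓ centralizer (S : Set G) ≤ D) fun t ht => ?_)).trans
      inf_le_right).trans hCS
    by_cases htr : t = r
    · subst htr
      exact ⟨S, hSD', le_inf hSD (le_centralizer_iff_isMulCommutative.2 hSc)⟩
    obtain ⟨W, hW⟩ := Grp.exists_isSylowIn t D
    refine ⟨W, hW, le_inf hW.1 fun w hw => mem_centralizer_iff.2 fun s hs => ?_⟩
    exact TypeP.commute_of_coprime_orderOf hDn (hSD hs) (hW.1 hw)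
      (((coprime_O (Ne.symm htr) hS.2.1 hW.2.1).coprime_dvd_left (Subgroup.orderOf_dvd_natCard _ hs)).coprime_dvd_right
        (Subgroup.orderOf_dvd_natCard _ hw))
  by_cases hnil : Group.IsNilpotent T
  · exact ⟨⊥, bot_le, fun g _ => Grp.mem_normalizer_iff_smul.2 (Subgroup.smul_bot _), bot_inf_eq _,
      (le_inf le_rfl (hnilC T le_rfl hnil hS.1)).trans le_sup_right, Or.inl rfl⟩
  obtain ⟨K, U, hKU⟩ := exists_decomp_of_max hG hH
  obtain ⟨-, hK1, -, hKp, hqp, hβ, Q, hQT, hHQ, -, hqQ, -, hQD⟩ := sigmaCore_structure hG hH hKU hnil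
  set q := Nat.card (kStar H K) with hqdef
  haveI := Fact.mk hqp
  have hTH : T ≤ H := TransHyp.piCoreOf_le H
  haveI := isSolvable_of_le hTH
  have hqr : q ≠ r := fun e => hideal (e ▸ hβ.2)
  have hqσ : q ∉ Cfsg.sigma M := fun h => by
    obtain ⟨g, hg⟩ := sigma_conj_of_common hG hM hH h (alpha_subset_sigma hG hH hβ.1)
    exact hMH g hg
  have hq2 : q ≠ 2 := ne_two hG ((card_dvd_of_le (inf_le_left : kStar H K ≤ T)).trans
    (card_subgroup_dvd_card _))
  obtain ⟨i, hi⟩ := IsPGroup.iff_card.1 hQT.2.1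
  -- a nilpotent complement of `Q` over `S`
  obtain ⟨D, hD, -, hSD⟩ := Grp.PiHall.exists_ge (π := {t : ℕ | t ≠ q}) _ G ⊥ T S rfl bot_le (by simp)
    inferInstance hS.1 bot_le fun t ht hd => by
      rw [eq_of_dvd_pGroup hS.2.1 ht hd]; exact hqr.symm
  have hcopQD : (Nat.card Q).Coprime (Nat.card D) := by
    rw [hi]
    exact (hqp.coprime_iff_not_dvd.2 fun hd => hD.2.1 q hqp hd rfl).pow_left i
  have hsupQD : T ≤ Q ⊔ D := by
    refine Grp.le_of_forall_sylow (sup_le hQT.1 hD.1) fun t ht => ?_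
    by_cases htq : t = q
    · subst htq; exact ⟨Q, hQT, le_sup_left⟩
    · obtain ⟨V, hV⟩ := Grp.exists_isSylowIn t D
      exact ⟨V, sylowIn_trans hV hD.1 (hD.2.2 t ht.out htq), hV.1.trans le_sup_right⟩
  have hDQ : D ≤ normalizer (Q : Set G) := (hD.1.trans hTH).trans hHQ
  have hcompl : Cfsg.IsComplIn Q D T := ⟨hQT.1, hD.1, Grp.inf_eq_bot_of_coprime hcopQD, fun m hm => by
    have h1 := hsupQD hm
    rw [← SetLike.mem_coe, Subgroup.coe_mul_of_right_le_normalizer_left Q D hDQ] at h1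
    obtain ⟨a, ha, b, hb, e⟩ := h1
    exact ⟨a, ha, b, hb, e.symm⟩⟩
  obtain ⟨hDn, hH0, hlt, hcardQ, hQ0, hchief, -⟩ := hQD D hcompl
  have hDE : D ≤ E := hnilC D hD.1 hDn hSD
  haveI := hEc
  set Q₀ := Q ⊓ centralizer (D : Set G) with hQ0def
  have hQ0E : Q₀ ≤ E := inf_le_right.trans ((centralizer_le hSD).trans hCS)
  -- a subgroup over `Q₀` catching all commutators with `D` is `Q`
  have hcatch : ∀ N : Subgroup G, Q₀ ≤ N → (∀ x ∈ Q, ∀ d ∈ D, ⁅x, d⁆ ∈ N) → Q ≤ N := fun N h0 hc => by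
    rw [← Grp.commutator_sup_fixed D Q hDQ hcopQD.symm (Or.inr (isSolvable_of_le (hQT.1.trans hTH)))]
    exact sup_le (commutator_le.2 hc) h0
  have hQ0n : Q ≤ normalizer (Q₀ : Set G) := (hQT.1.trans hTH).trans hH0
  have hQ0ab : ∀ a ∈ Q₀, ∀ b ∈ Q₀, a * b = b * a := fun a ha b hb =>
    congrArg Subtype.val (hEc.is_comm.comm (⟨a, hQ0E ha⟩ : E) ⟨b, hQ0E hb⟩)
  have hfixD : ∀ z ∈ Q₀, ∀ d ∈ D, d * z = z * d := fun z hz d hd => mem_centralizer_iff.1 hz.2 d hd
  have hcen : Q ≤ centralizer (Q₀ : Set G) := by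
    refine (hcatch (Q ⊓ centralizer (Q₀ : Set G)) (le_inf inf_le_left fun z hz => mem_centralizer_iff.2 fun w hw =>
      hQ0ab w hw z hz) fun x hx d hd => ⟨?_, mem_centralizer_iff.2 fun z hz => ?_⟩).trans inf_le_right
    · rw [commutatorElement_def, mul_assoc, mul_assoc, ← mul_assoc d]
      exact Q.mul_mem hx (Grp.mem_conj_normalizer (hDQ hd) (Q.inv_mem hx))
    · have h1 : x⁻¹ * z * x ∈ Q₀ := Grp.mem_conj_normalizer' (hQ0n hx) hz
      have h2 := hfixD _ h1 d hd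
      have h3 := hfixD _ hz d hd
      have h4 : x * d * x⁻¹ * d⁻¹ * z = z * (x * d * x⁻¹ * d⁻¹) := by
        calc x * d * x⁻¹ * d⁻¹ * z = x * d * x⁻¹ * (d⁻¹ * (z * d)) * d⁻¹ := by group
          _ = x * (d * (x⁻¹ * z * x)) * x⁻¹ * d⁻¹ := by rw [← h3]; group
          _ = x * (x⁻¹ * z * x * d) * x⁻¹ * d⁻¹ := by rw [h2]
          _ = z * (x * d * x⁻¹ * d⁻¹) := by group
      rw [commutatorElement_def]
      exact h4.symm
  have hcen' : ∀ z ∈ Q₀, ∀ x ∈ Q, z * x = x * z := fun z hz x hx => mem_centralizer_iff.1 (hcen hx) z hz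
  have hcomm : ∀ a ∈ Q, ∀ b ∈ Q, ⁅a, b⁆ ∈ Q₀ := fun a ha b hb => by
    rw [commutatorElement_def]; exact (hQ0 a ha b hb).2
  -- `Q` is abelian
  have hab : IsMulCommutative Q := by
    by_contra hna
    have hna' : ¬ Q ≤ centralizer (Q : Set G) := fun h => hna (le_centralizer_iff_isMulCommutative.1 h)
    have h01 : Q₀ ≠ ⊥ := fun e => hna' fun a ha => mem_centralizer_iff.2 fun b hb => by
      have h1 := hcomm b hb a ha
      rw [e, mem_bot, commutatorElement_eq_one_iff_mul_comm] at h1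
      exact h1
    have hq1 : Cfsg.PRankLE q 1 M := by
      by_contra hc
      have hτ := tau2_of_not_rank_one hG hM hqσ hc
      exact (Cfsg.Agent.S1408.result hG M hM q hqσ hτ.2.2.1 hc).1 hβ.2
    have hcyc : IsCyclic Q₀ := by
      by_contra hc
      exact not_prank_one_of_not_cyclic hG hq2 (hQT.2.1.to_le inf_le_left) hc (prankLE_mono (hQ0E.trans hEM) hq1)
    have hZ : ∀ z ∈ Q, (∀ x ∈ Q, z * x = x * z) → z ∈ Q₀ := by
      intro z hz hzc
      by_contra hz0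
      have hHZ : H ≤ normalizer ((Q ⊓ centralizer (Q : Set G) : Subgroup G) : Set G) :=
        Grp.le_normalizer_inf' hHQ (hHQ.trans (normalizer_le_normalizer_cent _))
      have h0Z : Q₀ ≤ Q ⊓ centralizer (Q : Set G) := le_inf inf_le_left fun w hw =>
        mem_centralizer_iff.2 fun x hx => (hcen' w hw x hx).symm
      refine hchief _ (lt_of_le_of_ne h0Z fun e => hz0 (e ▸ ⟨hz, mem_centralizer_iff.2 fun x hx => (hzc x hx).symm⟩))
        (lt_of_le_of_ne inf_le_left fun e => hna' (e.ge.trans inf_le_right)) hHZ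
    have hpow : ∀ x ∈ Q, ∃ y ∈ Q₀, x ^ q = y ^ q := by
      have hq' : q ∣ q.choose 2 := hqp.dvd_choose_self (by norm_num) (lt_of_le_of_ne hqp.two_le (Ne.symm hq2))
      have hcq : ∀ a ∈ Q, ∀ b ∈ Q, ⁅a, b⁆ ^ q = 1 := by
        intro a ha b hb
        have hk : ∀ k : ℕ, ⁅a ^ k, b⁆ = ⁅a, b⁆ ^ k := by
          intro k
          induction k with
          | zero => simp
          | succ k ih =>
            rw [pow_succ, PGroups.comm_mul (Z := Q₀) (fun z hz => hcen' z hz _ (Q.pow_mem ha k)) (hcomm a ha b hb)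
              (fun z hz => hcen' z hz _ (inf_le_left (α := Subgroup G) (hcomm _ (Q.pow_mem ha k) b hb))), ih,
              ← pow_succ]
        rw [← hk, commutatorElement_eq_one_iff_mul_comm]
        exact hcen' _ (hQ0 a ha b hb).1 b hb
      have hmul : ∀ a ∈ Q, ∀ b ∈ Q, (a * b) ^ q = a ^ q * b ^ q := fun a ha b hb => by
        have hc := hcen' _ (hcomm b hb a ha)
        obtain ⟨t, ht⟩ := hq'
        rw [Cfsg.Agent.Grp.mul_pow_class_two (x := a) (y := b) (c := ⁅b, a⁆)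
          (by rw [commutatorElement_def]; group) (hc a ha) (hc b hb) q, ht, pow_mul, hcq b hb a ha, one_pow, one_mul]
      let N : Subgroup G :=
        { carrier := {x | x ∈ Q ∧ ∃ y ∈ Q₀, x ^ q = y ^ q}
          one_mem' := ⟨Q.one_mem, 1, Q₀.one_mem, rfl⟩
          inv_mem' := fun {x} hx => ⟨Q.inv_mem hx.1, by
            obtain ⟨y, hy, e⟩ := hx.2
            exact ⟨y⁻¹, Q₀.inv_mem hy, by rw [inv_pow, e, inv_pow]⟩⟩
          mul_mem' := fun {a b} ha hb => ⟨Q.mul_mem ha.1 hb.1, by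
            obtain ⟨y, hy, e⟩ := ha.2
            obtain ⟨z, hz, e'⟩ := hb.2
            exact ⟨y * z, Q₀.mul_mem hy hz, by
              rw [hmul a ha.1 b hb.1, e, e', (show Commute y z from hQ0ab y hy z hz).mul_pow]⟩⟩ }
      have h1 : Q ≤ N := hcatch N (fun z hz => ⟨hz.1, z, hz, rfl⟩) fun x hx d hd => by
        have hxd : d * x⁻¹ * d⁻¹ ∈ Q := Grp.mem_conj_normalizer (hDQ hd) (Q.inv_mem hx)
        rw [show ⁅x, d⁆ = x * (d * x⁻¹ * d⁻¹) by rw [commutatorElement_def]; group]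
        refine ⟨Q.mul_mem hx hxd, 1, Q₀.one_mem, ?_⟩
        rw [hmul x hx _ hxd, conj_pow, inv_pow, hfixD _ (Q₀.inv_mem (hQ0 x hx x hx).1) d hd]
        group
      exact fun x hx => (h1 hx).2
    have h2 := even_of_central hq2 hQT.2.1 inf_le_left hcyc h01 hcen' hcomm hpow hZ hcardQ
    exact (Nat.not_even_iff_odd.2 (hG.1.of_dvd_nat (card_subgroup_dvd_card K))) h2
  haveI := hab
  -- the kernel
  have hcopQS : (Nat.card S).Coprime (Nat.card Q) := coprime_O hqr.symm hS.2.1 hQT.2.1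
  have hSQ : S ≤ normalizer (Q : Set G) := hSD.trans hDQ
  set O := ⁅Q, S⁆ with hOdef
  have hOQ : O ≤ Q := Grp.commutator_le_left_of_le_normalizer hSQ
  have hsplit := Grp.commutator_sup_fixed S Q hSQ hcopQS (Or.inl (isSolvable_of_le (hS.1.trans hTH)))
  have hfixE : Q ⊓ centralizer (S : Set G) ≤ T ⊓ E := le_inf (inf_le_left.trans hQT.1) (inf_le_right.trans hCS)
  have hTsup : T ≤ O ⊔ (T ⊓ E) :=
    hsupQD.trans (sup_le (hsplit.ge.trans (sup_le_sup_left hfixE _)) ((le_inf hD.1 hDE).trans le_sup_right))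
  refine ⟨O, hOQ.trans hQT.1, fun h hh => ?_, ?_, hTsup, Or.inr hnil⟩
  · -- Frattini
    have hST := hS.smul (g := h) (Grp.mem_normalizer_iff_smul.1 (TransHyp.le_normalizer_piCoreOf H hh))
    obtain ⟨k, hk, e⟩ := hS.conj hST
    have hn : k⁻¹ * h ∈ normalizer (S : Set G) := by
      rw [Grp.mem_normalizer_iff_smul, ← Grp.conj_smul_conj_smul, ← e, Grp.conj_smul_conj_smul, inv_mul_cancel,
        map_one, one_smul]
    have hkO : T ≤ normalizer (O : Set G) := by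
      refine hsupQD.trans (sup_le ?_ (le_normalizer_commutator' hDQ ?_))
      · exact ((le_centralizer_iff_isMulCommutative.2 hab).trans (centralizer_le hOQ)).trans
          (centralizer_le_normalizer _)
      · exact (hDE.trans ((le_centralizer_iff_isMulCommutative.2 hEc).trans (centralizer_le hSE))).trans
          (centralizer_le_normalizer _)
    have hnO : k⁻¹ * h ∈ normalizer (O : Set G) := le_normalizer_commutator' (A := zpowers (k⁻¹ * h))
      (zpowers_le.2 (hHQ (H.mul_mem (H.inv_mem (hTH hk)) hh))) (zpowers_le.2 hn) (mem_zpowers _)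
    have h1 := (normalizer (O : Set G)).mul_mem (hkO hk) hnO
    rwa [mul_inv_cancel_left] at h1
  · rw [← le_bot_iff, ← Grp.abelian_commutator_inf_fixed S Q hSQ hcopQS]
    refine le_inf (le_inf (inf_le_left.trans hOQ) ?_) inf_le_left
    exact inf_le_right.trans ((le_centralizer_iff_isMulCommutative.2 hEc).trans (centralizer_le hSE))

end Cfsg.Agent.Transfer.Loc
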