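import Cfsg.Agent.Lib.Transfer.Local.TwistLines
import Cfsg.Agent.Lib.Char.Induce
import Cfsg.Agent.Lib.Char.Galois

/-!
A Galois stable family of irreducible characters of the overgroup of a twisted configuration.
-/

set_option autoImplicit false
set_option linter.style.haveILetI false
set_option linter.unusedSectionVars false
set_option maxHeartbeats 2000000

namespace Cfsg.Agent.Transfer.Loc

open Subgroup
open scoped ComplexConjugate Pointwise IsMulCommutative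

universe u

section Hom

variable {E : Type u} [CommGroup E] [Finite E]

theorem hom_finite : Finite (E →* ℂˣ) :=
  Nat.finite_of_card_ne_zero (CommGroup.card_monoidHom_of_hasEnoughRootsOfUnity E ℂ ▸ Nat.card_pos.ne')

/-- The sum at `a` of the linear characters trivial on `B`. -/
theorem sum_hom_trivial_on [Fintype (E →* ℂˣ)] (B : Subgroup E) (a : E) [DecidablePred fun θ : E →* ℂˣ => ∀ b ∈ B, θ b = 1]
    [Decidable (a ∈ B)] :
    ∑ θ ∈ Finset.univ.filter (fun θ : E →* ℂˣ => ∀ b ∈ B, θ b = 1), ((θ a : ℂˣ) : ℂ) =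
      if a ∈ B then (B.index : ℂ) else 0 := by
  split_ifs with ha
  · rw [Finset.sum_congr rfl fun θ hθ => by rw [(Finset.mem_filter.1 hθ).2 a ha, Units.val_one], Finset.sum_const,
      nsmul_eq_mul, mul_one, ← Fintype.card_subtype, ← Nat.card_eq_fintype_card]
    congr 1
    rw [Subgroup.index_eq_card, ← CommGroup.card_domRestrictHom_ker ℂ B]
    exact Nat.card_congr (Equiv.subtypeEquivRight fun θ =>
      ⟨fun h => MonoidHom.mem_ker.2 (MonoidHom.ext fun b => h b b.2),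
        fun h b hb => DFunLike.congr_fun (MonoidHom.mem_ker.1 h) ⟨b, hb⟩⟩)
  · obtain ⟨φ, hφ⟩ := CommGroup.exists_apply_ne_one_of_hasEnoughRootsOfUnity (E ⧸ B) ℂ
      (a := (a : E ⧸ B)) (fun e => ha ((QuotientGroup.eq_one_iff a).1 e))
    set φ' := φ.comp (QuotientGroup.mk' B)
    have hφB : ∀ b ∈ B, φ' b = 1 := fun b hb => by
      show φ (b : E ⧸ B) = 1
      rw [(QuotientGroup.eq_one_iff b).2 hb, map_one]
    set S := Finset.univ.filter (fun θ : E →* ℂˣ => ∀ b ∈ B, θ b = 1)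
    have key : ((φ' a : ℂˣ) : ℂ) * ∑ θ ∈ S, ((θ a : ℂˣ) : ℂ) = ∑ θ ∈ S, ((θ a : ℂˣ) : ℂ) := by
      rw [Finset.mul_sum]
      refine Finset.sum_nbij (fun θ => φ' * θ) (fun θ hθ => ?_) (fun _ _ _ _ e => mul_left_cancel e)
        (fun θ hθ => ⟨φ'⁻¹ * θ, ?_, by simp⟩) fun θ _ => by simp
      · simp only [S, Finset.coe_filter, Finset.mem_univ, true_and, Set.mem_ofPred_eq, Finset.mem_filter] at hθ ⊢
        intro b hb
        rw [MonoidHom.mul_apply, hφB b hb, hθ b hb, mul_one]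
      · simp only [S, Finset.coe_filter, Finset.mem_univ, true_and, Set.mem_ofPred_eq, Finset.mem_filter] at hθ ⊢
        intro b hb
        rw [MonoidHom.mul_apply, MonoidHom.inv_apply, hφB b hb, hθ b hb, inv_one, mul_one]
    by_contra h0
    exact hφ (Units.ext ((mul_eq_right₀ h0).1 key))

end Hom

variable {G : Type u} [Group G] [Finite G] {M E H O : Subgroup G} {r : ℕ} [hr : Fact r.Prime] {A : Subgroup G} {v : G}

/-- The family. -/
theorem Twist.exists_family [Fintype H] (h : Twist M E H O r A v) :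
    ∃ (U : Finset (H → ℂ)) (c : ℕ) (s : H → ℤ),
      0 < c ∧ U.card * E.relIndex (normalizer (A : Set G)) = c * (movedLines A r).ncard * (r - 1) ∧
      (∀ ξ ∈ U, Cfsg.IsIrrCharacter H ξ ∧ (∀ x : H, (x : G) ∉ O ⊔ E → ξ x = 0) ∧
        (∀ x : H, (x : G) ∈ O → ξ x = (E.relIndex (normalizer (A : Set G)) : ℂ)) ∧
        ∀ σ : ℂ ≃+* ℂ, (fun x => σ (ξ x)) ∈ U) ∧
      (∀ x : H, (x : G) ∈ O ⊔ E → (x : G) ∉ O → ∑ ξ ∈ U, ξ x = (s x : ℂ) ∧ 2 * |s x| ≤ (U.card : ℤ)) ∧
      ∀ x : H, (x : G) ∈ zpowers v → (x : G) ≠ 1 → |s x| = (c : ℤ) := by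
  classical
  haveI := h.hEc
  haveI : Fintype E := Fintype.ofFinite E
  haveI := hom_finite (E := E)
  haveI : Fintype (E →* ℂˣ) := Fintype.ofFinite _
  set W := normalizer (A : Set G) with hWdef
  haveI : Fintype W := Fintype.ofFinite W
  set e := E.relIndex W with hedef
  set X := O ⊔ E with hXdef
  have hOE : E ≤ normalizer (O : Set G) := h.le_overgroup.trans h.hON
  have hXH : X ≤ H := sup_le h.kernel_le h.le_overgroup
  have hWH : W ≤ H := h.hNA
  have hWE : W ≤ normalizer (E : Set G) := by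
    rw [hWdef, ← h.hCA]; exact normalizer_le_normalizer_cent A
  -- the projection
  have hdec : ∀ x ∈ X, ∃ a ∈ E, x * a⁻¹ ∈ O := fun x hx => by
    rw [← SetLike.mem_coe, hXdef, Subgroup.coe_mul_of_right_le_normalizer_left O E hOE] at hx
    obtain ⟨o, ho, a, ha, rfl⟩ := hx
    exact ⟨a, ha, by simpa using ho⟩
  have huni : ∀ (x a b : G), a ∈ E → b ∈ E → x * a⁻¹ ∈ O → x * b⁻¹ ∈ O → a = b := fun x a b ha hb h1 h2 => by
    have h3 : a * b⁻¹ ∈ O ⊓ E := ⟨by
      have := O.mul_mem (O.inv_mem h1) h2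
      rwa [show (x * a⁻¹)⁻¹ * (x * b⁻¹) = a * b⁻¹ by group] at this, E.mul_mem ha (E.inv_mem hb)⟩
    rwa [h.disj, mem_bot, mul_inv_eq_one] at h3
  choose! pf hpfE hpfO using hdec
  let π : X →* E := MonoidHom.mk' (fun x => ⟨pf x.1, hpfE x.1 x.2⟩) fun x y => Subtype.ext (by
    refine huni (x.1 * y.1) _ _ (hpfE _ (X.mul_mem x.2 y.2)) (E.mul_mem (hpfE _ x.2) (hpfE _ y.2))
      (hpfO _ (X.mul_mem x.2 y.2)) ?_
    show x.1 * y.1 * (pf x.1 * pf y.1)⁻¹ ∈ O
    rw [show x.1 * y.1 * (pf x.1 * pf y.1)⁻¹ =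
      (x.1 * (pf x.1)⁻¹) * (pf x.1 * (y.1 * (pf y.1)⁻¹) * (pf x.1)⁻¹) by group]
    exact O.mul_mem (hpfO _ x.2) (Grp.mem_conj_normalizer (hOE (hpfE _ x.2)) (hpfO _ y.2)))
  have hπ : ∀ (x : X) (a : G), a ∈ E → (x : G) * a⁻¹ ∈ O → ((π x : E) : G) = a := fun x a ha ho =>
    huni x _ _ (hpfE _ x.2) ha (hpfO _ x.2) ho
  -- the action of `W`
  let cw : W → (E →* E) := fun w => MonoidHom.mk'
    (fun a => ⟨(w : G)⁻¹ * a * w, Grp.mem_conj_normalizer' (hWE w.2) a.2⟩) fun a b => Subtype.ext (by simp [mul_assoc])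
  let tw : W → (E →* ℂˣ) → (E →* ℂˣ) := fun w θ => θ.comp (cw w)
  have htw : ∀ (w w' : W) θ, tw w (tw w' θ) = tw (w * w') θ := fun w w' θ => MonoidHom.ext fun a =>
    congrArg θ (Subtype.ext (by simp [cw, mul_assoc]))
  have htw1 : ∀ θ, tw 1 θ = θ := fun θ => MonoidHom.ext fun a => congrArg θ (Subtype.ext (by simp [cw]))
  have hcancel : ∀ (w : W) θ, tw w (tw w⁻¹ θ) = θ := fun w θ => by rw [htw, mul_inv_cancel, htw1]
  have hcancel' : ∀ (w : W) θ, tw w⁻¹ (tw w θ) = θ := fun w θ => by rw [htw, inv_mul_cancel, htw1]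
  set Lset := (Set.toFinite (movedLines A r)).toFinset with hLset
  have hmemL : ∀ L, L ∈ Lset ↔ L ∈ movedLines A r := fun L => Set.Finite.mem_toFinset _
  let Pr : (E →* ℂˣ) → Subgroup G → Prop := fun θ L => ∀ a : E, (a : G) ∈ A → (θ a = 1 ↔ (a : G) ∈ L)
  set Θ := Finset.univ.filter (fun θ : E →* ℂˣ => ∃ L ∈ Lset, Pr θ L) with hΘ
  have hmemΘ : ∀ θ, θ ∈ Θ ↔ ∃ L ∈ Lset, Pr θ L := fun θ => by simp [hΘ]
  have htwΘ : ∀ w θ, θ ∈ Θ → tw w θ ∈ Θ := by
    intro w θ hθ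
    obtain ⟨L, hL, hP⟩ := (hmemΘ θ).1 hθ
    refine (hmemΘ _).2 ⟨MulAut.conj (w : G) • L, (hmemL _).2 (h.moved_smul w.2 ((hmemL L).1 hL)), fun a ha => ?_⟩
    refine (hP (cw w a) (Grp.mem_conj_normalizer' w.2 ha)).trans ⟨fun hm => ⟨_, hm, ?_⟩, ?_⟩
    · show MulAut.conj (w : G) ((w : G)⁻¹ * a * w) = a
      simp [MulAut.conj_apply]; group
    · rintro ⟨l, hl, e'⟩
      show (w : G)⁻¹ * a * w ∈ L
      rw [← e']
      show (w : G)⁻¹ * ((w : G) * l * (w : G)⁻¹) * w ∈ L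
      simpa [mul_assoc] using hl
  -- the characters
  let Xs := X.subgroupOf H
  let θX : (E →* ℂˣ) → (Xs →* ℂˣ) := fun θ => θ.comp (π.comp (subgroupOfEquivOfLe hXH).toMonoidHom)
  let ξ : (E →* ℂˣ) → (H → ℂ) := fun θ => Cfsg.indFun Xs (fun x => ((θX θ x : ℂˣ) : ℂ))
  have hdecomp : ∀ y : H, ∃ p : O × W, (p.1 : G) * p.2 = y := fun y => by
    have h1 : (y : G) ∈ O ⊔ W := (h.cover.trans (sup_le_sup_left inf_le_right _)) y.2
    rw [← SetLike.mem_coe, Subgroup.coe_mul_of_right_le_normalizer_left O W (hWH.trans h.hON)] at h1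
    obtain ⟨o, ho, w, hw, e'⟩ := h1
    exact ⟨(⟨o, ho⟩, ⟨w, hw⟩), e'⟩
  let eH : O × W ≃ H := Equiv.ofBijective (fun p => ⟨p.1 * p.2, H.mul_mem (h.kernel_le p.1.2) (hWH p.2.2)⟩) (by
    refine ⟨fun p q e' => ?_, fun y => (hdecomp y).imp fun p hp => Subtype.ext hp⟩
    have e'' : (p.1 : G) * p.2 = q.1 * q.2 := congrArg Subtype.val e'
    have h1 : (q.1 : G)⁻¹ * p.1 ∈ O ⊓ W := ⟨O.mul_mem (O.inv_mem q.1.2) p.1.2, by
      rw [show (q.1 : G)⁻¹ * p.1 = q.2 * (p.2 : G)⁻¹ by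
        rw [eq_mul_inv_iff_mul_eq, mul_assoc, e'', inv_mul_cancel_left]]
      exact W.mul_mem q.2.2 (W.inv_mem p.2.2)⟩
    rw [h.kernel_inf, mem_bot, inv_mul_eq_one] at h1
    rw [← h1] at e''
    exact Prod.ext (Subtype.ext h1.symm) (Subtype.ext (mul_left_cancel e'')))
  haveI : Fintype O := Fintype.ofFinite O
  haveI : Fintype X := Fintype.ofFinite X
  haveI : Fintype Xs := Fintype.ofFinite Xs
  have hcardX : Nat.card Xs = Nat.card O * Nat.card E := by
    rw [Nat.card_congr (subgroupOfEquivOfLe hXH).toEquiv, ← Nat.card_prod]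
    exact (Nat.card_congr (Equiv.ofBijective
      (fun p : O × E => (⟨p.1 * p.2, mul_mem (mem_sup_left p.1.2) (mem_sup_right p.2.2)⟩ : X))
      ⟨fun p q e' => by
        have e'' : (p.1 : G) * p.2 = q.1 * q.2 := congrArg Subtype.val e'
        have h1 : (p.2 : G) = q.2 := huni ((p.1 : G) * p.2) _ _ p.2.2 q.2.2 (by simp) (by rw [e'']; simp)
        rw [h1] at e''
        exact Prod.ext (Subtype.ext (mul_right_cancel e'')) (Subtype.ext h1),
      fun x => ⟨(⟨_, hpfO _ x.2⟩, ⟨_, hpfE _ x.2⟩), Subtype.ext (by simp)⟩⟩)).symm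
  have hformula : ∀ θ (x : H) (hx : (x : G) ∈ X),
      ξ θ x = (Nat.card E : ℂ)⁻¹ * ∑ w : W, ((tw w θ (π ⟨x, hx⟩) : ℂˣ) : ℂ) := by
    intro θ x hx
    have hval : ∀ p : O × W, Cfsg.extendByZero Xs (fun z => ((θX θ z : ℂˣ) : ℂ)) ((eH p)⁻¹ * x * eH p) =
        ((tw p.2 θ (π ⟨x, hx⟩) : ℂˣ) : ℂ) := by
      intro p
      set y := (p.1 : G) * p.2 with hy
      have hyH : y ∈ H := (eH p).2
      have hmem : y⁻¹ * x * y ∈ X := Grp.mem_conj_normalizer' (h.le_normalizer_sup hyH) hx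
      rw [Char.extendByZero_of_mem _ (show (eH p)⁻¹ * x * eH p ∈ Xs from hmem)]
      show ((θ (π ⟨y⁻¹ * x * y, hmem⟩) : ℂˣ) : ℂ) = ((θ (cw p.2 (π ⟨x, hx⟩)) : ℂˣ) : ℂ)
      refine congrArg (fun a : E => ((θ a : ℂˣ) : ℂ)) (Subtype.ext ?_)
      refine hπ ⟨y⁻¹ * x * y, hmem⟩ _ (cw p.2 (π ⟨x, hx⟩)).2 ?_
      set a : G := ((π ⟨(x : G), hx⟩ : E) : G) with ha
      have ho : (x : G) * a⁻¹ ∈ O := hpfO _ hx
      have haH : a ∈ H := h.le_overgroup (π ⟨(x : G), hx⟩ : E).2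
      show y⁻¹ * x * y * ((p.2 : G)⁻¹ * a * p.2)⁻¹ ∈ O
      rw [show y⁻¹ * x * y * ((p.2 : G)⁻¹ * a * p.2)⁻¹ = (p.2 : G)⁻¹ *
        ((p.1 : G)⁻¹ * ((x : G) * a⁻¹) * (a * p.1 * a⁻¹)) * p.2 by rw [hy]; group]
      exact Grp.mem_conj_normalizer' (h.hON (hWH p.2.2))
        (O.mul_mem (O.mul_mem (O.inv_mem p.1.2) ho) (Grp.mem_conj_normalizer (h.hON haH) p.1.2))
    show (Nat.card Xs : ℂ)⁻¹ * _ = _
    rw [← eH.sum_comp, Finset.sum_congr rfl fun p _ => hval p, Fintype.sum_prod_type]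
    dsimp only
    rw [Finset.sum_const,
      Finset.card_univ, ← Nat.card_eq_fintype_card, nsmul_eq_mul, hcardX, Nat.cast_mul, mul_inv, ← mul_assoc,
      mul_comm (Nat.card O : ℂ)⁻¹, mul_assoc (Nat.card E : ℂ)⁻¹,
      inv_mul_cancel₀ (Nat.cast_ne_zero.2 Nat.card_pos.ne'), mul_one]
  have hoff : ∀ θ (x : H), (x : G) ∉ X → ξ θ x = 0 := by
    intro θ x hx
    show (Nat.card Xs : ℂ)⁻¹ * _ = 0
    rw [Finset.sum_eq_zero fun y _ => Char.extendByZero_not_mem _ fun hm => hx ?_, mul_zero]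
    have h1 : (y : G)⁻¹ * x * y ∈ X := hm
    have h2 := Grp.mem_conj_normalizer (h.le_normalizer_sup y.2) h1
    rwa [show (y : G) * ((y : G)⁻¹ * x * y) * (y : G)⁻¹ = x by group] at h2
  have hone : ∀ θ (x : H), (x : G) ∈ O → ξ θ x = (e : ℂ) := by
    intro θ x hx
    have hX' : (x : G) ∈ X := mem_sup_left hx
    have hπ1 : π ⟨x, hX'⟩ = 1 := Subtype.ext (hπ ⟨x, hX'⟩ 1 E.one_mem (by simpa using hx))
    rw [hformula θ x hX', hπ1]
    have hWc : Nat.card W = Nat.card E * e := by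
      have := relIndex_mul_relIndex (⊥ : Subgroup G) E W bot_le h.le_normalizer
      rwa [relIndex_bot_left, relIndex_bot_left, eq_comm] at this
    simp only [map_one, Units.val_one, Finset.sum_const, Finset.card_univ, nsmul_eq_mul, mul_one,
      ← Nat.card_eq_fintype_card, hWc, Nat.cast_mul]
    rw [← mul_assoc, inv_mul_cancel₀ (Nat.cast_ne_zero.2 Nat.card_pos.ne'), one_mul]
  -- the inner products
  have hinner : ∀ θ θ', Cfsg.classInner (ξ θ) (ξ θ') =
      (Nat.card E : ℂ)⁻¹ * ((Finset.univ.filter (fun w : W => tw w θ' = θ)).card : ℂ) := by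
    intro θ θ'
    rw [Char.classInner_indFun Xs _ (Char.indFun_classFun _ _)]
    let eX : O × E ≃ Xs := Equiv.ofBijective
      (fun p => ⟨⟨p.1 * p.2, H.mul_mem (h.kernel_le p.1.2) (h.le_overgroup p.2.2)⟩,
        mul_mem (mem_sup_left p.1.2) (mem_sup_right p.2.2)⟩) (by
      refine (Fintype.bijective_iff_injective_and_card _).2 ⟨fun p q e' => ?_, ?_⟩
      · have e'' : (p.1 : G) * p.2 = q.1 * q.2 := congrArg (fun z : Xs => ((z : H) : G)) e'
        have h1 : (p.2 : G) = q.2 := huni ((p.1 : G) * p.2) _ _ p.2.2 q.2.2 (by simp) (by rw [e'']; simp)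
        rw [h1] at e''
        exact Prod.ext (Subtype.ext (mul_right_cancel e'')) (Subtype.ext h1)
      · rw [Fintype.card_prod, ← Nat.card_eq_fintype_card, ← Nat.card_eq_fintype_card, ← Nat.card_eq_fintype_card,
          hcardX])
    have hterm : ∀ p : O × E, ((θX θ (eX p) : ℂˣ) : ℂ) * conj (ξ θ' (eX p : H)) =
        (Nat.card E : ℂ)⁻¹ * ∑ w : W, ((θ p.2 : ℂˣ) : ℂ) * conj ((tw w θ' p.2 : ℂˣ) : ℂ) := by
      intro p
      have hX' : (((eX p : H)) : G) ∈ X := (eX p).2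
      have hπp : π ⟨((eX p : H) : G), hX'⟩ = p.2 := Subtype.ext (hπ _ _ p.2.2 (by
        show ((p.1 : G) * p.2) * (p.2 : G)⁻¹ ∈ O
        simp))
      rw [hformula θ' (eX p : H) hX', show θX θ (eX p) = θ (π ⟨((eX p : H) : G), hX'⟩) from rfl, hπp]
      simp only [map_mul, map_inv₀, map_natCast, map_sum, Finset.mul_sum]
      exact Finset.sum_congr rfl fun w _ => by ring
    have hortho : ∀ w : W, ∑ a : E, ((θ a : ℂˣ) : ℂ) * conj ((tw w θ' a : ℂˣ) : ℂ) =
        if tw w θ' = θ then (Nat.card E : ℂ) else 0 := by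
      intro w
      have h1 := Char.classInner_irr_eq_ite (Char.isIrr_linear θ) (Char.isIrr_linear (tw w θ'))
      rw [Cfsg.classInner] at h1
      rw [← mul_right_inj' (inv_ne_zero (Nat.cast_ne_zero.2 (Nat.card_pos (α := E)).ne')) (a := (Nat.card E : ℂ)⁻¹),
        h1]
      by_cases heq : tw w θ' = θ
      · rw [if_pos (by rw [heq]), if_pos heq, inv_mul_cancel₀ (Nat.cast_ne_zero.2 Nat.card_pos.ne')]
      · rw [if_neg fun e' => heq (MonoidHom.ext fun a => Units.ext (congrFun e' a).symm), if_neg heq, mul_zero]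
    rw [Cfsg.classInner, ← eX.sum_comp, Finset.sum_congr rfl fun p _ => hterm p, Fintype.sum_prod_type]
    dsimp only
    rw [Finset.sum_const, Finset.card_univ, ← Nat.card_eq_fintype_card, nsmul_eq_mul, hcardX, ← Finset.mul_sum,
      Finset.sum_comm, Finset.sum_congr rfl fun w _ => hortho w, Finset.sum_ite, Finset.sum_const_zero, add_zero,
      Finset.sum_const, nsmul_eq_mul, Nat.cast_mul, mul_inv]
    have hO0 : (Nat.card O : ℂ) ≠ 0 := Nat.cast_ne_zero.2 Nat.card_pos.ne'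
    have hE0 : (Nat.card E : ℂ) ≠ 0 := Nat.cast_ne_zero.2 Nat.card_pos.ne'
    field_simp
  have hstab : ∀ θ ∈ Θ, Finset.univ.filter (fun w : W => tw w θ = θ) =
      Finset.univ.filter (fun w : W => (w : G) ∈ E) := by
    intro θ hθ
    obtain ⟨L, hL, hP⟩ := (hmemΘ θ).1 hθ
    obtain ⟨hLA, hLc, hmv⟩ := (hmemL L).1 hL
    ext w
    simp only [Finset.mem_filter, Finset.mem_univ, true_and]
    refine ⟨fun hw => ?_, fun hw => MonoidHom.ext fun a => congrArg θ (Subtype.ext ?_)⟩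
    · by_contra hwE
      refine hmv (h.fixes_all (W.inv_mem w.2) (fun hi => hwE (inv_inv (w : G) ▸ E.inv_mem hi)) hLA hLc ?_)
      rw [Grp.mem_normalizer_iff_smul]
      refine Subgroup.eq_of_le_of_card_ge ?_ (by rw [Grp.card_conj_smul])
      rintro _ ⟨l, hl, rfl⟩
      show MulAut.conj (w : G)⁻¹ l ∈ L
      have hlE : l ∈ E := h.hAE (hLA hl)
      have h1 : θ (cw w ⟨l, hlE⟩) = 1 :=
        (DFunLike.congr_fun hw ⟨l, hlE⟩).trans ((hP ⟨l, hlE⟩ (hLA hl)).2 hl)
      have h2 : (w : G)⁻¹ * l * w ∈ L :=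
        (hP (cw w ⟨l, hlE⟩) (Grp.mem_conj_normalizer' w.2 (hLA hl))).1 h1
      rw [MulAut.conj_apply, inv_inv]
      exact h2
    · show (w : G)⁻¹ * a * w = a
      rw [mul_assoc, show (a : G) * w = w * a from congrArg Subtype.val (h.hEc.is_comm.comm a ⟨(w : G), hw⟩),
        inv_mul_cancel_left]
  have hEcard : (Finset.univ.filter (fun w : W => (w : G) ∈ E)).card = Nat.card E := by
    rw [← Fintype.card_subtype, ← Nat.card_eq_fintype_card]
    exact Nat.card_congr ⟨fun w => ⟨w.1, w.2⟩, fun a => ⟨⟨a, h.le_normalizer a.2⟩, a.2⟩, fun _ => rfl, fun _ => rfl⟩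
  have hirr : ∀ θ ∈ Θ, Cfsg.IsIrrCharacter H (ξ θ) := fun θ hθ =>
    Char.IsChar.irr_of_norm_one (Char.isCharacter_indFun Xs (Char.IsIrr.isCharacter (Char.isIrr_linear (θX θ))))
      (by rw [hinner, hstab θ hθ, hEcard, inv_mul_cancel₀ (Nat.cast_ne_zero.2 Nat.card_pos.ne')])
  set U := Θ.image ξ with hU
  have hfib : ∀ θ ∈ Θ, (Θ.filter (fun θ' => ξ θ' = ξ θ)).card = e := by
    intro θ hθ
    have h1 : ∀ θ' ∈ Θ, (Finset.univ.filter (fun w : W => tw w θ' = θ)).card =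
        if ξ θ' = ξ θ then Nat.card E else 0 := by
      intro θ' hθ'
      have h2 := hinner θ θ'
      rw [Char.classInner_irr_eq_ite (hirr θ hθ) (hirr θ' hθ')] at h2
      have hE0 : (Nat.card E : ℂ) ≠ 0 := Nat.cast_ne_zero.2 Nat.card_pos.ne'
      by_cases heq : ξ θ' = ξ θ
      · rw [if_pos heq.symm, eq_inv_mul_iff_mul_eq₀ hE0, mul_one] at h2
        rw [if_pos heq]; exact_mod_cast h2.symm
      · rw [if_neg fun e' => heq e'.symm, eq_inv_mul_iff_mul_eq₀ hE0, mul_zero] at h2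
        rw [if_neg heq]; exact_mod_cast h2.symm
    have h2 : ∑ θ' ∈ Θ, (Finset.univ.filter (fun w : W => tw w θ' = θ)).card = Nat.card W := by
      rw [Nat.card_eq_fintype_card, ← Finset.card_univ,
        Finset.card_eq_sum_card_fiberwise (f := fun w : W => tw w⁻¹ θ) (t := Θ) fun w _ => htwΘ _ θ hθ]
      refine Finset.sum_congr rfl fun θ' _ => congrArg Finset.card (Finset.filter_congr fun w _ => ?_)
      exact ⟨fun e' => by rw [← e', hcancel'], fun e' => by rw [← e', hcancel]⟩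
    rw [Finset.sum_congr rfl h1, ← Finset.sum_filter, Finset.sum_const, smul_eq_mul] at h2
    refine Nat.eq_of_mul_eq_mul_right (Nat.card_pos (α := E)) (h2.trans ?_)
    have := relIndex_mul_relIndex (⊥ : Subgroup G) E W bot_le h.le_normalizer
    rw [relIndex_bot_left, relIndex_bot_left] at this
    rw [← this, mul_comm]
  have hsumU : ∀ f : (H → ℂ) → ℂ, ∑ θ ∈ Θ, f (ξ θ) = (e : ℂ) * ∑ u ∈ U, f u := by
    intro f
    rw [Finset.mul_sum, ← Finset.sum_fiberwise_of_maps_to (t := U) (g := ξ)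
      (fun θ hθ => Finset.mem_image_of_mem ξ hθ) (fun θ => f (ξ θ))]
    refine Finset.sum_congr rfl fun u hu => ?_
    obtain ⟨θ₀, hθ₀, rfl⟩ := Finset.mem_image.1 hu
    rw [Finset.sum_congr rfl fun θ hθ => by rw [(Finset.mem_filter.1 hθ).2], Finset.sum_const, hfib θ₀ hθ₀,
      nsmul_eq_mul]
  -- the sums
  set c := A.relIndex E with hcdef
  have hcE : Nat.card E = c * r ^ 2 := by
    have := relIndex_mul_relIndex (⊥ : Subgroup G) A E bot_le h.hAE
    rw [relIndex_bot_left, relIndex_bot_left, h.card] at this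
    rw [← this, mul_comm]
  have hcpos : 0 < c := Nat.pos_of_ne_zero fun e0 => by
    rw [e0, zero_mul] at hcE; exact Nat.card_pos.ne' hcE
  set AE := A.subgroupOf E with hAE'
  have hidxA : AE.index = c := rfl
  have hidxL : ∀ L ∈ Lset, (L.subgroupOf E).index = c * r := by
    intro L hL
    obtain ⟨hLA, hLc, -⟩ := (hmemL L).1 hL
    have := relIndex_mul_relIndex (⊥ : Subgroup G) L E bot_le (hLA.trans h.hAE)
    rw [relIndex_bot_left, relIndex_bot_left, hLc, hcE, mul_comm] at this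
    refine Nat.eq_of_mul_eq_mul_right hr.out.pos ?_
    show L.relIndex E * r = _
    rw [this]; ring
  let S : E → ℂ := fun a => ∑ θ ∈ Θ, ((θ a : ℂˣ) : ℂ)
  let T : Subgroup G → Finset (E →* ℂˣ) := fun B =>
    Finset.univ.filter (fun θ => ∀ b ∈ B.subgroupOf E, θ b = 1)
  have hΘsplit : Θ = Lset.biUnion fun L => T L \ T A := by
    ext θ
    simp only [hmemΘ, Finset.mem_biUnion, Finset.mem_sdiff, T, Finset.mem_filter, Finset.mem_univ, true_and,
      mem_subgroupOf]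
    refine exists_congr fun L => and_congr_right fun hL => ?_
    obtain ⟨hLA, hLc, -⟩ := (hmemL L).1 hL
    refine ⟨fun hP => ⟨fun b hb => (hP b (hLA hb)).2 hb, fun hall => ?_⟩, fun ⟨h1, h2⟩ a ha => ?_⟩
    · obtain ⟨a, haA, haL⟩ := SetLike.not_le_iff_exists.1 fun hAL : A ≤ L => by
        have := card_dvd_of_le hAL
        rw [h.card, hLc] at this
        nlinarith [Nat.le_of_dvd hr.out.pos this, hr.out.two_le]
      exact haL ((hP ⟨a, h.hAE haA⟩ haA).1 (hall ⟨a, h.hAE haA⟩ haA))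
    · refine ⟨fun hθa => ?_, fun haL => h1 a haL⟩
      by_contra haL
      refine h2 fun b hb => ?_
      have hAker : A ≤ (θ.ker.map E.subtype) := by
        rw [← sup_lines h.card hLA (zpowers_le.2 ha) hLc
          (by rw [Nat.card_zpowers, orderOf_eq_prime (h.elem.2 _ ha) fun e' => haL (e' ▸ L.one_mem)])
          fun e' => haL (e' ▸ mem_zpowers (a : G))]
        refine sup_le (fun l hl => ⟨⟨l, h.hAE (hLA hl)⟩, MonoidHom.mem_ker.2 (h1 _ hl), rfl⟩)
          (zpowers_le.2 ⟨a, MonoidHom.mem_ker.2 hθa, rfl⟩)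
      obtain ⟨b', hb', e'⟩ := hAker hb
      rw [Subtype.ext e'] at hb'
      exact hb'
  have hdisjT : Set.PairwiseDisjoint (↑Lset) fun L => T L \ T A := by
    intro L hL L' hL' hne
    rw [Function.onFun, Finset.disjoint_left]
    intro θ hθ hθ'
    obtain ⟨hLA, hLc, -⟩ := (hmemL L).1 hL
    obtain ⟨hLA', hLc', -⟩ := (hmemL L').1 hL'
    simp only [T, Finset.mem_sdiff, Finset.mem_filter, Finset.mem_univ, true_and, mem_subgroupOf] at hθ hθ'
    refine hθ.2 fun b hb => ?_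
    have hAker : A ≤ (θ.ker.map E.subtype) := by
      rw [← sup_lines h.card hLA hLA' hLc hLc' hne]
      exact sup_le (fun l hl => ⟨⟨l, h.hAE (hLA hl)⟩, MonoidHom.mem_ker.2 (hθ.1 _ hl), rfl⟩)
        (fun l hl => ⟨⟨l, h.hAE (hLA' hl)⟩, MonoidHom.mem_ker.2 (hθ'.1 _ hl), rfl⟩)
    obtain ⟨b', hb', e'⟩ := hAker hb
    rw [Subtype.ext e'] at hb'
    exact hb'
  have hS : ∀ a : E, S a = ∑ L ∈ Lset,
      ((if (a : G) ∈ L then ((c * r : ℕ) : ℂ) else 0) - if (a : G) ∈ A then (c : ℂ) else 0) := by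
    intro a
    show ∑ θ ∈ Θ, _ = _
    rw [hΘsplit, Finset.sum_biUnion hdisjT]
    refine Finset.sum_congr rfl fun L hL => ?_
    obtain ⟨hLA, hLc, -⟩ := (hmemL L).1 hL
    have hsub : T A ⊆ T L := fun θ hθ => by
      simp only [T, Finset.mem_filter, Finset.mem_univ, true_and, mem_subgroupOf] at hθ ⊢
      exact fun b hb => hθ b (hLA hb)
    rw [Finset.sum_sdiff_eq_sub hsub, sum_hom_trivial_on (L.subgroupOf E) a, sum_hom_trivial_on AE a, hidxA,
      hidxL L hL]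
    simp only [AE, mem_subgroupOf]
  set m := (movedLines A r).ncard with hmdef
  have hmcard : Lset.card = m := (Set.ncard_eq_toFinset_card _ _).symm
  let sE : E → ℤ := fun a => ∑ L ∈ Lset,
    ((if (a : G) ∈ L then ((c * r : ℕ) : ℤ) else 0) - if (a : G) ∈ A then (c : ℤ) else 0)
  have hSE : ∀ a, S a = (sE a : ℂ) := fun a => by
    rw [hS]; push_cast [sE]; rfl
  have hcount : U.card * e = c * m * (r - 1) := by
    have h1 := hsumU fun _ => 1
    simp only [Finset.sum_const, nsmul_eq_mul, mul_one] at h1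
    have h2 : S 1 = (Θ.card : ℂ) := by simp [S]
    rw [hS, Finset.sum_congr rfl fun L _ => by
      rw [if_pos (by simp : ((1 : E) : G) ∈ L), if_pos (by simp : ((1 : E) : G) ∈ A)], Finset.sum_const, hmcard,
      nsmul_eq_mul, h1] at h2
    have h3 : ((U.card * e : ℕ) : ℂ) = ((c * m * (r - 1) : ℕ) : ℂ) := by
      push_cast [Nat.cast_sub hr.out.one_le] at h2 ⊢
      linear_combination -h2
    exact_mod_cast h3
  obtain ⟨he3, hme, hcase⟩ : 3 ≤ e ∧ 2 * e ≤ m ∧ (m = r + 1 ∨ m + 1 = r) := h.moved_facts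
  have hk : 2 * c * (r - 1) ≤ U.card := by
    refine Nat.le_of_mul_le_mul_right ?_ (show 0 < e by omega)
    rw [hcount]
    calc 2 * c * (r - 1) * e = c * (2 * e) * (r - 1) := by ring
      _ ≤ c * m * (r - 1) := by gcongr
  have hbound : ∀ a : E, a ≠ 1 → |sE a| ≤ (c : ℤ) * ((r : ℤ) - 1) ∧
      ((a : G) ∈ zpowers v → |sE a| = (c : ℤ)) := by
    intro a ha1
    by_cases haA : (a : G) ∈ A
    swap
    · refine ⟨?_, fun hv => absurd ((zpowers_le.2 h.hvA) hv) haA⟩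
      have : sE a = 0 := Finset.sum_eq_zero fun L hL => by
        rw [if_neg haA, if_neg fun hm => haA (((hmemL L).1 hL).1 hm), sub_zero]
      rw [this, abs_zero]
      exact mul_nonneg (Int.natCast_nonneg _) (by have := hr.out.one_le; omega)
    have hao : Nat.card (zpowers (a : G)) = r := by
      rw [Nat.card_zpowers, orderOf_eq_prime (h.elem.2 _ haA) fun e' => ha1 (Subtype.ext e')]
    have hline : ∀ L ∈ Lset, (a : G) ∈ L ↔ zpowers (a : G) = L := fun L hL =>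
      ⟨fun hm => Subgroup.eq_of_le_of_card_ge (zpowers_le.2 hm) (by rw [hao, ((hmemL L).1 hL).2.1]),
        fun e' => e' ▸ mem_zpowers _⟩
    have hval : sE a = (if zpowers (a : G) ∈ Lset then ((c * r : ℕ) : ℤ) else 0) - (m : ℤ) * c := by
      show ∑ L ∈ Lset, _ = _
      rw [Finset.sum_sub_distrib, Finset.sum_congr rfl fun L hL => if_congr (hline L hL) rfl rfl,
        Finset.sum_ite_eq, Finset.sum_congr rfl fun L _ => if_pos haA, Finset.sum_const, hmcard, nsmul_eq_mul]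
    have hr3 : 3 ≤ r := by omega
    have hval1 : zpowers (a : G) ∈ Lset → |sE a| = (c : ℤ) := fun hL => by
      rw [hval, if_pos hL]
      push_cast
      rw [show (c : ℤ) * r - m * c = c * ((r : ℤ) - m) by ring, abs_mul, abs_of_nonneg (Int.natCast_nonneg c)]
      rcases hcase with e' | e'
      · rw [e']; push_cast; simp
      · rw [← e']; push_cast; simp
    refine ⟨?_, fun hv => hval1 ?_⟩
    · by_cases hL : zpowers (a : G) ∈ Lset
      · rw [hval1 hL]; exact le_mul_of_one_le_right (Int.natCast_nonneg _) (by omega)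
      · rw [hval, if_neg hL, zero_sub, abs_neg, abs_of_nonneg (by positivity)]
        have hmlt : m < r + 1 := by
          rw [hmdef, ← lines_count h.elem h.card]
          refine Set.ncard_lt_ncard ⟨fun L hL' => ⟨hL'.1, hL'.2.1⟩, fun hle => hL ?_⟩
          exact (hmemL _).2 (hle ⟨zpowers_le.2 haA, hao⟩)
        rw [mul_comm]
        exact mul_le_mul_of_nonneg_left (by omega) (Int.natCast_nonneg _)
    · rw [show zpowers (a : G) = zpowers v from Subgroup.eq_of_le_of_card_ge (zpowers_le.2 hv)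
        (by rw [hao, Nat.card_zpowers, h.hvo])]
      exact (hmemL _).2 h.v_moved
  have hsum : ∀ (x : H) (hx : (x : G) ∈ X), ∑ u ∈ U, u x = (sE (π ⟨x, hx⟩) : ℂ) := by
    intro x hx
    have hE0 : (Nat.card E : ℂ) ≠ 0 := Nat.cast_ne_zero.2 Nat.card_pos.ne'
    have he0 : (e : ℂ) ≠ 0 := Nat.cast_ne_zero.2 (by omega)
    have hinv : ∀ w : W, ∑ θ ∈ Θ, ((tw w θ (π ⟨x, hx⟩) : ℂˣ) : ℂ) = S (π ⟨x, hx⟩) := fun w =>
      Finset.sum_nbij (fun θ => tw w θ) (fun θ hθ => htwΘ w θ hθ)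
        (fun a _ b _ e' => by rw [← hcancel' w a, ← hcancel' w b]; exact congrArg (tw w⁻¹) e')
        (fun θ hθ => ⟨tw w⁻¹ θ, htwΘ _ θ hθ, hcancel w θ⟩) fun θ _ => rfl
    have h1 := hsumU fun u => u x
    rw [Finset.sum_congr rfl fun θ _ => hformula θ x hx, ← Finset.mul_sum, Finset.sum_comm,
      Finset.sum_congr rfl fun w _ => hinv w, Finset.sum_const, Finset.card_univ, nsmul_eq_mul,
      ← Nat.card_eq_fintype_card] at h1
    have h2 := relIndex_mul_relIndex (⊥ : Subgroup G) E W bot_le h.le_normalizer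
    rw [relIndex_bot_left, relIndex_bot_left] at h2
    rw [← hSE]
    rw [← h2, Nat.cast_mul] at h1
    field_simp at h1
    exact mul_left_cancel₀ he0 h1.symm
  refine ⟨U, c, fun x => if hx : (x : G) ∈ X then sE (π ⟨x, hx⟩) else 0, hcpos, hcount, fun u hu => ?_,
    fun x hx hxO => ?_, fun x hx hx1 => ?_⟩
  · obtain ⟨θ, hθ, rfl⟩ := Finset.mem_image.1 hu
    refine ⟨hirr θ hθ, hoff θ, hone θ, fun σ => Finset.mem_image.2 ⟨(Units.map σ.toRingHom.toMonoidHom).comp θ, ?_, ?_⟩⟩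
    · obtain ⟨L, hL, hP⟩ := (hmemΘ θ).1 hθ
      refine (hmemΘ _).2 ⟨L, hL, fun a ha => Iff.trans ?_ (hP a ha)⟩
      exact ⟨fun e' => Units.ext (σ.injective (by simpa using congrArg Units.val e')), fun e' => by simp [e']⟩
    · funext x
      by_cases hx : (x : G) ∈ X
      · rw [hformula _ x hx, hformula θ x hx, map_mul, map_inv₀, map_natCast, map_sum]
        rfl
      · rw [hoff _ x hx, hoff θ x hx, map_zero]
  · simp only [dif_pos (show (x : G) ∈ X from hx)]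
    refine ⟨hsum x hx, ?_⟩
    have ha1 : π ⟨x, hx⟩ ≠ 1 := fun e' => hxO (by
      have h1 := hpfO _ (show (x : G) ∈ X from hx)
      rwa [show pf (x : G) = 1 from congrArg Subtype.val e', inv_one, mul_one] at h1)
    have h1 := (hbound _ ha1).1
    have h2 : ((2 * c * (r - 1) : ℕ) : ℤ) ≤ (U.card : ℤ) := by exact_mod_cast hk
    push_cast [Nat.cast_sub hr.out.one_le] at h2
    linarith
  · have hxE : (x : G) ∈ E := h.hAE ((zpowers_le.2 h.hvA) hx)
    have hxX : (x : G) ∈ X := mem_sup_right hxE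
    have e' : π ⟨x, hxX⟩ = ⟨x, hxE⟩ := Subtype.ext (hπ ⟨x, hxX⟩ x hxE (by simp))
    simp only [dif_pos hxX, e']
    exact (hbound _ fun e'' => hx1 (congrArg Subtype.val e'')).2 hx

end Cfsg.Agent.Transfer.Loc
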