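import Cfsg.Agent.Lib.Transfer.Local.TwistSetup
import Cfsg.Agent.Lib.Grp.Signalizer

/-!
Lines of the plane of a twisted configuration moved by its normaliser.
-/

set_option autoImplicit false
set_option linter.style.haveILetI false
set_option linter.unusedSectionVars false
set_option maxHeartbeats 1000000

namespace Cfsg.Agent.Transfer.Loc

open Subgroup
open scoped commutatorElement Pointwise

universe u

variable {G : Type u} [Group G] [Finite G]

/-- The lines of `A` moved by `N(A)`. -/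
def movedLines (A : Subgroup G) (r : ℕ) : Set (Subgroup G) :=
  {L | L ≤ A ∧ Nat.card L = r ∧ ¬ normalizer (A : Set G) ≤ normalizer (L : Set G)}

theorem card_ne_one_elem (L : Subgroup G) : Nat.card {x : L // x ≠ 1} = Nat.card L - 1 := by
  rw [show {x : L // x ≠ 1} = (({1} : Set L)ᶜ : Set L) from rfl, Nat.card_coe_set_eq, Set.ncard_compl,
    Set.ncard_singleton]

/-- An elementary abelian group of order `r²` has `r + 1` lines. -/
theorem lines_count {r : ℕ} [hr : Fact r.Prime] {A : Subgroup G} (hA : Cfsg.IsElementaryAbelian r A)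
    (hA2 : Nat.card A = r ^ 2) : {L : Subgroup G | L ≤ A ∧ Nat.card L = r}.ncard = r + 1 := by
  classical
  set Λ := {L : Subgroup G | L ≤ A ∧ Nat.card L = r}
  letI : Fintype Λ := Fintype.ofFinite _
  have hgen : ∀ (L : Λ) (x : L.1), x ≠ 1 → zpowers (x : G) = L.1 := fun L x hx => by
    refine Subgroup.eq_of_le_of_card_ge (zpowers_le.2 x.2) ?_
    rw [L.2.2, Nat.card_zpowers]
    exact le_of_eq (orderOf_eq_prime (hA.2 _ (L.2.1 x.2)) fun e => hx (Subtype.ext e)).symm
  let f : (Σ L : Λ, {x : L.1 // x ≠ 1}) → {a : A // a ≠ 1} := fun p =>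
    ⟨⟨p.2.1, p.1.2.1 p.2.1.2⟩, fun e => p.2.2 (Subtype.ext (congrArg (fun a : A => (a : G)) e))⟩
  have hf : Function.Bijective f := by
    constructor
    · rintro ⟨L, x⟩ ⟨L', x'⟩ e
      have e' : (x.1 : G) = x'.1 := congrArg (fun a : {a : A // a ≠ 1} => ((a.1 : A) : G)) e
      obtain rfl : L = L' := Subtype.ext (by rw [← hgen L x.1 x.2, ← hgen L' x'.1 x'.2, e'])
      obtain rfl : x = x' := Subtype.ext (Subtype.ext e')
      rfl
    · rintro ⟨a, ha⟩
      have hc : Nat.card (zpowers (a : G)) = r := by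
        rw [Nat.card_zpowers, orderOf_eq_prime (hA.2 _ a.2) fun e => ha (Subtype.ext e)]
      exact ⟨⟨⟨zpowers (a : G), zpowers_le.2 a.2, hc⟩, ⟨(a : G), mem_zpowers _⟩,
        fun e => ha (Subtype.ext (congrArg (fun x : zpowers (a : G) => (x : G)) e))⟩, rfl⟩
  have h1 := Nat.card_eq_of_bijective f hf
  simp only [Nat.card_sigma, card_ne_one_elem] at h1
  rw [Finset.sum_congr rfl fun (L : Λ) _ => congrArg (· - 1) L.2.2, Finset.sum_const, smul_eq_mul, Finset.card_univ, hA2,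
    ← Nat.card_eq_fintype_card, Nat.card_coe_set_eq] at h1
  have h2 : r ^ 2 - 1 = (r + 1) * (r - 1) := by rw [← Nat.sq_sub_sq, one_pow]
  exact Nat.eq_of_mul_eq_mul_right (Nat.sub_pos_of_lt hr.out.one_lt) (h1.trans h2)

variable {M E H O : Subgroup G} {r : ℕ} [hr : Fact r.Prime] {A : Subgroup G} {v : G} (h : Twist M E H O r A v)
include h

theorem Twist.le_normalizer : E ≤ normalizer (A : Set G) := h.hCA.ge.trans (centralizer_le_normalizer _)

theorem Twist.le_overgroup : E ≤ H := h.le_normalizer.trans h.hNA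

theorem Twist.kernel_le : O ≤ H := h.hO.trans (TransHyp.piCoreOf_le H)

theorem Twist.not_le_M : ¬ normalizer (A : Set G) ≤ M :=
  (Cfsg.Agent.S1418.result h.hG M h.hM E h.hE r h.hτ A ⟨h.hAE, h.elem, h.card⟩).2.1.2.2

theorem Twist.not_le_E : ¬ normalizer (A : Set G) ≤ E := fun hle => h.not_le_M (hle.trans h.hE.1)

/-- Only `E` normalises the line of `v`. -/
theorem Twist.normalizes_v {z : G} (hz : z ∈ normalizer (A : Set G))
    (hzv : z ∈ normalizer (zpowers v : Set G)) : z ∈ E := by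
  obtain ⟨n, hn⟩ := exists_nat_pow_conj hzv
  have hle : centralizer ({v} : Set G) ≤ MulAut.conj z • M := by
    intro c hc
    refine ⟨z⁻¹ * c * z, h.hCv (mem_centralizer_singleton_iff.2 ?_), by
      show MulAut.conj z (z⁻¹ * c * z) = c
      simp [MulAut.conj_apply]; group⟩
    have hc' : Commute c (z * v * z⁻¹) := hn ▸ (show Commute c v from mem_centralizer_singleton_iff.1 hc).pow_right n
    calc z⁻¹ * c * z * v = z⁻¹ * (c * (z * v * z⁻¹)) * z := by group
      _ = z⁻¹ * ((z * v * z⁻¹) * c) * z := by rw [hc'.eq]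
      _ = v * (z⁻¹ * c * z) := by group
  have hzM : z ∈ normalizer (M : Set G) := Grp.mem_normalizer_iff_smul.2
    (h.uniq _ (isCoatom_conj h.hG h.hM z) hle)
  have hM1 : M ≠ ⊥ := fun e => by
    have h1 : v = 1 := mem_bot.1 (e ▸ h.hE.1 (h.hAE h.hvA))
    exact hr.out.ne_one (by rw [← h.hvo, h1, orderOf_one])
  rw [normalizer_eq_of_coatom h.hG h.hM hM1 h.hM.1 Subgroup.le_normalizer] at hzM
  rw [← h.meet]
  exact ⟨hzM, h.hNA hz⟩

theorem Twist.normalizes_v_of_scalar {z : G} (hz : z ∈ normalizer (A : Set G)) {n : ℕ}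
    (hsc : ∀ w ∈ A, z * w * z⁻¹ = w ^ n) : z ∈ E :=
  h.normalizes_v hz (mem_normalizer_zpowers (by rw [hsc v h.hvA]; exact npow_mem_zpowers v n))

theorem Twist.kernel_inf : O ⊓ normalizer (A : Set G) = ⊥ := by
  rw [← le_bot_iff, ← h.disj]
  refine le_inf inf_le_left ?_
  rw [← h.hCA]
  refine fun x hx => mem_centralizer_iff.2 fun a ha => ?_
  have h1 : x * a * x⁻¹ * a⁻¹ ∈ O ⊓ E := by
    refine ⟨?_, E.mul_mem (h.hAE (Grp.mem_conj_normalizer hx.2 ha)) (E.inv_mem (h.hAE ha))⟩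
    rw [mul_assoc, mul_assoc, ← mul_assoc a]
    exact O.mul_mem hx.1 (Grp.mem_conj_normalizer (h.hON (h.le_overgroup (h.hAE ha))) (O.inv_mem hx.1))
  rw [h.disj, mem_bot] at h1
  calc a * x = (x * a * x⁻¹ * a⁻¹)⁻¹ * (x * a) := by group
    _ = x * a := by rw [h1, inv_one, one_mul]

theorem Twist.sup_inf : (O ⊔ E) ⊓ normalizer (A : Set G) = E := by
  refine le_antisymm (fun x hx => ?_) (le_inf le_sup_right h.le_normalizer)
  have h1 : x ∈ O ⊔ E := hx.1
  rw [← SetLike.mem_coe, Subgroup.coe_mul_of_right_le_normalizer_left O E (h.le_overgroup.trans h.hON)] at h1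
  show x ∈ E
  obtain ⟨o, ho, e, he, rfl⟩ := h1
  have h2 : o ∈ O ⊓ normalizer (A : Set G) :=
    ⟨ho, ((normalizer (A : Set G)).mul_mem_cancel_right (h.le_normalizer he)).1 hx.2⟩
  rw [h.kernel_inf, mem_bot] at h2
  simpa [h2] using he

theorem Twist.le_normalizer_sup : H ≤ normalizer ((O ⊔ E : Subgroup G) : Set G) := by
  refine h.cover.trans (sup_le (le_sup_left.trans Subgroup.le_normalizer) (Grp.le_normalizer_sup'
    (inf_le_left.trans h.hON) (inf_le_right.trans ?_)))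
  rw [← h.hCA]
  exact normalizer_le_normalizer_cent A

theorem Twist.relIndex_eq : (O ⊔ E).relIndex H = E.relIndex (normalizer (A : Set G)) := by
  have hH' : O ⊔ normalizer (A : Set G) = H :=
    le_antisymm (sup_le h.kernel_le h.hNA) (h.cover.trans (sup_le_sup_left inf_le_right _))
  have h1 := Grp.card_sup_mul_card_inf (H := normalizer (A : Set G)) (N := O) (h.hNA.trans h.hON)
  have h2 := Grp.card_sup_mul_card_inf (H := E) (N := O) (h.le_overgroup.trans h.hON)
  rw [sup_comm, hH', inf_comm, h.kernel_inf, Subgroup.card_bot, mul_one] at h1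
  rw [sup_comm E O, inf_comm E O, h.disj, Subgroup.card_bot, mul_one] at h2
  have h3 := relIndex_mul_relIndex (⊥ : Subgroup G) (O ⊔ E) H bot_le (sup_le h.kernel_le h.le_overgroup)
  have h4 := relIndex_mul_relIndex (⊥ : Subgroup G) E (normalizer (A : Set G)) bot_le h.le_normalizer
  simp only [relIndex_bot_left] at h3 h4
  rw [h1, h2, ← h4] at h3
  refine Nat.eq_of_mul_eq_mul_left (Nat.mul_pos (Nat.card_pos (α := E)) (Nat.card_pos (α := O))) ?_
  rw [h3]; ring

theorem Twist.pow_index_mem {z : G} (hz : z ∈ normalizer (A : Set G)) :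
    z ^ E.relIndex (normalizer (A : Set G)) ∈ E := by
  haveI : (E.subgroupOf (normalizer (A : Set G))).Normal := by
    rw [Subgroup.normal_subgroupOf_iff_le_normalizer h.le_normalizer, ← h.hCA]
    exact normalizer_le_normalizer_cent A
  have := Subgroup.pow_index_mem (E.subgroupOf (normalizer (A : Set G))) (⟨z, hz⟩ : normalizer (A : Set G))
  rwa [mem_subgroupOf, SubmonoidClass.coe_pow] at this

/-- A line normalised by an element outside `E` is normalised by all of `N(A)`. -/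
theorem Twist.fixes_all {z : G} (hz : z ∈ normalizer (A : Set G)) (hzE : z ∉ E) {L : Subgroup G} (hLA : L ≤ A)
    (hLc : Nat.card L = r) (hzL : z ∈ normalizer (L : Set G)) :
    normalizer (A : Set G) ≤ normalizer (L : Set G) := by
  set k := (orderOf z).factorization r
  set e := E.relIndex (normalizer (A : Set G))
  have hcop : Nat.Coprime (r ^ k) e :=
    (hr.out.coprime_iff_not_dvd.2 (by have := h.nodvd; rwa [h.relIndex_eq] at this)).pow_left k
  have hw : z ^ r ^ k ∉ E := fun hw => hzE (by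
    have hb := Nat.gcd_eq_gcd_ab (r ^ k) e
    rw [hcop] at hb
    rw [← zpow_one z, show (1 : ℤ) = ((r ^ k : ℕ) : ℤ) * Nat.gcdA (r ^ k) e + (e : ℤ) * Nat.gcdB (r ^ k) e from
      by exact_mod_cast hb, zpow_add, zpow_mul, zpow_mul, zpow_natCast, zpow_natCast]
    exact E.mul_mem (E.zpow_mem hw _) (E.zpow_mem (h.pow_index_mem hz) _))
  have hdvd : r ^ k ∣ orderOf z := Nat.ordProj_dvd _ _
  have hord : ¬ r ∣ orderOf (z ^ r ^ k) := by
    rw [orderOf_pow, Nat.gcd_eq_right hdvd]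
    exact Nat.not_dvd_ordCompl hr.out (orderOf_pos z).ne'
  have hwA := (normalizer (A : Set G)).pow_mem hz (r ^ k)
  haveI : IsCyclic L := isCyclic_of_prime_card hLc
  obtain ⟨a, ha⟩ := Subgroup.isCyclic_iff_exists_zpowers_eq_top L |>.1 inferInstance
  obtain ⟨n, hn⟩ := exists_nat_pow_conj (x := a) (z := z ^ r ^ k)
    (by rw [ha]; exact (normalizer (L : Set G)).pow_mem hzL _)
  refine h.eigen _ L n hwA hord hLA hLc (fun x hx => ?_) ?_
  · rw [← ha] at hx
    obtain ⟨i, rfl⟩ := mem_zpowers_iff.1 hx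
    rw [← conj_zpow, hn, ← zpow_natCast (a ^ i) n, ← zpow_natCast a n, ← zpow_mul, ← zpow_mul, mul_comm]
  · by_contra hno
    push Not at hno
    exact hw (h.normalizes_v_of_scalar hwA hno)

/-- Three lines normalised by `z` make it a scalar. -/
theorem Twist.scalar {z : G} {L₁ L₂ L₃ : Subgroup G} (h1 : L₁ ≤ A) (h2 : L₂ ≤ A) (h3 : L₃ ≤ A)
    (c1 : Nat.card L₁ = r) (c2 : Nat.card L₂ = r) (c3 : Nat.card L₃ = r) (d12 : L₁ ≠ L₂) (d13 : L₁ ≠ L₃)
    (d23 : L₂ ≠ L₃) (z1 : z ∈ normalizer (L₁ : Set G)) (z2 : z ∈ normalizer (L₂ : Set G))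
    (z3 : z ∈ normalizer (L₃ : Set G)) : ∃ n : ℕ, ∀ w ∈ A, z * w * z⁻¹ = w ^ n := by
  haveI : IsMulCommutative A := h.elem.1
  have hcom : ∀ a ∈ A, ∀ b ∈ A, Commute a b := fun a ha b hb =>
    congrArg Subtype.val (IsMulCommutative.is_comm.comm (⟨a, ha⟩ : A) ⟨b, hb⟩)
  have hgen : ∀ L : Subgroup G, Nat.card L = r → ∀ x ∈ L, x ≠ 1 → zpowers x = L := fun L hL x hx hx1 => by
    refine Subgroup.eq_of_le_of_card_ge (zpowers_le.2 hx) ?_
    rw [hL, Nat.card_zpowers]
    refine le_of_eq (orderOf_eq_prime ?_ hx1).symm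
    have h := pow_card_eq_one' (x := (⟨x, hx⟩ : L))
    rw [hL] at h
    simpa using congrArg Subtype.val h
  have hex : ∀ L : Subgroup G, Nat.card L = r → L ≠ ⊥ := fun L hL e =>
    hr.out.ne_one (by rw [← hL, e, Subgroup.card_bot])
  obtain ⟨c, hc, hc1⟩ := (bot_or_exists_ne_one L₃).resolve_left (hex L₃ c3)
  have hsup := sup_lines h.card h1 h2 c1 c2 d12
  have hn2 : L₂ ≤ normalizer (L₁ : Set G) := fun b hb => centralizer_le_normalizer _
    (mem_centralizer_iff.2 fun a ha => (hcom a (h1 ha) b (h2 hb)).eq)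
  have hc' : c ∈ L₁ ⊔ L₂ := hsup.symm ▸ h3 hc
  rw [← SetLike.mem_coe, Subgroup.coe_mul_of_right_le_normalizer_left L₁ L₂ hn2] at hc'
  obtain ⟨a, ha, b, hb, rfl⟩ := hc'
  replace hc : a * b ∈ L₃ := hc
  replace hc1 : a * b ≠ 1 := hc1
  have ha1 : a ≠ 1 := fun e => d23 (by
    rw [← hgen L₃ c3 _ hc hc1, e]
    simp only [one_mul]
    exact (hgen L₂ c2 b hb (fun e' => hc1 (by rw [e, e', one_mul]))).symm)
  have hb1 : b ≠ 1 := fun e => d13 (by
    rw [← hgen L₃ c3 _ hc hc1, e]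
    simp only [mul_one]
    exact (hgen L₁ c1 a ha ha1).symm)
  obtain ⟨k, hk⟩ := exists_nat_pow_conj (x := a * b) (z := z) (by rw [hgen L₃ c3 _ hc hc1]; exact z3)
  have hza : z * a * z⁻¹ ∈ L₁ := Grp.mem_conj_normalizer z1 ha
  have hzb : z * b * z⁻¹ ∈ L₂ := Grp.mem_conj_normalizer z2 hb
  rw [(hcom a (h1 ha) b (h2 hb)).mul_pow, show z * (a * b) * z⁻¹ = (z * a * z⁻¹) * (z * b * z⁻¹) by group] at hk
  have hbot : L₁ ⊓ L₂ = ⊥ := by
    by_contra hne
    obtain ⟨x, hx, hx1⟩ := (bot_or_exists_ne_one _).resolve_left hne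
    exact d12 ((hgen L₁ c1 x hx.1 hx1).symm.trans (hgen L₂ c2 x hx.2 hx1))
  have key : (z * a * z⁻¹)⁻¹ * a ^ k ∈ L₁ ⊓ L₂ := by
    refine ⟨L₁.mul_mem (L₁.inv_mem hza) (L₁.pow_mem ha k), ?_⟩
    rw [show (z * a * z⁻¹)⁻¹ * a ^ k = (z * b * z⁻¹) * (b ^ k)⁻¹ by
      rw [inv_mul_eq_iff_eq_mul, ← mul_assoc, hk, mul_inv_cancel_right]]
    exact L₂.mul_mem hzb (L₂.inv_mem (L₂.pow_mem hb k))
  rw [hbot, mem_bot, inv_mul_eq_one] at key
  rw [key] at hk
  have key2 := mul_left_cancel hk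
  refine ⟨k, fun w hw => ?_⟩
  have hw' : w ∈ L₁ ⊔ L₂ := hsup.symm ▸ hw
  rw [← SetLike.mem_coe, Subgroup.coe_mul_of_right_le_normalizer_left L₁ L₂ hn2] at hw'
  obtain ⟨x, hx, y, hy, rfl⟩ := hw'
  rw [← hgen L₁ c1 a ha ha1] at hx
  rw [← hgen L₂ c2 b hb hb1] at hy
  obtain ⟨i, rfl⟩ := mem_zpowers_iff.1 hx
  obtain ⟨j, rfl⟩ := mem_zpowers_iff.1 hy
  rw [((hcom a (h1 ha) b (h2 hb)).zpow_zpow i j).mul_pow,
    show z * (a ^ i * b ^ j) * z⁻¹ = (z * a ^ i * z⁻¹) * (z * b ^ j * z⁻¹) by group, ← conj_zpow, ← conj_zpow, key,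
    key2, ← zpow_natCast a k, ← zpow_natCast b k, ← zpow_natCast (a ^ i) k, ← zpow_natCast (b ^ j) k, ← zpow_mul,
    ← zpow_mul, ← zpow_mul, ← zpow_mul, mul_comm (k : ℤ), mul_comm (k : ℤ)]

theorem Twist.moved_smul {w : G} (hw : w ∈ normalizer (A : Set G)) {L : Subgroup G} (hL : L ∈ movedLines A r) :
    MulAut.conj w • L ∈ movedLines A r := by
  set W := normalizer (A : Set G)
  obtain ⟨hL, hLc, hmv⟩ := hL
  refine ⟨(Subgroup.pointwise_smul_le_pointwise_smul_iff.2 hL).trans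
    (Grp.mem_normalizer_iff_smul.1 hw).le, by rw [Grp.card_conj_smul, hLc], fun hall => hmv fun x hx => ?_⟩
  have h1 := Grp.mem_normalizer_iff_smul.1 (hall (W.mul_mem (W.mul_mem hw hx) (W.inv_mem hw)))
  rw [Grp.conj_smul_conj_smul, inv_mul_cancel_right, ← Grp.conj_smul_conj_smul, smul_left_cancel_iff] at h1
  exact Grp.mem_normalizer_iff_smul.2 h1

theorem Twist.moved_dvd : E.relIndex (normalizer (A : Set G)) ∣ (movedLines A r).ncard := by
  classical
  set W := normalizer (A : Set G) with hW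
  have hstable : ∀ w : W, ∀ L ∈ movedLines A r, MulAut.conj (w : G) • L ∈ movedLines A r := fun w _ hL =>
    h.moved_smul w.2 hL
  letI : MulAction W (movedLines A r) :=
    { smul := fun w L => ⟨MulAut.conj (w : G) • L.1, hstable w L.1 L.2⟩
      one_smul := fun L => Subtype.ext (by
        show MulAut.conj ((1 : W) : G) • L.1 = L.1
        rw [OneMemClass.coe_one, map_one, one_smul])
      mul_smul := fun x y L => Subtype.ext (by
        show MulAut.conj ((x * y : W) : G) • L.1 = MulAut.conj (x : G) • MulAut.conj (y : G) • L.1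
        rw [Grp.conj_smul_conj_smul, Subgroup.coe_mul]) }
  have hstab : ∀ L : movedLines A r, MulAction.stabilizer W L = E.subgroupOf W := by
    intro L
    ext w
    rw [MulAction.mem_stabilizer_iff, mem_subgroupOf, Subtype.ext_iff]
    show MulAut.conj (w : G) • L.1 = L.1 ↔ (w : G) ∈ E
    rw [← Grp.mem_normalizer_iff_smul]
    refine ⟨fun hw => by_contra fun hwE => L.2.2.2 (h.fixes_all w.2 hwE L.2.1 L.2.2.1 hw), fun hw => ?_⟩
    exact centralizer_le_normalizer _ (centralizer_le L.2.1 (h.hCA.ge hw))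
  haveI : Fintype (Quotient (MulAction.orbitRel W (movedLines A r))) := Fintype.ofFinite _
  rw [← Nat.card_coe_set_eq, Nat.card_congr (MulAction.selfEquivSigmaOrbits W (movedLines A r)), Nat.card_sigma]
  refine Finset.dvd_sum fun q _ => ?_
  rw [← Nat.card_congr (MulAction.orbitEquivQuotientStabilizer W q.out).symm, hstab, ← Subgroup.index]
  rfl

theorem Twist.v_moved : zpowers v ∈ movedLines A r :=
  ⟨zpowers_le.2 h.hvA, by rw [Nat.card_zpowers, h.hvo], fun hall =>
    h.not_le_E fun _ hz => h.normalizes_v hz (hall hz)⟩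

/-- The numbers: `e = |N(A) : E|` and the number `m` of moved lines. -/
theorem Twist.moved_facts :
    3 ≤ E.relIndex (normalizer (A : Set G)) ∧
      2 * E.relIndex (normalizer (A : Set G)) ≤ (movedLines A r).ncard ∧
      ((movedLines A r).ncard = r + 1 ∨ (movedLines A r).ncard + 1 = r) := by
  set e := E.relIndex (normalizer (A : Set G))
  set m := (movedLines A r).ncard with hmdef
  have hre : ¬ r ∣ e := by have := h.nodvd; rwa [h.relIndex_eq] at this
  have heodd : Odd e := h.hG.1.of_dvd_nat ((relIndex_dvd_card E (normalizer (A : Set G))).trans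
    (card_subgroup_dvd_card _))
  have he1 : e ≠ 1 := fun e1 => h.not_le_E (relIndex_eq_one.1 e1)
  have he3 : 3 ≤ e := by
    obtain ⟨t, ht⟩ := heodd
    omega
  have hrodd : Odd r := h.hG.1.of_dvd_nat (h.hvo ▸ orderOf_dvd_natCard v)
  set Λ := {L : Subgroup G | L ≤ A ∧ Nat.card L = r}
  have hsub : movedLines A r ⊆ Λ := fun L hL => ⟨hL.1, hL.2.1⟩
  have hcnt := lines_count h.elem h.card
  have h1 := Set.ncard_diff hsub
  have hle : m ≤ r + 1 := hcnt ▸ Set.ncard_le_ncard hsub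
  have hF : (Λ \ movedLines A r).ncard ≤ 2 := by
    by_contra hgt
    obtain ⟨L₁, L₂, L₃, m1, m2, m3, d12, d13, d23⟩ := (Set.two_lt_ncard_iff (Set.toFinite _)).1 (not_le.1 hgt)
    obtain ⟨z, hz, hzE⟩ := SetLike.not_le_iff_exists.1 h.not_le_E
    have hfix : ∀ L ∈ Λ \ movedLines A r, z ∈ normalizer (L : Set G) := fun L hL =>
      (not_not.1 fun hn => hL.2 ⟨hL.1.1, hL.1.2, hn⟩) hz
    obtain ⟨n, hn⟩ := h.scalar m1.1.1 m2.1.1 m3.1.1 m1.1.2 m2.1.2 m3.1.2 d12 d13 d23
      (hfix _ m1) (hfix _ m2) (hfix _ m3)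
    exact hzE (h.normalizes_v_of_scalar hz hn)
  rw [hcnt, ← hmdef] at h1
  have hdvd : e ∣ m := h.moved_dvd
  have hpos : 0 < m := (Set.ncard_pos).2 ⟨_, h.v_moved⟩
  have hmr : m ≠ r := fun e' => (hr.out.eq_one_or_self_of_dvd e (e' ▸ hdvd)).elim he1
    fun her => hre (her ▸ dvd_rfl)
  have hcase : m = r + 1 ∨ m + 1 = r := by omega
  have heven : 2 ∣ m := by
    obtain ⟨t, ht⟩ := hrodd
    rcases hcase with h' | h'
    · exact ⟨t + 1, by omega⟩
    · exact ⟨t, by omega⟩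
  exact ⟨he3, Nat.le_of_dvd hpos (Nat.Coprime.mul_dvd_of_dvd_of_dvd
    (Nat.prime_two.coprime_iff_not_dvd.2 heodd.not_two_dvd_nat) heven hdvd), hcase⟩

end Cfsg.Agent.Transfer.Loc
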