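import Cfsg.Agent.Lib.Transfer.Local.TwistCore
import Cfsg.Agent.Lib.Transfer.Local.TauOneUnique
import Cfsg.Agent.S1420

/-!
The overgroup `H ⊇ N(A)` of a `τ₂`-plane `A` with abelian Sylow subgroup and a line centralising `M_σ`.
-/

set_option autoImplicit false
set_option linter.style.haveILetI false
set_option linter.unusedSectionVars false
set_option maxHeartbeats 2000000

namespace Cfsg.Agent.Transfer.Loc

open Subgroup
open scoped commutatorElement Pointwise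

universe u

variable {G : Type u} [Group G] [Finite G]

/-- The configuration. -/
structure Twist (M E H O : Subgroup G) (r : ℕ) (A : Subgroup G) (v : G) : Prop where
  hG : Cfsg.IsMinSimpleOddOrder G
  hM : IsCoatom M
  hE : Cfsg.IsComplIn E (Cfsg.sigmaCore M) M
  hτ : r ∈ Cfsg.tau2 M
  elem : Cfsg.IsElementaryAbelian r A
  card : Nat.card A = r ^ 2
  hAE : A ≤ E
  hEc : IsMulCommutative E
  hCA : centralizer (A : Set G) = E
  hvA : v ∈ A
  hvo : orderOf v = r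
  hvS : v ∈ centralizer (Cfsg.sigmaCore M : Set G)
  hCv : centralizer ({v} : Set G) ≤ M
  uniq : ∀ L : Subgroup G, IsCoatom L → centralizer ({v} : Set G) ≤ L → L = M
  hH : IsCoatom H
  hNA : normalizer (A : Set G) ≤ H
  hMH : ∀ g : G, H ≠ MulAut.conj g • M
  meet : M ⊓ H = E
  hvH : v ∈ Cfsg.sigmaCore H
  hnot : ¬ centralizer ({v} : Set G) ≤ H
  hO : O ≤ Cfsg.sigmaCore H
  hON : H ≤ normalizer (O : Set G)
  disj : O ⊓ E = ⊥
  cover : H ≤ O ⊔ (H ⊓ normalizer (A : Set G))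
  hat : ∀ K : Subgroup G, Cfsg.IsPiHallOf (Cfsg.kappa H) K H → ∀ a ∈ O ⊔ E, a ∉ O → a ∈ Cfsg.sigmaA0 H K
  nodvd : ¬ r ∣ (O ⊔ E).relIndex H
  eigen : ∀ (z : G) (L : Subgroup G) (n : ℕ), z ∈ normalizer (A : Set G) → ¬ r ∣ orderOf z → L ≤ A → Nat.card L = r →
    (∀ x ∈ L, z * x * z⁻¹ = x ^ n) → (∃ w ∈ A, z * w * z⁻¹ ≠ w ^ n) →
      normalizer (A : Set G) ≤ normalizer (L : Set G)

/-- Existence of the configuration. -/
theorem exists_twist (hG : Cfsg.IsMinSimpleOddOrder G) {M : Subgroup G} (hM : IsCoatom M)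
    (hκ : Cfsg.kappa M = ∅) (hM' : ⁅M, M⁆ ≤ Cfsg.fittingOf M) (hnilM : Cfsg.fittingHallOf M = Cfsg.sigmaCore M)
    {r : ℕ} [hr : Fact r.Prime] (hτ : r ∈ Cfsg.tau2 M) (habel : ∀ S : Sylow r G, IsMulCommutative (S : Subgroup G))
    {v : G} (hvM : v ∈ M) (hvo : orderOf v = r) (hvS : v ∈ centralizer (Cfsg.sigmaCore M : Set G)) :
    ∃ E H O A : Subgroup G, Twist M E H O r A v := by
  haveI := solvable_of_ne_top hG hM.1
  have hvc : Nat.card (zpowers v) = r := by rw [Nat.card_zpowers, hvo]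
  have hv1 : v ≠ 1 := fun e => hr.out.ne_one (by rw [← hvo, e, orderOf_one])
  obtain ⟨E, hE, hvE'⟩ := exists_compl_ge hG hM (zpowers_le.2 hvM) fun s hs hd => by
    rw [hvc] at hd; rw [(Nat.prime_dvd_prime_iff_eq hs hr.out).1 hd]; exact hτ.2.1
  have hvE : v ∈ E := hvE' (mem_zpowers v)
  haveI := isSolvable_of_le hE.1
  set T := Cfsg.sigmaCore M with hT
  have hFn : Group.IsNilpotent (Cfsg.fittingOf M) := fittingOf_isNilpotent M
  have hEC : ⁅E, E⁆ ≤ centralizer (T : Set G) := fun x hx => mem_centralizer_iff.2 fun y hy =>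
    TypeP.commute_of_coprime_orderOf hFn (fittingHallOf_le_fitting M (hnilM.ge hy))
      (hM' (commutator_mono hE.1 hE.1 hx)) (Nat.coprime_of_dvd fun s hs h1 h2 => compl_prime hG hM hE hs
        (h2.trans (Subgroup.orderOf_dvd_natCard _ (E.commutator_le_self hx)))
        (TransHyp.piCoreOf_primes (π := Cfsg.sigma M) (X := M) hs (h1.trans (Subgroup.orderOf_dvd_natCard _ hy))))
  obtain ⟨S, A, hp, hvA, -⟩ := tau2_fixed_central hG hM hE hEC hτ habel hvE hvo hvS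
  have hEc : IsMulCommutative E := compl_comm hG hM hE hEC hκ hτ habel
  obtain ⟨⟨hEA, -⟩, ⟨hCA', hMEA, hNAM⟩, -⟩ := Cfsg.Agent.S1418.result hG M hM E hE r hτ A hp.data
  have hCA : centralizer (A : Set G) = E := le_antisymm (hCA'.trans hMEA.le)
    ((le_centralizer_iff_isMulCommutative.2 hEc).trans (centralizer_le hp.hAE))
  have hfixv : T ⊓ centralizer ({v} : Set G) ≠ ⊥ := fun e => sigmaCore_ne_bot hG hM (by
    rw [← le_bot_iff, ← e]
    exact le_inf le_rfl fun y hy => mem_centralizer_singleton_iff.2 (mem_centralizer_iff.1 hvS y hy))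
  obtain ⟨y, hy, hy1⟩ := (bot_or_exists_ne_one _).resolve_left hfixv
  obtain ⟨hCv, huniq⟩ := (Cfsg.Agent.S1420.result hG M hM E hE).2.2.2 v hvM hv1
    (fun s hs hd => by rw [hvo] at hd; rw [(Nat.prime_dvd_prime_iff_eq hs hr.out).1 hd]; exact hτ)
    ⟨hvM, y, hy.1, hy1, (mem_centralizer_singleton_iff.1 hy.2).symm⟩
  obtain ⟨H, hH, hNA⟩ := exists_coatom_normalizer hG
    (fun e : A = ⊥ => hv1 (mem_bot.1 (e ▸ hvA))) (fun e => hM.1 (top_le_iff.1 (e ▸ hp.hAE.trans hE.1)))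
  haveI := solvable_of_ne_top hG hH.1
  have hHM : H ≠ M := fun e => hNAM (e ▸ hNA)
  have hEH : E ≤ H := hEA.trans hNA
  have hAmax := IsMaxPlane.of_sigma' hG hM hτ.2.1 (hp.hAE.trans hE.1) hp.elem hp.card
  have hSA : ∀ x ∈ (S : Subgroup G), x ^ r = 1 → x ∈ A := fun x hx hxr => hp.mem_plane (hp.hT.1 hx) hxr
  have hNS : normalizer ((S : Subgroup G) : Set G) ≤ normalizer (A : Set G) := fun g hg => by
    rw [Grp.mem_normalizer_iff_smul]
    refine Subgroup.eq_of_le_of_card_ge ?_ (by rw [Grp.card_conj_smul])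
    rintro _ ⟨b, hb, rfl⟩
    show MulAut.conj g b ∈ A
    exact hSA _ (Grp.mem_conj_normalizer hg (hp.le_sylow hb)) (by rw [← map_pow, hp.elem.2 b hb, map_one])
  have hSH : (S : Subgroup G) ≤ H := hp.hT.1.trans hEH
  have hSsyl : Grp.IsSylowIn r (S : Subgroup G) H :=
    ⟨hSH, S.isPGroup', fun hd => Sylow.not_dvd_index S (hd.trans (relIndex_dvd_index_of_le hSH))⟩
  have hrσ : r ∈ Cfsg.sigma H := by
    obtain ⟨S₀, hS₀⟩ := Grp.isSylowIn_iff.1 hSsyl
    exact ⟨hr.out, hvo ▸ Subgroup.orderOf_dvd_natCard _ (hEH hvE), S₀, hS₀ ▸ hNS.trans hNA⟩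
  have hMH : ∀ g : G, H ≠ MulAut.conj g • M := fun g e => hτ.2.1 ((sigma_smul_iff hG hM g).1 (e ▸ hrσ))
  have hmeetT : T ⊓ H = ⊥ := (Cfsg.Agent.S1417.result hG M hM r hτ A
    ⟨hp.hAE.trans hE.1, hp.elem, hp.card⟩).2.2.2.2.1 H hH hHM ((le_normalizer).trans hNA)
  have hmeet : M ⊓ H = E := by
    refine le_antisymm (fun m hm => ?_) (le_inf hE.1 hEH)
    obtain ⟨e, he, t, ht, rfl⟩ := hE.2.2.2 m hm.1
    have h1 : t ∈ T ⊓ H := ⟨ht, (H.mul_mem_cancel_left (hEH he)).1 hm.2⟩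
    rw [hmeetT, mem_bot] at h1
    rwa [h1, mul_one]
  have hSσ : Grp.IsSylowIn r (S : Subgroup G) (Cfsg.sigmaCore H) := sigmaCore_sylow hG hH hrσ hSsyl
  have hvH : v ∈ Cfsg.sigmaCore H := hSσ.1 (hp.le_sylow hvA)
  have hnot : ¬ centralizer ({v} : Set G) ≤ H := fun h => hHM (huniq H hH h)
  obtain ⟨O, hO, hON, hdisj, hcov, hcase⟩ := twist_kernel hG hM hH hMH hE.1 hEc hCA hp.le_sylow (habel S) hSσ
    (Cfsg.Agent.S1408.result hG M hM r hτ.2.1 hτ.2.2.1 hτ.2.2.2).1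
  have hcover : H ≤ O ⊔ (H ⊓ normalizer (A : Set G)) := by
    intro h hh
    have hST := hSσ.smul (g := h) (Grp.mem_normalizer_iff_smul.1 (TransHyp.le_normalizer_piCoreOf H hh))
    obtain ⟨k, hk, e⟩ := hSσ.conj hST
    have hn : k⁻¹ * h ∈ normalizer ((S : Subgroup G) : Set G) := by
      rw [Grp.mem_normalizer_iff_smul, ← Grp.conj_smul_conj_smul, ← e, Grp.conj_smul_conj_smul, inv_mul_cancel,
        map_one, one_smul]
    rw [← mul_inv_cancel_left k h]
    refine mul_mem ((hcov.trans (sup_le le_sup_left ?_)) hk) (mem_sup_right ⟨?_, hNS hn⟩)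
    · exact (le_inf (inf_le_right.trans hEH) (inf_le_right.trans hEA)).trans le_sup_right
    · exact H.mul_mem (H.inv_mem (TransHyp.piCoreOf_le H hk)) hh
  -- no element of `E` has a `κ(H)`-prime
  have hvy : ∀ x ∈ E, x * v = v * x := fun x hx =>
    congrArg Subtype.val (hEc.is_comm.comm (⟨x, hx⟩ : E) ⟨v, hvE⟩)
  have hnoκ : ∀ x ∈ E, ∀ s : ℕ, s.Prime → orderOf x = s → s ∉ Cfsg.kappa H := by
    intro x hx s hs hxo hsκ
    haveI := Fact.mk hs
    obtain ⟨K, U, hKU⟩ := exists_decomp_of_max hG hH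
    have hτ1 := kappa_subset_tau1 hG hH hKU.hall hKU.cyclic hsκ
    refine hnot ((centralizer_zpowers_eq v).ge.trans (tau1_unique hG hH hτ1 (P := zpowers x) (X := zpowers v)
      (zpowers_le.2 (hEH hx)) (by rw [Nat.card_zpowers, hxo]) hvc ?_).1)
    refine le_inf (zpowers_le.2 hvH) (le_centralizer_iff.1 (zpowers_le.2 ?_))
    rw [centralizer_zpowers_eq, mem_centralizer_singleton_iff]
    exact hvy x hx
  have hEσ : O ≠ ⊥ → E ≤ Cfsg.sigmaCore H := by
    intro hO1 x hx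
    refine mem_sigmaCore_of_pi hG hH (hEH hx) fun s hs hd => ?_
    by_contra hsσ
    haveI := Fact.mk hs
    set x' := x ^ (orderOf x / s)
    have hxo' : orderOf x' = s := orderOf_pow_orderOf_div (orderOf_pos x).ne' hd
    have hx'E : x' ∈ E := E.pow_mem hx _
    rcases fixed_primes_cases hG hH (hEH hx'E) (fun e => hs.ne_one (by rw [← hxo', e, orderOf_one]))
        (fun t ht hd' => by rw [hxo', Nat.prime_dvd_prime_iff_eq ht hs] at hd'; exact hd' ▸ hsσ)
        (fun e => hv1 (by rw [← mem_bot, ← e]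
                          exact ⟨hvH, mem_centralizer_singleton_iff.2 (hvy x' hx'E).symm⟩)) with h | h
    · exact hnoκ x' hx'E s hs hxo' (h s hs hxo'.symm.dvd)
    · obtain ⟨B, hBH, hB⟩ := tau2_maxPlane hG hH (h s hs hxo'.symm.dvd)
      exact (hcase.resolve_left hO1)
        (Cfsg.Agent.S1417.result hG H hH s (h s hs hxo'.symm.dvd) B ⟨hBH, hB.elem, hB.card⟩).1
  have hat : ∀ K : Subgroup G, Cfsg.IsPiHallOf (Cfsg.kappa H) K H → ∀ a ∈ O ⊔ E, a ∉ O →
      a ∈ Cfsg.sigmaA0 H K := by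
    intro K hK a ha haO
    have haH : a ∈ H := (sup_le (hO.trans (TransHyp.piCoreOf_le H)) hEH) ha
    have ha1 : a ≠ 1 := fun e => haO (e ▸ O.one_mem)
    rcases eq_or_ne O ⊥ with hO1 | hO1
    · rw [hO1, bot_sup_eq] at ha
      refine ⟨⟨haH, v, hvH, hv1, hvy a ha⟩, ?_⟩
      rintro ⟨k, hk, hk1, m, hm, rfl⟩
      obtain ⟨s, _, x, hx, hxo, -, hsd⟩ := exists_prime_zpowers_le ha1
      refine hnoκ x ((zpowers_le.2 ha) hx) s Fact.out hxo (hK.2.1 s Fact.out ?_)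
      rw [show m * k * m⁻¹ = MulAut.conj m k from rfl, MulEquiv.orderOf_eq] at hsd
      exact hsd.trans (Subgroup.orderOf_dvd_natCard _ hk)
    · have haT : a ∈ Cfsg.sigmaCore H := (sup_le hO (hEσ hO1)) ha
      refine ⟨⟨haH, a, haT, ha1, rfl⟩, ?_⟩
      rintro ⟨k, hk, hk1, m, hm, rfl⟩
      obtain ⟨s, hs, hsd⟩ := Nat.exists_prime_and_dvd fun e => hk1 (orderOf_eq_one_iff.1 e)
      refine (hK.2.1 s hs (hsd.trans (Subgroup.orderOf_dvd_natCard _ hk))).2.2.1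
        (TransHyp.piCoreOf_primes (π := Cfsg.sigma H) (X := H) hs (hsd.trans ?_))
      have h1 := Subgroup.orderOf_dvd_natCard _ haT
      rwa [show m * k * m⁻¹ = MulAut.conj m k from rfl, MulEquiv.orderOf_eq] at h1
  refine ⟨E, H, O, A, hG, hM, hE, hτ, hp.elem, hp.card, hp.hAE, hEc, hCA, hvA, hvo, hvS, hCv, huniq, hH, hNA, hMH,
    hmeet, hvH, hnot, hO, hON, hdisj, hcover, hat, fun hd => Sylow.not_dvd_index S (hd.trans ?_),
    fun z L n hz hzr hL hLc hLn hw => hp.eigenline_normal habel hz hzr hL hLc hLn hw⟩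
  have hXH : O ⊔ E ≤ H := sup_le (hO.trans (TransHyp.piCoreOf_le H)) hEH
  exact (relIndex_dvd_of_le_left H (hp.hT.1.trans le_sup_right : (S : Subgroup G) ≤ O ⊔ E)).trans
    (relIndex_dvd_index_of_le hSH)

end Cfsg.Agent.Transfer.Loc
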