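import Cfsg.Agent.Lib.Char.DadeImages
import Cfsg.Agent.Lib.Char.Average
import Cfsg.Agent.Lib.Char.CentralCongr
import Cfsg.Agent.S1500
import Cfsg.Agent.S1501

/-!
Averages of a generalised character over the cosets `x R(x)` of the Dade map of the nontrivial elements of a normal
subgroup form a generalised character; integral means; divisibility of invariant sums.
-/

set_option autoImplicit false
set_option linter.unusedSectionVars false
set_option maxHeartbeats 1000000

namespace Cfsg.Agent.Transfer.Loc.TypeI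

open scoped ComplexConjugate
open Cfsg Cfsg.Agent.Char

universe u

variable {G : Type u} [Group G]

/-- An integer that is `r` times an algebraic integer is divisible by `r`. -/
theorem dvd_of_eq_mul {r : ℕ} (hr : r ≠ 0) {k : ℤ} {γ : ℂ} (hγ : IsIntegral ℤ γ) (h : (k : ℂ) = r * γ) :
    (r : ℤ) ∣ k := by
  have hrC : (r : ℂ) ≠ 0 := Nat.cast_ne_zero.2 hr
  have e : γ = (((k : ℚ) / r : ℚ) : ℂ) := by
    push_cast
    rw [eq_div_iff hrC, h, mul_comm]
  rw [e] at hγ
  obtain ⟨q, hq⟩ := int_of_isIntegral_rat hγ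
  rw [← e] at hq
  refine ⟨q, ?_⟩
  rw [hq] at h
  exact_mod_cast h

section
variable [Finite G]

/-- A sum over a set on which `v` of prime order `r` acts by conjugation without fixed points. -/
theorem dvd_sum_free {r : ℕ} [hr : Fact r.Prime] {v : G} (hvo : orderOf v = r) (S : Finset G) (f : G → ℤ)
    (hS : ∀ x ∈ S, v * x * v⁻¹ ∈ S) (hinv : ∀ x ∈ S, f (v * x * v⁻¹) = f x)
    (hfree : ∀ x ∈ S, v * x ≠ x * v) : (r : ℤ) ∣ ∑ x ∈ S, f x := by
  classical
  haveI : Fintype (Subgroup.zpowers v) := Fintype.ofFinite _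
  letI : MulAction (Subgroup.zpowers v) G :=
    { smul := fun k x => (k : G) * x * (k : G)⁻¹
      one_smul := fun x => by show ((1 : Subgroup.zpowers v) : G) * x * _ = x; simp
      mul_smul := fun a b x => by
        show ((a * b : Subgroup.zpowers v) : G) * x * _ = (a : G) * ((b : G) * x * (b : G)⁻¹) * (a : G)⁻¹
        simp [mul_assoc] }
  have hpow : ∀ (n : ℕ), ∀ x ∈ S, v ^ n * x * (v ^ n)⁻¹ ∈ S ∧ f (v ^ n * x * (v ^ n)⁻¹) = f x := by
    intro n
    induction n with
    | zero => intro x hx; simpa using hx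
    | succ n ih =>
      intro x hx
      obtain ⟨h1, h2⟩ := ih _ (hS x hx)
      rw [show v ^ (n + 1) * x * (v ^ (n + 1))⁻¹ = v ^ n * (v * x * v⁻¹) * (v ^ n)⁻¹ by rw [pow_succ]; group]
      exact ⟨h1, h2.trans (hinv x hx)⟩
  have hk : ∀ k : Subgroup.zpowers v, ∀ x ∈ S, k • x ∈ S ∧ f (k • x) = f x := by
    rintro ⟨k, hk⟩ x hx
    obtain ⟨n, rfl⟩ := mem_powers_iff_mem_zpowers.2 hk
    exact hpow n x hx
  let g : G → ℂ := fun x => if x ∈ S then (f x : ℂ) else 0
  obtain ⟨γ, hγ, he⟩ := CentralCongr.sum_free (P := Subgroup.zpowers v) g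
    (fun x => by
      simp only [g]
      split_ifs
      · exact isIntegral_algebraMap (x := f x)
      · exact isIntegral_zero)
    (fun k x => by
      by_cases hx : x ∈ S
      · simp only [g, if_pos hx, if_pos (hk k x hx).1, (hk k x hx).2]
      · have : k • x ∉ S := fun h => hx (by have := (hk k⁻¹ _ h).1; rwa [inv_smul_smul] at this)
        simp only [g, if_neg hx, if_neg this])
    S (fun k x hx => (hk k x hx).1) (fun k x hx e => by
      by_contra hk1
      have hgen : Subgroup.zpowers (k : G) = Subgroup.zpowers v := by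
        refine Subgroup.eq_of_le_of_card_ge (Subgroup.zpowers_le.2 k.2) ?_
        rw [Nat.card_zpowers, Nat.card_zpowers, hvo]
        refine le_of_eq (orderOf_eq_prime ?_ fun e' => hk1 (Subtype.ext e')).symm
        rw [← orderOf_dvd_iff_pow_eq_one, ← hvo]
        exact orderOf_dvd_of_mem_zpowers k.2
      have hc : Commute (k : G) x := mul_inv_eq_iff_eq_mul.1 e
      obtain ⟨i, hi⟩ := Subgroup.mem_zpowers_iff.1 (hgen ▸ Subgroup.mem_zpowers v)
      exact hfree x hx (hi ▸ (hc.zpow_left i).eq))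
  rw [Nat.card_zpowers, hvo, Finset.sum_congr rfl (g := fun x => (f x : ℂ)) fun x hx => if_pos hx,
    ← Int.cast_sum] at he
  exact dvd_of_eq_mul hr.out.ne_zero hγ he

/-- The mean of a generalised character over a coset of a normal subgroup is an algebraic integer. -/
theorem isIntegral_avgN [Fintype G] (N : Subgroup G) [N.Normal] [Fintype N] {Φ : G → ℂ}
    (hΦ : IsGeneralizedCharacter G Φ) (g : G) : IsIntegral ℤ (Char.avgN N Φ g) := by
  obtain ⟨a, b, ha, hb, rfl⟩ := hΦ
  have e : Char.avgN N (a - b) g = Char.avgN N a g - Char.avgN N b g := by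
    simp [Char.avgN, Finset.sum_sub_distrib, mul_sub]
  rw [e]
  exact (IsChar.isIntegral (IsChar.avgN N ha) g).sub (IsChar.isIntegral (IsChar.avgN N hb) g)

/-- Integral shifts on a coset have an integral mean. -/
theorem exists_mean [Fintype G] (N : Subgroup G) [N.Normal] [Fintype N] {Φ : G → ℂ}
    (hΦ : IsGeneralizedCharacter G Φ) (g : G) {c : ℂ} (hc : IsIntegral ℤ c) (z : N → ℤ)
    (hz : ∀ n : N, Φ ((n : G) * g) = c + z n) : ∃ k : ℤ, ∑ n : N, z n = Nat.card N * k := by
  have h := (isIntegral_avgN N hΦ g).sub hc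
  have hN : (Nat.card N : ℂ) ≠ 0 := Nat.cast_ne_zero.2 Nat.card_pos.ne'
  have e : Char.avgN N Φ g - c = ((((∑ n : N, z n : ℤ) : ℚ) / Nat.card N : ℚ) : ℂ) := by
    simp only [Char.avgN, hz, Finset.sum_add_distrib, Finset.sum_const, Finset.card_univ, nsmul_eq_mul,
      ← Nat.card_eq_fintype_card]
    push_cast
    field_simp
    ring
  rw [e] at h
  obtain ⟨k, hk⟩ := int_of_isIntegral_rat h
  refine ⟨k, ?_⟩
  push_cast at hk
  rw [div_eq_iff hN] at hk
  have hk' : ((∑ n : N, z n : ℤ) : ℂ) = ((Nat.card N * k : ℤ) : ℂ) := by push_cast; rw [hk]; ring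
  exact_mod_cast hk'

end

variable [Fintype G] {A : Set G} {L : Subgroup G} [Fintype L] {R : G → Subgroup G}

/-- A class function with integral inner products is a generalised character. -/
theorem genChar_of_inner {H : Type u} [Group H] [Fintype H] {θ : H → ℂ} (hθ : IsClassFunction H θ)
    (h : ∀ ψ : IrrCharacter H, ∃ n : ℤ, classInner θ (ψ : H → ℂ) = n) : IsGeneralizedCharacter H θ := by
  classical
  choose n hn using h
  rw [classFunction_expansion hθ]
  exact IsGenChar.sum fun ψ _ => by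
    rw [hn]
    exact IsGenChar.zsmul (IsGenChar.of_isCharacter (IsIrr.isCharacter ψ.2)) _

open Classical in
/-- The averages over the cosets `x R(x)`, `x ∈ S ∖ {1}`, form a generalised character of `S`. -/
theorem exists_genChar_avg (hD : DadeHypothesis A L R) (S : Subgroup L) [hS : S.Normal] [Fintype S]
    (hA : ∀ x : L, (x : G) ∈ A ↔ x ∈ S ∧ x ≠ 1) {F : G → ℂ} (hF : IsGeneralizedCharacter G F) :
    ∃ Φ : S → ℂ, IsGeneralizedCharacter S Φ ∧ ∀ x : S, x ≠ 1 →
      Φ x = (Nat.card (R ((x : L) : G)) : ℂ)⁻¹ *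
        ∑ u ∈ Finset.univ.filter (fun u : G => u ∈ R ((x : L) : G)), F (((x : L) : G) * u) := by
  let avg : G → ℂ := fun a => (Nat.card (R a) : ℂ)⁻¹ * ∑ u ∈ Finset.univ.filter (fun u : G => u ∈ R a), F (a * u)
  let ψ : L → ℂ := fun a => if (a : G) ∈ A then avg a else 0
  have hψc : IsClassFunction L ψ := by
    intro a x
    have hiff : (x : G) * a * (x : G)⁻¹ ∈ A ↔ (a : G) ∈ A := ⟨fun h => by
      have h1 := hD.conj_mem _ (L.inv_mem x.2) _ h
      rwa [show (x : G)⁻¹ * ((x : G) * a * (x : G)⁻¹) * (x : G)⁻¹⁻¹ = a by group] at h1,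
      fun h => hD.conj_mem x x.2 a h⟩
    show (if ((x * a * x⁻¹ : L) : G) ∈ A then avg _ else 0) = if (a : G) ∈ A then avg a else 0
    rw [Subgroup.coe_mul, Subgroup.coe_mul, Subgroup.coe_inv]
    by_cases ha : (a : G) ∈ A
    · rw [if_pos (hiff.2 ha), if_pos ha]
      simp only [avg, Dade.card_H_conj hD ha x.2]
      congr 1
      refine Finset.sum_nbij' (fun u => (x : G)⁻¹ * u * x) (fun u => (x : G) * u * (x : G)⁻¹) (fun u hu => ?_)
        (fun u hu => ?_) (fun u _ => by group) (fun u _ => by group) fun u _ => ?_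
      · have h1 := Dade.conj_mem_H hD (hiff.2 ha) (L.inv_mem x.2)
          (show u ∈ R ((x : G) * a * (x : G)⁻¹) by simpa using hu)
        rw [inv_inv, show (x : G)⁻¹ * ((x : G) * a * (x : G)⁻¹) * x = a by group] at h1
        simpa using h1
      · simpa using Dade.conj_mem_H hD ha x.2 (show u ∈ R a by simpa using hu)
      · rw [← IsGenChar.classFun hF ((a : G) * ((x : G)⁻¹ * u * x)) x]
        congr 1
        group
    · rw [if_neg (fun h => ha (hiff.1 h)), if_neg ha]
  let Φ : S → ℂ := fun x => ψ x - if x = 1 then ∑ y : S, ψ y else 0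
  have hΦc : IsClassFunction S Φ := by
    intro a x
    simp only [Φ]
    rw [show ψ ((x * a * x⁻¹ : S) : L) = ψ a from hψc a x]
    congr 1
    exact if_congr conj_eq_one_iff rfl rfl
  refine ⟨Φ, genChar_of_inner hΦc fun θ => ?_, fun x hx => ?_⟩
  · have hθc := IsIrr.isCharacter θ.2
    obtain ⟨n, -, hn⟩ := IsIrr.one_eq_pos θ.2
    let β : S → ℂ := (θ : S → ℂ) - (n : ℂ) • fun _ => (1 : ℂ)
    set α := indFun S β with hα
    have hαg : IsGeneralizedCharacter L α := by
      rw [hα, indFun_sub]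
      exact IsGenChar.sub (IsGenChar.of_isCharacter (isCharacter_indFun S hθc))
        (IsGenChar.of_isCharacter (isCharacter_indFun S (IsChar.nsmul IsChar.one n)))
    have hαA : ∀ x : L, (x : G) ∉ A → α x = 0 := by
      intro x hx
      by_cases hx1 : x = 1
      · subst hx1
        rw [hα, indFun_one_eq]
        simp [β, hn]
      · refine indFun_eq_zero_of_not_conj S β fun y hy => absurd ((hA x).2 ⟨?_, hx1⟩) hx
        have h1 := hS.conj_mem _ hy y
        rwa [show y * (y⁻¹ * x * y) * y⁻¹ = x by group] at h1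
    obtain ⟨z, hz⟩ := IsGenChar.classInner_int (Cfsg.Agent.S1501.result A L R hD α hαg hαA) hF
    have h2 := (Cfsg.Agent.S1500.result A L R hD α (IsGenChar.classFun hαg) hαA).2 F ψ (IsGenChar.classFun hF)
      fun a ha => by
        simp only [ψ, if_pos ha, avg]
        congr 1
        rw [finsum_mem_eq_finite_toFinset_sum _ (Set.toFinite _)]
        exact Finset.sum_congr (by ext u; simp) fun _ _ => rfl
    rw [hz, hα, classInner_indFun S β hψc] at h2
    refine ⟨z, ?_⟩
    have e : classInner (θ : S → ℂ) Φ = classInner β (fun x : S => ψ x) := by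
      simp only [classInner, Φ, β, map_sub, mul_sub, Pi.sub_apply, Pi.smul_apply, smul_eq_mul, mul_one, sub_mul,
        Finset.sum_sub_distrib, apply_ite conj, map_zero, mul_ite, mul_zero, Finset.sum_ite_eq', Finset.mem_univ,
        if_true, hn, map_sum, Finset.mul_sum]
    rw [← classInner_conj_symm, e, ← h2, map_intCast]
  · show ψ x - _ = _
    rw [if_neg hx, sub_zero]
    exact if_pos ((hA x).2 ⟨x.2, fun e => hx (Subtype.ext e)⟩)

end Cfsg.Agent.Transfer.Loc.TypeI
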