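import Cfsg.Agent.Lib.Transfer.Local.TypeIFamily
import Cfsg.Agent.Lib.Char.CentralCongr
import Cfsg.Agent.Lib.Char.Kernel
import Cfsg.Agent.Lib.Char.Quotient
import Cfsg.Agent.Lib.Char.Perm
import Cfsg.Agent.Lib.Char.Constituent

/-!
Degrees and fixed characters for the families over a normal subgroup.
-/

set_option autoImplicit false
set_option linter.style.haveILetI false
set_option linter.unusedSectionVars false
set_option maxHeartbeats 1000000

namespace Cfsg.Agent.Transfer.Loc.TypeI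

open Subgroup Cfsg.Agent.Char Cfsg.Agent.Char.KerSets
open scoped ComplexConjugate commutatorElement

attribute [local instance] Classical.propDecidable

universe u

section Degrees

variable {X : Type u} [Group X] [Fintype X]

/-- The degree is at most the index of a subgroup abelian modulo the kernel. -/
theorem dg_le_index {L B : Subgroup X} [L.Normal] (hLB : L ≤ B) (hab : ∀ a ∈ B, ∀ b ∈ B, ⁅a, b⁆ ∈ L)
    {θ : X → ℂ} (hθ : θ ∈ trivOn L) : dg θ ≤ B.index := by
  obtain ⟨hi, hk⟩ := mem_trivOn.1 hθ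
  obtain ⟨ψ, hψ, hψe⟩ := IsIrr.exists_factor_quotient hi L hk
  haveI : Fintype (X ⧸ L) := Fintype.ofFinite _
  set B' := B.map (QuotientGroup.mk' L) with hB'
  haveI : Fintype B' := Fintype.ofFinite _
  obtain ⟨φ, hφ⟩ := IsChar.exists_constituent' (IsChar.res (IsIrr.isCharacter hψ) B')
    (by simpa using IsIrr.one_ne_zero hψ)
  have hφ1 : (φ : B' → ℂ) 1 = 1 := IsIrr.one_of_comm (by
    rintro ⟨_, a, ha, rfl⟩ ⟨_, b, hb, rfl⟩
    refine Subtype.ext ?_
    show QuotientGroup.mk' L a * QuotientGroup.mk' L b = QuotientGroup.mk' L b * QuotientGroup.mk' L a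
    rw [← commutatorElement_eq_one_iff_mul_comm, ← map_commutatorElement]
    exact (QuotientGroup.eq_one_iff _).2 (hab a ha b hb)) φ.2
  have hne : classInner (indFun B' (φ : B' → ℂ)) ψ ≠ 0 := fun h0 => hφ (by
    rw [classInner_indFun B' (φ : B' → ℂ) (IsIrr.classFun hψ)] at h0
    rw [← classInner_conj_symm, h0, map_zero])
  have hone : indFun B' (φ : B' → ℂ) 1 = ((B'.index : ℕ) : ℂ) := by rw [indFun_one_eq, hφ1, mul_one]
  have h1 := degree_le_of_constituent (isCharacter_indFun B' (IsIrr.isCharacter φ.2)) hψ hne hone (dg_spec hψ)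
  have e1 : dg θ = dg ψ := by
    simp only [dg]
    rw [← hψe 1, QuotientGroup.mk_one]
  have e2 : B'.index = B.index :=
    Subgroup.index_map_eq _ (QuotientGroup.mk'_surjective L) (by rwa [QuotientGroup.ker_mk'])
  rw [e1, ← e2]
  exact h1

/-- Linear characters over a subgroup containing the commutators. -/
theorem dg_eq_one {L : Subgroup X} [L.Normal] (hab : ∀ a b : X, ⁅a, b⁆ ∈ L) {θ : X → ℂ} (hθ : θ ∈ trivOn L) :
    dg θ = 1 := by
  have h1 := dg_le_index le_top (fun a _ b _ => hab a b) hθ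
  rw [Subgroup.index_top] at h1
  have h2 := dg_pos (mem_trivOn.1 hθ).1
  omega

/-- The degree divides the index of the kernel. -/
theorem dg_dvd_index {Y : Subgroup X} [Y.Normal] {θ : X → ℂ} (hθ : θ ∈ trivOn Y) : dg θ ∣ Y.index := by
  obtain ⟨hi, hk⟩ := mem_trivOn.1 hθ
  obtain ⟨ψ, hψ, hψe⟩ := IsIrr.exists_factor_quotient hi Y hk
  rw [Subgroup.index_eq_card]
  refine IsIrr.degree_dvd_card hψ ?_
  rw [← QuotientGroup.mk_one, hψe, dg_spec hi]

theorem trivOn_mono {L Y : Subgroup X} (hLY : L ≤ Y) : trivOn Y ⊆ trivOn L := fun θ hθ => by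
  obtain ⟨hi, hk⟩ := mem_trivOn.1 hθ
  exact mem_trivOn.2 ⟨hi, fun o ho => hk o (hLY ho)⟩

/-- The number of linear characters trivial on `Y`. -/
theorem card_linear_ge {Y Y₂ : Subgroup X} [Y₂.Normal] (hY : Y ≤ Y₂) (hab : ∀ a b : X, ⁅a, b⁆ ∈ Y₂) :
    Y₂.index ≤ ((trivOn Y).filter fun θ => dg θ = 1).card := by
  rw [← sum_sq_trivOn Y₂, Finset.sum_congr rfl (g := fun _ => 1) fun θ hθ => by rw [dg_eq_one hab hθ, one_pow],
    Finset.sum_const, smul_eq_mul, mul_one]
  exact Finset.card_le_card fun θ hθ => Finset.mem_filter.2 ⟨trivOn_mono hY hθ, dg_eq_one hab hθ⟩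

/-- The weight below a degree is large. -/
theorem chain_lower {r : ℕ} (hr : r.Prime) {e a b n : ℕ} (hre : 2 * e + 1 ≤ r) {Y Y₂ : Subgroup X} [Y.Normal]
    [Y₂.Normal] (hidx : Y.index = r ^ a) (hY : Y ≤ Y₂) (hab : ∀ x y : X, ⁅x, y⁆ ∈ Y₂) (hY₂ : r ^ 2 ≤ Y₂.index)
    (Θ Bd : Finset (X → ℂ)) (hsub : ∀ θ ∈ trivOn Y, θ ≠ (fun _ => 1) → θ ∉ Bd → θ ∈ Θ) (hb : Bd.card ≤ b)
    (hbr : b + 1 ≤ r) (hBd : ∀ θ ∈ Bd, r * dg θ ^ 2 ≤ r ^ a) (hlin : ∀ θ ∈ Bd, dg θ ≠ 1) (hn1 : 1 < n)
    (hn : n * r ^ 2 ≤ r ^ a) : 2 * (e * n) < ∑ θ ∈ Θ.filter (fun θ => dg θ < n), dg θ ^ 2 := by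
  by_cases hnr : n ≤ r
  · -- linear characters suffice
    have h1 := card_linear_ge hY hab
    set Lin := (trivOn Y).filter fun θ => dg θ = 1
    have hsub' : Lin.erase (fun _ => 1) ⊆ Θ.filter (fun θ => dg θ < n) := fun θ hθ => by
      obtain ⟨hne, hθ'⟩ := Finset.mem_erase.1 hθ
      obtain ⟨ht, hd⟩ := Finset.mem_filter.1 hθ'
      exact Finset.mem_filter.2 ⟨hsub θ ht hne fun hB => hlin θ hB hd, by omega⟩
    refine lt_of_lt_of_le ?_ (Finset.sum_le_sum_of_subset hsub')
    rw [Finset.sum_congr rfl (g := fun _ => 1) fun θ hθ => by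
      rw [(Finset.mem_filter.1 (Finset.mem_erase.1 hθ).2).2, one_pow], Finset.sum_const, smul_eq_mul, mul_one]
    have h2 : Lin.card - 1 ≤ (Lin.erase fun _ => 1).card := Finset.pred_card_le_card_erase
    have h3 : 2 * (e * n) + r ≤ r * r := by
      have : 2 * e * n + r ≤ 2 * e * r + r := by gcongr
      nlinarith
    rw [sq] at hY₂
    omega
  push Not at hnr
  -- the least power of `r` above `n`
  have hex : ∃ j, n ≤ r ^ j := ⟨n, (Nat.lt_pow_self hr.one_lt).le⟩
  set i := Nat.find hex with hi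
  have hni : n ≤ r ^ i := Nat.find_spec hex
  have hi2 : 2 ≤ i := by
    by_contra hlt
    have : r ^ i ≤ r ^ 1 := Nat.pow_le_pow_right hr.pos (by omega)
    rw [pow_one] at this
    omega
  have hmin : ∀ j, j < i → r ^ j < n := fun j hj => not_le.1 (Nat.find_min hex hj)
  set m := min (2 * i) a with hm
  set S := (trivOn Y).filter fun θ => dg θ < n with hS
  have hlow : r ^ m ≤ ∑ θ ∈ S, dg θ ^ 2 := by
    have htot := sum_sq_trivOn Y
    rw [hidx, ← Finset.sum_filter_add_sum_filter_not (trivOn Y) (fun θ => dg θ < n)] at htot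
    have hhigh : r ^ m ∣ ∑ θ ∈ (trivOn Y).filter (fun θ => ¬ dg θ < n), dg θ ^ 2 := by
      refine Finset.dvd_sum fun θ hθ => ?_
      obtain ⟨ht, hd⟩ := Finset.mem_filter.1 hθ
      obtain ⟨j, -, hj⟩ := (Nat.dvd_prime_pow hr).1 (hidx ▸ dg_dvd_index ht)
      rw [hj, ← pow_mul]
      refine pow_dvd_pow r ((min_le_left _ _).trans ?_)
      by_contra hlt
      exact hd (hj ▸ hmin j (by omega))
    have hdiv : r ^ m ∣ ∑ θ ∈ S, dg θ ^ 2 :=
      (Nat.dvd_add_left hhigh).1 (htot ▸ pow_dvd_pow r (min_le_right _ _))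
    refine Nat.le_of_dvd (Finset.sum_pos' (fun _ _ => Nat.zero_le _) ⟨fun _ => 1, ?_, ?_⟩) hdiv
    · exact Finset.mem_filter.2 ⟨one_mem_trivOn Y, by rw [dg_one]; omega⟩
    · rw [dg_one]; norm_num
  set Bad := S.filter fun θ => θ ∈ Bd with hBad
  have hbad : r * ∑ θ ∈ Bad, dg θ ^ 2 ≤ b * r ^ m := by
    rw [Finset.mul_sum]
    refine (Finset.sum_le_card_nsmul _ _ (r ^ m) fun θ hθ => ?_).trans ?_
    · obtain ⟨hθS, hθB⟩ := Finset.mem_filter.1 hθ
      obtain ⟨ht, hd⟩ := Finset.mem_filter.1 hθS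
      obtain ⟨j, -, hj⟩ := (Nat.dvd_prime_pow hr).1 (hidx ▸ dg_dvd_index ht)
      rcases le_total (2 * i) a with hia | hia
      · rw [hm, min_eq_left hia, hj, ← pow_mul, ← pow_succ']
        refine Nat.pow_le_pow_right hr.pos ?_
        by_contra hlt
        have h4 : r ^ i ≤ r ^ j := Nat.pow_le_pow_right hr.pos (by omega)
        omega
      · rw [hm, min_eq_right hia]
        exact hBd θ hθB
    · rw [smul_eq_mul]
      exact Nat.mul_le_mul_right _ ((Finset.card_le_card fun θ hθ => (Finset.mem_filter.1 hθ).2).trans hb)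
  have hrest : ∑ θ ∈ S.filter (fun θ => θ ∉ Bd), dg θ ^ 2 ≤
      1 + ∑ θ ∈ Θ.filter (fun θ => dg θ < n), dg θ ^ 2 := by
    set R := S.filter fun θ => θ ∉ Bd
    have h1 : ∑ θ ∈ R, dg θ ^ 2 ≤ 1 + ∑ θ ∈ R.erase (fun _ => 1), dg θ ^ 2 := by
      by_cases h : (fun _ => (1 : ℂ)) ∈ R
      · rw [← Finset.add_sum_erase _ _ h, dg_one, one_pow]
      · rw [Finset.erase_eq_of_notMem h]; omega
    refine h1.trans (Nat.add_le_add_left (Finset.sum_le_sum_of_subset fun θ hθ => ?_) 1)
    obtain ⟨hne, hθ'⟩ := Finset.mem_erase.1 hθ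
    obtain ⟨hθS, hθB⟩ := Finset.mem_filter.1 hθ'
    obtain ⟨ht, hd⟩ := Finset.mem_filter.1 hθS
    exact Finset.mem_filter.2 ⟨hsub θ ht hne hθB, hd⟩
  have hsplit := Finset.sum_filter_add_sum_filter_not S (fun θ => θ ∈ Bd) fun θ => dg θ ^ 2
  rw [← hBad] at hsplit
  have hkey : r ^ m ≤ r * (1 + ∑ θ ∈ Θ.filter (fun θ => dg θ < n), dg θ ^ 2) := by
    have h1 : r * r ^ m ≤ b * r ^ m + r * (1 + ∑ θ ∈ Θ.filter (fun θ => dg θ < n), dg θ ^ 2) := by
      refine (Nat.mul_le_mul_left r hlow).trans ?_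
      rw [← hsplit, mul_add]
      exact Nat.add_le_add hbad (Nat.mul_le_mul_left r hrest)
    have h2 : (b + 1) * r ^ m ≤ r * r ^ m := Nat.mul_le_mul_right _ hbr
    rw [Nat.add_mul, one_mul] at h2
    omega
  -- compare with `2 e n`
  have hbig : r * (2 * (e * n) + 2) ≤ r ^ m := by
    have hmn : r * (r * n) ≤ r ^ m := by
      rcases le_total (2 * i) a with hia | hia
      · rw [hm, min_eq_left hia]
        calc r * (r * n) ≤ r * (r * r ^ i) := by gcongr
          _ = r ^ (i + 2) := by ring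
          _ ≤ r ^ (2 * i) := Nat.pow_le_pow_right hr.pos (by omega)
      · rw [hm, min_eq_right hia]
        calc r * (r * n) = n * r ^ 2 := by ring
          _ ≤ r ^ a := hn
    refine le_trans (Nat.mul_le_mul_left r ?_) hmn
    calc 2 * (e * n) + 2 ≤ (2 * e + 1) * n := by rw [Nat.add_mul, one_mul, mul_assoc]; omega
      _ ≤ r * n := Nat.mul_le_mul_right n hre
  have hfin := Nat.le_of_mul_le_mul_left (hbig.trans hkey) hr.pos
  omega

end Degrees

section Fixed

variable {H : Type u} [Group H] [Fintype H] (N : Subgroup H) [N.Normal]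

/-- A character fixed by an element of prime order, trivial on the fixed points, is principal. -/
theorem eq_one_of_prime_fixed {e : ℕ} [he : Fact e.Prime] {k : H} (hko : orderOf k = e) (hcop : ¬ e ∣ Nat.card N)
    {θ : N → ℂ} (hθ : Cfsg.IsIrrCharacter N θ) (hfix : conjN N k θ = θ)
    (hz : ∀ n : N, k * n = n * k → θ n = θ 1) : θ = fun _ => 1 := by
  by_contra hne
  haveI : Fintype N := Fintype.ofFinite _
  let φ : Subgroup.zpowers k →* MulAut N := (MulAut.conjNormal (H := N)).comp (Subgroup.zpowers k).subtype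
  letI : MulAction (Subgroup.zpowers k) N :=
    { smul := fun a n => φ a n
      one_smul := fun n => by show φ 1 n = n; rw [map_one]; rfl
      mul_smul := fun a b n => by show φ (a * b) n = φ a (φ b n); rw [map_mul]; rfl }
  have hval : ∀ (a : Subgroup.zpowers k) (n : N),
      ((a • n : N) : H) = (a : H) * n * (a : H)⁻¹ := fun a n => MulAut.conjNormal_apply _ _
  have hinv : ∀ (a : Subgroup.zpowers k) (n : N), θ (a • n) = θ n := fun a n => by
    have ha : (a : H) ∈ inertia N θ := (Subgroup.zpowers_le.2 ((mem_inertia N).2 hfix)) a.2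
    have h1 := congrFun ((mem_inertia N).1 ha) n
    rw [conjN_apply] at h1
    rw [← h1]
    exact congrArg θ (Subtype.ext (hval a n))
  let f : N → ℂ := fun n => (θ n - θ 1) * conj (θ n)
  have hint : ∀ n, IsIntegral ℤ (θ n) := fun n => by
    obtain ⟨m, ρ, -, rfl⟩ := id hθ
    exact isIntegral_character ρ n
  obtain ⟨γ, hγ, hs⟩ := CentralCongr.sum_free (P := Subgroup.zpowers k) f
    (fun n => ((hint n).sub (hint 1)).mul ((hint n).map (starRingEnd ℂ).toIntAlgHom))
    (fun a n => by simp only [f, hinv])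
    (Finset.univ.filter fun n : N => k * (n : H) ≠ (n : H) * k)
    (fun a n hn => by
      refine Finset.mem_filter.2 ⟨Finset.mem_univ _, fun hc => (Finset.mem_filter.1 hn).2 ?_⟩
      obtain ⟨i, hi⟩ := Subgroup.mem_zpowers_iff.1 a.2
      rw [hval, ← hi] at hc
      have hc' : Commute k (k ^ i * (n : H) * (k ^ i)⁻¹) := hc
      have h1 := (((Commute.refl k).zpow_right i).inv_right.mul_right hc').mul_right ((Commute.refl k).zpow_right i)
      rwa [show (k ^ i)⁻¹ * (k ^ i * (n : H) * (k ^ i)⁻¹) * k ^ i = n by group] at h1)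
    (fun a n hn e1 => by
      by_contra ha
      refine (Finset.mem_filter.1 hn).2 ?_
      have ha1 : (a : H) ≠ 1 := fun e2 => ha (Subtype.ext e2)
      have hcomm : Commute (a : H) (n : H) := by
        have e2 := congrArg Subtype.val e1
        rw [hval] at e2
        exact mul_inv_eq_iff_eq_mul.1 e2
      have hk : k ∈ Subgroup.zpowers (a : H) := by
        rw [Subgroup.eq_of_le_of_card_ge (Subgroup.zpowers_le.2 a.2) ?_]
        · exact Subgroup.mem_zpowers k
        · rw [Nat.card_zpowers, Nat.card_zpowers, hko]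
          refine le_of_eq (orderOf_eq_prime ?_ ha1).symm
          rw [← orderOf_dvd_iff_pow_eq_one, ← hko]
          exact orderOf_dvd_of_mem_zpowers a.2
      obtain ⟨i, hi⟩ := Subgroup.mem_zpowers_iff.1 hk
      rw [← hi]
      exact (hcomm.zpow_left i).eq)
  have htot : ∑ n : N, f n = (Nat.card N : ℂ) := by
    have h1 := classInner_self_irr hθ
    have h2 := classInner_irr_ne hθ (isIrr_one (G := N)) hne
    rw [Cfsg.classInner, inv_mul_eq_iff_eq_mul₀ (Nat.cast_ne_zero.2 Nat.card_pos.ne')] at h1 h2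
    simp only [map_one, mul_one, mul_zero] at h1 h2
    simp only [f, sub_mul, Finset.sum_sub_distrib, ← Finset.mul_sum]
    rw [h1, ← map_sum, h2, map_zero, mul_zero, sub_zero]
  rw [← Finset.sum_filter_of_ne (p := fun n : N => k * (n : H) ≠ (n : H) * k) fun n _ hn hc => hn (by
    simp only [f, hz n hc, sub_self, zero_mul]), hs, Nat.card_zpowers, hko] at htot
  refine hcop (Int.natCast_dvd_natCast.1 (dvd_of_eq_mul he.out.ne_zero hγ (k := Nat.card N) ?_))
  rw [htot]; push_cast; ring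

/-- A class fixed by a coprime element contains a fixed element. -/
theorem exists_fixed_of_class {k : H} (hcop : (orderOf k).Coprime (Nat.card N)) {n m : N}
    (hm : (m : H) * (k * n * k⁻¹) * (m : H)⁻¹ = n) : ∃ x : N, k * ((x * n * x⁻¹ : N) : H) = (x * n * x⁻¹ : N) * k := by
  obtain ⟨x, hx, c, hc, hck, hxe⟩ := exists_conj_centralizer_coset N k
    (by rw [Subgroup.normalizer_eq_top_iff.2 (inferInstance : N.Normal)]; exact Subgroup.mem_top _) hcop (m : H) m.2
  refine ⟨⟨x, hx⟩, ?_⟩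
  set n₁ : H := x * n * x⁻¹
  have h1 : Commute ((m : H) * k) (n : H) := by
    show (m : H) * k * n = n * ((m : H) * k)
    conv_rhs => rw [← hm]
    group
  have h2 : Commute (c * k) n₁ := by
    rw [← hxe]
    show x * (↑m * k) * x⁻¹ * (x * ↑n * x⁻¹) = x * ↑n * x⁻¹ * (x * (↑m * k) * x⁻¹)
    calc x * (↑m * k) * x⁻¹ * (x * ↑n * x⁻¹) = x * ((↑m * k) * ↑n) * x⁻¹ := by group
      _ = x * (↑n * (↑m * k)) * x⁻¹ := by rw [h1.eq]
      _ = _ := by group
  -- `k` is a power of `c k`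
  obtain ⟨j, hj0, hj1⟩ : ∃ j, j ≡ 0 [MOD Nat.card N] ∧ j ≡ 1 [MOD orderOf k] :=
    ⟨_, (Nat.chineseRemainder hcop.symm 0 1).2⟩
  have hk : (c * k) ^ j = k := by
    rw [(show Commute c k from hck).mul_pow, orderOf_dvd_iff_pow_eq_one.1
      ((Subgroup.orderOf_dvd_natCard N hc).trans (Nat.modEq_zero_iff_dvd.1 hj0)), one_mul]
    conv_rhs => rw [← pow_one k]
    exact pow_eq_pow_iff_modEq.2 hj1
  have h3 := h2.pow_left j
  rw [hk] at h3
  simpa [n₁] using h3.eq

/-- The characters fixed by coprime elements with the same fixed points. -/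
theorem fixed_chars (g : H) (hcop : (orderOf g).Coprime (Nat.card N)) {C : Subgroup N}
    (hC : ∀ n : N, n ∈ C ↔ g * n = n * g) :
    Nat.card {χ : Cfsg.IrrCharacter N // conjN N g (χ : N → ℂ) = χ} ≤ Nat.card C ∧
      ∀ j : ℕ, (∀ n : N, g ^ j * n = n * g ^ j → n ∈ C) → ∀ θ : N → ℂ, Cfsg.IsIrrCharacter N θ →
        conjN N (g ^ j) θ = θ → conjN N g θ = θ := by
  let φ : H → ConjClasses N → ConjClasses N := fun k => ConjClasses.map (conjEquivN N k).toMonoidHom
  let f : H → Cfsg.IrrCharacter N → Cfsg.IrrCharacter N := fun k χ => ⟨conjN N k χ, IsIrr.conjN N χ.2 k⟩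
  have hb : ∀ k : H, Nat.card {χ : Cfsg.IrrCharacter N // conjN N k (χ : N → ℂ) = χ} =
      Nat.card {D : ConjClasses N // φ k D = D} := fun k => by
    rw [← brauer_perm (f k) (φ k) fun χ a a' ha => by
      have e : IsConj a' (conjEquivN N k a) := ConjClasses.mk_eq_mk_iff_isConj.mp ha
      rw [IsClass.eq_of_isConj (IsIrr.classFun χ.2) e]
      exact congrFun (conjN_eq_comp N k (χ : N → ℂ)) a]
    exact Nat.card_congr (Equiv.subtypeEquivRight fun χ =>
      ⟨fun h => Subtype.ext h, fun h => congrArg (fun χ : Cfsg.IrrCharacter N => (χ : N → ℂ)) h⟩)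
  have hmeet : ∀ k : H, (orderOf k).Coprime (Nat.card N) → (∀ n : N, k * n = n * k → n ∈ C) →
      ∀ D : ConjClasses N, φ k D = D → ∃ c : C, ConjClasses.mk (c : N) = D := by
    intro k hk hkC D hD
    obtain ⟨n, rfl⟩ := D.exists_rep
    obtain ⟨m, hm⟩ := isConj_iff.mp (ConjClasses.mk_eq_mk_iff_isConj.mp hD : IsConj (conjEquivN N k n) n)
    obtain ⟨x, hx⟩ := exists_fixed_of_class N hk (n := n) (m := m) (by
      have := congrArg Subtype.val hm
      simpa [conjEquivN_apply] using this)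
    exact ⟨⟨_, hkC _ hx⟩, ConjClasses.mk_eq_mk_iff_isConj.2 (isConj_iff.2 ⟨x, rfl⟩).symm⟩
  constructor
  · rw [hb]
    choose c hc using hmeet g hcop fun n hn => (hC n).2 hn
    exact Nat.card_le_card_of_injective (fun D => c D.1 D.2) fun D D' e => Subtype.ext (by
      rw [← hc D.1 D.2, ← hc D'.1 D'.2]; exact congrArg (fun c : C => ConjClasses.mk (c : N)) e)
  · intro j hj θ hθ hfix
    have hsub : ∀ χ : Cfsg.IrrCharacter N, conjN N g (χ : N → ℂ) = χ → conjN N (g ^ j) (χ : N → ℂ) = χ :=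
      fun χ hχ => (mem_inertia N).1 ((inertia N (χ : N → ℂ)).pow_mem ((mem_inertia N).2 hχ) j)
    have hcle : Nat.card {D : ConjClasses N // φ (g ^ j) D = D} ≤ Nat.card {D : ConjClasses N // φ g D = D} := by
      refine Nat.card_le_card_of_injective (fun D => ⟨D.1, ?_⟩) fun D D' e => Subtype.ext
        (congrArg (fun D : {D : ConjClasses N // φ g D = D} => D.1) e)
      obtain ⟨c, hc⟩ := hmeet (g ^ j) ((hcop.coprime_dvd_left (orderOf_pow_dvd j))) hj D.1 D.2
      rw [← hc]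
      refine congrArg ConjClasses.mk (Subtype.ext ?_)
      show ((conjEquivN N g (c : N) : N) : H) = _
      rw [conjEquivN_apply]
      exact mul_inv_eq_iff_eq_mul.2 ((hC _).1 c.2)
    rw [← hb, ← hb] at hcle
    have hinj : Function.Injective (fun χ : {χ : Cfsg.IrrCharacter N // conjN N g (χ : N → ℂ) = χ} =>
        (⟨χ.1, hsub χ.1 χ.2⟩ : {χ : Cfsg.IrrCharacter N // conjN N (g ^ j) (χ : N → ℂ) = χ})) :=
      fun a b e => Subtype.ext (congrArg
        (fun χ : {χ : Cfsg.IrrCharacter N // conjN N (g ^ j) (χ : N → ℂ) = χ} => χ.1) e)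
    obtain ⟨⟨χ, hχ⟩, he⟩ := (hinj.bijective_of_nat_card_le hcle).2 ⟨⟨θ, hθ⟩, hfix⟩
    have e1 : (χ : N → ℂ) = θ := congrArg
      (fun χ : {χ : Cfsg.IrrCharacter N // conjN N (g ^ j) (χ : N → ℂ) = χ} => (χ.1 : N → ℂ)) he
    rw [← e1]
    exact hχ

end Fixed

end Cfsg.Agent.Transfer.Loc.TypeI
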