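import Cfsg.Agent.Lib.Transfer.Local.TypeIFrame
import Cfsg.Agent.Lib.Transfer.Local.TypeIChars
import Cfsg.Agent.Lib.Grp.AbelianizationSq

/-!
The two character-theoretic cases: linear characters over an abelian quotient, and chains of degrees.
-/

set_option autoImplicit false
set_option linter.style.haveILetI false
set_option linter.unusedSectionVars false
set_option maxHeartbeats 2000000

namespace Cfsg.Agent.Transfer.Loc.TypeI

open Subgroup Cfsg.Agent.Char Cfsg.Agent.Char.KerSets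
open scoped ComplexConjugate Pointwise commutatorElement

attribute [local instance] Classical.propDecidable

universe u

variable {G : Type u} [Group G]

/-- A subgroup of `G` seen inside `X` seen inside `H`. -/
abbrev lift (H X Y : Subgroup G) : Subgroup (X.subgroupOf H) := (Y.subgroupOf H).subgroupOf (X.subgroupOf H)

theorem lift_index {H X Y : Subgroup G} (hXH : X ≤ H) : (lift H X Y).index = Y.relIndex X :=
  Subgroup.relIndex_subgroupOf hXH

theorem mem_lift {H X Y : Subgroup G} {a : X.subgroupOf H} : a ∈ lift H X Y ↔ ((a : H) : G) ∈ Y := Iff.rfl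

theorem lift_normal {H X Y : Subgroup G} (hXY : X ≤ normalizer (Y : Set G)) : (lift H X Y).Normal :=
  ⟨fun n hn g => show ((g : H) : G) * ((n : H) : G) * ((g : H) : G)⁻¹ ∈ Y from
    Grp.mem_conj_normalizer (hXY g.2) hn⟩

theorem core_normal [Finite G] (H : Subgroup G) : ((Cfsg.sigmaCore H).subgroupOf H).Normal :=
  (normal_subgroupOf_iff_le_normalizer (TransHyp.piCoreOf_le H)).2 (TransHyp.le_normalizer_piCoreOf H)

attribute [local instance] core_normal

variable [Fintype G] {r : ℕ} [hr : Fact r.Prime] {M H E N A T : Subgroup G} {P : Sylow r G} {v : G}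
  {Q D : Subgroup G}

/-- The index bound on `E`. -/
theorem Setup.card_E (h : Setup M H E N A T P v) :
    Nat.card E ≤ (Cfsg.sigmaCore H).relIndex H * Nat.card ↥(E ⊓ Cfsg.sigmaCore H) := by
  set X := Cfsg.sigmaCore H
  have h1 := Grp.card_sup_mul_card_inf (h.EH.trans (TransHyp.le_normalizer_piCoreOf H) : E ≤ normalizer (X : Set G))
  have h2 : Nat.card ↥(E ⊔ X) ≤ Nat.card X * X.relIndex H := by
    refine le_of_le_of_eq ?_ (Grp.card_mul_relIndex (TransHyp.piCoreOf_le H : X ≤ H)).symm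
    exact Nat.le_of_dvd Nat.card_pos (card_dvd_of_le (sup_le h.EH (TransHyp.piCoreOf_le H)))
  refine Nat.le_of_mul_le_mul_right ?_ (Nat.card_pos (α := X))
  calc Nat.card E * Nat.card X = Nat.card ↥(E ⊔ X) * Nat.card ↥(E ⊓ X) := h1.symm
    _ ≤ Nat.card X * X.relIndex H * Nat.card ↥(E ⊓ X) := Nat.mul_le_mul_right _ h2
    _ = _ := by ring

/-- The family of linear characters over `O`. -/
theorem linear_family [Fintype H] (hs : Setup M H E N A T P v) {O : Subgroup G}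
    (hOX : O ≤ Cfsg.sigmaCore H) (hHO : H ≤ normalizer (O : Set G))
    (hab : ∀ a ∈ Cfsg.sigmaCore H, ∀ b ∈ Cfsg.sigmaCore H, ⁅a, b⁆ ∈ O) (hvO : v ∉ O)
    (hin : ∀ θ : (Cfsg.sigmaCore H).subgroupOf H → ℂ, Cfsg.IsIrrCharacter _ θ →
        (∀ a ∈ lift H (Cfsg.sigmaCore H) O, θ a = θ 1) → θ ≠ (fun _ => 1) →
        ∀ g : H, conjN ((Cfsg.sigmaCore H).subgroupOf H) g θ = θ → (g : G) ∈ Cfsg.sigmaCore H)
    (he : 3 ≤ (Cfsg.sigmaCore H).relIndex H) (hre : 2 * (Cfsg.sigmaCore H).relIndex H ≤ r + 1)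
    (hr2 : r ^ 2 ≤ O.relIndex (Cfsg.sigmaCore H)) :
    ∃ (F Ψ : G → ℂ) (ξ σ : H → ℂ) (W : ℕ) (b : G → G → ℤ) (d : G → ℤ),
      Data H {a : G | a ∈ Cfsg.sigmaCore H ∧ a ∉ O} F Ψ ξ σ ((Cfsg.sigmaCore H).relIndex H) W b d ∧
      W * (Cfsg.sigmaCore H).relIndex H + 1 = O.relIndex (Cfsg.sigmaCore H) ∧
      ∀ t ∈ els1 (zpowers v), ‖Cfsg.extendByZero H σ t‖ ≤ 1 := by
  set e := (Cfsg.sigmaCore H).relIndex H
  haveI := core_normal H
  haveI : Fintype ((Cfsg.sigmaCore H).subgroupOf H) := Fintype.ofFinite _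
  have hXH : Cfsg.sigmaCore H ≤ H := TransHyp.piCoreOf_le H
  haveI := lift_normal (H := H) (hXH.trans hHO)
  set Θ := (trivOn (lift H (Cfsg.sigmaCore H) O)).erase (fun _ => 1) with hΘdef
  have habX : ∀ a b : (Cfsg.sigmaCore H).subgroupOf H, ⁅a, b⁆ ∈ lift H (Cfsg.sigmaCore H) O := fun a b =>
    hab _ a.2 _ b.2
  have hlin : ∀ θ ∈ Θ, dg θ = 1 := fun θ hθ => dg_eq_one habX (Finset.mem_erase.1 hθ).2
  have hsum : ∑ θ ∈ Θ, dg θ ^ 2 + 1 = O.relIndex (Cfsg.sigmaCore H) := by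
    rw [← lift_index hXH, ← sum_sq_trivOn (lift H (Cfsg.sigmaCore H) O),
      ← Finset.sum_erase_add _ _ (one_mem_trivOn (lift H (Cfsg.sigmaCore H) O)), dg_one, one_pow]
  have hcard : Θ.card + 1 = O.relIndex (Cfsg.sigmaCore H) := by
    rw [← hsum, Finset.sum_congr rfl fun θ hθ => by rw [hlin θ hθ, one_pow], Finset.sum_const, smul_eq_mul, mul_one]
  have hr5 : 5 ≤ r := by omega
  obtain ⟨F, Ψ, ξ, σ, W, b, d, hd, hW, hσ⟩ := exists_data (A' := {a : G | a ∈ Cfsg.sigmaCore H ∧ a ∉ O}) hXH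
    (fun _ => Iff.rfl) (hs.conf.dade hHO) Θ
    (fun θ hθ => by
      obtain ⟨hne, ht⟩ := Finset.mem_erase.1 hθ
      obtain ⟨hi, hk⟩ := mem_trivOn.1 ht
      refine ⟨hi, le_antisymm (fun g hg => hin θ hi hk hne g ((mem_inertia _).1 hg))
        (le_inertia _ (IsIrr.classFun hi)), fun x hx => hk x hx, fun g => Finset.mem_erase.2 ⟨fun e1 => hne ?_,
          mem_trivOn.2 ⟨IsIrr.conjN _ hi g, fun o ho => ?_⟩⟩⟩
      · rw [← conjN_inv_cancel _ g θ, e1]; rfl
      · rw [conjN_apply, conjN_apply, hk _ (show ((g : H) : G) * ((o : H) : G) * ((g : H) : G)⁻¹ ∈ O from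
          Grp.mem_conj_normalizer (hHO g.2) ho)]
        exact congrArg θ (Subtype.ext (by simp)))
    (fun θ hθ h1 σ => by
      obtain ⟨hne, ht⟩ := Finset.mem_erase.1 hθ
      obtain ⟨hi, hk⟩ := mem_trivOn.1 ht
      refine Finset.mem_erase.2 ⟨fun e1 => hne (funext fun a => σ.injective ?_), mem_trivOn.2
        ⟨IsIrr.map_ringAut hi σ, fun o ho => by simp only [hk o ho]⟩⟩
      rw [map_one]; exact congrFun e1 a)
    (by
      rw [Finset.filter_true_of_mem hlin]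
      show 5 * e ≤ Θ.card
      have : 5 * r ≤ r ^ 2 := by rw [sq]; exact Nat.mul_le_mul_right r hr5
      omega)
    (fun θ hθ h1 => absurd (hlin θ hθ) h1.ne')
  refine ⟨F, Ψ, ξ, σ, W, b, d, hd, ?_, fun t ht => ?_⟩
  · rw [← hsum, ← hW]; rfl
  · obtain ⟨htv, ht1⟩ := (Finset.mem_filter.1 ht).2
    have htX : t ∈ Cfsg.sigmaCore H := (zpowers_le.2 hs.conf.hvX) htv
    have htO : t ∉ O := fun hh => hvO (by
      have e1 : zpowers t = zpowers v := by
        refine Subgroup.eq_of_le_of_card_ge (zpowers_le.2 htv) ?_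
        rw [Nat.card_zpowers, Nat.card_zpowers, hs.conf.hvo]
        refine le_of_eq (orderOf_eq_prime ?_ ht1).symm
        rw [← orderOf_dvd_iff_pow_eq_one, ← hs.conf.hvo]
        exact orderOf_dvd_of_mem_zpowers htv
      exact (zpowers_le.2 hh) (e1 ▸ mem_zpowers v))
    rw [extendByZero_of_mem _ (hXH htX), (hσ ⟨t, hXH htX⟩ htX).1]
    have h1 := sum_trivOn (lift H (Cfsg.sigmaCore H) O) ⟨⟨t, hXH htX⟩, htX⟩
    rw [if_neg (show ¬ _ ∈ lift H (Cfsg.sigmaCore H) O from fun hh => htO hh), ← Finset.sum_erase_add _ _ (one_mem_trivOn _), one_mul] at h1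
    rw [eq_neg_of_add_eq_zero_left h1]
    simp

/-- The linear case. -/
theorem absurd_linear_case [Fintype H] (hs : Setup M H E N A T P v) {O : Subgroup G}
    (hOX : O ≤ Cfsg.sigmaCore H) (hHO : H ≤ normalizer (O : Set G))
    (hab : ∀ a ∈ Cfsg.sigmaCore H, ∀ b ∈ Cfsg.sigmaCore H, ⁅a, b⁆ ∈ O) (hvO : v ∉ O)
    (hin : ∀ θ : (Cfsg.sigmaCore H).subgroupOf H → ℂ, Cfsg.IsIrrCharacter _ θ →
        (∀ a ∈ lift H (Cfsg.sigmaCore H) O, θ a = θ 1) → θ ≠ (fun _ => 1) →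
        ∀ g : H, conjN ((Cfsg.sigmaCore H).subgroupOf H) g θ = θ → (g : G) ∈ Cfsg.sigmaCore H)
    (he : 3 ≤ (Cfsg.sigmaCore H).relIndex H) (hre : 2 * (Cfsg.sigmaCore H).relIndex H ≤ r + 1)
    (hr2 : r ^ 2 ≤ O.relIndex (Cfsg.sigmaCore H)) (hE : Nat.card E ≤ O.relIndex (Cfsg.sigmaCore H)) : False := by
  obtain ⟨F, Ψ, ξ, σ, W, b, d, hd, hW, hσ⟩ := linear_family hs hOX hHO hab hvO hin he hre hr2
  exact hs.conf.absurd_linear hHO hvO hd he hre hσ (hW ▸ hr2) (hW ▸ hE)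

/-- Characters of chains of degrees. -/
theorem absurd_chain_case [Fintype H] (h : Frame M H E N A T P v Q D)
    (hCX : H ⊓ centralizer ({v} : Set G) ≤ Cfsg.sigmaCore H)
    (he : 3 ≤ (Cfsg.sigmaCore H).relIndex H) (hre : 2 * (Cfsg.sigmaCore H).relIndex H + 1 ≤ r)
    {b : ℕ} (hbr : b + 1 ≤ r)
    (Bd : Finset ((Cfsg.sigmaCore H).subgroupOf H → ℂ)) (hb : Bd.card ≤ b)
    (hBd : ∀ θ ∈ Bd, dg θ ≠ 1 ∧ r * dg θ ^ 2 ≤ Nat.card (P : Subgroup G))
    (hin : ∀ θ : (Cfsg.sigmaCore H).subgroupOf H → ℂ, Cfsg.IsIrrCharacter _ θ →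
        (∀ a ∈ lift H (Cfsg.sigmaCore H) ⁅Q, zpowers v⁆, θ a = θ 1) → θ ≠ (fun _ => 1) → θ ∉ Bd →
        ∀ g : H, conjN ((Cfsg.sigmaCore H).subgroupOf H) g θ = θ → (g : G) ∈ Cfsg.sigmaCore H)
    (hC : r ^ 2 * (Nat.card ↥(E ⊓ Cfsg.sigmaCore H) * Nat.card ↥⁅Q, zpowers v⁆) ≤
      (r - b) * Nat.card (Cfsg.sigmaCore H)) : False := by
  have hs := h.setup
  set e := (Cfsg.sigmaCore H).relIndex H with hedef
  haveI := core_normal H
  haveI : Fintype ((Cfsg.sigmaCore H).subgroupOf H) := Fintype.ofFinite _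
  have hXH : (Cfsg.sigmaCore H) ≤ H := h.XH
  set L := ⁅Q, zpowers v⁆ with hL
  haveI := lift_normal (H := H) h.L_normal
  let Θ := (trivOn (⊥ : Subgroup ((Cfsg.sigmaCore H).subgroupOf H))).filter fun θ => θ ≠ (fun _ => 1) ∧ inertia ((Cfsg.sigmaCore H).subgroupOf H) θ = ((Cfsg.sigmaCore H).subgroupOf H) ∧
    ∃ g : H, conjN ((Cfsg.sigmaCore H).subgroupOf H) g θ ∈ trivOn (lift H (Cfsg.sigmaCore H) L)
  have hmemΘ : ∀ {θ : ((Cfsg.sigmaCore H).subgroupOf H) → ℂ}, θ ∈ Θ ↔ Cfsg.IsIrrCharacter ((Cfsg.sigmaCore H).subgroupOf H) θ ∧ θ ≠ (fun _ => 1) ∧ inertia ((Cfsg.sigmaCore H).subgroupOf H) θ = ((Cfsg.sigmaCore H).subgroupOf H) ∧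
      ∃ g : H, conjN ((Cfsg.sigmaCore H).subgroupOf H) g θ ∈ trivOn (lift H (Cfsg.sigmaCore H) L) := fun {θ} => by
    simp only [Θ, Finset.mem_filter, mem_trivOn]
    exact ⟨fun h' => ⟨h'.1.1, h'.2⟩, fun h' => ⟨⟨h'.1, fun o ho => by rw [Subgroup.mem_bot.1 ho]⟩, h'.2⟩⟩
  have hsubΘ : ∀ θ ∈ trivOn (lift H (Cfsg.sigmaCore H) L), θ ≠ (fun _ => 1) → θ ∉ Bd → θ ∈ Θ := fun θ ht hne hB =>
    hmemΘ.2 ⟨(mem_trivOn.1 ht).1, hne, le_antisymm
      (fun g hg => hin θ (mem_trivOn.1 ht).1 (mem_trivOn.1 ht).2 hne hB g ((mem_inertia _).1 hg))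
      (le_inertia _ (IsIrr.classFun (mem_trivOn.1 ht).1)), 1, by rwa [conjN_one]⟩
  -- the quotient by `Q W`
  set Y := Q ⊔ O' r D with hY
  have hWX : O' r D ≤ (Cfsg.sigmaCore H) := (O'_le r D).trans h.DX
  have hYX : Y ≤ (Cfsg.sigmaCore H) := sup_le h.hQX hWX
  have hXY : (Cfsg.sigmaCore H) ≤ normalizer (Y : Set G) := by
    intro x hx
    obtain ⟨q, hq, d', hd', rfl⟩ := h.hcompl.2.2.2 x hx
    exact mul_mem (le_normalizer (mem_sup_left hq))
      (Grp.le_normalizer_sup' h.DQ (le_normalizer_core' D) hd')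
  have hcY : Nat.card ↥Y = Nat.card Q * Nat.card ↥(O' r D) := by
    have h1 := Grp.card_sup_mul_card_inf (H := O' r D) (N := Q) ((O'_le r D).trans h.DQ)
    rw [inf_comm, le_bot_iff.1 ((inf_le_inf_left Q (O'_le r D)).trans h.hcompl.2.2.1.le), Subgroup.card_bot, mul_one,
      sup_comm] at h1
    rw [h1, mul_comm]
  obtain ⟨a, ha⟩ := IsPGroup.iff_card.1 P.isPGroup'
  have hidx : (lift H (Cfsg.sigmaCore H) Y).index = r ^ a := by
    rw [lift_index hXH]
    refine Nat.eq_of_mul_eq_mul_left (Nat.card_pos (α := Y)) ?_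
    rw [Grp.card_mul_relIndex hYX, hcY, h.card_X, ha]
    ring
  haveI := lift_normal (H := H) hXY
  -- the derived quotient
  obtain ⟨Y₂, hY₂n, hYY₂, hab₂, hY₂⟩ : ∃ Y₂ : Subgroup ((Cfsg.sigmaCore H).subgroupOf H), Y₂.Normal ∧ lift H (Cfsg.sigmaCore H) Y ≤ Y₂ ∧
      (∀ x y : ((Cfsg.sigmaCore H).subgroupOf H), ⁅x, y⁆ ∈ Y₂) ∧ r ^ 2 ≤ Y₂.index := by
    haveI hn := (inferInstance : (lift H (Cfsg.sigmaCore H) Y).Normal)
    have hcQ : Nat.card (((Cfsg.sigmaCore H).subgroupOf H) ⧸ lift H (Cfsg.sigmaCore H) Y) = r ^ a := by rw [← Subgroup.index_eq_card, hidx]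
    have ha2 : 2 ≤ a := by
      have h1 : r ^ 2 ∣ r ^ a := ha ▸ hs.plane.card ▸ card_dvd_of_le hs.AP
      exact (Nat.pow_dvd_pow_iff_le_right hr.out.one_lt).1 h1
    refine ⟨(commutator (((Cfsg.sigmaCore H).subgroupOf H) ⧸ lift H (Cfsg.sigmaCore H) Y)).comap (QuotientGroup.mk' _), inferInstance, fun y hy => ?_,
      fun x y => ?_, ?_⟩
    · rw [Subgroup.mem_comap, QuotientGroup.mk'_apply, (QuotientGroup.eq_one_iff y).2 hy]; exact one_mem _
    · rw [Subgroup.mem_comap, map_commutatorElement]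
      exact commutator_mem_commutator (Subgroup.mem_top _) (Subgroup.mem_top _)
    · rw [Subgroup.index_comap_of_surjective _ (QuotientGroup.mk'_surjective _)]
      have hp : IsPGroup r (((Cfsg.sigmaCore H).subgroupOf H) ⧸ lift H (Cfsg.sigmaCore H) Y) := IsPGroup.of_card hcQ
      obtain ⟨j, -, hji⟩ := (Nat.dvd_prime_pow hr.out).1 (hcQ ▸ Subgroup.index_dvd_card
        (commutator (((Cfsg.sigmaCore H).subgroupOf H) ⧸ lift H (Cfsg.sigmaCore H) Y)))
      rw [hji]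
      refine Nat.pow_le_pow_right hr.out.pos ?_
      by_contra hlt
      have h2 := Grp.AbSq.commutator_eq_bot hp (by rw [hji]; exact (pow_dvd_pow r (by omega)).trans (pow_one r).dvd)
      rw [h2, Subgroup.index_bot, hcQ] at hji
      have := Nat.pow_right_injective hr.out.two_le hji
      omega
  haveI := hY₂n
  have hLY : lift H (Cfsg.sigmaCore H) L ≤ lift H (Cfsg.sigmaCore H) Y := fun x hx =>
    mem_lift.2 ((h.L_le.trans le_sup_left) (mem_lift.1 hx))
  have hLYt : trivOn (lift H (Cfsg.sigmaCore H) Y) ⊆ trivOn (lift H (Cfsg.sigmaCore H) L) := trivOn_mono hLY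
  have hBd' : ∀ θ ∈ Bd, r * dg θ ^ 2 ≤ r ^ a := fun θ hθ => ha ▸ (hBd θ hθ).2
  -- abelian subgroups over `L` and over `Q`
  set B₀ := (Q ⊓ E) ⊔ A with hB₀
  set B := L ⊔ B₀ with hB
  have hAW : IsMulCommutative ↥(A ⊔ O' r D) := by
    refine le_centralizer_iff_isMulCommutative.1 (sup_le ?_ ?_) <;> rw [le_centralizer_iff] <;> refine sup_le ?_ ?_
    · exact le_centralizer_iff_isMulCommutative.2 hs.plane.elem.1
    · exact h.W_le_CA
    · exact le_centralizer_iff.1 h.W_le_CA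
    · exact le_centralizer_iff_isMulCommutative.2 h.W_comm
  have hB₀c : IsMulCommutative ↥B₀ := by
    haveI := h.hQc
    have hQE : Q ⊓ E ≤ centralizer (A : Set G) :=
      (inf_comm Q E).le.trans ((inf_le_inf_left E h.hQX).trans h.EX_le_CA)
    refine le_centralizer_iff_isMulCommutative.1 (sup_le ?_ ?_) <;> rw [le_centralizer_iff] <;> refine sup_le ?_ ?_
    · exact ((inf_le_left).trans (le_centralizer_iff_isMulCommutative.2 h.hQc)).trans (centralizer_le inf_le_left)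
    · exact le_centralizer_iff.1 hQE
    · exact hQE
    · exact le_centralizer_iff_isMulCommutative.2 hs.plane.elem.1
  have hBX : B ≤ (Cfsg.sigmaCore H) :=
    sup_le (h.L_le.trans h.hQX) (sup_le (inf_le_left.trans h.hQX) (hs.AP.trans hs.PX))
  have hBL : B ≤ normalizer (L : Set G) := hBX.trans h.L_normal
  have hBcomm : ∀ x ∈ B, ∀ y ∈ B, ⁅x, y⁆ ∈ L := by
    intro x hx y hy
    have hc : ⁅qimg L B, qimg L B⁆ = ⊥ := by
      rw [hB, qimg_sup le_normalizer (le_sup_right.trans hBL), qimg_self, bot_sup_eq,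
        ← qimg_commutator (le_sup_right.trans hBL) (le_sup_right.trans hBL),
        commutator_eq_bot_iff_le_centralizer.2 (le_centralizer_iff_isMulCommutative.2 hB₀c)]
      exact (qimg_eq_bot bot_le).2 bot_le
    rw [← qimg_commutator hBL hBL, qimg_eq_bot (commutator_le.2 fun a ha b hb =>
      hBL (mul_mem (mul_mem (mul_mem ha hb) (inv_mem ha)) (inv_mem hb)))] at hc
    exact hc (commutator_mem_commutator hx hy)
  have hBidx : B.relIndex (Cfsg.sigmaCore H) * r ^ 2 ≤ r ^ a * Nat.card ↥(O' r D) := by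
    have hge : Nat.card Q * r ^ 2 ≤ Nat.card ↥B := by
      have hdisj : Q ⊓ A = ⊥ := le_bot_iff.1
        ((inf_le_inf_left Q (hs.AP.trans h.hPD)).trans h.hcompl.2.2.1.le)
      have h2 := Grp.card_sup_mul_card_inf (H := A) (N := Q) h.AQ
      rw [inf_comm, hdisj, Subgroup.card_bot, mul_one, sup_comm, hs.plane.card, mul_comm] at h2
      rw [← h2]
      exact Nat.le_of_dvd Nat.card_pos (card_dvd_of_le (sup_le (h.Q_split.trans (sup_le le_sup_left
        (le_sup_left.trans le_sup_right))) (le_sup_right.trans le_sup_right)))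
    refine Nat.le_of_mul_le_mul_left ?_ (Nat.card_pos (α := Q))
    calc Nat.card Q * (B.relIndex (Cfsg.sigmaCore H) * r ^ 2)
        = (Nat.card Q * r ^ 2) * B.relIndex (Cfsg.sigmaCore H) := by ring
      _ ≤ Nat.card ↥B * B.relIndex (Cfsg.sigmaCore H) := Nat.mul_le_mul_right _ hge
      _ = Nat.card Q * (r ^ a * Nat.card ↥(O' r D)) := by
          rw [Grp.card_mul_relIndex hBX, h.card_X, ha]
  have hQn : (lift H (Cfsg.sigmaCore H) Q).Normal := lift_normal (H := H) (hXH.trans h.hQH)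
  haveI := hQn
  set B' := Q ⊔ (A ⊔ O' r D) with hB'
  have hB'X : B' ≤ Cfsg.sigmaCore H := sup_le h.hQX (sup_le (hs.AP.trans hs.PX) hWX)
  have hB'Q : B' ≤ normalizer (Q : Set G) := (hB'X.trans hXH).trans h.hQH
  have hB'comm : ∀ x ∈ B', ∀ y ∈ B', ⁅x, y⁆ ∈ Q := by
    intro x hx y hy
    have hc : ⁅qimg Q B', qimg Q B'⁆ = ⊥ := by
      rw [hB', qimg_sup le_normalizer (le_sup_right.trans hB'Q), qimg_self, bot_sup_eq,
        ← qimg_commutator (le_sup_right.trans hB'Q) (le_sup_right.trans hB'Q),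
        commutator_eq_bot_iff_le_centralizer.2 (le_centralizer_iff_isMulCommutative.2 hAW)]
      exact (qimg_eq_bot bot_le).2 bot_le
    rw [← qimg_commutator hB'Q hB'Q, qimg_eq_bot (commutator_le.2 fun a ha b hb =>
      hB'Q (mul_mem (mul_mem (mul_mem ha hb) (inv_mem ha)) (inv_mem hb)))] at hc
    exact hc (commutator_mem_commutator hx hy)
  have hB'idx : B'.relIndex (Cfsg.sigmaCore H) * r ^ 2 ≤ r ^ a := by
    have hcAW : Nat.card ↥(A ⊔ O' r D) = r ^ 2 * Nat.card ↥(O' r D) := by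
      have h1 := Grp.card_sup_mul_card_inf (H := A) (N := O' r D)
        ((le_centralizer_iff.1 h.W_le_CA).trans (centralizer_le_normalizer _))
      rwa [Grp.inf_eq_bot_of_coprime (by
        rw [hs.plane.card]; exact ((O'_coprime (r := r) D).pow_right 2).symm), Subgroup.card_bot, mul_one,
        hs.plane.card] at h1
    have hdisj : Q ⊓ (A ⊔ O' r D) = ⊥ := le_bot_iff.1
      ((inf_le_inf_left Q (sup_le (hs.AP.trans h.hPD) (O'_le r D))).trans h.hcompl.2.2.1.le)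
    have h2 := Grp.card_sup_mul_card_inf (H := A ⊔ O' r D) (N := Q) (sup_le h.AQ ((O'_le r D).trans h.DQ))
    rw [inf_comm, hdisj, Subgroup.card_bot, mul_one, sup_comm, hcAW, mul_comm] at h2
    refine le_of_eq (Nat.eq_of_mul_eq_mul_left (Nat.mul_pos (Nat.card_pos (α := Q))
      (Nat.card_pos (α := ↥(O' r D)))) ?_)
    have h3 : Nat.card ↥B' * B'.relIndex (Cfsg.sigmaCore H) = Nat.card (Cfsg.sigmaCore H) :=
      Grp.card_mul_relIndex hB'X
    rw [hB', h2, ← hB', h.card_X, ha] at h3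
    calc Nat.card Q * Nat.card ↥(O' r D) * (B'.relIndex (Cfsg.sigmaCore H) * r ^ 2)
        = Nat.card Q * (r ^ 2 * Nat.card ↥(O' r D)) * B'.relIndex (Cfsg.sigmaCore H) := by ring
      _ = Nat.card Q * Nat.card ↥(O' r D) * r ^ a := by rw [h3]; ring
  have hQidx : (lift H (Cfsg.sigmaCore H) Q).index = r ^ a * Nat.card ↥(O' r D) := by
    rw [lift_index hXH]
    refine Nat.eq_of_mul_eq_mul_left (Nat.card_pos (α := Q)) ?_
    rw [Grp.card_mul_relIndex h.hQX, h.card_X, ha]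
  have hdgconj : ∀ (g : H) (θ : ((Cfsg.sigmaCore H).subgroupOf H) → ℂ), dg (conjN ((Cfsg.sigmaCore H).subgroupOf H) g θ) = dg θ := fun g θ => by
    simp only [dg, conjN_apply]
    exact congrArg (fun z => ⌊(θ z).re⌋₊) (Subtype.ext (by simp))
  have hn : ∀ θ ∈ Θ, dg θ * r ^ 2 ≤ r ^ a * Nat.card ↥(O' r D) := fun θ hθ => by
    obtain ⟨-, -, -, g, hg⟩ := hmemΘ.1 hθ
    rw [← hdgconj g θ]
    refine le_trans (Nat.mul_le_mul_right _ (dg_le_index (B := lift H (Cfsg.sigmaCore H) B)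
      (fun x hx => mem_lift.2 (le_sup_left (b := B₀) (mem_lift.1 hx)))
      (fun x hx y hy => hBcomm _ (mem_lift.1 hx) _ (mem_lift.1 hy)) hg)) ?_
    rwa [lift_index hXH]
  have hfull : ∀ n : ℕ, r ^ a < n * r ^ 2 → n * r ^ 2 ≤ r ^ a * Nat.card ↥(O' r D) →
      2 * (e * n) < ∑ θ ∈ Θ.filter (fun θ => dg θ < n), dg θ ^ 2 := by
    intro n hlo hhi
    set N₁ := r ^ a * Nat.card ↥(O' r D) with hN₁
    have htot := sum_sq_trivOn (lift H (Cfsg.sigmaCore H) Q)
    rw [hQidx] at htot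
    have hsmall : ∀ φ ∈ trivOn (lift H (Cfsg.sigmaCore H) Q), dg φ < n := fun φ hφ => by
      refine lt_of_mul_lt_mul_right (lt_of_le_of_lt ?_ hlo) (Nat.zero_le _)
      refine le_trans (Nat.mul_le_mul_right _ (dg_le_index (B := lift H (Cfsg.sigmaCore H) B')
        (fun x hx => mem_lift.2 (le_sup_left (b := A ⊔ O' r D) (mem_lift.1 hx)))
        (fun x hx y hy => hB'comm _ (mem_lift.1 hx) _ (mem_lift.1 hy)) hφ)) ?_
      rwa [lift_index hXH]
    have h1 : ∑ φ ∈ trivOn (lift H (Cfsg.sigmaCore H) Q), dg φ ^ 2 ≤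
        (∑ φ ∈ Θ.filter (fun θ => dg θ < n), dg φ ^ 2 + 1) + ∑ φ ∈ Bd, dg φ ^ 2 := by
      have h2 : trivOn (lift H (Cfsg.sigmaCore H) Q) ⊆
          insert (fun _ => (1 : ℂ)) (Θ.filter (fun θ => dg θ < n) ∪ Bd) := fun θ hθ => by
        by_cases h3 : θ = fun _ => 1
        · exact Finset.mem_insert.2 (Or.inl h3)
        refine Finset.mem_insert_of_mem ?_
        by_cases h4 : θ ∈ Bd
        · exact Finset.mem_union_right _ h4
        · exact Finset.mem_union_left _ (Finset.mem_filter.2 ⟨hsubΘ θ (trivOn_mono (fun x hx =>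
            mem_lift.2 (h.L_le (mem_lift.1 hx))) hθ) h3 h4, hsmall θ hθ⟩)
      refine (Finset.sum_le_sum_of_subset h2).trans ?_
      by_cases h5 : (fun _ => (1 : ℂ)) ∈ Θ.filter (fun θ => dg θ < n) ∪ Bd
      · rw [Finset.insert_eq_of_mem h5]
        have h9 := Finset.sum_union_inter (s₁ := Θ.filter (fun θ => dg θ < n)) (s₂ := Bd) (f := fun θ => dg θ ^ 2)
        omega
      · rw [Finset.sum_insert h5, dg_one, one_pow]
        have h9 := Finset.sum_union_inter (s₁ := Θ.filter (fun θ => dg θ < n)) (s₂ := Bd) (f := fun θ => dg θ ^ 2)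
        omega
    rw [htot] at h1
    set S₁ := ∑ φ ∈ Θ.filter (fun θ => dg θ < n), dg φ ^ 2
    have h2 : r * ∑ θ ∈ Bd, dg θ ^ 2 ≤ b * N₁ := by
      rw [Finset.mul_sum]
      refine (Finset.sum_le_card_nsmul _ _ _ fun θ hθ => ((hBd θ hθ).2.trans_eq ha).trans
        (Nat.le_mul_of_pos_right _ (Nat.card_pos (α := ↥(O' r D))))).trans ?_
      rw [smul_eq_mul]
      exact Nat.mul_le_mul_right _ hb
    have h3 : (b + 1) * N₁ ≤ r * N₁ := Nat.mul_le_mul_right _ hbr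
    have h4 : N₁ ≤ r * (S₁ + 1) := by
      have h5 := Nat.mul_le_mul_left r h1
      rw [mul_add] at h5
      rw [Nat.add_mul, one_mul] at h3
      omega
    have h6 : r * (r * n) ≤ r * (S₁ + 1) := le_trans (le_of_eq (by ring)) (hhi.trans h4)
    have h7 := Nat.le_of_mul_le_mul_left h6 hr.out.pos
    have h8 : (2 * e + 1) * n ≤ r * n := Nat.mul_le_mul_right _ hre
    rw [Nat.add_mul, one_mul, mul_assoc] at h8
    have h9 : 2 ≤ n := by
      by_contra hlt
      have : n * r ^ 2 ≤ r ^ a := le_trans (Nat.mul_le_mul_right _ (show n ≤ 1 by omega))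
        (by rw [one_mul]; exact Nat.le_of_dvd (pow_pos hr.out.pos _) (ha ▸ hs.plane.card ▸ card_dvd_of_le hs.AP))
      omega
    omega
  have hr7 : 7 ≤ r := by omega
  have hD0 : ∀ θ ∈ Bd, dg θ ≠ 1 := fun θ hθ => (hBd θ hθ).1
  obtain ⟨F, Ψ, ξ, σ, W, bb, d, hd, hW, hσ⟩ := exists_data (A' := {a : G | a ∈ (Cfsg.sigmaCore H) ∧ a ∉ (⊥ : Subgroup G)}) hXH
    (fun _ => Iff.rfl) (hs.conf.dade (fun g _ => Grp.mem_normalizer_iff_smul.2 (Subgroup.smul_bot _))) Θ
    (fun θ hθ => by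
      obtain ⟨hi, hne, hI, g₀, hg₀⟩ := hmemΘ.1 hθ
      refine ⟨hi, hI, fun x hx => congrArg θ (Subtype.ext (Subtype.ext (Subgroup.mem_bot.1 hx))), fun g =>
        hmemΘ.2 ⟨IsIrr.conjN _ hi g, fun e1 => hne ?_, le_antisymm (fun k hk => ?_)
          (le_inertia _ (IsIrr.classFun (IsIrr.conjN _ hi g))), g⁻¹ * g₀, ?_⟩⟩
      · rw [← conjN_inv_cancel _ g θ, e1]; rfl
      · have h1 : g * k * g⁻¹ ∈ inertia ((Cfsg.sigmaCore H).subgroupOf H) θ := by
          rw [mem_inertia, conjN_mul, conjN_mul, (mem_inertia _).1 hk, conjN_inv_cancel]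
        rw [hI] at h1
        have := (inferInstance : ((Cfsg.sigmaCore H).subgroupOf H).Normal).conj_mem _ h1 g⁻¹
        rwa [show g⁻¹ * (g * k * g⁻¹) * g⁻¹⁻¹ = k by group] at this
      · rwa [conjN_mul, conjN_inv_cancel])
    (fun θ hθ h1 σ => by
      obtain ⟨hi, hne, hI, g₀, hg₀⟩ := hmemΘ.1 hθ
      refine hmemΘ.2 ⟨IsIrr.map_ringAut hi σ, fun e1 => hne (funext fun x => σ.injective ?_),
        le_antisymm (fun k hk => hI.le ((mem_inertia _).2 (funext fun x => σ.injective ?_)))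
          (le_inertia _ (IsIrr.classFun (IsIrr.map_ringAut hi σ))), g₀, ?_⟩
      · rw [map_one]; exact congrFun e1 x
      · exact congrFun ((mem_inertia _).1 hk) x
      · obtain ⟨h2, h3⟩ := mem_trivOn.1 hg₀
        exact mem_trivOn.2 ⟨IsIrr.map_ringAut h2 σ, fun o ho => congrArg σ (h3 o ho)⟩)
    (by
      show 5 * e ≤ _
      have h1 := card_linear_ge hYY₂ hab₂
      set Lin := (trivOn (lift H (Cfsg.sigmaCore H) Y)).filter fun θ => dg θ = 1
      have h2 : Lin.card - 1 ≤ (Lin.erase fun _ => 1).card := Finset.pred_card_le_card_erase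
      have h3 : (Lin.erase fun _ => 1).card ≤ (Θ.filter fun θ => dg θ = 1).card := Finset.card_le_card fun θ hθ => by
        obtain ⟨hne, hθ'⟩ := Finset.mem_erase.1 hθ
        obtain ⟨ht, hd⟩ := Finset.mem_filter.1 hθ'
        exact Finset.mem_filter.2 ⟨hsubΘ θ (hLYt ht) hne fun hB' => hD0 θ hB' hd, hd⟩
      have h4 : 7 * r ≤ r ^ 2 := by rw [sq]; exact Nat.mul_le_mul_right _ hr7
      omega)
    (fun θ hθ h1 => (le_or_gt (dg θ * r ^ 2) (r ^ a)).elim
      (fun hle => chain_lower hr.out hre (Y := lift H (Cfsg.sigmaCore H) Y) (Y₂ := Y₂) hidx hYY₂ hab₂ hY₂ Θ Bd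
        (fun φ hφ => hsubΘ φ (hLYt hφ)) hb hbr hBd' hD0 h1 hle) fun hgt => hfull _ hgt (hn θ hθ))
  set C := Nat.card ↥(E ⊓ (Cfsg.sigmaCore H)) with hCdef
  have hWC : r * C ≤ W * e + 1 := by
    set S := trivOn (lift H (Cfsg.sigmaCore H) L)
    have h1 : ∑ θ ∈ S, dg θ ^ 2 ≤ (W * e + 1) + ∑ θ ∈ Bd, dg θ ^ 2 := by
      have h2 : S ⊆ insert (fun _ => (1 : ℂ)) (Θ ∪ Bd) := fun θ hθ => by
        by_cases h3 : θ = fun _ => 1
        · exact Finset.mem_insert.2 (Or.inl h3)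
        refine Finset.mem_insert_of_mem ?_
        by_cases h4 : θ ∈ Bd
        · exact Finset.mem_union_right _ h4
        · exact Finset.mem_union_left _ (hsubΘ θ hθ h3 h4)
      have h5 : (fun _ => (1 : ℂ)) ∉ Θ ∪ Bd := fun h6 => by
        rcases Finset.mem_union.1 h6 with h7 | h7
        · exact (hmemΘ.1 h7).2.1 rfl
        · exact hD0 _ h7 dg_one
      have h8 := Finset.sum_le_sum_of_subset (f := fun θ => dg θ ^ 2) h2
      rw [Finset.sum_insert h5, dg_one, one_pow] at h8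
      have h9 := Finset.sum_union_inter (s₁ := Θ) (s₂ := Bd) (f := fun θ => dg θ ^ 2)
      have h10 : W * e = ∑ θ ∈ Θ, dg θ ^ 2 := hW
      omega
    rw [sum_sq_trivOn, lift_index hXH] at h1
    have h2 : r * ∑ θ ∈ Bd, dg θ ^ 2 ≤ b * r ^ a := by
      rw [Finset.mul_sum]
      refine (Finset.sum_le_card_nsmul _ _ _ hBd').trans ?_
      rw [smul_eq_mul]
      exact Nat.mul_le_mul_right _ hb
    have hLX : L ≤ (Cfsg.sigmaCore H) := h.L_le.trans h.hQX
    have h3 : r ^ a ≤ L.relIndex (Cfsg.sigmaCore H) := by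
      have h4 : Nat.card ↥Y * r ^ a = Nat.card (Cfsg.sigmaCore H) := by rw [hcY, h.card_X, ha]; ring
      refine Nat.le_of_mul_le_mul_left ?_ (Nat.card_pos (α := L))
      rw [Grp.card_mul_relIndex hLX, ← h4]
      exact Nat.mul_le_mul_right _ (Nat.le_of_dvd Nat.card_pos (card_dvd_of_le (h.L_le.trans le_sup_left)))
    have h5 : r ^ 2 * C ≤ (r - b) * L.relIndex (Cfsg.sigmaCore H) := by
      refine Nat.le_of_mul_le_mul_left ?_ (Nat.card_pos (α := L))
      rw [mul_left_comm (Nat.card L) (r - b), Grp.card_mul_relIndex hLX, ← mul_assoc, mul_comm (Nat.card L)]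
      rw [← mul_assoc] at hC
      calc r ^ 2 * Nat.card L * C = r ^ 2 * C * Nat.card L := by ring
        _ ≤ _ := hC
    refine Nat.le_of_mul_le_mul_left ?_ hr.out.pos
    have h6 : r * L.relIndex (Cfsg.sigmaCore H) ≤ r * (W * e + 1) + b * L.relIndex (Cfsg.sigmaCore H) := by
      refine (Nat.mul_le_mul_left r h1).trans ?_
      rw [mul_add]
      exact Nat.add_le_add_left (h2.trans (Nat.mul_le_mul_left b h3)) _
    rw [Nat.sub_mul] at h5
    rw [show r * (r * C) = r ^ 2 * C by ring]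
    omega
  refine hs.conf.absurd_chain (C := C) (fun g _ => Grp.mem_normalizer_iff_smul.2 (Subgroup.smul_bot _))
    (fun hv => hs.conf.v_ne (Subgroup.mem_bot.1 hv)) hd he hre Nat.card_pos (fun t ht => ?_) hWC hs.card_E
  obtain ⟨htv, ht1⟩ := (Finset.mem_filter.1 ht).2
  have htX : t ∈ (Cfsg.sigmaCore H) := (zpowers_le.2 hs.conf.hvX) htv
  rw [extendByZero_of_mem _ (hXH htX)]
  refine ((hσ ⟨t, hXH htX⟩ htX).2).trans (mul_le_mul_of_nonneg_left ?_ (Nat.cast_nonneg _))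
  refine Nat.cast_le.2 (Nat.card_le_card_of_injective (fun c => (⟨((c : H) : G), ?_⟩ : ↥(E ⊓ (Cfsg.sigmaCore H)))) fun c c' e1 =>
    Subtype.ext (Subtype.ext (congrArg (fun z : ↥(E ⊓ (Cfsg.sigmaCore H)) => (z : G)) e1)))
  have hc : ((c : H) : G) ∈ centralizer ({v} : Set G) := by
    rw [← (hs.conf.supportR_pow htv ht1).1]
    exact mem_centralizer_singleton_iff.2 (congrArg Subtype.val (mem_centralizer_singleton_iff.1 c.2))
  have hcX : ((c : H) : G) ∈ (Cfsg.sigmaCore H) := hCX ⟨(c : H).2, hc⟩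
  exact ⟨h.CXv ⟨hcX, hc⟩, hcX⟩

end Cfsg.Agent.Transfer.Loc.TypeI
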