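import Cfsg.Agent.Lib.Char.DadeImages
import Cfsg.Agent.S1500

/-!
Images under the Dade map of irreducible characters whose degrees are multiples of a common degree, the small
multiples outweighing each larger one: a weighted sum of images and its values.
-/

set_option autoImplicit false
set_option linter.unusedSectionVars false
set_option maxHeartbeats 1000000

namespace Cfsg.Agent.Transfer.Loc.TypeI

open scoped ComplexConjugate
open Cfsg Cfsg.Agent.Char Cfsg.Agent.Char.DadeImg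

universe u

variable {G : Type u} [Group G] [Fintype G] {A : Set G} {L : Subgroup G} [Fintype L] {R : G → Subgroup G}

/-- Orthonormal images of a Galois stable family, differing as the Dade map prescribes, have integral shifts. -/
theorem int_values (hD : DadeHypothesis A L R) (U : Finset (L → ℂ)) (hk : 5 ≤ U.card) {ξ₀ : L → ℂ} (hξ₀ : ξ₀ ∈ U)
    (hU : ∀ ξ ∈ U, IsIrrCharacter L ξ ∧ ∀ σ : ℂ ≃+* ℂ, (fun x => σ (ξ x)) ∈ U) {F : (L → ℂ) → (G → ℂ)}
    (hgen : ∀ ξ ∈ U, IsGeneralizedCharacter G (F ξ))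
    (horth : ∀ ξ ∈ U, ∀ η ∈ U, classInner (F ξ) (F η) = if ξ = η then 1 else 0)
    (hdiff : ∀ ξ ∈ U, ∀ η ∈ U, F ξ - F η = dadeIsometry A L R (ξ - η)) :
    (∀ a : L, (a : G) ∈ A → ∀ u ∈ R (a : G), ∃ b : ℤ, ∀ ξ ∈ U, F ξ ((a : G) * u) = ξ a + b) ∧
      ∀ g ∉ Dade.supp A R, ∃ n : ℤ, ∀ ξ ∈ U, F ξ g = n := by
  classical
  set τ := dadeIsometry A L R with hτ
  have hclass : ∀ ξ ∈ U, ∀ η ∈ U, IsClassFunction L (ξ - η) := fun ξ hξ η hη =>
    IsGenChar.classFun (IsGenChar.sub (IsGenChar.of_isCharacter (IsIrr.isCharacter (hU ξ hξ).1))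
      (IsGenChar.of_isCharacter (IsIrr.isCharacter (hU η hη).1)))
  -- the Galois action commutes with the images
  have hgal : ∀ σ : ℂ ≃+* ℂ, ∀ ξ ∈ U, (fun g => σ (F ξ g)) = F (fun x => σ (ξ x)) := by
    intro σ
    let p : (L → ℂ) → (L → ℂ) := fun ξ x => σ (ξ x)
    let δ : (L → ℂ) → (G → ℂ) := fun ξ => (fun g => σ (F ξ g)) - F (p ξ)
    have hp : ∀ ξ ∈ U, p ξ ∈ U := fun ξ hξ => (hU ξ hξ).2 σ
    have hpinj : ∀ ξ ∈ U, ∀ η ∈ U, p ξ = p η → ξ = η := fun ξ _ η _ e =>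
      funext fun x => σ.injective (congrFun e x)
    have hconst : ∀ ξ ∈ U, ∀ η ∈ U, δ ξ = δ η := by
      intro ξ hξ η hη
      funext g
      have e1 := congrFun (hdiff ξ hξ η hη) g
      have e2 := congrFun (hdiff (p ξ) (hp ξ hξ) (p η) (hp η hη)) g
      have e3 : σ (τ (ξ - η) g) = τ (p ξ - p η) g := by
        by_cases hg : g ∈ Dade.supp A R
        · obtain ⟨a, ha, u, hu, x, hx⟩ := hg
          have key : ∀ f : L → ℂ, IsClassFunction L f → τ f g = f ⟨a, hD.subset ha⟩ := fun f hf =>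
            Dade.dade_apply_of hD hf (a := ⟨a, hD.subset ha⟩) ha hu hx
          rw [key _ (hclass ξ hξ η hη), key _ (hclass _ (hp ξ hξ) _ (hp η hη))]
          simp [p]
        · simp only [hτ, Dade.dade_eq_zero hg, map_zero]
      simp only [δ, Pi.sub_apply] at e1 e2 ⊢
      rw [← e1, map_sub] at e3
      linear_combination e3 - e2
    have hδgen : IsGeneralizedCharacter G (δ ξ₀) := IsGenChar.sub (gen_map (hgen ξ₀ hξ₀) σ) (hgen _ (hp ξ₀ hξ₀))
    obtain ⟨N, hN⟩ := IsGenChar.classInner_int hδgen hδgen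
    have hhalf : ∀ ξ ∈ U, 2 * classInner (F (p ξ)) (δ ξ₀) = -(N : ℂ) := by
      intro ξ hξ
      obtain ⟨z, hz⟩ := IsGenChar.classInner_int (hgen _ (hp ξ hξ)) hδgen
      have e : (fun g => σ (F ξ g)) = F (p ξ) + δ ξ₀ := by
        rw [← hconst ξ hξ ξ₀ hξ₀]; funext g; simp [δ]
      have h1 := inner_map (hgen ξ hξ) σ
      rw [horth ξ hξ ξ hξ, if_pos rfl, map_one, e] at h1
      simp only [classInner_add_left, classInner_add_right, horth _ (hp ξ hξ) _ (hp ξ hξ), if_true, hN] at h1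
      rw [← classInner_conj_symm (F (p ξ)) (δ ξ₀), hz, map_intCast] at h1
      rw [hz]
      linear_combination h1
    set D := ∑ ξ ∈ U, F (p ξ) with hDdef
    have hDδ : 2 * classInner D (δ ξ₀) = -((U.card : ℂ) * N) := by
      rw [hDdef, classInner_sum_left, Finset.mul_sum, Finset.sum_congr rfl hhalf, Finset.sum_const, nsmul_eq_mul]
      ring
    have hDD : classInner D D = (U.card : ℂ) := by
      rw [hDdef, classInner_sum_left, Finset.sum_congr rfl (g := fun _ => (1 : ℂ)) fun ξ hξ => ?_, Finset.sum_const,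
        nsmul_eq_mul, mul_one]
      rw [classInner_sum_right, Finset.sum_congr rfl fun η hη => horth _ (hp ξ hξ) _ (hp η hη),
        Finset.sum_eq_single ξ (fun η hη hne => if_neg fun e => hne (hpinj ξ hξ η hη e).symm)
          (fun hn => absurd hξ hn), if_pos rfl]
    have hDδ' : 2 * classInner (δ ξ₀) D = -((U.card : ℂ) * N) := by
      have h1 := congrArg conj hDδ
      rw [map_mul, classInner_conj_symm, map_neg, map_mul, map_natCast, map_intCast, Complex.conj_ofNat] at h1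
      exact h1
    have hexp : classInner ((2 : ℂ) • δ ξ₀ + (N : ℂ) • D) ((2 : ℂ) • δ ξ₀ + (N : ℂ) • D) =
        ((4 * N - (U.card : ℤ) * N ^ 2 : ℤ) : ℂ) := by
      simp only [classInner_add_left, classInner_add_right, classInner_smul_left, classInner_smul_right,
        Complex.conj_ofNat, map_intCast, hN, hDD]
      push_cast
      linear_combination (N : ℂ) * hDδ + (N : ℂ) * hDδ'
    have h4 := classInner_self_re_nonneg ((2 : ℂ) • δ ξ₀ + (N : ℂ) • D)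
    rw [hexp, Complex.intCast_re, Int.cast_nonneg_iff] at h4
    have h5 := classInner_self_re_nonneg (δ ξ₀)
    rw [hN, Complex.intCast_re, Int.cast_nonneg_iff] at h5
    have hN0 : N = 0 := by
      by_contra hne
      have hk' : (5 : ℤ) ≤ U.card := by exact_mod_cast hk
      nlinarith [mul_le_mul_of_nonneg_right hk' (mul_nonneg h5 h5), (show 1 ≤ N by omega)]
    have hδ0 : δ ξ₀ = 0 := (classInner_self_eq_zero _).1 (by rw [hN, hN0, Int.cast_zero])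
    intro ξ hξ
    have h6 := hconst ξ hξ ξ₀ hξ₀
    rw [hδ0] at h6
    exact sub_eq_zero.1 h6
  haveI : Finite (G × L) := inferInstance
  have hsuppdiff : ∀ a : L, (a : G) ∈ A → ∀ u ∈ R (a : G), ∀ ξ ∈ U,
      F ξ ((a : G) * u) - ξ a = F ξ₀ ((a : G) * u) - ξ₀ a := by
    intro a ha u hu ξ hξ
    have e1 := congrFun (hdiff ξ hξ ξ₀ hξ₀) ((a : G) * u)
    rw [hτ, Dade.dade_apply_coset hD (hclass ξ hξ ξ₀ hξ₀) ha hu, extendByZero_apply] at e1
    simp only [Pi.sub_apply] at e1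
    linear_combination e1
  have hoffdiff : ∀ g ∉ Dade.supp A R, ∀ ξ ∈ U, F ξ g = F ξ₀ g := fun g hg ξ hξ => by
    have e1 := congrFun (hdiff ξ hξ ξ₀ hξ₀) g
    rw [hτ, Dade.dade_eq_zero hg, Pi.sub_apply] at e1
    exact sub_eq_zero.1 e1
  refine ⟨fun a ha u hu => ?_, fun g hg => ?_⟩
  · have hξL : IsGeneralizedCharacter L ξ₀ := IsGenChar.of_isCharacter (IsIrr.isCharacter (hU ξ₀ hξ₀).1)
    set ψ : G × L → ℂ := (fun z => F ξ₀ z.1) - fun z => ξ₀ z.2 with hψ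
    have hψgen : IsGeneralizedCharacter (G × L) ψ :=
      IsGenChar.sub (IsGenChar.comp (MonoidHom.fst G L) (hgen ξ₀ hξ₀)) (IsGenChar.comp (MonoidHom.snd G L) hξL)
    obtain ⟨b, hb⟩ := IsGenChar.exists_int_of_fixed hψgen ((a : G) * u, a) fun k hkc => by
      obtain ⟨σ, hσ⟩ := exists_ringAut_pow _ k (orderOf_pos ((a : G) * u, a)) hkc
      rw [← ringAut_pow hψgen hσ dvd_rfl]
      show σ (F ξ₀ ((a : G) * u) - ξ₀ a) = F ξ₀ ((a : G) * u) - ξ₀ a
      rw [map_sub, show σ (F ξ₀ ((a : G) * u)) = F (fun x => σ (ξ₀ x)) ((a : G) * u) from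
        congrFun (hgal σ ξ₀ hξ₀) _]
      exact hsuppdiff a ha u hu _ ((hU ξ₀ hξ₀).2 σ)
    refine ⟨b, fun ξ hξ => ?_⟩
    have e1 := hsuppdiff a ha u hu ξ hξ
    simp only [hψ, Pi.sub_apply] at hb
    linear_combination e1 + hb
  · obtain ⟨n, hn⟩ := IsGenChar.exists_int_of_fixed (hgen ξ₀ hξ₀) g fun k hkc => by
      obtain ⟨σ, hσ⟩ := exists_ringAut_pow _ k (orderOf_pos g) hkc
      rw [← ringAut_pow (hgen ξ₀ hξ₀) hσ dvd_rfl, show σ (F ξ₀ g) = F (fun x => σ (ξ₀ x)) g from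
        congrFun (hgal σ ξ₀ hξ₀) g]
      exact hoffdiff g hg _ ((hU ξ₀ hξ₀).2 σ)
    exact ⟨n, fun ξ hξ => (hoffdiff g hg ξ hξ).trans hn⟩

/-- The weighted sum of the images. -/
theorem exists_img (hD : DadeHypothesis A L R) (U : Finset (L → ℂ)) (m : (L → ℂ) → ℕ) {e : ℕ} (he : e ≠ 0)
    (hU : ∀ ξ ∈ U, IsIrrCharacter L ξ ∧ ξ 1 = ((m ξ * e : ℕ) : ℂ)) {ξ₀ : L → ℂ} (hξ₀ : ξ₀ ∈ U) (hm0 : m ξ₀ = 1)
    (hk : 5 ≤ (U.filter fun ξ => m ξ = 1).card)
    (hgal : ∀ ξ ∈ U, m ξ = 1 → ∀ σ : ℂ ≃+* ℂ, (fun x => σ (ξ x)) ∈ U)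
    (hoff : ∀ ξ ∈ U, ∀ x : L, (x : G) ∉ A → ξ x = (m ξ : ℂ) * ξ₀ x)
    (hchain : ∀ ξ ∈ U, 1 < m ξ → 2 * m ξ < ∑ η ∈ U.filter (fun η => m η < m ξ), m η ^ 2) :
    ∃ (F Ψ : G → ℂ) (b : G → G → ℤ) (d : G → ℤ), IsGeneralizedCharacter G F ∧ IsClassFunction G Ψ ∧
      classInner Ψ Ψ = ((∑ ξ ∈ U, m ξ ^ 2 : ℕ) : ℂ) ∧
      (∀ a : L, (a : G) ∈ A → ∀ u ∈ R (a : G), F ((a : G) * u) = ξ₀ a + b a u ∧
        Ψ ((a : G) * u) = (∑ ξ ∈ U, (m ξ : ℂ) * ξ a) + ((∑ ξ ∈ U, m ξ ^ 2 : ℕ) : ℂ) * b a u) ∧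
      ∀ g ∉ Dade.supp A R, F g = d g ∧ Ψ g = ((∑ ξ ∈ U, m ξ ^ 2 : ℕ) : ℂ) * d g := by
  classical
  set τ := dadeIsometry A L R with hτ
  have hpos : ∀ ξ ∈ U, 0 < m ξ := fun ξ hξ => Nat.pos_of_ne_zero fun h0 =>
    IsIrr.one_ne_zero (hU ξ hξ).1 (by rw [(hU ξ hξ).2, h0, zero_mul, Nat.cast_zero])
  have heC : (e : ℂ) ≠ 0 := Nat.cast_ne_zero.2 he
  -- the part of the span vanishing at one
  have hspan : ∀ α ∈ zspan (↑U : Set (L → ℂ)), IsGeneralizedCharacter L α ∧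
      ∀ x : L, (x : G) ∉ A → α x * e = α 1 * ξ₀ x := by
    intro α hα
    induction hα using Submodule.span_induction with
    | mem ξ hξ =>
      refine ⟨IsGenChar.of_isCharacter (IsIrr.isCharacter (hU ξ hξ).1), fun x hx => ?_⟩
      rw [(hU ξ hξ).2, hoff ξ hξ x hx, Nat.cast_mul]
      ring
    | zero => exact ⟨IsGenChar.zero, fun x _ => by simp⟩
    | add a b _ _ ha hb =>
      exact ⟨IsGenChar.add ha.1 hb.1, fun x hx => by simp only [Pi.add_apply, add_mul, ha.2 x hx, hb.2 x hx]⟩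
    | smul n a _ ha =>
      refine ⟨by simpa only [Int.cast_smul_eq_zsmul] using IsGenChar.zsmul ha.1 n, fun x hx => ?_⟩
      simp only [Pi.smul_apply, zsmul_eq_mul, mul_assoc, ha.2 x hx]
  have hzs : ∀ α ∈ zspanOn (↑U : Set (L → ℂ)) {1}ᶜ,
      IsClassFunction L α ∧ IsGeneralizedCharacter L α ∧ ∀ x : L, (x : G) ∉ A → α x = 0 := by
    intro α hα
    obtain ⟨h1, h2⟩ := hspan α hα.1
    refine ⟨IsGenChar.classFun h1, h1, fun x hx => ?_⟩
    have h3 := h2 x hx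
    rw [hα.2 1 (by simp), zero_mul, mul_eq_zero] at h3
    exact h3.resolve_right heC
  have hlin : ∀ α β : L → ℂ, IsClassFunction L α → IsClassFunction L β → ∀ c : ℂ, IsClassFunction L (α + c • β) →
      τ (α + c • β) = τ α + c • τ β := by
    intro α β hα hβ c hαβ
    funext g
    by_cases hg : g ∈ Dade.supp A R
    · obtain ⟨a, ha, u, hu, x, hx⟩ := hg
      have key : ∀ f : L → ℂ, IsClassFunction L f → τ f g = f ⟨a, hD.subset ha⟩ := fun f hf =>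
        Dade.dade_apply_of hD hf (a := ⟨a, hD.subset ha⟩) ha hu hx
      simp only [Pi.add_apply, Pi.smul_apply, key _ hα, key _ hβ, key _ hαβ]
    · simp only [hτ, Pi.add_apply, Pi.smul_apply, Dade.dade_eq_zero hg, smul_zero, add_zero]
  have hyp : Coh.Hyp (↑U : Set (L → ℂ)) τ := by
    refine ⟨fun ξ hξ => (hU ξ hξ).1, ⟨fun α hα β hβ => ?_, fun α hα n => ?_, fun α hα β hβ => ?_, fun α hα => ?_⟩,
      fun α _ => Dade.dade_eq_zero (one_not_supp hD)⟩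
    · have h1 := hlin α β (hzs α hα).1 (hzs β hβ).1 1
        (by simpa only [one_smul] using IsGenChar.classFun (IsGenChar.add (hzs α hα).2.1 (hzs β hβ).2.1))
      simpa only [one_smul] using h1
    · have h1 := hlin (0 : L → ℂ) α (IsGenChar.classFun IsGenChar.zero) (hzs α hα).1 (n : ℂ)
        (by simpa only [zero_add, Int.cast_smul_eq_zsmul] using
          IsGenChar.classFun (IsGenChar.zsmul (hzs α hα).2.1 n))
      have h0 : τ (0 : L → ℂ) = 0 := by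
        have h2 := hlin (0 : L → ℂ) 0 (IsGenChar.classFun IsGenChar.zero) (IsGenChar.classFun IsGenChar.zero) 1
          (by simpa using IsGenChar.classFun (IsGenChar.zero (G := L)))
        simpa using h2
      simpa only [zero_add, h0, Int.cast_smul_eq_zsmul] using h1
    · exact (Cfsg.Agent.S1500.result A L R hD α (hzs α hα).1 (hzs α hα).2.2).1 β (hzs β hβ).1 (hzs β hβ).2.2
    · exact Dade.isGenChar_dade hD (hzs α hα).2.1 (hzs α hα).2.2
  -- coherence, degree by degree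
  set U₁ := U.filter fun ξ => m ξ = 1 with hU₁
  have hsub : ∀ n : ℕ, (↑(U.filter fun ξ => m ξ ≤ n) : Set (L → ℂ)) ⊆ ↑U := fun n => Finset.filter_subset _ _
  have hcoh : ∀ n : ℕ, IsCoherent (↑(U.filter fun ξ => m ξ ≤ n + 1) : Set (L → ℂ)) {1}ᶜ τ := by
    intro n
    induction n with
    | zero =>
      have e1 : (U.filter fun ξ => m ξ ≤ 0 + 1) = U₁ := Finset.filter_congr fun ξ hξ => by
        have := hpos ξ hξ; omega
      rw [e1]
      refine Coh.equal_degree_irr U₁ (hyp.mono (Finset.filter_subset _ _)) (d := e) (fun ξ hξ => ?_)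
        (Finset.one_lt_card.1 (by omega))
      obtain ⟨h1, h2⟩ := Finset.mem_filter.1 hξ
      rw [(hU ξ h1).2, h2, one_mul]
    | succ n ih =>
      set V := U.filter fun ξ => m ξ ≤ n + 1 with hV
      set W := U.filter fun ξ => m ξ = n + 2 with hW
      have e1 : (U.filter fun ξ => m ξ ≤ n + 1 + 1) = V ∪ W := by
        rw [hV, hW, ← Finset.filter_or]
        exact Finset.filter_congr fun ξ _ => by omega
      rw [e1, Finset.coe_union]
      refine Coh.extend_many V (fun ξ => m ξ * e) (ψ := ξ₀) (Finset.mem_filter.2 ⟨hξ₀, by omega⟩) ih W ?_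
        (hyp.mono (Set.union_subset (Finset.filter_subset _ _) (Finset.filter_subset _ _)))
        (fun ξ hξ => (hU ξ (Finset.mem_filter.1 hξ).1).2) (fun ξ hξ => (hU ξ (Finset.mem_filter.1 hξ).1).2)
        fun χ hχ => ?_
      · exact Finset.disjoint_filter.2 fun ξ _ h1 h2 => by omega
      obtain ⟨hχU, hχm⟩ := Finset.mem_filter.1 hχ
      have h1 := hchain χ hχU (by omega)
      have e2 : (U.filter fun η => m η < m χ) = V := Finset.filter_congr fun ξ _ => by omega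
      rw [e2] at h1
      refine ⟨⟨m χ, by rw [hm0, one_mul, mul_comm]⟩, ?_⟩
      rw [hm0, one_mul, Finset.sum_congr rfl fun ξ _ => mul_pow (m ξ) e 2, ← Finset.sum_mul]
      calc 2 * e * (m χ * e) = 2 * m χ * e ^ 2 := by ring
        _ < _ := Nat.mul_lt_mul_of_pos_right h1 (Nat.pos_of_ne_zero (pow_ne_zero 2 he))
  have hall : (U.filter fun ξ => m ξ ≤ U.sup m + 1) = U :=
    Finset.filter_true_of_mem fun ξ hξ => (Finset.le_sup hξ).trans (Nat.le_succ _)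
  obtain ⟨-, T, hT, hTτ⟩ := hall ▸ hcoh (U.sup m)
  have hsp : ∀ ξ ∈ U, ξ ∈ zspan (↑U : Set (L → ℂ)) := fun ξ hξ => Submodule.subset_span hξ
  have horth : ∀ ξ ∈ U, ∀ η ∈ U, classInner (T ξ) (T η) = if ξ = η then 1 else 0 := fun ξ hξ η hη => by
    rw [hT.2.2.1 ξ (hsp ξ hξ) η (hsp η hη), classInner_irr_eq_ite (hU ξ hξ).1 (hU η hη).1]
  have hgen : ∀ ξ ∈ U, IsGeneralizedCharacter G (T ξ) := fun ξ hξ => hT.2.2.2 ξ (hsp ξ hξ)
  have hlink : ∀ ξ ∈ U, ∀ η ∈ U, ∀ i j : ℕ, i * m ξ = j * m η →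
      (i : ℂ) • T ξ - (j : ℂ) • T η = τ ((i : ℂ) • ξ - (j : ℂ) • η) := by
    intro ξ hξ η hη i j hij
    have ci : ∀ (n : ℕ) (f : L → ℂ), (n : ℂ) • f = (n : ℤ) • f := fun n f => by
      rw [← Int.cast_smul_eq_zsmul ℂ, Int.cast_natCast]
    have ci' : ∀ (n : ℕ) (f : G → ℂ), (n : ℂ) • f = (n : ℤ) • f := fun n f => by
      rw [← Int.cast_smul_eq_zsmul ℂ, Int.cast_natCast]
    have hm : (i : ℤ) • ξ + (-(j : ℤ)) • η ∈ zspanOn (↑U : Set (L → ℂ)) {1}ᶜ :=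
      ⟨Submodule.add_mem _ (Submodule.smul_mem _ _ (hsp ξ hξ)) (Submodule.smul_mem _ _ (hsp η hη)), fun x hx => by
        rw [Set.notMem_compl_iff, Set.mem_singleton_iff] at hx
        subst hx
        simp only [Pi.add_apply, Pi.smul_apply, ← Int.cast_smul_eq_zsmul ℂ, smul_eq_mul, (hU ξ hξ).2, (hU η hη).2]
        have : ((i * m ξ : ℕ) : ℂ) = ((j * m η : ℕ) : ℂ) := by rw [hij]
        push_cast at this ⊢
        linear_combination (e : ℂ) * this⟩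
    rw [ci', ci', ci, ci, sub_eq_add_neg, sub_eq_add_neg ((i : ℤ) • ξ), ← neg_smul, ← neg_smul, ← hTτ _ hm,
      hT.1 _ (Submodule.smul_mem _ _ (hsp ξ hξ)) _ (Submodule.smul_mem _ _ (hsp η hη)),
      hT.2.1 ξ (hsp ξ hξ), hT.2.1 η (hsp η hη)]
  have hU₁m : ∀ ξ ∈ U₁, ξ ∈ U ∧ m ξ = 1 := fun ξ hξ => Finset.mem_filter.1 hξ
  obtain ⟨hb, hd⟩ := int_values hD U₁ hk (Finset.mem_filter.2 ⟨hξ₀, hm0⟩)
    (fun ξ hξ => ⟨(hU ξ (hU₁m ξ hξ).1).1, fun σ => by
      obtain ⟨hξU, hξ1⟩ := hU₁m ξ hξ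
      refine Finset.mem_filter.2 ⟨hgal ξ hξU hξ1 σ, ?_⟩
      have h1 := (hU _ (hgal ξ hξU hξ1 σ)).2
      rw [(hU ξ hξU).2, map_natCast, Nat.cast_inj, hξ1] at h1
      exact (Nat.eq_of_mul_eq_mul_right (Nat.pos_of_ne_zero he) h1).symm⟩)
    (fun ξ hξ => hgen ξ (hU₁m ξ hξ).1) (fun ξ hξ η hη => horth ξ (hU₁m ξ hξ).1 η (hU₁m η hη).1)
    (fun ξ hξ η hη => by
      have h1 := hlink ξ (hU₁m ξ hξ).1 η (hU₁m η hη).1 1 1 (by rw [(hU₁m ξ hξ).2, (hU₁m η hη).2])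
      simpa only [Nat.cast_one, one_smul] using h1)
  have hbx : ∀ a u : G, ∃ b : ℤ, ∀ ha : a ∈ A, u ∈ R a → T ξ₀ (a * u) = ξ₀ ⟨a, hD.subset ha⟩ + b := by
    intro a u
    by_cases h : a ∈ A ∧ u ∈ R a
    · obtain ⟨b, hb⟩ := hb ⟨a, hD.subset h.1⟩ h.1 u h.2
      exact ⟨b, fun _ _ => hb ξ₀ (Finset.mem_filter.2 ⟨hξ₀, hm0⟩)⟩
    · exact ⟨0, fun ha hu => absurd ⟨ha, hu⟩ h⟩
  choose b hb' using hbx
  have hdx : ∀ g : G, ∃ n : ℤ, g ∉ Dade.supp A R → T ξ₀ g = n := by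
    intro g
    by_cases h : g ∈ Dade.supp A R
    · exact ⟨0, fun h' => absurd h h'⟩
    · obtain ⟨n, hn⟩ := hd g h
      exact ⟨n, fun _ => hn ξ₀ (Finset.mem_filter.2 ⟨hξ₀, hm0⟩)⟩
  choose d hd' using hdx
  have hval : ∀ ξ ∈ U, ∀ g, T ξ g = (m ξ : ℂ) * T ξ₀ g + τ ((1 : ℕ) • ξ - (m ξ : ℂ) • ξ₀) g := by
    intro ξ hξ g
    have h1 := congrFun (hlink ξ hξ ξ₀ hξ₀ 1 (m ξ) (by rw [one_mul, hm0, mul_one])) g
    simp only [Nat.cast_one, one_smul, Pi.sub_apply, Pi.smul_apply, smul_eq_mul] at h1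
    simp only [one_smul, ← h1]
    ring
  have hcl : ∀ ξ ∈ U, IsClassFunction L ((1 : ℕ) • ξ - (m ξ : ℂ) • ξ₀) := fun ξ hξ x y => by
    simp only [one_smul, Pi.sub_apply, Pi.smul_apply, IsIrr.classFun (hU ξ hξ).1 x y,
      IsIrr.classFun (hU ξ₀ hξ₀).1 x y]
  refine ⟨T ξ₀, ∑ ξ ∈ U, (m ξ : ℂ) • T ξ, b, d, hgen ξ₀ hξ₀, fun g x => ?_, ?_, fun a ha u hu => ?_,
    fun g hg => ?_⟩
  · simp only [Finset.sum_apply, Pi.smul_apply]
    exact Finset.sum_congr rfl fun ξ hξ => by rw [IsGenChar.classFun (hgen ξ hξ) g x]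
  · rw [classInner_sum_left, Nat.cast_sum]
    refine Finset.sum_congr rfl fun ξ hξ => ?_
    rw [classInner_smul_left, classInner_sum_right, Finset.sum_congr rfl fun η hη => by
      rw [classInner_smul_right, horth ξ hξ η hη, map_natCast, mul_ite, mul_one, mul_zero],
      Finset.sum_ite_eq U ξ, if_pos hξ, Nat.cast_pow, sq]
  · have h0 : T ξ₀ ((a : G) * u) = ξ₀ a + b a u := hb' a u ha hu
    refine ⟨h0, ?_⟩
    simp only [Finset.sum_apply, Pi.smul_apply, smul_eq_mul]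
    rw [Nat.cast_sum, Finset.sum_mul, ← Finset.sum_add_distrib]
    refine Finset.sum_congr rfl fun ξ hξ => ?_
    rw [hval ξ hξ, h0, hτ, Dade.dade_apply_coset hD (hcl ξ hξ) ha hu, extendByZero_apply]
    simp only [one_smul, Pi.sub_apply, Pi.smul_apply, smul_eq_mul, Nat.cast_pow]
    ring
  · refine ⟨hd' g hg, ?_⟩
    simp only [Finset.sum_apply, Pi.smul_apply, smul_eq_mul]
    rw [Nat.cast_sum, Finset.sum_mul]
    refine Finset.sum_congr rfl fun ξ hξ => ?_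
    rw [hval ξ hξ, hd' g hg, hτ, Dade.dade_eq_zero hg, add_zero, Nat.cast_pow]
    ring

end Cfsg.Agent.Transfer.Loc.TypeI
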