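import Cfsg.Agent.Lib.Transfer.Local.TypeIAvg
import Cfsg.Agent.Lib.Transfer.Local.TypeIImages
import Cfsg.Agent.Lib.Char.TypeSupport
import Cfsg.Agent.Lib.Transfer.Local.SigmaPartition
import Cfsg.Agent.S1494
import Cfsg.Agent.S1495

/-!
An element `v` of prime order `r ∈ τ₂(M)` fixing part of `M_σ`, inside `H_σ` for a maximal subgroup `H`: the supports
of `H` and of `M_σ ∖ 1` do not meet, and the inequality this gives for characters of `H`.
-/

set_option autoImplicit false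
set_option linter.style.haveILetI false
set_option linter.unusedSectionVars false
set_option maxHeartbeats 2000000

namespace Cfsg.Agent.Transfer.Loc.TypeI

open Subgroup
open scoped ComplexConjugate Pointwise

universe u

variable {G : Type u} [Group G] [Finite G]

/-- The elements fixed by `v` in `M_σ`. -/
abbrev Fix (M : Subgroup G) (v : G) : Subgroup G := Cfsg.sigmaCore M ⊓ centralizer ({v} : Set G)

/-- The configuration. -/
structure Conf (M H E N : Subgroup G) (r : ℕ) (v : G) : Prop where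
  hG : Cfsg.IsMinSimpleOddOrder G
  hM : IsCoatom M
  hτ : r ∈ Cfsg.tau2 M
  hfit : Cfsg.fittingHallOf M = Cfsg.sigmaCore M
  hE : Cfsg.IsComplIn E (Cfsg.sigmaCore M) M
  hvE : v ∈ E
  hvo : orderOf v = r
  hCv : centralizer ({v} : Set G) ≤ M
  uniq : ∀ L : Subgroup G, IsCoatom L → centralizer ({v} : Set G) ≤ L → L = M
  hH : IsCoatom H
  hMH : ∀ g : G, H ≠ MulAut.conj g • M
  hrH : r ∈ Cfsg.sigma H
  meet : M ⊓ H = E
  hvX : v ∈ Cfsg.sigmaCore H
  hnot : ¬ centralizer ({v} : Set G) ≤ H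
  hNS : N ≤ Cfsg.sigmaCore M
  hSN : Cfsg.sigmaCore M ≤ normalizer (N : Set G)
  hvN : v ∈ normalizer (N : Set G)
  hsplit : ∀ x ∈ Cfsg.sigmaCore M, ∃ n ∈ N, ∃ y ∈ Fix M v, n * y = x
  hidx : 2 * r + 1 ≤ N.relIndex (Cfsg.sigmaCore M)

/-- The data: a generalised character and a weighted sum of images. -/
structure Data (H : Subgroup G) [Fintype G] [Fintype H] (A' : Set G) (F Ψ : G → ℂ) (ξ σ : H → ℂ) (e W : ℕ)
    (b : G → G → ℤ) (d : G → ℤ) : Prop where
  gen : Cfsg.IsGeneralizedCharacter G F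
  classFun : Cfsg.IsClassFunction G Ψ
  norm : Cfsg.classInner Ψ Ψ = (W : ℂ)
  genξ : Cfsg.IsGeneralizedCharacter H ξ
  degξ : ξ 1 = (e : ℂ)
  val : ∀ a : H, (a : G) ∈ A' → ∀ u ∈ Cfsg.supportR H (a : G),
    F ((a : G) * u) = ξ a + b a u ∧ Ψ ((a : G) * u) = σ a + (W : ℂ) * b a u
  off : ∀ g ∉ Char.Dade.supp A' (Cfsg.supportR H), F g = d g ∧ Ψ g = (W : ℂ) * d g

/-- `‖∑ z‖² ≤ k ∑ ‖z‖²`. -/
theorem sq_norm_sum_le {ι : Type*} (s : Finset ι) (z : ι → ℂ) :
    ‖∑ i ∈ s, z i‖ ^ 2 ≤ (s.card : ℝ) * ∑ i ∈ s, ‖z i‖ ^ 2 :=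
  (pow_le_pow_left₀ (norm_nonneg _) (norm_sum_le _ _) 2).trans (sq_sum_le_card_mul_sum_sq)

variable {M H E N : Subgroup G} {r : ℕ} [hr : Fact r.Prime] {v : G} (h : Conf M H E N r v)
include h

theorem Conf.not_dvd_core : ¬ r ∣ Nat.card (Cfsg.sigmaCore M) := fun hd =>
  h.hτ.2.1 (TransHyp.piCoreOf_primes (π := Cfsg.sigma M) (X := M) hr.out hd)

theorem Conf.v_ne : v ≠ 1 := fun e => hr.out.ne_one (by rw [← h.hvo, e, orderOf_one])

theorem Conf.v_mem : v ∈ M := h.hE.1 h.hvE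

theorem Conf.core_dade : Cfsg.DadeHypothesis {x : G | x ∈ Cfsg.sigmaCore M ∧ x ≠ 1} M (Cfsg.supportR M) := by
  obtain ⟨K, U, hKU⟩ := exists_decomp_of_max h.hG h.hM
  refine Char.TypeSet.dade h.hG h.hM hKU (fun a ha => Char.TypeSet.mem_sigmaA0_of_core h.hG h.hM hKU ha.1 ha.2)
    (fun h1 => h1.2 rfl) fun m hm a ha =>
      ⟨Grp.mem_conj_normalizer (TransHyp.le_normalizer_piCoreOf M hm) ha.1, fun e => ha.2 (conj_eq_one_iff.1 e)⟩

/-- The cosets over `M_σ ∖ 1` have orders prime to `σ(H)`. -/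
theorem Conf.primes_coset {x u : G} (hx : x ∈ Cfsg.sigmaCore M) (hx1 : x ≠ 1) (hu : u ∈ Cfsg.supportR M x)
    {p : ℕ} [hp : Fact p.Prime] (hd : p ∣ orderOf (x * u)) : p ∉ Cfsg.sigma H := by
  intro hpH
  have hnot : p ∉ Cfsg.sigma M := fun hpM => by
    obtain ⟨g, hg⟩ := sigma_conj_of_common h.hG h.hM h.hH hpM hpH
    exact h.hMH g hg
  obtain ⟨K, U, hKU⟩ := exists_decomp_of_max h.hG h.hM
  have hcom : Commute x u :=
    (mem_centralizer_singleton_iff.1 (h.core_dade.le_centralizer x ⟨hx, hx1⟩ hu)).symm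
  rcases (hp.out.dvd_mul.1 (hd.trans hcom.orderOf_mul_dvd_mul_orderOf)) with h1 | h1
  · exact hnot (TransHyp.piCoreOf_primes (π := Cfsg.sigma M) (X := M) hp.out
      (h1.trans (Subgroup.orderOf_dvd_natCard _ hx)))
  rcases Char.TypeSet.supportR_cases h.hG h.hM hKU
      (Char.TypeSet.mem_sigmaA0_of_core h.hG h.hM hKU hx hx1) hx1 with ⟨-, e⟩ | ⟨-, hC, L, hL, e⟩
  · rw [e, mem_bot] at hu
    rw [hu, orderOf_one, Nat.dvd_one] at h1
    exact hp.out.ne_one h1
  rw [e] at hu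
  have hpL : p ∈ Cfsg.sigma L := TransHyp.piCoreOf_primes (π := Cfsg.sigma L) (X := L) hp.out
    (h1.trans (Subgroup.orderOf_dvd_natCard _ hu.1))
  obtain ⟨g, hg⟩ := sigma_conj_of_common h.hG hL.hN h.hH hpL hpH
  have hrL : r ∈ Cfsg.sigma L := (sigma_smul_iff h.hG hL.hN g).1 (hg ▸ h.hrH)
  have hrM : r ∣ Nat.card M := h.hvo ▸ Subgroup.orderOf_dvd_natCard _ h.v_mem
  exact ((support_primes h.hG h.hM hx hx1 hC hL.hN hL.le hrL hrM).2 ▸ h.hτ :)

variable {O : Subgroup G} (hHO : H ≤ normalizer (O : Set G))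
include hHO

theorem Conf.dade :
    Cfsg.DadeHypothesis {a : G | a ∈ Cfsg.sigmaCore H ∧ a ∉ O} H (Cfsg.supportR H) := by
  obtain ⟨K, U, hKU⟩ := exists_decomp_of_max h.hG h.hH
  refine Char.TypeSet.dade h.hG h.hH hKU
    (fun a ha => Char.TypeSet.mem_sigmaA0_of_core h.hG h.hH hKU ha.1 fun e => ha.2 (e ▸ O.one_mem))
    (fun h1 => h1.2 O.one_mem) fun m hm a ha =>
      ⟨Grp.mem_conj_normalizer (TransHyp.le_normalizer_piCoreOf H hm) ha.1, fun ho => ha.2 ?_⟩
  have := Grp.mem_conj_normalizer' (hHO hm) ho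
  rwa [show m⁻¹ * (m * a * m⁻¹) * m = a by group] at this

/-- The supports do not meet. -/
theorem Conf.cross [Fintype G] {x u : G} (hx : x ∈ Cfsg.sigmaCore M) (hx1 : x ≠ 1)
    (hu : u ∈ Cfsg.supportR M x) :
    x * u ∉ Char.Dade.supp {a : G | a ∈ Cfsg.sigmaCore H ∧ a ∉ O} (Cfsg.supportR H) := by
  rintro ⟨a, ha, w, hw, g, hg⟩
  have hD := h.dade hHO
  have hcom : Commute a w := (mem_centralizer_singleton_iff.1 (hD.le_centralizer a ha hw)).symm
  have hcop : (orderOf a).Coprime (orderOf w) :=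
    (((hD.coprime a ha a ha).coprime_dvd_right (Subgroup.orderOf_dvd_natCard _
      (show a ∈ H ⊓ centralizer ({a} : Set G) from ⟨hD.subset ha, mem_centralizer_singleton_iff.2 rfl⟩))
      ).coprime_dvd_left (Subgroup.orderOf_dvd_natCard _ hw)).symm
  have hdvd : orderOf a ∣ orderOf (x * u) := by
    have h1 : orderOf (a * w) = orderOf (x * u) := by rw [← hg, Char.Dade.orderOf_conj]
    rw [← h1, hcom.orderOf_mul_eq_mul_orderOf_of_coprime hcop]
    exact Dvd.intro _ rfl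
  obtain ⟨p, hp, hpd⟩ := Nat.exists_prime_and_dvd (n := orderOf a) fun e =>
    ha.2 (by rw [orderOf_eq_one_iff.1 e]; exact O.one_mem)
  haveI := Fact.mk hp
  exact h.primes_coset hx hx1 hu (hpd.trans hdvd) (TransHyp.piCoreOf_primes (π := Cfsg.sigma H) (X := H) hp
    (hpd.trans (Subgroup.orderOf_dvd_natCard _ ha.1)))

/-- An element of order `r` of `O` is off the support. -/
theorem Conf.off_O [Fintype G] {z : G} (hzX : z ∈ Cfsg.sigmaCore H) (hzO : z ∈ O) (hzo : orderOf z = r) :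
    z ∉ Char.Dade.supp {a : G | a ∈ Cfsg.sigmaCore H ∧ a ∉ O} (Cfsg.supportR H) := by
  rintro ⟨a, ha, w, hw, g, hg⟩
  have hD := h.dade hHO
  have hcom : Commute a w := (mem_centralizer_singleton_iff.1 (hD.le_centralizer a ha hw)).symm
  have hcop : (orderOf a).Coprime (orderOf w) :=
    (((hD.coprime a ha a ha).coprime_dvd_right (Subgroup.orderOf_dvd_natCard _
      (show a ∈ H ⊓ centralizer ({a} : Set G) from ⟨hD.subset ha, mem_centralizer_singleton_iff.2 rfl⟩))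
      ).coprime_dvd_left (Subgroup.orderOf_dvd_natCard _ hw)).symm
  have hmul : orderOf a * orderOf w = r := by
    rw [← hcom.orderOf_mul_eq_mul_orderOf_of_coprime hcop, ← hg, Char.Dade.orderOf_conj, hzo]
  have ha1 : orderOf a ≠ 1 := fun e => ha.2 (by rw [orderOf_eq_one_iff.1 e]; exact O.one_mem)
  have hw1 : w = 1 := orderOf_eq_one_iff.1 (by
    rcases hr.out.eq_one_or_self_of_dvd _ (Dvd.intro _ hmul) with e | e
    · exact absurd e ha1
    · rw [e] at hmul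
      exact mul_right_eq_self₀.1 hmul |>.resolve_right hr.out.ne_zero)
  rw [hw1, mul_one] at hg
  obtain ⟨K, U, hKU⟩ := exists_decomp_of_max h.hG h.hH
  have hz1 : z ≠ 1 := fun e => hr.out.ne_one (by rw [← hzo, e, orderOf_one])
  have haX : a ∈ Cfsg.sigmaCore H := ha.1
  obtain ⟨m, hm, e⟩ := Char.TypeSet.fusion h.hG h.hH hKU
    (Char.TypeSet.mem_sigmaA0_of_core h.hG h.hH hKU hzX hz1) hz1
    (g := g) (by rw [hg]; exact Char.TypeSet.mem_sigmaA0_of_core h.hG h.hH hKU haX fun e => ha.2 (e ▸ O.one_mem))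
  exact ha.2 (hg ▸ e ▸ Grp.mem_conj_normalizer (hHO hm) hzO)

omit hHO in
/-- The signalizer of a power of `v`. -/
theorem Conf.supportR_pow {t : G} (ht : t ∈ zpowers v) (ht1 : t ≠ 1) :
    centralizer ({t} : Set G) = centralizer ({v} : Set G) ∧ Cfsg.supportR H t = Fix M v := by
  have hgen : zpowers t = zpowers v := by
    refine Subgroup.eq_of_le_of_card_ge (zpowers_le.2 ht) ?_
    rw [Nat.card_zpowers, Nat.card_zpowers, h.hvo]
    refine le_of_eq (orderOf_eq_prime ?_ ht1).symm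
    rw [← orderOf_dvd_iff_pow_eq_one, ← h.hvo]
    exact orderOf_dvd_of_mem_zpowers ht
  have hC : centralizer ({t} : Set G) = centralizer ({v} : Set G) := by
    rw [← centralizer_zpowers_eq, hgen, centralizer_zpowers_eq]
  refine ⟨hC, ?_⟩
  have hex : ¬ centralizer ({t} : Set G) ≤ H ∧
      ∃! L : Subgroup G, IsCoatom L ∧ centralizer ({t} : Set G) ≤ L := by
    rw [hC]
    exact ⟨h.hnot, M, ⟨h.hM, h.hCv⟩, fun L hL => h.uniq L hL.1 hL.2⟩
  unfold Cfsg.supportR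
  rw [dif_pos hex]
  have h1 := Classical.choose_spec hex.2.exists
  rw [h.uniq _ h1.1 (by rw [← hC]; exact h1.2), h.hfit, hC]

omit hHO in
theorem Conf.fix_le_M : Fix M v ≤ M := inf_le_left.trans (TransHyp.piCoreOf_le M)

omit hHO in
theorem Conf.mem_of_normalizes {g : G} (hg : g ∈ normalizer (zpowers v : Set G)) : g ∈ M := by
  obtain ⟨i, hi⟩ := exists_nat_pow_conj hg
  refine mem_of_conj_smul_eq h.hG h.hM (h.uniq _ (isCoatom_conj h.hG h.hM g) fun x hx => ?_)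
  refine ⟨g⁻¹ * x * g, h.hCv (mem_centralizer_singleton_iff.2 ?_), by
    show MulAut.conj g (g⁻¹ * x * g) = x
    simp [MulAut.conj_apply]; group⟩
  have hx' : Commute x (g * v * g⁻¹) :=
    hi ▸ (show Commute x v from mem_centralizer_singleton_iff.1 hx).pow_right i
  calc g⁻¹ * x * g * v = g⁻¹ * (x * (g * v * g⁻¹)) * g := by group
    _ = g⁻¹ * ((g * v * g⁻¹) * x) * g := by rw [hx'.eq]
    _ = v * (g⁻¹ * x * g) := by group

end Cfsg.Agent.Transfer.Loc.TypeI
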