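import Cfsg.Agent.Lib.Transfer.Local.TypeIMaster

/-!
Numerical consequences of the inequality at an element of `H_σ` with signalizer in `M_σ`.
-/

set_option autoImplicit false
set_option linter.style.haveILetI false
set_option linter.unusedSectionVars false
set_option maxHeartbeats 2000000

namespace Cfsg.Agent.Transfer.Loc.TypeI

open Subgroup
open scoped ComplexConjugate Pointwise

attribute [local instance] Classical.propDecidable

universe u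

/-- An integer congruent to `m - e` is large when `m` is small. -/
theorem abs_congr {r e : ℕ} (hre : 2 * e + 1 ≤ r) {m B : ℤ} (hm : |m| ≤ e) (hd : (r : ℤ) ∣ m - B - e) :
    (e : ℤ) - |m| ≤ |B| := by
  obtain ⟨j, hj⟩ := hd
  have hre' : 2 * (e : ℤ) + 1 ≤ r := by exact_mod_cast hre
  rcases le_or_gt j (-1) with h | h
  · have : (r : ℤ) * j ≤ -r := by nlinarith
    have := le_abs_self B
    have := neg_abs_le m
    have := abs_nonneg m
    linarith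
  · rcases eq_or_ne j 0 with rfl | hne
    · have := neg_abs_le B
      have := le_abs_self m
      linarith
    · have : (r : ℤ) ≤ r * j := le_mul_of_one_le_right (Int.natCast_nonneg r) (by omega)
      have := neg_abs_le B
      have := le_abs_self m
      linarith

/-- The bracket. -/
theorem bracket {r e : ℕ} (hre : 2 * e + 1 ≤ r) {ι : Type*} (T : Finset ι) (hT : T.card + 1 = r) {m : ℤ} {B : ι → ℤ}
    (hd : ∀ t ∈ T, (r : ℤ) ∣ m - B t - e) {c k : ℝ} (hc : 0 ≤ c) (hk : k * (1 + 2 * c * e) ≤ 2 * c * e)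
    (hk1 : k ≤ 1) : k * (e : ℝ) ^ 2 ≤ (m : ℝ) ^ 2 + c * ∑ t ∈ T, (B t : ℝ) ^ 2 := by
  rcases le_or_gt (e : ℤ) |m| with h | h
  · have h1 : ((e : ℤ) : ℝ) ≤ |(m : ℝ)| := by rw [← Int.cast_abs]; exact_mod_cast h
    have h2 : (e : ℝ) ^ 2 ≤ (m : ℝ) ^ 2 := by
      rw [← sq_abs (m : ℝ)]; exact pow_le_pow_left₀ (Nat.cast_nonneg e) (by exact_mod_cast h1) 2
    have := mul_le_mul_of_nonneg_right hk1 (sq_nonneg (e : ℝ))
    have : 0 ≤ c * ∑ t ∈ T, (B t : ℝ) ^ 2 := mul_nonneg hc (Finset.sum_nonneg fun t _ => sq_nonneg _)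
    linarith
  have hx : ∀ t ∈ T, ((e : ℝ) - |(m : ℝ)|) ^ 2 ≤ (B t : ℝ) ^ 2 := fun t ht => by
    have h1 := abs_congr hre h.le (hd t ht)
    rw [← sq_abs (B t : ℝ)]
    refine pow_le_pow_left₀ ?_ ?_ 2
    · rw [← Int.cast_abs, sub_nonneg]; exact_mod_cast h.le
    · rw [← Int.cast_abs, ← Int.cast_abs]; exact_mod_cast h1
  have hcard : 2 * (e : ℝ) ≤ T.card := by exact_mod_cast (by omega : 2 * e ≤ T.card)
  have hsum : 2 * (e : ℝ) * ((e : ℝ) - |(m : ℝ)|) ^ 2 ≤ ∑ t ∈ T, (B t : ℝ) ^ 2 := by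
    refine le_trans (mul_le_mul_of_nonneg_right hcard (sq_nonneg _)) ?_
    rw [← nsmul_eq_mul]
    exact Finset.card_nsmul_le_sum T _ _ hx
  have h0 : 0 ≤ 2 * c * e := by positivity
  have key := sq_nonneg ((1 + 2 * c * e) * |(m : ℝ)| - 2 * c * e * e)
  rw [← sq_abs (m : ℝ)]
  nlinarith [mul_le_mul_of_nonneg_left hsum hc, mul_le_mul_of_nonneg_right hk (sq_nonneg (e : ℝ))]

/-- The bracket for `2 e ≤ r + 1`. -/
theorem bracket_small {r e : ℕ} (he : 3 ≤ e) (hre : 2 * e ≤ r + 1) {ι : Type*} (T : Finset ι) (hT : T.card + 1 = r)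
    {m : ℤ} {B : ι → ℤ} (hd : ∀ t ∈ T, (r : ℤ) ∣ m - B t - e) {c : ℝ} (hc : 3 / 4 ≤ c) :
    (e : ℝ) + 1 / 2 ≤ (m : ℝ) ^ 2 + c * ∑ t ∈ T, (B t : ℝ) ^ 2 := by
  have hre' : 2 * (e : ℤ) ≤ r + 1 := by exact_mod_cast hre
  have heR : (3 : ℝ) ≤ e := by exact_mod_cast he
  have hs : 0 ≤ ∑ t ∈ T, (B t : ℝ) ^ 2 := Finset.sum_nonneg fun t _ => sq_nonneg _
  by_cases h0 : ∃ t ∈ T, B t = 0
  · obtain ⟨t, ht, hb⟩ := h0
    obtain ⟨j, hj⟩ := hd t ht
    rw [hb, sub_zero] at hj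
    have hm : (e : ℤ) - 1 ≤ |m| := by
      rcases le_or_gt j (-1) with h | h
      · have : (r : ℤ) * j ≤ -r := by nlinarith
        have := neg_abs_le m
        linarith
      · have : 0 ≤ (r : ℤ) * j := mul_nonneg (by positivity) (by omega)
        have := le_abs_self m
        linarith
    have hm' : (e : ℝ) - 1 ≤ |(m : ℝ)| := by rw [← Int.cast_abs]; exact_mod_cast hm
    have := pow_le_pow_left₀ (by linarith : (0 : ℝ) ≤ (e : ℝ) - 1) hm' 2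
    rw [sq_abs] at this
    nlinarith [mul_nonneg (le_trans (by norm_num) hc) hs]
  push Not at h0
  have h1 : ∀ t ∈ T, (1 : ℝ) ≤ (B t : ℝ) ^ 2 := fun t ht => by
    have h2 : (1 : ℤ) ≤ B t ^ 2 := by nlinarith [Int.one_le_abs (h0 t ht), sq_abs (B t)]
    exact_mod_cast h2
  have hcard : 2 * (e : ℝ) - 2 ≤ T.card := by
    have : ((2 * e : ℕ) : ℝ) ≤ ((T.card + 2 : ℕ) : ℝ) := by exact_mod_cast (by omega : 2 * e ≤ T.card + 2)
    push_cast at this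
    linarith
  by_cases hm : m = 0
  · subst hm
    have h2 : ∀ t ∈ T, (4 : ℝ) ≤ (B t : ℝ) ^ 2 := fun t ht => by
      have h3 : (2 : ℤ) ≤ |B t| := by
        by_contra hlt
        obtain ⟨j, hj⟩ := hd t ht
        have h4 : |B t| = 1 := le_antisymm (by omega) (Int.one_le_abs (h0 t ht))
        have he' : (3 : ℤ) ≤ e := by exact_mod_cast he
        have hlo : (r : ℤ) * j < 0 := by rcases abs_eq (zero_le_one' ℤ) |>.1 h4 with e' | e' <;> omega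
        have hj0 : j < 0 := by nlinarith
        have : (r : ℤ) * j ≤ -r := by nlinarith
        rcases abs_eq (zero_le_one' ℤ) |>.1 h4 with e' | e' <;> omega
      have h5 : (4 : ℤ) ≤ B t ^ 2 := by nlinarith [sq_abs (B t)]
      exact_mod_cast h5
    have := Finset.card_nsmul_le_sum T _ _ h2
    rw [nsmul_eq_mul] at this
    push_cast
    nlinarith
  · have h3 : (1 : ℝ) ≤ (m : ℝ) ^ 2 := by
      have h4 : (1 : ℤ) ≤ m ^ 2 := by nlinarith [Int.one_le_abs hm, sq_abs m]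
      exact_mod_cast h4
    have := Finset.card_nsmul_le_sum T _ _ h1
    rw [nsmul_eq_mul] at this
    nlinarith

/-- `‖σ + W B‖²` against `c B²`. -/
theorem shift_lower {σ : ℂ} {W B : ℝ} {c : ℝ} (hW : 0 ≤ W) (hc : 0 ≤ c) (hc1 : c ≤ 1)
    (hσ : ‖σ‖ ≤ (1 - c) * W) (hB : B = 0 ∨ 1 ≤ |B|) : c ^ 2 * B ^ 2 * W ^ 2 ≤ ‖σ + (W : ℂ) * B‖ ^ 2 := by
  rcases hB with rfl | hB
  · simp [sq_nonneg]
  have h1 : ‖(W : ℂ) * B‖ = W * |B| := by
    rw [norm_mul, Complex.norm_real, Complex.norm_real, Real.norm_eq_abs, Real.norm_eq_abs, abs_of_nonneg hW]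
  have h2 : c * |B| * W ≤ ‖σ + (W : ℂ) * B‖ := by
    have h3 := norm_sub_norm_le ((W : ℂ) * B) (-σ)
    rw [sub_neg_eq_add, norm_neg, h1, add_comm] at h3
    nlinarith [mul_le_mul_of_nonneg_left hB (mul_nonneg (sub_nonneg.2 hc1) hW)]
  have h4 := pow_le_pow_left₀ (by positivity) h2 2
  calc c ^ 2 * B ^ 2 * W ^ 2 = (c * |B| * W) ^ 2 := by rw [← sq_abs B]; ring
    _ ≤ _ := h4

variable {G : Type u} [Group G] [Fintype G] {M H E N : Subgroup G} {r : ℕ} [hr : Fact r.Prime] {v : G}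
  {O : Subgroup G}

theorem card_powers (h : Conf M H E N r v) : (els1 (zpowers v)).card + 1 = r := by
  have e1 : els1 (zpowers v) = (els (zpowers v)).erase 1 := by ext t; simp [and_comm]
  have h1 : (1 : G) ∈ els (zpowers v) := Finset.mem_filter.2 ⟨Finset.mem_univ _, one_mem _⟩
  rw [e1, Finset.card_erase_add_one h1, card_els, Nat.card_zpowers, h.hvo]

/-- `n - 1` out of `n` fixed elements are outside `N`. -/
theorem card_out (h : Conf M H E N r v) :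
    (N.relIndex (Cfsg.sigmaCore M) : ℝ) * ((els (Fix M v) \ els N).card : ℝ) =
      ((N.relIndex (Cfsg.sigmaCore M) : ℝ) - 1) * Nat.card (Fix M v) := by
  set S := Cfsg.sigmaCore M
  set S₁ := Fix M v with hS₁
  have hS₁N : S₁ ≤ normalizer (N : Set G) := (inf_le_left : S₁ ≤ S).trans h.hSN
  have hsup : N ⊔ S₁ = S := le_antisymm (sup_le h.hNS inf_le_left) fun x hx => by
    obtain ⟨n, hn, y, hy, rfl⟩ := h.hsplit x hx
    exact mul_mem_sup hn hy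
  have h6 := Grp.card_sup_mul_card_inf hS₁N
  rw [sup_comm, hsup, inf_comm] at h6
  have h7 := Grp.card_mul_relIndex h.hNS
  rw [← h7, mul_assoc, mul_comm (Nat.card S₁)] at h6
  have h8 : N.relIndex S * Nat.card ↥(N ⊓ S₁) = Nat.card S₁ := Nat.eq_of_mul_eq_mul_left Nat.card_pos h6
  have h9 : (els S₁ \ els N).card + Nat.card ↥(N ⊓ S₁) = Nat.card S₁ := by
    rw [← card_els S₁, ← card_els (N ⊓ S₁)]
    have : els (N ⊓ S₁) = els S₁ ∩ els N := by ext x; simp [and_comm]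
    rw [this, Finset.card_sdiff_add_card_inter]
  have h8' : (N.relIndex S : ℝ) * Nat.card ↥(N ⊓ S₁) = Nat.card S₁ := by exact_mod_cast h8
  have h9' : ((els S₁ \ els N).card : ℝ) + Nat.card ↥(N ⊓ S₁) = Nat.card S₁ := by exact_mod_cast h9
  linear_combination (N.relIndex S : ℝ) * h9' - h8'

/-- The inequality with a lower bound for the bracket. -/
theorem Conf.weight_bound [Fintype H] (h : Conf M H E N r v) (hHO : H ≤ normalizer (O : Set G)) (hvO : v ∉ O)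
    {Z : Subgroup G} (hZO : Z ≤ O) (hZX : Z ≤ Cfsg.sigmaCore H) (hZo : ∀ z ∈ Z, z ≠ 1 → orderOf z = r)
    (hZN : ∀ z ∈ Z, z ≠ 1 → ∀ g : G, g * z * g⁻¹ ∈ Z → g ∈ H)
    {F Ψ : G → ℂ} {ξ σ : H → ℂ} {e W : ℕ} {b : G → G → ℤ} {d : G → ℤ}
    (hd : Data H {a : G | a ∈ Cfsg.sigmaCore H ∧ a ∉ O} F Ψ ξ σ e W b d) (hW : W ≠ 0) {c β : ℝ} (hc : 0 ≤ c)
    (hc1 : c ≤ 1) (hσ : ∀ t ∈ els1 (zpowers v), ‖Cfsg.extendByZero H σ t‖ ≤ (1 - c) * W)
    (hβ : ∀ (m : ℤ) (B : G → ℤ), (∀ t ∈ els1 (zpowers v), (r : ℤ) ∣ m - B t - e) →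
      β ≤ (m : ℝ) ^ 2 + c ^ 2 * ∑ t ∈ els1 (zpowers v), (B t : ℝ) ^ 2) :
    ∃ B₀ : G → ℤ,
      (∀ t ∈ els1 (zpowers v), (Nat.card (Fix M v) : ℤ) * B₀ t = ∑ u ∈ els (Fix M v), b t u) ∧
      (Nat.card H : ℝ) * ((N.relIndex (Cfsg.sigmaCore M) : ℝ) - 1) * W * β +
          (N.relIndex (Cfsg.sigmaCore M) : ℝ) * Nat.card E * W * ∑ z ∈ els1 Z, (d z : ℝ) ^ 2 ≤
        (N.relIndex (Cfsg.sigmaCore M) : ℝ) * Nat.card E * Nat.card H ∧
      (Nat.card H : ℝ) * W * (c ^ 2 * ∑ t ∈ els1 (zpowers v), (B₀ t : ℝ) ^ 2) +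
          (Nat.card E : ℝ) * W * ∑ z ∈ els1 Z, (d z : ℝ) ^ 2 ≤ (Nat.card E : ℝ) * Nat.card H := by
  obtain ⟨B, m, B₀, hcong, hB₀, h1, h2⟩ := h.master hHO hvO hZO hZX hZo hZN hd
  set T := els1 (zpowers v) with hTdef
  set n := N.relIndex (Cfsg.sigmaCore M)
  set S₁ := Fix M v
  set Y := els S₁ \ els N with hY
  have hWR : (0 : ℝ) < W := Nat.cast_pos.2 (Nat.pos_of_ne_zero hW)
  have hB : ∀ t ∈ T, ∀ k : ℤ,
      c ^ 2 * (k : ℝ) ^ 2 * (W : ℝ) ^ 2 ≤ ‖Cfsg.extendByZero H σ t + (W : ℂ) * k‖ ^ 2 := fun t ht k => by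
    have h3 := shift_lower (σ := Cfsg.extendByZero H σ t) (B := (k : ℝ)) hWR.le hc hc1 (hσ t ht) (by
      rcases eq_or_ne k 0 with rfl | hk
      · exact Or.inl Int.cast_zero
      · exact Or.inr (by rw [← Int.cast_abs]; exact_mod_cast Int.one_le_abs hk))
    simpa only [Complex.ofReal_natCast, Complex.ofReal_intCast] using h3
  refine ⟨B₀, fun t ht => hB₀ t (Finset.mem_filter.1 ht).2.1 (Finset.mem_filter.1 ht).2.2, ?_, ?_⟩
  · have h3 : (Y.card : ℝ) * ((W : ℝ) ^ 2 * β) ≤ ∑ y ∈ Y, (∑ t ∈ T,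
        ‖Cfsg.extendByZero H σ t + (W : ℂ) * B t y‖ ^ 2 + (W : ℝ) ^ 2 * (m y : ℝ) ^ 2) := by
      rw [← nsmul_eq_mul]
      refine Finset.card_nsmul_le_sum Y _ _ fun y hy => ?_
      obtain ⟨hy1, hy2⟩ : y ∈ S₁ ∧ y ∉ N := by simpa [hY] using hy
      have h4 := hβ (m y) (fun t => B t y) fun t ht =>
        hcong t (Finset.mem_filter.1 ht).2.1 (Finset.mem_filter.1 ht).2.2 y hy1 hy2
      have h5 := Finset.sum_le_sum (s := T) fun t ht => hB t ht (B t y)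
      rw [← Finset.sum_mul, ← Finset.mul_sum] at h5
      nlinarith [mul_le_mul_of_nonneg_left h4 (sq_nonneg (W : ℝ))]
    have h4 := card_out h
    refine le_of_mul_le_mul_left ?_ (mul_pos (Nat.cast_pos.2 (Nat.card_pos (α := S₁))) hWR)
    calc (Nat.card S₁ : ℝ) * W * ((Nat.card H : ℝ) * ((n : ℝ) - 1) * W * β +
          (n : ℝ) * Nat.card E * W * ∑ z ∈ els1 Z, (d z : ℝ) ^ 2)
        = (n : ℝ) * ((Nat.card H : ℝ) * ((Y.card : ℝ) * ((W : ℝ) ^ 2 * β)) +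
            (Nat.card E : ℝ) * Nat.card S₁ * (W : ℝ) ^ 2 * ∑ z ∈ els1 Z, (d z : ℝ) ^ 2) := by
          linear_combination (-(Nat.card H : ℝ) * (W : ℝ) ^ 2 * β) * h4
      _ ≤ (n : ℝ) * ((W : ℝ) * Nat.card E * Nat.card H * Nat.card S₁) :=
          mul_le_mul_of_nonneg_left (le_trans (add_le_add (mul_le_mul_of_nonneg_left h3 (Nat.cast_nonneg _)) le_rfl)
            h1) (Nat.cast_nonneg _)
      _ = _ := by ring
  · refine le_of_mul_le_mul_left ?_ hWR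
    have h5 := Finset.sum_le_sum (s := T) fun t ht => hB t ht (B₀ t)
    rw [← Finset.sum_mul, ← Finset.mul_sum] at h5
    calc (W : ℝ) * ((Nat.card H : ℝ) * W * (c ^ 2 * ∑ t ∈ T, (B₀ t : ℝ) ^ 2) +
          (Nat.card E : ℝ) * W * ∑ z ∈ els1 Z, (d z : ℝ) ^ 2)
        = (Nat.card H : ℝ) * (c ^ 2 * (∑ t ∈ T, (B₀ t : ℝ) ^ 2) * (W : ℝ) ^ 2) +
          (Nat.card E : ℝ) * (W : ℝ) ^ 2 * ∑ z ∈ els1 Z, (d z : ℝ) ^ 2 := by ring
      _ ≤ (W : ℝ) * Nat.card E * Nat.card H :=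
          le_trans (add_le_add (mul_le_mul_of_nonneg_left h5 (Nat.cast_nonneg _)) le_rfl) h2
      _ = _ := by ring

theorem bot_hyps (O : Subgroup G) (X : Subgroup G) {r : ℕ} {H : Subgroup G} : (⊥ : Subgroup G) ≤ O ∧
    (⊥ : Subgroup G) ≤ X ∧ (∀ z ∈ (⊥ : Subgroup G), z ≠ 1 → orderOf z = r) ∧
    ∀ z ∈ (⊥ : Subgroup G), z ≠ 1 → ∀ g : G, g * z * g⁻¹ ∈ (⊥ : Subgroup G) → g ∈ H :=
  ⟨bot_le, bot_le, fun _ hz hz1 => absurd (mem_bot.1 hz) hz1, fun _ hz hz1 => absurd (mem_bot.1 hz) hz1⟩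

/-- Linear characters: `σ = -1` on the support. -/
theorem Conf.absurd_linear [Fintype H] (h : Conf M H E N r v) (hHO : H ≤ normalizer (O : Set G)) (hvO : v ∉ O)
    {F Ψ : G → ℂ} {ξ σ : H → ℂ} {e W : ℕ} {b : G → G → ℤ} {d : G → ℤ}
    (hd : Data H {a : G | a ∈ Cfsg.sigmaCore H ∧ a ∉ O} F Ψ ξ σ e W b d) (he : 3 ≤ e) (hre : 2 * e ≤ r + 1)
    (hσ : ∀ t ∈ els1 (zpowers v), ‖Cfsg.extendByZero H σ t‖ ≤ 1) (hr2 : r ^ 2 ≤ W * e + 1)
    (hE : Nat.card E ≤ W * e + 1) : False := by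
  obtain ⟨hb1, hb2, hb3, hb4⟩ := bot_hyps O (Cfsg.sigmaCore H) (r := r) (H := H)
  have hr5 : 5 ≤ r := by omega
  have hW8 : 8 ≤ W := by
    by_contra hlt
    have h1 : W * e ≤ 7 * e := Nat.mul_le_mul_right e (by omega)
    nlinarith
  have hWR : (8 : ℝ) ≤ W := by exact_mod_cast hW8
  obtain ⟨-, -, h1, -⟩ := h.weight_bound hHO hvO hb1 hb2 hb3 hb4 hd (by omega) (c := 7 / 8)
    (β := (e : ℝ) + 1 / 2) (by norm_num) (by norm_num)
    (fun t ht => (hσ t ht).trans (by linarith))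
    fun m B hB => bracket_small he hre (els1 (zpowers v)) (card_powers h) hB (by norm_num)
  rw [show els1 (⊥ : Subgroup G) = ∅ by ext z; simp [mem_bot], Finset.sum_empty, mul_zero, add_zero] at h1
  set n := N.relIndex (Cfsg.sigmaCore M)
  have hn : (4 : ℝ) * e - 1 ≤ n := by
    have : ((4 * e : ℕ) : ℝ) ≤ ((n + 1 : ℕ) : ℝ) := by exact_mod_cast (by have := h.hidx; omega : 4 * e ≤ n + 1)
    push_cast at this
    linarith
  have hER : (Nat.card E : ℝ) ≤ (W : ℝ) * e + 1 := by exact_mod_cast hE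
  have hH0 : (0 : ℝ) < Nat.card H := Nat.cast_pos.2 Nat.card_pos
  have heR : (3 : ℝ) ≤ e := by exact_mod_cast he
  have h2 : ((n : ℝ) - 1) * W * ((e : ℝ) + 1 / 2) ≤ n * ((W : ℝ) * e + 1) := by
    refine le_of_mul_le_mul_left ?_ hH0
    calc (Nat.card H : ℝ) * (((n : ℝ) - 1) * W * ((e : ℝ) + 1 / 2))
        = (Nat.card H : ℝ) * ((n : ℝ) - 1) * W * ((e : ℝ) + 1 / 2) := by ring
      _ ≤ (n : ℝ) * Nat.card E * Nat.card H := h1
      _ ≤ _ := by nlinarith [mul_le_mul_of_nonneg_left hER (mul_nonneg hH0.le (Nat.cast_nonneg (α := ℝ) n))]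
  nlinarith [mul_le_mul_of_nonneg_right hWR (by linarith : (0 : ℝ) ≤ (n : ℝ) - 3)]

/-- A chain of degrees. -/
theorem Conf.absurd_chain [Fintype H] (h : Conf M H E N r v) (hHO : H ≤ normalizer (O : Set G)) (hvO : v ∉ O)
    {F Ψ : G → ℂ} {ξ σ : H → ℂ} {e W C : ℕ} {b : G → G → ℤ} {d : G → ℤ}
    (hd : Data H {a : G | a ∈ Cfsg.sigmaCore H ∧ a ∉ O} F Ψ ξ σ e W b d) (he : 3 ≤ e) (hre : 2 * e + 1 ≤ r)
    (hC : 0 < C) (hσ : ∀ t ∈ els1 (zpowers v), ‖Cfsg.extendByZero H σ t‖ ^ 2 ≤ (W : ℝ) * C)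
    (hWC : r * C ≤ W * e + 1) (hE : Nat.card E ≤ e * C) : False := by
  obtain ⟨hb1, hb2, hb3, hb4⟩ := bot_hyps O (Cfsg.sigmaCore H) (r := r) (H := H)
  have hW2 : 2 * C ≤ W := by
    by_contra hlt
    have h1 : (W + 1) * e ≤ 2 * C * e := Nat.mul_le_mul_right e (by omega)
    have h2 : (2 * e + 1) * C ≤ r * C := Nat.mul_le_mul_right C hre
    nlinarith
  have hW0 : W ≠ 0 := by omega
  obtain ⟨-, -, h1, -⟩ := h.weight_bound hHO hvO hb1 hb2 hb3 hb4 hd hW0 (c := 29 / 100)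
    (β := 1 / 3 * (e : ℝ) ^ 2) (by norm_num) (by norm_num)
    (fun t ht => abs_le_of_sq_le_sq' ((hσ t ht).trans (by
      have h2 : (2 : ℝ) * C ≤ W := by exact_mod_cast hW2
      nlinarith [mul_le_mul_of_nonneg_left h2 (Nat.cast_nonneg (α := ℝ) W)])) (by positivity) |>.2)
    fun m B hB => bracket hre (els1 (zpowers v)) (card_powers h) hB (by norm_num) (by
      have : (3 : ℝ) ≤ e := by exact_mod_cast he
      nlinarith) (by norm_num)
  rw [show els1 (⊥ : Subgroup G) = ∅ by ext z; simp [mem_bot], Finset.sum_empty, mul_zero, add_zero] at h1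
  set n := N.relIndex (Cfsg.sigmaCore M)
  have hn : (15 : ℝ) ≤ n := by exact_mod_cast (by have := h.hidx; omega : 15 ≤ n)
  have hER : (Nat.card E : ℝ) ≤ (e : ℝ) * C := by exact_mod_cast hE
  have hH0 : (0 : ℝ) < Nat.card H := Nat.cast_pos.2 Nat.card_pos
  have heR : (3 : ℝ) ≤ e := by exact_mod_cast he
  have hCR : (1 : ℝ) ≤ C := by exact_mod_cast hC
  have hWCR : (7 : ℝ) * C ≤ (W : ℝ) * e + 1 := by
    exact_mod_cast le_trans (Nat.mul_le_mul_right C (by omega : 7 ≤ r)) hWC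
  have h2 : ((n : ℝ) - 1) * ((W : ℝ) * e) ≤ 3 * n * C := by
    refine le_of_mul_le_mul_left ?_ (mul_pos hH0 (by linarith : (0 : ℝ) < e))
    calc (Nat.card H : ℝ) * e * (((n : ℝ) - 1) * ((W : ℝ) * e))
        = 3 * ((Nat.card H : ℝ) * ((n : ℝ) - 1) * W * (1 / 3 * (e : ℝ) ^ 2)) := by ring
      _ ≤ 3 * ((n : ℝ) * Nat.card E * Nat.card H) := by linarith
      _ ≤ _ := by nlinarith [mul_le_mul_of_nonneg_left hER (mul_nonneg hH0.le (Nat.cast_nonneg (α := ℝ) n))]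
  nlinarith [mul_le_mul_of_nonneg_left hWCR (by linarith : (0 : ℝ) ≤ (n : ℝ) - 1),
    mul_le_mul_of_nonneg_right hn (by linarith : (0 : ℝ) ≤ C)]

/-- The congruence at a central element of order `r`. -/
theorem Conf.z_congr [Fintype H] (h : Conf M H E N r v) (hHO : H ≤ normalizer (O : Set G)) (hvO : v ∉ O)
    {F Ψ : G → ℂ} {ξ σ : H → ℂ} {e W : ℕ} {b : G → G → ℤ} {d : G → ℤ}
    (hd : Data H {a : G | a ∈ Cfsg.sigmaCore H ∧ a ∉ O} F Ψ ξ σ e W b d) {z : G} (hzO : z ∈ O)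
    (hzX : z ∈ Cfsg.sigmaCore H) (hzo : orderOf z = r) (hzM : z ∈ M) (hzv : Commute z v)
    (hzfree : ∀ u ∈ Fix M v, Commute z u → u = 1) {t : G} (ht : t ∈ els1 (zpowers v))
    (hconj : ∃ x ∈ H, x * t * x⁻¹ = t * z) {k : ℤ}
    (hk : (Nat.card (Fix M v) : ℤ) * k = ∑ u ∈ els (Fix M v), b t u) : (r : ℤ) ∣ d z - k - e := by
  obtain ⟨htv, ht1⟩ := (Finset.mem_filter.1 ht).2
  obtain ⟨htC, htR⟩ := h.supportR_pow htv ht1
  have htX : t ∈ Cfsg.sigmaCore H := (zpowers_le.2 h.hvX) htv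
  have hto : orderOf t = r := by
    refine orderOf_eq_prime ?_ ht1
    rw [← orderOf_dvd_iff_pow_eq_one, ← h.hvo]
    exact orderOf_dvd_of_mem_zpowers htv
  have htO : t ∉ O := fun hh => hvO (by
    have e1 : zpowers t = zpowers v := by
      refine Subgroup.eq_of_le_of_card_ge (zpowers_le.2 htv) ?_
      rw [Nat.card_zpowers, Nat.card_zpowers, h.hvo, hto]
    exact (zpowers_le.2 hh) (e1 ▸ mem_zpowers v))
  have htH : t ∈ H := TransHyp.piCoreOf_le H htX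
  set S₁ := Fix M v
  have hzS₁ : ∀ u ∈ S₁, z * u * z⁻¹ ∈ S₁ := fun u hu =>
    ⟨Grp.mem_conj_normalizer (TransHyp.le_normalizer_piCoreOf M hzM) hu.1,
      mem_centralizer_singleton_iff.2 (((hzv.mul_left (mem_centralizer_singleton_iff.1 hu.2 : Commute u v)).mul_left
        hzv.inv_left).eq)⟩
  have hzt : Commute z t := by
    obtain ⟨i, hi⟩ := mem_zpowers_iff.1 htv
    exact hi ▸ hzv.zpow_right i
  have hval : ∀ u ∈ S₁, F (t * u) = ξ ⟨t, htH⟩ + b t u := fun u hu =>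
    (hd.val ⟨t, htH⟩ ⟨htX, htO⟩ u (show u ∈ Cfsg.supportR H t by rw [htR]; exact hu)).1
  have hinv : ∀ u ∈ S₁, b t (z * u * z⁻¹) = b t u := fun u hu => by
    have e1 := Char.IsGenChar.classFun hd.gen (t * u) z
    rw [show z * (t * u) * z⁻¹ = t * (z * u * z⁻¹) by rw [← mul_assoc, hzt.eq]; group, hval _ (hzS₁ u hu),
      hval u hu] at e1
    exact_mod_cast add_left_cancel e1
  have hmem : ∀ u ∈ els1 S₁, z * u * z⁻¹ ∈ els1 S₁ := fun u hu => by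
    obtain ⟨hu, hu1⟩ := (Finset.mem_filter.1 hu).2
    exact Finset.mem_filter.2 ⟨Finset.mem_univ _, hzS₁ u hu, fun e' => hu1 (conj_eq_one_iff.1 e')⟩
  have hfree : ∀ u ∈ els1 S₁, z * u ≠ u * z := fun u hu e' =>
    (Finset.mem_filter.1 hu).2.2 (hzfree u (Finset.mem_filter.1 hu).2.1 e')
  have h1 := dvd_sum_free hzo (els1 S₁) (b t) hmem (fun u hu => hinv u (Finset.mem_filter.1 hu).2.1) hfree
  have h2 := dvd_sum_free hzo (els1 S₁) (fun _ => 1) hmem (fun _ _ => rfl) hfree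
  have e1 : els1 S₁ = (els S₁).erase 1 := by ext u; simp [and_comm]
  have hone : (1 : G) ∈ els S₁ := Finset.mem_filter.2 ⟨Finset.mem_univ _, one_mem _⟩
  rw [e1] at h1 h2
  have e2 := Finset.add_sum_erase (els S₁) (b t) hone
  have e3 := Finset.add_sum_erase (els S₁) (fun _ => (1 : ℤ)) hone
  rw [Finset.sum_const (s := els S₁), card_els, nsmul_eq_mul, mul_one] at e3
  rw [← hk] at e2
  obtain ⟨q₁, hq₁⟩ := h1
  obtain ⟨q₂, hq₂⟩ := h2
  rw [hq₁] at e2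
  rw [hq₂] at e3
  have hFz : F (t * z) = ξ ⟨t, htH⟩ + b t 1 := by
    obtain ⟨x, -, hx⟩ := hconj
    rw [← hx, Char.IsGenChar.classFun hd.gen t x, ← hval 1 (one_mem _), mul_one]
  obtain ⟨q₃, hq₃⟩ := congr_value hd.gen hd.genξ hd.degξ (t := ⟨t, htH⟩) hto hzt.eq.symm
    (hd.off z (h.off_O hHO hzX hzO hzo)).1 hFz
  exact ⟨q₃ - q₁ + q₂ * k, by linear_combination hq₃ + e2 - k * e3⟩

/-- Linear characters over a centre `Z` of order `r` with `r ∤ e ∣ r - 1`. -/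
theorem Conf.absurd_center [Fintype H] (h : Conf M H E N r v) (hHO : H ≤ normalizer (O : Set G)) (hvO : v ∉ O)
    {Z : Subgroup G} (hZO : Z ≤ O) (hZX : Z ≤ Cfsg.sigmaCore H) (hZc : Nat.card Z = r)
    (hZN : ∀ z ∈ Z, z ≠ 1 → ∀ g : G, g * z * g⁻¹ ∈ Z → g ∈ H)
    (hZv : ∀ z ∈ Z, z ∈ M ∧ Commute z v) (hZfree : ∀ z ∈ Z, z ≠ 1 → ∀ u ∈ Fix M v, Commute z u → u = 1)
    (hconj : ∀ z ∈ Z, ∀ t ∈ els1 (zpowers v), ∃ x ∈ H, x * t * x⁻¹ = t * z)
    {F Ψ : G → ℂ} {ξ σ : H → ℂ} {e W : ℕ} {b : G → G → ℤ} {d : G → ℤ}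
    (hd : Data H {a : G | a ∈ Cfsg.sigmaCore H ∧ a ∉ O} F Ψ ξ σ e W b d) (he : 3 ≤ e) (hre : 2 * e + 1 ≤ r)
    (hσ : ∀ t ∈ els1 (zpowers v), ‖Cfsg.extendByZero H σ t‖ ≤ 1) (hr2 : r ^ 2 ≤ W * e + 1)
    (hH : Nat.card H = e * (r * (W * e + 1))) (hE : Nat.card E ≤ e * (W * e + 1)) : False := by
  have hW16 : 16 ≤ W := by
    by_contra hlt
    have h1 : W * e ≤ 15 * e := Nat.mul_le_mul_right e (by omega)
    nlinarith
  have hZo : ∀ z ∈ Z, z ≠ 1 → orderOf z = r := fun z hz hz1 => by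
    have h1 := Subgroup.orderOf_dvd_natCard _ hz
    rw [hZc] at h1
    exact (hr.out.eq_one_or_self_of_dvd _ h1).resolve_left fun e' => hz1 (orderOf_eq_one_iff.1 e')
  obtain ⟨B₀, hB₀, h1, h2⟩ := h.weight_bound hHO hvO hZO hZX hZo hZN hd (by omega) (c := 15 / 16)
    (β := 21 / 25 * (e : ℝ) ^ 2) (by norm_num) (by norm_num)
    (fun t ht => (hσ t ht).trans (by
      have : (16 : ℝ) ≤ W := by exact_mod_cast hW16
      linarith))
    fun m B hB => bracket hre (els1 (zpowers v)) (card_powers h) hB (by norm_num) (by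
      have : (3 : ℝ) ≤ e := by exact_mod_cast he
      nlinarith) (by norm_num)
  set n := N.relIndex (Cfsg.sigmaCore M)
  set T := els1 (zpowers v)
  set ZT : ℝ := ∑ z ∈ els1 Z, (d z : ℝ) ^ 2
  have hne : (els1 Z).Nonempty := by
    obtain ⟨z, hz, hz1⟩ := (Subgroup.bot_or_exists_ne_one Z).resolve_left fun e' =>
      hr.out.ne_one (by rw [← hZc, e', Subgroup.card_bot])
    exact ⟨z, Finset.mem_filter.2 ⟨Finset.mem_univ _, hz, hz1⟩⟩
  obtain ⟨z, hz, hmin⟩ := Finset.exists_min_image (els1 Z) (fun z => (d z : ℝ) ^ 2) hne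
  obtain ⟨hzZ, hz1⟩ := (Finset.mem_filter.1 hz).2
  have hcardZ : (els1 Z).card + 1 = r := by
    have e1 : els1 Z = (els Z).erase 1 := by ext u; simp [and_comm]
    rw [e1, Finset.card_erase_add_one (Finset.mem_filter.2 ⟨Finset.mem_univ _, one_mem _⟩), card_els, hZc]
  have hcT : ((els1 (zpowers v)).card : ℝ) = (r : ℝ) - 1 := by
    rw [eq_sub_iff_add_eq]; exact_mod_cast card_powers h
  have hcZ : ((els1 Z).card : ℝ) = (r : ℝ) - 1 := by rw [eq_sub_iff_add_eq]; exact_mod_cast hcardZ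
  have hZT : ((r : ℝ) - 1) * (d z : ℝ) ^ 2 ≤ ZT := by
    rw [← hcZ, ← nsmul_eq_mul]; exact Finset.card_nsmul_le_sum _ _ _ hmin
  have hn : (15 : ℝ) ≤ n := by exact_mod_cast (by have := h.hidx; omega : 15 ≤ n)
  have hrR : 2 * (e : ℝ) + 1 ≤ r := by exact_mod_cast hre
  have heR : (3 : ℝ) ≤ e := by exact_mod_cast he
  have hWR : (16 : ℝ) ≤ W := by exact_mod_cast hW16
  have hE0 : (0 : ℝ) < Nat.card E := Nat.cast_pos.2 Nat.card_pos
  have hEH : (r : ℝ) * Nat.card E ≤ Nat.card H := by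
    have h3 : r * Nat.card E ≤ Nat.card H := by
      rw [hH, mul_left_comm]; exact Nat.mul_le_mul_left r hE
    exact_mod_cast h3
  have hHR : (Nat.card H : ℝ) = (e : ℝ) * ((r : ℝ) * ((W : ℝ) * e + 1)) := by exact_mod_cast hH
  have hX0 : 0 ≤ ((n : ℝ) - 1) * W * (21 / 25 * (e : ℝ) ^ 2) :=
    mul_nonneg (mul_nonneg (by linarith) (by positivity)) (by positivity)
  -- the first step
  have k1 : (r : ℝ) * (((n : ℝ) - 1) * W * (21 / 25 * (e : ℝ) ^ 2)) + (n : ℝ) * W * (((r : ℝ) - 1) * (d z : ℝ) ^ 2)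
      ≤ (n : ℝ) * ((e : ℝ) * ((r : ℝ) * ((W : ℝ) * e + 1))) := by
    rw [← hHR]
    refine le_of_mul_le_mul_left ?_ hE0
    have h4 := mul_le_mul_of_nonneg_left hZT (by positivity : 0 ≤ (n : ℝ) * Nat.card E * W)
    nlinarith [mul_le_mul_of_nonneg_right hEH hX0]
  have hWe : (W : ℝ) * e + 1 ≤ (W : ℝ) * e * (49 / 48) := by nlinarith
  have k2 : (d z : ℝ) ^ 2 ≤ (53 / 100 * (e : ℝ)) ^ 2 := by
    have h5 : (14 / 15 : ℝ) * n ≤ (n : ℝ) - 1 := by linarith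
    have h6 : (6 : ℝ) / 7 * r ≤ (r : ℝ) - 1 := by linarith
    have hn0 : (0 : ℝ) < n := by linarith
    have hr0 : (0 : ℝ) < r := by linarith
    have h7 := mul_le_mul_of_nonneg_left hWe (by positivity : 0 ≤ (n : ℝ) * ((e : ℝ) * r))
    have h8 := mul_le_mul_of_nonneg_right h5 (by positivity : 0 ≤ (r : ℝ) * W * (21 / 25 * (e : ℝ) ^ 2))
    have h9 := mul_le_mul_of_nonneg_right h6 (by positivity : 0 ≤ (n : ℝ) * W * (d z : ℝ) ^ 2)
    refine le_of_mul_le_mul_left ?_ (by positivity : 0 < (n : ℝ) * W * ((6 : ℝ) / 7 * r))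
    nlinarith [mul_nonneg (mul_nonneg hn0.le hr0.le) (mul_nonneg (Nat.cast_nonneg (α := ℝ) W) (sq_nonneg (e : ℝ)))]
  have hdm : |(d z : ℝ)| ≤ 53 / 100 * (e : ℝ) := abs_le_of_sq_le_sq k2 (by linarith)
  have hB : ∀ t ∈ T, (47 / 100 * (e : ℝ)) ^ 2 ≤ (B₀ t : ℝ) ^ 2 := fun t ht => by
    have h3 := h.z_congr hHO hvO hd (hZO hzZ) (hZX hzZ) (hZo z hzZ hz1) (hZv z hzZ).1 (hZv z hzZ).2
      (hZfree z hzZ hz1) ht (hconj z hzZ t ht) (hB₀ t ht)
    have hm : |d z| ≤ (e : ℤ) := by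
      have : |(d z : ℝ)| ≤ (e : ℝ) := hdm.trans (by linarith)
      rw [← Int.cast_abs] at this
      exact_mod_cast this
    have h4 := abs_congr hre hm h3
    have h5 : (e : ℝ) - |(d z : ℝ)| ≤ |(B₀ t : ℝ)| := by rw [← Int.cast_abs, ← Int.cast_abs]; exact_mod_cast h4
    rw [← sq_abs (B₀ t : ℝ)]
    exact pow_le_pow_left₀ (by linarith) (by linarith) 2
  have hsum : ((r : ℝ) - 1) * (47 / 100 * (e : ℝ)) ^ 2 ≤ ∑ t ∈ T, (B₀ t : ℝ) ^ 2 := by
    rw [← hcT, ← nsmul_eq_mul]; exact Finset.card_nsmul_le_sum _ _ _ hB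
  -- the second step
  have k3 : (r : ℝ) * (W * ((15 / 16) ^ 2 * (((r : ℝ) - 1) * (47 / 100 * (e : ℝ)) ^ 2))) ≤
      (e : ℝ) * ((r : ℝ) * ((W : ℝ) * e + 1)) := by
    rw [← hHR]
    refine le_of_mul_le_mul_left ?_ hE0
    have h4 : 0 ≤ (Nat.card E : ℝ) * W * ZT :=
      mul_nonneg (by positivity) (le_trans (mul_nonneg (by linarith) (sq_nonneg _)) hZT)
    have h6 := mul_le_mul_of_nonneg_left hsum (by positivity : 0 ≤ (Nat.card H : ℝ) * W * (15 / 16) ^ 2)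
    have h7 := mul_le_mul_of_nonneg_right hEH
      (mul_nonneg (Nat.cast_nonneg (α := ℝ) W) (mul_nonneg (by norm_num : (0 : ℝ) ≤ (15 / 16) ^ 2)
        (mul_nonneg (by linarith : (0 : ℝ) ≤ (r : ℝ) - 1) (sq_nonneg (47 / 100 * (e : ℝ))))))
    nlinarith
  have hr7 : (6 : ℝ) ≤ (r : ℝ) - 1 := by linarith
  have hpos : 0 < (r : ℝ) * W * (e : ℝ) ^ 2 :=
    mul_pos (mul_pos (by linarith) (by linarith)) (pow_pos (by linarith) 2)
  nlinarith [mul_le_mul_of_nonneg_left hWe (by positivity : 0 ≤ (e : ℝ) * r),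
    mul_le_mul_of_nonneg_right hr7 hpos.le]

end Cfsg.Agent.Transfer.Loc.TypeI
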