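import Cfsg.Agent.Lib.Transfer.Local.TypeIFrame
import Cfsg.Agent.Lib.Transfer.Local.TwistLines
import Cfsg.Agent.Lib.Transfer.Local.TauTwoHall
import Cfsg.Agent.Lib.Transfer.Local.NonTI
import Cfsg.Agent.Lib.Char.CentralCongr
import Cfsg.Agent.S1430
import Cfsg.Agent.S1431
import Cfsg.Agent.S1545

/-!
Complements of `H_σ` acting on the plane.
-/

set_option autoImplicit false
set_option linter.style.haveILetI false
set_option linter.unusedSectionVars false
set_option maxHeartbeats 2000000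

namespace Cfsg.Agent.Transfer.Loc.TypeI

open Subgroup
open scoped commutatorElement Pointwise

universe u

variable {G : Type u} [Group G] [Finite G] {r : ℕ} [hr : Fact r.Prime]

/-- The statement for the primes below `r`. -/
def Below (G : Type u) [Group G] (r : ℕ) : Prop :=
  ∀ s : ℕ, s < r → s.Prime → ∀ L : Subgroup G, IsCoatom L → Cfsg.kappa L = ∅ → s ∈ Cfsg.tau2 L →
    ∀ w ∈ L, orderOf w = s → Cfsg.sigmaCore L ⊓ centralizer ({w} : Set G) = ⊥

/-- Operators without fixed points on a subgroup of prime order. -/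
theorem card_dvd_pred {F Z : Subgroup G} (hZ : Nat.card Z = r) (hF : F ≤ normalizer (Z : Set G))
    (hfree : ∀ f ∈ F, (∀ y ∈ Z, Commute f y) → f = 1) : Nat.card F ∣ r - 1 := by
  haveI : IsCyclic Z := isCyclic_of_prime_card hZ
  have hcard : Nat.card (MulAut Z) = r - 1 := by
    rw [Nat.card_congr (IsCyclic.mulAutMulEquiv (G := Z)).toEquiv, hZ, Nat.card_eq_fintype_card,
      ZMod.card_units_eq_totient, Nat.totient_prime hr.out]
  rw [← hcard]
  refine Subgroup.card_dvd_of_injective ((Subgroup.normalizerMonoidHom Z).comp (Subgroup.inclusion hF))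
    ((injective_iff_map_eq_one _).2 fun f hf => Subtype.ext (hfree f f.2 fun y hy => ?_))
  have h1 := congrArg (fun φ : MulAut Z => ((φ ⟨y, hy⟩ : Z) : G)) hf
  exact mul_inv_eq_iff_eq_mul.1 (show (f : G) * y * (f : G)⁻¹ = y from h1)

variable {M H E N A T : Subgroup G} {P : Sylow r G} {v : G}

/-- A free abelian group of operators on the plane, none fixing the line of `v`. -/
theorem two_mul_card_le (hA : Cfsg.IsElementaryAbelian r A) (hA2 : Nat.card A = r ^ 2) (hr2 : r ≠ 2)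
    (hvA : v ∈ A) (hvo : orderOf v = r) {F : Subgroup G} (hFA : F ≤ normalizer (A : Set G))
    (hFodd : Odd (Nat.card F)) (hfree : ∀ f ∈ F, f ≠ 1 → ∀ a ∈ A, Commute f a → a = 1)
    (hFab : ∀ a ∈ F, ∀ b ∈ F, Commute a b)
    (hline : ∀ f ∈ F, f ∈ normalizer (zpowers v : Set G) → f = 1) :
    2 * Nat.card F ≤ r + 1 := by
  classical
  haveI : Fintype F := Fintype.ofFinite F
  haveI : Fintype (Subgroup G) := Fintype.ofFinite _
  set Λ := (Finset.univ : Finset (Subgroup G)).filter fun L => L ≤ A ∧ Nat.card L = r with hΛ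
  have hΛc : Λ.card = r + 1 := by
    rw [← lines_count hA hA2, Set.ncard_eq_toFinset_card']
    congr 1
    ext L
    simp [hΛ]
  letI : MulAction F (Subgroup G) :=
    { smul := fun f L => MulAut.conj (f : G) • L
      one_smul := fun L => by show MulAut.conj ((1 : F) : G) • L = L; simp
      mul_smul := fun a b L => by
        show MulAut.conj ((a * b : F) : G) • L = MulAut.conj (a : G) • MulAut.conj (b : G) • L
        rw [Subgroup.coe_mul, map_mul, mul_smul] }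
  have hsmul : ∀ (f : F) (L : Subgroup G), f • L = MulAut.conj (f : G) • L := fun _ _ => rfl
  have hmap : ∀ f : F, ∀ L ∈ Λ, f • L ∈ Λ := fun f L hL => by
    obtain ⟨-, hLA, hLc⟩ := Finset.mem_filter.1 hL
    refine Finset.mem_filter.2 ⟨Finset.mem_univ _, ?_, by rw [hsmul, Grp.card_conj_smul, hLc]⟩
    rw [hsmul, ← Grp.mem_normalizer_iff_smul.1 (hFA f.2)]
    exact Subgroup.pointwise_smul_le_pointwise_smul_iff.2 hLA
  by_cases hfix : ∀ f : F, ∀ L ∈ Λ, f • L = L → f = 1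
  · obtain ⟨γ, hγ, hs⟩ := Cfsg.Agent.Char.CentralCongr.sum_free (P := F) (fun _ : Subgroup G => (1 : ℂ))
      (fun _ => isIntegral_one) (fun _ _ => rfl) Λ hmap hfix
    rw [Finset.sum_const, nsmul_eq_mul, mul_one, hΛc] at hs
    have hd : (Nat.card F : ℤ) ∣ ((r + 1 : ℕ) : ℤ) := dvd_of_eq_mul Nat.card_pos.ne' hγ (by push_cast at hs ⊢; exact hs)
    obtain ⟨c, hc⟩ := Int.natCast_dvd_natCast.1 hd
    have hc2 : 2 ≤ c := by
      by_contra hlt
      obtain ⟨j, hj⟩ := hFodd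
      obtain ⟨i, hi⟩ := hr.out.odd_of_ne_two hr2
      interval_cases c <;> omega
    rw [hc, mul_comm 2]
    exact Nat.mul_le_mul_left _ hc2
  push Not at hfix
  obtain ⟨f, L, hL, hfL, hf1⟩ := hfix
  obtain ⟨-, hLA, hLc⟩ := Finset.mem_filter.1 hL
  have hf1' : (f : G) ≠ 1 := fun e => hf1 (Subtype.ext e)
  -- two fixed lines at most
  have hpow : ∀ L' : Subgroup G, L' ∈ Λ → f • L' = L' → ∀ x ∈ L', ∃ c : ℕ, (f : G) * x * (f : G)⁻¹ = x ^ c := by
    intro L' hL' hfix' x hx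
    obtain ⟨-, hA', hc'⟩ := Finset.mem_filter.1 hL'
    rcases eq_or_ne x 1 with rfl | hx1
    · exact ⟨1, by simp⟩
    refine exists_nat_pow_conj ?_
    rw [zpowers_eq_of_prime hc' hx hx1, Grp.mem_normalizer_iff_smul]
    exact hfix'
  have htwo : ∀ L₁ ∈ Λ, ∀ L₂ ∈ Λ, f • L₁ = L₁ → f • L₂ = L₂ → L₁ ≠ L → L₂ ≠ L → L₁ = L₂ := by
    intro L₁ hL₁ L₂ hL₂ h1 h2 hne₁ hne₂
    by_contra hne
    obtain ⟨-, hA₁, hc₁⟩ := Finset.mem_filter.1 hL₁
    obtain ⟨-, hA₂, hc₂⟩ := Finset.mem_filter.1 hL₂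
    obtain ⟨x₂, hx₂, hx₂1, hg₂⟩ := exists_generator_line hc₂
    have hsup : L ⊔ L₁ = A := sup_lines hA2 hLA hA₁ hLc hc₁ hne₁.symm
    have hmem : x₂ ∈ L ⊔ L₁ := hsup.ge (hA₂ hx₂)
    rw [← SetLike.mem_coe, Subgroup.coe_mul_of_left_le_normalizer_right L L₁ (hLA.trans
      (((le_centralizer_iff_isMulCommutative.2 hA.1).trans (centralizer_le hA₁)).trans
        (centralizer_le_normalizer _)))] at hmem
    obtain ⟨a, ha, b, hb, hab⟩ := hmem
    replace hab : a * b = x₂ := hab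
    have ha1 : a ≠ 1 := fun e => by
      rw [e, one_mul] at hab
      subst hab
      exact hne (((zpowers_eq_of_prime hc₁ hb hx₂1).symm.trans hg₂) : L₁ = L₂)
    have hb1 : b ≠ 1 := fun e => by
      rw [e, mul_one] at hab
      subst hab
      exact hne₂ ((zpowers_eq_of_prime hLc ha hx₂1).symm.trans hg₂).symm
    obtain ⟨c, hc⟩ := hpow L hL hfL a ha
    obtain ⟨c₁, hc₁'⟩ := hpow L₁ hL₁ h1 b hb
    obtain ⟨c₂, hc₂'⟩ := hpow L₂ hL₂ h2 x₂ hx₂
    have hcomm : Commute a b := congrArg Subtype.val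
      (hA.1.is_comm.comm (⟨a, hLA ha⟩ : A) ⟨b, hA₁ hb⟩)
    have he : a ^ c * b ^ c₁ = a ^ c₂ * b ^ c₂ := by
      rw [← hcomm.mul_pow, hab, ← hc₂', ← hc, ← hc₁', ← hab]
      group
    have hdis : ∀ y ∈ L, y ∈ L₁ → y = 1 := fun y hy hy' => by
      by_contra hy1
      exact hne₁ ((zpowers_eq_of_prime hc₁ hy' hy1).symm.trans (zpowers_eq_of_prime hLc hy hy1))
    have hu : (a ^ c₂)⁻¹ * a ^ c = b ^ c₂ * (b ^ c₁)⁻¹ := by
      calc (a ^ c₂)⁻¹ * a ^ c = (a ^ c₂)⁻¹ * (a ^ c * b ^ c₁) * (b ^ c₁)⁻¹ := by group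
        _ = _ := by rw [he]; group
    have hu1 := hdis _ (mul_mem (inv_mem (pow_mem ha _)) (pow_mem ha _))
      (hu ▸ mul_mem (pow_mem hb _) (inv_mem (pow_mem hb _)))
    have ea : a ^ c = a ^ c₂ := (inv_mul_eq_one.1 hu1).symm
    have eb : b ^ c₁ = b ^ c₂ := (mul_inv_eq_one.1 (hu.symm.trans hu1)).symm
    -- `f` is scalar, so it fixes the line of `v`
    refine hf1' (hline f f.2 (mem_normalizer_zpowers ?_))
    have hsc : ∀ y ∈ A, (f : G) * y * (f : G)⁻¹ = y ^ c₂ := by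
      intro y hy
      have hgenA : ∀ z ∈ A, ∃ i j : ℤ, z = a ^ i * b ^ j := fun z hz => by
        have h' : z ∈ L ⊔ L₁ := hsup.ge hz
        rw [← SetLike.mem_coe, Subgroup.coe_mul_of_left_le_normalizer_right L L₁ (hLA.trans
          (((le_centralizer_iff_isMulCommutative.2 hA.1).trans (centralizer_le hA₁)).trans
            (centralizer_le_normalizer _)))] at h'
        obtain ⟨a', ha', b', hb', e⟩ := h'
        rw [SetLike.mem_coe, ← zpowers_eq_of_prime hLc ha ha1, mem_zpowers_iff] at ha'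
        rw [SetLike.mem_coe, ← zpowers_eq_of_prime hc₁ hb hb1, mem_zpowers_iff] at hb'
        obtain ⟨i, rfl⟩ := ha'
        obtain ⟨j, rfl⟩ := hb'
        exact ⟨i, j, e.symm⟩
      obtain ⟨i, j, rfl⟩ := hgenA y hy
      have h3 : (f : G) * a ^ i * (f : G)⁻¹ = (a ^ i) ^ c₂ := by
        rw [← conj_zpow, hc, ea, ← zpow_natCast, ← zpow_mul, mul_comm, zpow_mul, zpow_natCast]
      have h4 : (f : G) * b ^ j * (f : G)⁻¹ = (b ^ j) ^ c₂ := by
        rw [← conj_zpow, hc₁', eb, ← zpow_natCast, ← zpow_mul, mul_comm, zpow_mul, zpow_natCast]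
      rw [(hcomm.zpow_zpow i j).mul_pow, ← h3, ← h4]
      group
    rw [hsc v hvA]
    exact npow_mem_zpowers v c₂
  -- so the whole group fixes `L`
  have hfixAll : ∀ g : F, g ^ 2 • L = L → g • L = L := by
    intro g hg
    obtain ⟨k, hk⟩ := Odd.of_dvd_nat hFodd (orderOf_dvd_natCard g)
    have e : (g ^ 2) ^ (k + 1) = g := by
      rw [← pow_mul, show 2 * (k + 1) = (2 * k + 1) + 1 by ring, ← hk, pow_succ, pow_orderOf_eq_one, one_mul]
    rw [← e]
    exact MulAction.mem_stabilizer_iff.1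
      (pow_mem (MulAction.mem_stabilizer_iff.2 hg : g ^ 2 ∈ MulAction.stabilizer F L) (k + 1))
  have hcomm : ∀ g : F, Commute f g := fun g => Subtype.ext (hFab f f.2 g g.2).eq
  have hF : F ≤ normalizer (L : Set G) := by
    intro x hx
    rw [Grp.mem_normalizer_iff_smul]
    show (⟨x, hx⟩ : F) • L = L
    by_contra hne
    set g : F := ⟨x, hx⟩
    have hgL : f • (g • L) = g • L := by rw [← mul_smul, (hcomm g).eq, mul_smul, hfL]
    have hg2 : f • (g ^ 2 • L) = g ^ 2 • L := by rw [← mul_smul, ((hcomm g).pow_right 2).eq, mul_smul, hfL]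
    by_cases h3 : g ^ 2 • L = L
    · exact hne (hfixAll g h3)
    have h4 := htwo _ (hmap g L hL) _ (hmap (g ^ 2) L hL) hgL hg2 hne h3
    rw [sq, mul_smul] at h4
    exact hne (smul_left_cancel g h4).symm
  have h5 := card_dvd_pred hLc hF fun y hy hcy => by
    by_contra hy1
    obtain ⟨x, hx, hx1, -⟩ := exists_generator_line hLc
    exact hx1 (hfree y hy hy1 x (hLA hx) (hcy x hx))
  obtain ⟨c, hc⟩ := h5
  have hr3 : 3 ≤ r := lt_of_le_of_ne hr.out.two_le hr2.symm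
  have hc2 : 2 ≤ c := by
    by_contra hlt
    obtain ⟨j, hj⟩ := hFodd
    obtain ⟨i, hi⟩ := hr.out.odd_of_ne_two hr2
    interval_cases c <;> omega
  have := Nat.mul_le_mul_left (Nat.card F) hc2
  omega

/-- An element outside `H_σ` has a power of prime order outside `σ(H)`. -/
theorem exists_sigma'_power (hG : Cfsg.IsMinSimpleOddOrder G) {H : Subgroup G} (hH : IsCoatom H) {w : G}
    (hw : w ∈ H) (hwX : w ∉ Cfsg.sigmaCore H) :
    ∃ s : ℕ, s.Prime ∧ s ∉ Cfsg.sigma H ∧ ∃ k : ℕ, orderOf (w ^ k) = s := by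
  by_contra hno
  push Not at hno
  refine hwX (mem_sigmaCore_of_pi hG hH hw fun s hs hd => ?_)
  by_contra hsσ
  exact hno s hs hsσ (orderOf w / s) (orderOf_pow_orderOf_div (orderOf_pos w).ne' hd)

/-- When `κ(H) = ∅` the complement of `H_σ` acts without fixed points. -/
theorem free_of_kappa_empty (h : Setup M H E N A T P v) (IH : Below G r) (hκH : Cfsg.kappa H = ∅)
    {w : G} (hw : w ∈ H) (hwX : w ∉ Cfsg.sigmaCore H) {x : G} (hx : x ∈ Cfsg.sigmaCore H) (hc : Commute w x) :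
    x = 1 := by
  by_contra hx1
  obtain ⟨s, hs, hsσ, k, hwo⟩ := exists_sigma'_power h.hG h.conf.hH hw hwX
  haveI := Fact.mk hs
  have hne : Cfsg.sigmaCore H ⊓ centralizer ({w ^ k} : Set G) ≠ ⊥ := fun e => hx1 (by
    rw [← mem_bot, ← e]
    exact ⟨hx, mem_centralizer_singleton_iff.2 (hc.pow_left k).eq.symm⟩)
  rcases fixed_primes_cases h.hG h.conf.hH (H.pow_mem hw k)
      (fun e => hs.ne_one (by rw [← hwo, e, orderOf_one]))
      (fun t ht hd => by rw [hwo, Nat.prime_dvd_prime_iff_eq ht hs] at hd; exact hd ▸ hsσ) hne with h1 | h1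
  · exact (hκH ▸ h1 s hs hwo.symm.dvd :)
  · exact hne (IH s (tau2_lt h.hG h.conf.hH (h1 s hs hwo.symm.dvd) h.conf.hrH h.maxPlane) hs H h.conf.hH hκH
      (h1 s hs hwo.symm.dvd) _ (H.pow_mem hw k) hwo)

/-- Elements of `H ∖ H_σ` fix only conjugates of elements of `K*`, whose centralisers lie in `H`. -/
theorem fixed_in_kappa (hG : Cfsg.IsMinSimpleOddOrder G) {H K : Subgroup G} (hH : IsCoatom H)
    (hK : Cfsg.IsPiHallOf (Cfsg.kappa H) K H) (hK1 : K ≠ ⊥)
    (hfull : Nat.card H = Nat.card (Cfsg.sigmaCore H) * Nat.card K)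
    {w : G} (hw : w ∈ H) (hwX : w ∉ Cfsg.sigmaCore H) {x : G} (hx : x ∈ Cfsg.sigmaCore H) (hx1 : x ≠ 1)
    (hc : Commute w x) : centralizer ({x} : Set G) ≤ H ∧ orderOf x ∣ Nat.card (kStar H K) := by
  haveI := solvable_of_ne_top hG hH.1
  obtain ⟨s, hs, hsσ, k, hwo⟩ := exists_sigma'_power hG hH hw hwX
  haveI := Fact.mk hs
  set w' := w ^ k
  have hw' : w' ∈ H := H.pow_mem hw k
  have hsκ : s ∈ Cfsg.kappa H := by
    have hd : s ∣ Nat.card H := hwo ▸ Subgroup.orderOf_dvd_natCard _ hw'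
    rw [hfull] at hd
    exact hK.2.1 s hs ((hs.dvd_mul.1 hd).resolve_left fun h1 =>
      hsσ (TransHyp.piCoreOf_primes (π := Cfsg.sigma H) (X := H) hs h1))
  obtain ⟨a, ha, hwa⟩ := Grp.PiHall.dominate hK (U := zpowers w') (zpowers_le.2 hw') fun p hp hd => by
    rw [Nat.card_zpowers, hwo, Nat.prime_dvd_prime_iff_eq hp hs] at hd
    exact hd ▸ hsκ
  obtain ⟨b, hb, hbe⟩ := hwa (mem_zpowers w')
  replace hbe : a * b * a⁻¹ = w' := hbe
  have hb1 : b ≠ 1 := fun e => hs.ne_one (by rw [← hwo, ← hbe, e, mul_one, mul_inv_cancel, orderOf_one])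
  have hz : a⁻¹ * x * a ∈ kStar H K := by
    refine ((Cfsg.Agent.S1430.result hG H hH K hK hK1).1 b hb hb1).le
      ⟨Grp.mem_conj_normalizer' (TransHyp.le_normalizer_piCoreOf H ha) hx, mem_centralizer_singleton_iff.2 ?_⟩
    have h1 : Commute w' x := hc.pow_left k
    rw [← hbe] at h1
    calc a⁻¹ * x * a * b = a⁻¹ * (x * (a * b * a⁻¹)) * a := by group
      _ = a⁻¹ * ((a * b * a⁻¹) * x) * a := by rw [h1.eq]
      _ = b * (a⁻¹ * x * a) := by group
  refine ⟨fun g hg => ?_, ?_⟩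
  · by_contra hgH
    have hg' : a⁻¹ * g * a ∉ H := fun h1 => hgH (by
      have := H.mul_mem (H.mul_mem ha h1) (H.inv_mem ha)
      rwa [show a * (a⁻¹ * g * a) * a⁻¹ = g by group] at this)
    have h2 : a⁻¹ * x * a ∈ kStar H K ⊓ H.map (MulAut.conj (a⁻¹ * g * a)).toMonoidHom := by
      refine ⟨hz, a⁻¹ * x * a, TransHyp.piCoreOf_le H hz.1, ?_⟩
      show a⁻¹ * g * a * (a⁻¹ * x * a) * (a⁻¹ * g * a)⁻¹ = a⁻¹ * x * a
      calc a⁻¹ * g * a * (a⁻¹ * x * a) * (a⁻¹ * g * a)⁻¹ = a⁻¹ * (g * x) * g⁻¹ * a := by group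
        _ = a⁻¹ * (x * g) * g⁻¹ * a := by rw [mem_centralizer_singleton_iff.1 hg]
        _ = a⁻¹ * x * a := by group
    have h3 := (Cfsg.Agent.S1431.result hG H hH K hK hK1).1 _ hg'
    rw [h3, mem_bot] at h2
    exact hx1 (by rw [show x = a * (a⁻¹ * x * a) * a⁻¹ by group, h2, mul_one, mul_inv_cancel])
  · have h1 := Subgroup.orderOf_dvd_natCard _ hz
    rwa [show a⁻¹ * x * a = MulAut.conj a⁻¹ x by simp [MulAut.conj_apply], MulEquiv.orderOf_eq] at h1

/-- `E ≤ H_σ` when its other elements act freely on the plane. -/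
theorem E_le_X (h : Setup M H E N A T P v)
    (hfree : ∀ w ∈ E, w ∉ Cfsg.sigmaCore H → ∀ a ∈ A, Commute w a → a = 1) : E ≤ Cfsg.sigmaCore H := by
  intro x hx
  by_contra hxX
  obtain ⟨s, hs, hsσ, k, hwo⟩ := exists_sigma'_power h.hG h.conf.hH (h.EH hx) hxX
  haveI := Fact.mk hs
  set w := x ^ k
  have hwE : w ∈ E := E.pow_mem hx k
  have hwX : w ∉ Cfsg.sigmaCore H := fun hh => hsσ (TransHyp.piCoreOf_primes (π := Cfsg.sigma H) (X := H) hs
    (hwo ▸ Subgroup.orderOf_dvd_natCard _ hh))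
  have hw1 : w ≠ 1 := fun e => hwX (e ▸ one_mem _)
  set S := Cfsg.sigmaCore M with hS
  haveI := solvable_of_ne_top h.hG h.conf.hM.1
  have hA1 : A ≠ ⊥ := fun e => h.conf.v_ne (mem_bot.1 (e ▸ h.hvA))
  have hwA : ∀ u ∈ zpowers w, u ≠ 1 → ∀ a ∈ A, u * a = a * u → a = 1 := fun u hu hu1 a ha hc => by
    refine hfree u ((zpowers_le.2 hwE) hu) (fun hh => ?_) a ha hc
    have e1 : zpowers u = zpowers w := zpowers_eq_of_prime (by rw [Nat.card_zpowers, hwo]) hu hu1
    exact hwX ((zpowers_le.2 hh) (e1 ▸ mem_zpowers w))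
  -- `w` has no fixed point on `M_σ`
  have hfw : S ⊓ centralizer (zpowers w : Set G) = ⊥ := by
    by_contra hne
    rw [centralizer_zpowers_eq] at hne
    rcases fixed_primes_cases h.hG h.conf.hM (h.conf.hE.1 hwE) hw1
        (fun t ht hd => compl_prime h.hG h.conf.hM h.conf.hE ht (hd.trans (Subgroup.orderOf_dvd_natCard _ hwE))) hne
        with h1 | h1
    · exact (h.hκ ▸ h1 s hs hwo.symm.dvd :)
    · have h2 := tau2_centralizes h.hG h.conf.hM h.conf.hE h.conf.hτ (h1 s hs hwo.symm.dvd) h.AE h.plane.elem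
        h.plane.card (zpowers_le.2 hwE)
        (IsPGroup.of_card (n := 1) (by rw [Nat.card_zpowers, hwo, pow_one])) (mem_zpowers w)
      exact h.conf.v_ne (hwA w (mem_zpowers w) hw1 v h.hvA (mem_centralizer_iff.1 h2 v h.hvA).symm)
  have hfA : S ⊓ centralizer (A : Set G) = ⊥ := (Cfsg.Agent.S1417.result h.hG M h.conf.hM r h.conf.hτ A
    ⟨h.AE.trans h.conf.hE.1, h.plane.elem, h.plane.card⟩).2.2.2.1
  have hsup : A ⊔ zpowers w ≤ E := sup_le h.AE (zpowers_le.2 hwE)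
  have hcop : (Nat.card S).Coprime (Nat.card ↥(A ⊔ zpowers w)) := Nat.coprime_of_dvd fun t ht h1 h2 =>
    compl_prime h.hG h.conf.hM h.conf.hE ht (h2.trans (card_dvd_of_le hsup))
      (TransHyp.piCoreOf_primes (π := Cfsg.sigma M) (X := M) ht h1)
  have hform := Cfsg.Agent.S1545.result A (zpowers w) S hA1 (fun e => hw1 (zpowers_eq_bot.1 e))
    ((Subgroup.eq_bot_iff_forall _).2 fun a ha => by
      by_contra ha1
      exact ha1 (hwA a ha.2 ha1 a ha.1 rfl))
    (fun u hu a ha => Grp.mem_conj_normalizer (h.plane.compl_normalizes ((zpowers_le.2 hwE) hu)) ha)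
    hwA (fun u hu y hy => Grp.mem_conj_normalizer (TransHyp.le_normalizer_piCoreOf M (h.conf.hE.1 (hsup hu))) hy)
    (Grp.inf_eq_bot_of_coprime hcop) (isSolvable_of_le (TransHyp.piCoreOf_le M)) hcop
  have h3 : S ⊓ centralizer ((A ⊔ zpowers w : Subgroup G) : Set G) = ⊥ := le_bot_iff.1
    ((inf_le_inf_left _ (centralizer_le (SetLike.coe_subset_coe.2 (le_sup_left : A ≤ A ⊔ zpowers w)))).trans hfA.le)
  rw [hfA, hfw, h3, card_bot, one_pow, one_mul, one_mul] at hform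
  exact sigmaCore_ne_bot h.hG h.conf.hM (Subgroup.card_eq_one.1 hform)

/-- A conjugate of a group of operators normalises the Sylow subgroup. -/
theorem exists_conj_normalizing (h : Setup M H E N A T P v) {F : Subgroup G} (hF : F ≤ H)
    (hcop : (Nat.card F).Coprime (Nat.card (Cfsg.sigmaCore H))) :
    ∃ k ∈ Cfsg.sigmaCore H, MulAut.conj k • F ≤ normalizer ((P : Subgroup G) : Set G) := by
  haveI := solvable_of_ne_top h.hG h.conf.hH.1
  obtain ⟨X₀, hX₀, hFX⟩ := Grp.exists_invariant_sylow F (Cfsg.sigmaCore H)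
    (hF.trans (TransHyp.le_normalizer_piCoreOf H)) hcop
    (Or.inr (isSolvable_of_le (TransHyp.piCoreOf_le H))) r
  obtain ⟨k, hk, hkP⟩ := hX₀.conj h.hP
  refine ⟨k, hk, ?_⟩
  rw [← hkP]
  exact smul_le_normalizer hFX k

end Cfsg.Agent.Transfer.Loc.TypeI
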