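import Cfsg.Agent.Lib.Transfer.Local.TypeICases
import Cfsg.Agent.Lib.Transfer.Local.TypeIPlane
import Cfsg.Agent.Lib.Transfer.Local.NonTIKappa
import Cfsg.Agent.S1365
import Cfsg.Agent.S1373

/-!
A cyclic Hall `κ(H)`-subgroup complementing `H_σ` and normalising the Sylow subgroup of the plane.
-/

set_option autoImplicit false
set_option linter.style.haveILetI false
set_option linter.unusedSectionVars false
set_option maxHeartbeats 2000000

namespace Cfsg.Agent.Transfer.Loc.TypeI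

open Subgroup Cfsg.Agent.Char Cfsg.Agent.Char.KerSets
open scoped commutatorElement Pointwise

attribute [local instance] core_normal

universe u

variable {G : Type u} [Group G] [Finite G] {r : ℕ} [hr : Fact r.Prime]
  {M H E N A T : Subgroup G} {P : Sylow r G} {v : G}

/-- The facts about `K`. -/
structure KSetup (H : Subgroup G) (P : Sylow r G) (K : Subgroup G) : Prop where
  decomp : Cfsg.IsSigmaDecomposition H K ⊥
  ne : K ≠ ⊥
  normP : K ≤ normalizer ((P : Subgroup G) : Set G)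
  card : Nat.card H = Nat.card (Cfsg.sigmaCore H) * Nat.card K
  idx : (Cfsg.sigmaCore H).relIndex H = Nat.card K
  cop : (Nat.card K).Coprime (Nat.card (Cfsg.sigmaCore H))
  sup : Cfsg.sigmaCore H ⊔ K = H
  der : ⁅H, H⁆ = Cfsg.sigmaCore H
  star_der : kStar H K ≤ ⁅Cfsg.sigmaCore H, Cfsg.sigmaCore H⁆
  star_prime : (Nat.card (kStar H K)).Prime
  e3 : 3 ≤ Nat.card K
  odd : Odd (Nat.card K)

theorem exists_ksetup (h : Setup M H E N A T P v) {K : Subgroup G} (hKU : Cfsg.IsSigmaDecomposition H K ⊥)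
    (hK1 : K ≠ ⊥) : ∃ K' : Subgroup G, KSetup H P K' := by
  have hG := h.hG
  have hH := h.conf.hH
  haveI := solvable_of_ne_top hG hH.1
  set X := Cfsg.sigmaCore H
  have hXH : X ≤ H := TransHyp.piCoreOf_le H
  have hcop := (kStar_facts hG hH hKU.hall).2.2.2.1
  obtain ⟨k, hk, hKP⟩ := exists_conj_normalizing h hKU.hall.1 hcop
  have hkH : MulAut.conj k • H = H := Grp.mem_normalizer_iff_smul.1 ((le_normalizer (H := H)) (hXH hk))
  set K' := MulAut.conj k • K
  have hcard : Nat.card K' = Nat.card K := Grp.card_conj_smul k K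
  haveI := hKU.cyclic
  have hcyc : IsCyclic K' := isCyclic_of_surjective _ (Subgroup.equivSMul (MulAut.conj k) K).surjective
  have hall : Cfsg.IsPiHallOf (Cfsg.kappa H) K' H := Grp.PiHall.smul hKU.hall hkH
  obtain ⟨hc0, -, -⟩ := decomp_compl hG hH hKU
  rw [bot_sup_eq] at hc0
  have hsup0 : X ⊔ K = H := by rw [sup_comm]; exact compl_sup hc0
  have hsup : X ⊔ K' = H := by
    have h1 := congrArg (fun S : Subgroup G => MulAut.conj k • S) hsup0
    simp only [Subgroup.smul_sup, hkH] at h1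
    have h2 : MulAut.conj k • X = X := Grp.mem_normalizer_iff_smul.1 (TransHyp.le_normalizer_piCoreOf H (hXH hk))
    rwa [h2] at h1
  have hcompl : Cfsg.IsComplIn ⊥ (K' ⊔ X) H :=
    ⟨bot_le, (sup_comm K' X).le.trans hsup.le, bot_inf_eq _, fun m hm =>
      ⟨1, one_mem _, m, by rw [sup_comm, hsup]; exact hm, (one_mul m).symm⟩⟩
  have hD : Cfsg.IsSigmaDecomposition H K' ⊥ :=
    ⟨hcyc, hall, hcompl, fun g _ => Grp.mem_normalizer_iff_smul.2 (Subgroup.smul_bot _)⟩
  have hK1' : K' ≠ ⊥ := fun e => hK1 (Subgroup.card_eq_one.1 (by rw [← hcard, e, Subgroup.card_bot]))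
  obtain ⟨hder, hsD⟩ := Cfsg.Agent.S1365.result hG H hH K' ⊥ hD hK1'
  rw [bot_sup_eq] at hder
  rw [hder] at hsD
  have hcH : Nat.card H = Nat.card X * Nat.card K' := by
    rw [hcard, ← complIn_card hc0, mul_comm]
  have hidx : X.relIndex H = Nat.card K' :=
    Nat.eq_of_mul_eq_mul_left (Nat.card_pos (α := X)) ((Grp.card_mul_relIndex hXH).trans hcH)
  have hodd : Odd (Nat.card K') := hG.1.of_dvd_nat (card_subgroup_dvd_card K')
  refine ⟨K', hD, hK1', hKP, hcH, hidx, by rw [hcard]; exact hcop, hsup, hder, hsD,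
    Cfsg.Agent.S1373.result hG H hH K' ⊥ hD hK1' rfl, ?_, hodd⟩
  obtain ⟨j, hj⟩ := hodd
  rcases Nat.eq_zero_or_pos j with rfl | hpos
  · exact absurd (Subgroup.card_eq_one.1 (by rw [hj, mul_zero, zero_add])) hK1'
  · omega

namespace KSetup

variable {K : Subgroup G} (hk : KSetup H P K)
include hk

theorem KH : K ≤ H := hk.decomp.hall.1

theorem fixed (h : Setup M H E N A T P v) {w : G} (hw : w ∈ H) (hwX : w ∉ Cfsg.sigmaCore H) {x : G}
    (hx : x ∈ Cfsg.sigmaCore H) (hx1 : x ≠ 1) (hc : Commute w x) :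
    centralizer ({x} : Set G) ≤ H ∧ orderOf x ∣ Nat.card (kStar H K) :=
  fixed_in_kappa h.hG h.conf.hH hk.decomp.hall hk.ne hk.card hw hwX hx hx1 hc

theorem CX (h : Setup M H E N A T P v) : H ⊓ centralizer ({v} : Set G) ≤ Cfsg.sigmaCore H := fun w hw => by
  by_contra hwX
  exact h.conf.hnot (hk.fixed h hw.1 hwX h.conf.hvX h.conf.v_ne (mem_centralizer_singleton_iff.1 hw.2)).1

theorem notX {k : G} (hkK : k ∈ K) (hk1 : k ≠ 1) : k ∉ Cfsg.sigmaCore H := fun hh => hk1 (by
  rw [← mem_bot, ← Grp.inf_eq_bot_of_coprime hk.cop]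
  exact ⟨hkK, hh⟩)

/-- A character fixed outside `H_σ` is fixed by some element of `K`. -/
theorem exists_fixer {θ : (Cfsg.sigmaCore H).subgroupOf H → ℂ} (hθ : Cfsg.IsIrrCharacter _ θ) {g : H}
    (hg : conjN ((Cfsg.sigmaCore H).subgroupOf H) g θ = θ) (hgX : (g : G) ∉ Cfsg.sigmaCore H) :
    ∃ f : H, (f : G) ∈ K ∧ f ≠ 1 ∧ conjN ((Cfsg.sigmaCore H).subgroupOf H) f θ = θ := by
  have h1 : (g : G) ∈ Cfsg.sigmaCore H ⊔ K := by rw [hk.sup]; exact g.2
  rw [← SetLike.mem_coe, Subgroup.coe_mul_of_right_le_normalizer_left (Cfsg.sigmaCore H) K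
    (hk.KH.trans (TransHyp.le_normalizer_piCoreOf H))] at h1
  obtain ⟨x, hx, f, hf, e⟩ := h1
  replace e : x * f = g := e
  have hfne : f ≠ 1 := fun e1 => hgX (by rw [← e, e1, mul_one]; exact hx)
  refine ⟨⟨f, hk.KH hf⟩, hf, fun e1 => hfne (congrArg Subtype.val e1), ?_⟩
  have h2 : (⟨x, TransHyp.piCoreOf_le H hx⟩ : H) ∈ inertia ((Cfsg.sigmaCore H).subgroupOf H) θ :=
    le_inertia _ (IsIrr.classFun hθ) hx
  have h3 := mul_mem (inv_mem h2) ((mem_inertia _).2 hg)
  rwa [show (⟨x, TransHyp.piCoreOf_le H hx⟩ : H)⁻¹ * g = ⟨f, hk.KH hf⟩ from Subtype.ext (by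
    show x⁻¹ * (g : G) = f
    rw [← e, inv_mul_cancel_left]), mem_inertia] at h3

/-- A fixed character trivial on a subgroup containing `K*` is principal. -/
theorem stable_principal (h : Setup M H E N A T P v) {L : Subgroup G} (hL : kStar H K ≤ L)
    {θ : (Cfsg.sigmaCore H).subgroupOf H → ℂ} (hθ : Cfsg.IsIrrCharacter _ θ)
    (htriv : ∀ a ∈ lift H (Cfsg.sigmaCore H) L, θ a = θ 1) {g : H}
    (hg : conjN ((Cfsg.sigmaCore H).subgroupOf H) g θ = θ) (hgX : (g : G) ∉ Cfsg.sigmaCore H) :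
    θ = fun _ => 1 := by
  letI := Fintype.ofFinite H
  obtain ⟨f, hfK, hf1, hff⟩ := hk.exists_fixer hθ hg hgX
  obtain ⟨s, hs, hsd⟩ := Nat.exists_prime_and_dvd fun e => hf1 (orderOf_eq_one_iff.1 e)
  haveI := Fact.mk hs
  set k := f ^ (orderOf f / s)
  have hko : orderOf k = s := orderOf_pow_orderOf_div (orderOf_pos f).ne' hsd
  have hkK : (k : G) ∈ K := K.pow_mem hfK _
  refine eq_one_of_prime_fixed ((Cfsg.sigmaCore H).subgroupOf H) hko ?_ hθ
    ((mem_inertia _).1 ((inertia _ θ).pow_mem ((mem_inertia _).2 hff) _)) fun n hn => htriv n ?_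
  · have e1 : Nat.card ((Cfsg.sigmaCore H).subgroupOf H) = Nat.card (Cfsg.sigmaCore H) :=
      Nat.card_congr (subgroupOfEquivOfLe (TransHyp.piCoreOf_le H)).toEquiv
    rw [e1]
    intro hd
    exact hs.ne_one (Nat.eq_one_of_dvd_coprimes hk.cop
      (hko ▸ Subgroup.orderOf_coe k ▸ Subgroup.orderOf_dvd_natCard _ hkK) hd)
  · refine hL (((Cfsg.Agent.S1430.result h.hG H h.conf.hH K hk.decomp.hall hk.ne).1 (k : G) hkK
      (fun e => hs.ne_one (by rw [← hko, show k = 1 from Subtype.ext e, orderOf_one]))).le ⟨n.2, ?_⟩)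
    exact mem_centralizer_singleton_iff.2 (congrArg Subtype.val hn).symm

end KSetup

/-- A linear character is trivial on commutators. -/
theorem triv_of_linear {X : Type u} [Group X] [Finite X] {θ : X → ℂ} (hθ : Cfsg.IsIrrCharacter X θ)
    (h1 : dg θ = 1) {L : Subgroup X} (hL : L ≤ commutator X) : ∀ a ∈ L, θ a = θ 1 := by
  letI := Fintype.ofFinite X
  have hone : θ 1 = 1 := by rw [dg_spec hθ, h1, Nat.cast_one]
  obtain ⟨l, hl⟩ := linearHom_of_isCharacter (IsIrr.isCharacter hθ) hone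
  intro a ha
  have h2 : l a = 1 := by
    have h3 : commutator X ≤ l.ker := Abelianization.commutator_subset_ker l
    exact h3 (hL ha)
  simp only [hl, h2, map_one]

end Cfsg.Agent.Transfer.Loc.TypeI
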