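import Cfsg.Agent.Lib.Transfer.Local.TypeICount
import Cfsg.Agent.Lib.Char.KerSets
import Cfsg.Agent.Lib.Char.CohDescent
import Cfsg.Agent.Lib.Char.Galois

/-!
Induced families of irreducible characters from a normal subgroup of `H`.
-/

set_option autoImplicit false
set_option linter.style.haveILetI false
set_option linter.unusedSectionVars false
set_option maxHeartbeats 2000000

namespace Cfsg.Agent.Transfer.Loc.TypeI

open Subgroup Cfsg.Agent.Char Cfsg.Agent.Char.KerSets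
open scoped ComplexConjugate Pointwise

attribute [local instance] Classical.propDecidable

universe u

section Generic

variable {X : Type u} [Group X] [Fintype X]

/-- The irreducible characters with `O` in the kernel. -/
noncomputable def trivOn (O : Subgroup X) : Finset (X → ℂ) :=
  (Finset.univ.filter fun χ : Cfsg.IrrCharacter X => ∀ o : O, (χ : X → ℂ) o = (χ : X → ℂ) 1).map
    ⟨Subtype.val, Subtype.val_injective⟩

theorem mem_trivOn {O : Subgroup X} {f : X → ℂ} :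
    f ∈ trivOn O ↔ Cfsg.IsIrrCharacter X f ∧ ∀ o ∈ O, f o = f 1 := by
  simp only [trivOn, Finset.mem_map, Finset.mem_filter, Finset.mem_univ, true_and, Function.Embedding.coeFn_mk]
  constructor
  · rintro ⟨χ, h, rfl⟩
    exact ⟨χ.2, fun o ho => h ⟨o, ho⟩⟩
  · rintro ⟨h1, h2⟩
    exact ⟨⟨f, h1⟩, fun o => h2 o o.2, rfl⟩

theorem one_mem_trivOn (O : Subgroup X) : (fun _ => (1 : ℂ)) ∈ trivOn O :=
  mem_trivOn.2 ⟨isIrr_one, fun _ _ => rfl⟩

theorem dg_one : dg (fun _ : X => (1 : ℂ)) = 1 := by simp [dg]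

/-- The regular character of a quotient. -/
theorem sum_trivOn (O : Subgroup X) [O.Normal] (a : X) :
    ∑ θ ∈ trivOn O, θ 1 * θ a = if a ∈ O then (O.index : ℂ) else 0 := by
  haveI : Fintype O := Fintype.ofFinite O
  have h1 : ∑ χ : Cfsg.IrrCharacter X, (χ : X → ℂ) 1 * avgN O (χ : X → ℂ) a =
      ∑ θ ∈ trivOn O, θ 1 * θ a := by
    rw [trivOn, Finset.sum_map, Finset.sum_filter]
    refine Finset.sum_congr rfl fun χ _ => ?_
    rcases avgN_irr O χ.2 with ⟨h0, e⟩ | ⟨hk, e⟩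
    · rw [e, if_neg, Pi.zero_apply, mul_zero]
      intro hc
      have h3 : Cfsg.classInner (fun n : O => (χ : X → ℂ) n) (fun _ => 1) = (χ : X → ℂ) 1 := by
        simp [Cfsg.classInner, hc, Nat.card_pos.ne']
      rw [h3] at h0
      exact IsIrr.one_ne_zero χ.2 h0
    · rw [e, if_pos hk]
      rfl
  rw [← h1]
  simp only [avgN, mul_left_comm _ (Nat.card O : ℂ)⁻¹, Finset.mul_sum]
  rw [Finset.sum_comm]
  simp only [← Finset.mul_sum, regular_expansion]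
  by_cases ha : a ∈ O
  · rw [if_pos ha, Finset.sum_eq_single (⟨a⁻¹, O.inv_mem ha⟩ : O) (fun n _ hn => if_neg fun e => hn
      (Subtype.ext (mul_eq_one_iff_eq_inv.1 e))) (fun hn => absurd (Finset.mem_univ _) hn),
      if_pos (inv_mul_cancel a)]
    have h2 : (O.index : ℂ) * Nat.card O = Nat.card X := by exact_mod_cast O.index_mul_card
    rw [← h2, mul_comm (O.index : ℂ), inv_mul_cancel_left₀ (Nat.cast_ne_zero.2 Nat.card_pos.ne')]
  · rw [if_neg ha, Finset.sum_eq_zero fun n _ => if_neg fun e => ha ?_, mul_zero]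
    rw [eq_inv_of_mul_eq_one_right e]
    exact O.inv_mem n.2

theorem sum_sq_trivOn (O : Subgroup X) [O.Normal] : ∑ θ ∈ trivOn O, dg θ ^ 2 = O.index := by
  have h := sum_trivOn O 1
  rw [if_pos O.one_mem, Finset.sum_congr rfl (g := fun θ => ((dg θ ^ 2 : ℕ) : ℂ)) fun θ hθ => by
    rw [dg_spec (mem_trivOn.1 hθ).1]; push_cast; ring] at h
  exact_mod_cast h

/-- `|∑ θ(1) θ(a)|² ≤ (∑ θ(1)²) |C(a)|`. -/
theorem sq_sum_column (U : Finset (X → ℂ)) (hU : ∀ f ∈ U, Cfsg.IsIrrCharacter X f) (m : (X → ℂ) → ℕ) (a : X) :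
    ‖∑ f ∈ U, (m f : ℂ) * f a‖ ^ 2 ≤
      ((∑ f ∈ U, m f ^ 2 : ℕ) : ℝ) * Nat.card (Subgroup.centralizer ({a} : Set X)) := by
  have h1 : ∑ f ∈ U, ‖f a‖ ^ 2 ≤ (Nat.card (Subgroup.centralizer ({a} : Set X)) : ℝ) := by
    have h2 := sum_irr_mul_conj a a
    rw [if_pos (IsConj.refl a)] at h2
    have h3 : ∑ χ : Cfsg.IrrCharacter X, ‖(χ : X → ℂ) a‖ ^ 2 =
        (Nat.card (Subgroup.centralizer ({a} : Set X)) : ℝ) := by
      have h4 := congrArg Complex.re h2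
      simp only [Complex.re_sum, Complex.mul_conj, Complex.ofReal_re, Complex.natCast_re] at h4
      simpa only [← Complex.normSq_eq_norm_sq] using h4
    rw [← h3]
    refine le_trans (le_of_eq ?_) (Finset.sum_le_univ_sum_of_nonneg (s := U.attach.map
      ⟨fun f => (⟨f.1, hU f.1 f.2⟩ : Cfsg.IrrCharacter X), fun a b e => Subtype.ext
        (Subtype.mk.inj e)⟩) fun _ => sq_nonneg _)
    rw [Finset.sum_map]
    exact (Finset.sum_attach U fun f => ‖f a‖ ^ 2).symm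
  calc ‖∑ f ∈ U, (m f : ℂ) * f a‖ ^ 2 ≤ (∑ f ∈ U, (m f : ℝ) * ‖f a‖) ^ 2 :=
        pow_le_pow_left₀ (norm_nonneg _) ((norm_sum_le _ _).trans (le_of_eq (Finset.sum_congr rfl fun f _ => by
          rw [norm_mul, Complex.norm_natCast]))) 2
    _ ≤ (∑ f ∈ U, (m f : ℝ) ^ 2) * ∑ f ∈ U, ‖f a‖ ^ 2 := Finset.sum_mul_sq_le_sq_mul_sq _ _ _
    _ ≤ _ := by
        push_cast
        exact mul_le_mul_of_nonneg_left h1 (Finset.sum_nonneg fun f _ => sq_nonneg _)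

end Generic

variable {G : Type u} [Group G] [Fintype G]

/-- The data of the family induced from a set of irreducible characters of `X`. -/
theorem exists_data {H X O : Subgroup G} [Fintype H] [Fintype (X.subgroupOf H)] [(X.subgroupOf H).Normal]
    (hXH : X ≤ H) {A' : Set G} (hA : ∀ a : G, a ∈ A' ↔ a ∈ X ∧ a ∉ O)
    (hD : Cfsg.DadeHypothesis A' H (Cfsg.supportR H)) (Θ : Finset (X.subgroupOf H → ℂ))
    (hΘ : ∀ θ ∈ Θ, Cfsg.IsIrrCharacter (X.subgroupOf H) θ ∧ inertia (X.subgroupOf H) θ = X.subgroupOf H ∧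
      (∀ x : X.subgroupOf H, ((x : H) : G) ∈ O → θ x = θ 1) ∧ ∀ g : H, conjN (X.subgroupOf H) g θ ∈ Θ)
    (hgal : ∀ θ ∈ Θ, dg θ = 1 → ∀ σ : ℂ ≃+* ℂ, (fun x => σ (θ x)) ∈ Θ)
    (h5 : 5 * (X.subgroupOf H).index ≤ (Θ.filter fun θ => dg θ = 1).card)
    (hchain : ∀ θ ∈ Θ, 1 < dg θ →
      2 * ((X.subgroupOf H).index * dg θ) < ∑ φ ∈ Θ.filter (fun φ => dg φ < dg θ), dg φ ^ 2) :
    ∃ (F Ψ : G → ℂ) (ξ σ : H → ℂ) (W : ℕ) (b : G → G → ℤ) (d : G → ℤ),
      Data H A' F Ψ ξ σ (X.subgroupOf H).index W b d ∧ W * (X.subgroupOf H).index = ∑ θ ∈ Θ, dg θ ^ 2 ∧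
      ∀ a : H, ∀ ha : (a : G) ∈ X, σ a = ∑ θ ∈ Θ, θ 1 * θ ⟨a, ha⟩ ∧
        ‖σ a‖ ^ 2 ≤ (W : ℝ) * Nat.card (Subgroup.centralizer ({a} : Set H)) := by
  set e := (X.subgroupOf H).index with he
  have he0 : e ≠ 0 := Subgroup.index_ne_zero_of_finite
  have hirr : ∀ θ ∈ Θ, Cfsg.IsIrrCharacter H (Cfsg.indFun (X.subgroupOf H) θ) := fun θ hθ =>
    indFun_irr_of_inertia_eq (X.subgroupOf H) (hΘ θ hθ).1 (hΘ θ hθ).2.1
  have hdeg : ∀ θ ∈ Θ, Cfsg.indFun (X.subgroupOf H) θ 1 = ((dg θ * e : ℕ) : ℂ) := fun θ hθ => by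
    rw [indFun_one_eq, dg_spec (hΘ θ hθ).1, Nat.cast_mul, mul_comm]
  let m : (H → ℂ) → ℕ := fun f => dg f / e
  have hm : ∀ θ ∈ Θ, m (Cfsg.indFun (X.subgroupOf H) θ) = dg θ := fun θ hθ => by
    have h1 := dg_spec (hirr θ hθ)
    rw [hdeg θ hθ, Nat.cast_inj] at h1
    simp only [m, ← h1]
    exact Nat.mul_div_cancel _ (Nat.pos_of_ne_zero he0)
  set U := Θ.image (Cfsg.indFun (X.subgroupOf H)) with hU
  have hfib : ∀ θ ∈ Θ, (Θ.filter fun φ => Cfsg.indFun (X.subgroupOf H) φ = Cfsg.indFun (X.subgroupOf H) θ).card = e := by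
    intro θ hθ
    have e1 : (Θ.filter fun φ => Cfsg.indFun (X.subgroupOf H) φ = Cfsg.indFun (X.subgroupOf H) θ) = conjOrbit (X.subgroupOf H) θ := by
      ext φ
      rw [Finset.mem_filter, mem_conjOrbit]
      constructor
      · rintro ⟨hφ, hφe⟩
        have h1 := classInner_indFun_indFun_irr (X.subgroupOf H) (hΘ θ hθ).1 (hΘ φ hφ).1
        rw [hφe, classInner_self_irr (hirr θ hθ)] at h1
        by_contra hno
        push Not at hno
        haveI : IsEmpty {x : H // conjN (X.subgroupOf H) x θ = φ} := ⟨fun x => hno x.1 x.2⟩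
        rw [Nat.card_of_isEmpty (α := {x : H // conjN (X.subgroupOf H) x θ = φ}), Nat.cast_zero, mul_zero] at h1
        exact one_ne_zero h1
      · rintro ⟨g, rfl⟩
        exact ⟨(hΘ θ hθ).2.2.2 g, indFun_conjN (X.subgroupOf H) θ g⟩
    rw [e1, card_conjOrbit, (hΘ θ hθ).2.1]
  have hsum : ∀ {β : Type} [AddCommMonoid β] (g : (H → ℂ) → β) (P : ℕ → Prop) [DecidablePred P],
      ∑ θ ∈ Θ.filter (fun θ => P (dg θ)), g (Cfsg.indFun (X.subgroupOf H) θ) = e • ∑ ξ ∈ U.filter (fun ξ => P (m ξ)), g ξ := by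
    intro β _ g P _
    rw [← Finset.sum_nsmul, ← Finset.sum_fiberwise_of_maps_to (t := U.filter fun ξ => P (m ξ))
      (g := Cfsg.indFun (X.subgroupOf H)) fun θ hθ => ?_]
    · refine Finset.sum_congr rfl fun ξ hξ => ?_
      obtain ⟨hξU, hξP⟩ := Finset.mem_filter.1 hξ
      obtain ⟨θ₀, hθ₀, rfl⟩ := Finset.mem_image.1 hξU
      rw [Finset.sum_congr rfl fun θ hθ => by rw [(Finset.mem_filter.1 hθ).2], Finset.sum_const]
      congr 1
      rw [Finset.filter_filter, ← hfib θ₀ hθ₀]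
      refine congrArg Finset.card (Finset.filter_congr fun θ hθ => ⟨fun h' => h'.2, fun h' => ⟨?_, h'⟩⟩)
      rw [← hm θ hθ, h']
      exact hξP
    · obtain ⟨h1, h2⟩ := Finset.mem_filter.1 hθ
      exact Finset.mem_filter.2 ⟨Finset.mem_image_of_mem _ h1, by rw [hm θ h1]; exact h2⟩
  have h5' : 5 ≤ (U.filter fun ξ => m ξ = 1).card := by
    have h1 := hsum (fun _ => (1 : ℕ)) (fun n => n = 1)
    simp only [Finset.sum_const, smul_eq_mul, mul_one] at h1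
    rw [h1, mul_comm 5] at h5
    exact Nat.le_of_mul_le_mul_left h5 (Nat.pos_of_ne_zero he0)
  obtain ⟨ξ₀, hξ₀⟩ := Finset.card_pos.1 (by omega : 0 < (U.filter fun ξ => m ξ = 1).card)
  obtain ⟨hξ₀U, hm0⟩ := Finset.mem_filter.1 hξ₀
  have hval : ∀ θ ∈ Θ, ∀ x : H, (x : G) ∉ A' →
      Cfsg.indFun (X.subgroupOf H) θ x = if (x : G) ∈ X then ((dg θ * e : ℕ) : ℂ) else 0 := by
    intro θ hθ x hx
    by_cases hxX : (x : G) ∈ X
    · rw [if_pos hxX, ← hdeg θ hθ]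
      have hxO : (x : G) ∈ O := by_contra fun hn => hx ((hA _).2 ⟨hxX, hn⟩)
      simp only [Cfsg.indFun]
      congr 1
      refine Finset.sum_congr rfl fun y _ => ?_
      have hy : y⁻¹ * x * y ∈ (X.subgroupOf H) := by
        simpa using (inferInstance : (X.subgroupOf H).Normal).conj_mem x hxX y⁻¹
      rw [extendByZero_of_mem _ hy, mul_one, inv_mul_cancel, extendByZero_of_mem _ (one_mem (X.subgroupOf H))]
      have h1 : conjN (X.subgroupOf H) y⁻¹ θ ⟨x, hxX⟩ = conjN (X.subgroupOf H) y⁻¹ θ 1 :=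
        (hΘ _ ((hΘ θ hθ).2.2.2 y⁻¹)).2.2.1 ⟨x, hxX⟩ hxO
      simpa [conjN] using h1
    · rw [if_neg hxX]
      refine indFun_eq_zero_of_not_conj (X.subgroupOf H) θ fun y hy => absurd ?_ hxX
      have h1 := (inferInstance : (X.subgroupOf H).Normal).conj_mem _ hy y
      rwa [show y * (y⁻¹ * x * y) * y⁻¹ = x by group] at h1
  obtain ⟨F, Ψ, b, d, hF, hΨ, hn, hv, ho⟩ := exists_img hD U m he0
    (fun ξ hξ => by
      obtain ⟨θ, hθ, rfl⟩ := Finset.mem_image.1 hξ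
      exact ⟨hirr θ hθ, by rw [hm θ hθ, hdeg θ hθ]⟩)
    hξ₀U hm0 h5'
    (fun ξ hξ h1 σ => by
      obtain ⟨θ, hθ, rfl⟩ := Finset.mem_image.1 hξ
      rw [hm θ hθ] at h1
      refine Finset.mem_image.2 ⟨_, hgal θ hθ h1 σ, funext fun g => ?_⟩
      simp only [Cfsg.indFun, map_mul, map_inv₀, map_natCast, map_sum]
      congr 1
      refine Finset.sum_congr rfl fun x _ => ?_
      by_cases hx : x⁻¹ * g * x ∈ (X.subgroupOf H)
      · rw [extendByZero_of_mem _ hx, extendByZero_of_mem _ hx]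
      · rw [extendByZero_not_mem _ hx, extendByZero_not_mem _ hx, map_zero])
    (fun ξ hξ x hx => by
      obtain ⟨θ, hθ, rfl⟩ := Finset.mem_image.1 hξ
      obtain ⟨θ₀, hθ₀, e0⟩ := Finset.mem_image.1 hξ₀U
      rw [← e0, hval θ hθ x hx, hval θ₀ hθ₀ x hx, hm θ hθ]
      rw [← e0, hm θ₀ hθ₀] at hm0
      rw [hm0]
      split_ifs <;> simp)
    (fun ξ hξ h1 => by
      obtain ⟨θ, hθ, rfl⟩ := Finset.mem_image.1 hξ
      rw [hm θ hθ] at h1 ⊢
      have h2 := hchain θ hθ h1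
      have e2 : ∑ φ ∈ Θ.filter (fun φ => dg φ < dg θ), dg φ ^ 2 =
          e * ∑ ξ ∈ U.filter (fun ξ => m ξ < dg θ), m ξ ^ 2 := by
        rw [← smul_eq_mul, ← hsum (fun ξ => m ξ ^ 2) (fun n => n < dg θ)]
        exact Finset.sum_congr rfl fun φ hφ => by rw [hm φ (Finset.mem_filter.1 hφ).1]
      rw [e2, mul_left_comm] at h2
      exact Nat.lt_of_mul_lt_mul_left h2)
  refine ⟨F, Ψ, ξ₀, fun a => ∑ ξ ∈ U, (m ξ : ℂ) * ξ a, ∑ ξ ∈ U, m ξ ^ 2, b, d,
    ⟨hF, hΨ, hn, ?_, ?_, hv, ho⟩, ?_, fun a ha => ⟨?_, ?_⟩⟩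
  · obtain ⟨θ₀, hθ₀, e0⟩ := Finset.mem_image.1 hξ₀U
    exact IsGenChar.of_isCharacter (e0 ▸ IsIrr.isCharacter (hirr θ₀ hθ₀))
  · obtain ⟨θ₀, hθ₀, e0⟩ := Finset.mem_image.1 hξ₀U
    rw [← e0, hdeg θ₀ hθ₀, ← hm θ₀ hθ₀, e0, hm0, one_mul]
  · have h1 := hsum (fun ξ => m ξ ^ 2) (fun _ => True)
    simp only [Finset.filter_true] at h1
    rw [Finset.sum_congr rfl fun θ hθ => by rw [hm θ hθ], smul_eq_mul] at h1
    rw [h1, mul_comm]
  · have h1 := hsum (fun ξ => (m ξ : ℂ) * ξ a) (fun _ => True)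
    simp only [Finset.filter_true, nsmul_eq_mul] at h1
    refine mul_left_cancel₀ (Nat.cast_ne_zero.2 he0 : (e : ℂ) ≠ 0) ?_
    rw [← h1]
    have hr : ∀ θ : (X.subgroupOf H) → ℂ, Cfsg.indFun (X.subgroupOf H) θ a = (Nat.card (X.subgroupOf H) : ℂ)⁻¹ * ∑ x : H, conjN (X.subgroupOf H) x θ ⟨a, ha⟩ := by
      intro θ
      have := congrFun (res_indFun (X.subgroupOf H) θ) (⟨a, ha⟩ : (X.subgroupOf H))
      simpa only [Pi.smul_apply, Finset.sum_apply, smul_eq_mul] using this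
    rw [Finset.sum_congr rfl (g := fun θ => (Nat.card (X.subgroupOf H) : ℂ)⁻¹ * ∑ x : H, θ 1 * conjN (X.subgroupOf H) x θ ⟨a, ha⟩)
      fun θ hθ => by rw [hm θ hθ, hr, ← dg_spec (hΘ θ hθ).1, mul_left_comm, Finset.mul_sum],
      ← Finset.mul_sum, Finset.sum_comm]
    have hx : ∀ x : H, ∑ θ ∈ Θ, θ 1 * conjN (X.subgroupOf H) x θ ⟨a, ha⟩ = ∑ θ ∈ Θ, θ 1 * θ ⟨a, ha⟩ := fun x =>
      Finset.sum_nbij' (fun θ => conjN (X.subgroupOf H) x θ) (fun θ => conjN (X.subgroupOf H) x⁻¹ θ) (fun θ hθ => (hΘ θ hθ).2.2.2 x)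
        (fun θ hθ => (hΘ θ hθ).2.2.2 x⁻¹) (fun θ _ => conjN_inv_cancel (X.subgroupOf H) x θ)
        (fun θ _ => conjN_cancel_inv (X.subgroupOf H) x θ) fun θ _ => by simp only [conjN]; exact congrArg (· * _) (congrArg θ (Subtype.ext (by simp)))
    rw [Finset.sum_congr rfl fun x _ => hx x, Finset.sum_const, Finset.card_univ, ← Nat.card_eq_fintype_card,
      nsmul_eq_mul, ← (X.subgroupOf H).card_mul_index, Nat.cast_mul, mul_assoc,
      inv_mul_cancel_left₀ (Nat.cast_ne_zero.2 Nat.card_pos.ne'), he]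
  · exact sq_sum_column U (fun ξ hξ => by
      obtain ⟨θ, hθ, rfl⟩ := Finset.mem_image.1 hξ
      exact hirr θ hθ) m a

end Cfsg.Agent.Transfer.Loc.TypeI
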