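import Cfsg.Agent.Lib.Transfer.Local.TypeISetup

/-!
A decomposition `H_σ = Q D` with `D` nilpotent over the Sylow subgroup of the plane.
-/

set_option autoImplicit false
set_option linter.style.haveILetI false
set_option linter.unusedSectionVars false
set_option maxHeartbeats 2000000

namespace Cfsg.Agent.Transfer.Loc.TypeI

open Subgroup
open scoped commutatorElement Pointwise

universe u

variable {G : Type u} [Group G] [Finite G] {r : ℕ} [hr : Fact r.Prime]

/-- The decomposition. -/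
structure Frame (M H E N A T : Subgroup G) (P : Sylow r G) (v : G) (Q D : Subgroup G) : Prop where
  setup : Setup M H E N A T P v
  hQX : Q ≤ Cfsg.sigmaCore H
  hQH : H ≤ normalizer (Q : Set G)
  hQr : ¬ r ∣ Nat.card Q
  hQc : IsMulCommutative Q
  hPD : (P : Subgroup G) ≤ D
  hDn : Group.IsNilpotent D
  hcompl : Cfsg.IsComplIn Q D (Cfsg.sigmaCore H)
  hPQ : ∀ a ∈ (P : Subgroup G), ∀ b ∈ (P : Subgroup G), ⁅a, b⁆ ∈ centralizer (Q : Set G)

namespace Frame

variable {M H E N A T : Subgroup G} {P : Sylow r G} {v : G} {Q D : Subgroup G}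
  (h : Frame M H E N A T P v Q D)
include h

theorem hG : Cfsg.IsMinSimpleOddOrder G := h.setup.hG

theorem XH : Cfsg.sigmaCore H ≤ H := TransHyp.piCoreOf_le H

theorem DX : D ≤ Cfsg.sigmaCore H := h.hcompl.2.1

theorem DQ : D ≤ normalizer (Q : Set G) := (h.DX.trans h.XH).trans h.hQH

theorem vP : v ∈ (P : Subgroup G) := h.setup.AP h.setup.hvA

theorem vX : zpowers v ≤ Cfsg.sigmaCore H := zpowers_le.2 (h.setup.PX h.vP)

theorem vQ : zpowers v ≤ normalizer (Q : Set G) := (h.vX.trans h.XH).trans h.hQH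

theorem AQ : A ≤ normalizer (Q : Set G) := ((h.setup.AP.trans h.setup.PX).trans h.XH).trans h.hQH

theorem Psyl : Grp.IsSylowIn r (P : Subgroup G) D :=
  ⟨h.hPD, P.isPGroup', fun hd => Sylow.not_dvd_index P (hd.trans (relIndex_dvd_index_of_le h.hPD))⟩

/-- The `r'`-part of `D` centralises `P`. -/
theorem W_le_CP : O' r D ≤ centralizer ((P : Subgroup G) : Set G) := fun w hw => mem_centralizer_iff.2 fun p hp => by
  refine TypeP.commute_of_coprime_orderOf h.hDn (h.hPD hp) (O'_le r D hw) ?_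
  obtain ⟨n, hn⟩ := IsPGroup.iff_card.1 P.isPGroup'
  refine (((O'_coprime (r := r) D).pow_right n).symm.coprime_dvd_left ?_).coprime_dvd_right
    (Subgroup.orderOf_dvd_natCard _ hw)
  exact hn ▸ Subgroup.orderOf_dvd_natCard _ hp

theorem W_le_E : O' r D ≤ E := h.W_le_CP.trans h.setup.CP

theorem W_le_CA : O' r D ≤ centralizer (A : Set G) := h.W_le_CP.trans (centralizer_le h.setup.AP)

theorem W_comm : IsMulCommutative ↥(O' r D) :=
  h.setup.nilpotent_comm h.W_le_E (Grp.isNilpotent_of_le (O'_le r D) h.hDn)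

/-- `D = P W`. -/
theorem D_eq : D = (P : Subgroup G) ⊔ O' r D := by
  refine le_antisymm (Grp.le_of_forall_sylow (sup_le h.hPD (O'_le r D)) fun t ht => ?_) (sup_le h.hPD (O'_le r D))
  by_cases htr : t = r
  · subst htr; exact ⟨P, h.Psyl, le_sup_left⟩
  obtain ⟨R, hR⟩ := Grp.exists_isSylowIn t D
  refine ⟨R, hR, (le_O' hR.1 (le_normalizer.trans (normalizer_le_sylow h.hDn hR)) ?_).trans le_sup_right⟩
  obtain ⟨n, hn⟩ := IsPGroup.iff_card.1 hR.2.1
  rw [hn]
  exact ((Nat.coprime_primes ht.out hr.out).2 htr).pow_left n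

theorem card_D : Nat.card D = Nat.card (P : Subgroup G) * Nat.card ↥(O' r D) := by
  have hdis : (P : Subgroup G) ⊓ O' r D = ⊥ := Grp.inf_eq_bot_of_coprime (by
    obtain ⟨n, hn⟩ := IsPGroup.iff_card.1 P.isPGroup'
    rw [hn]; exact ((O'_coprime (r := r) D).pow_right n).symm)
  have h1 := Grp.card_sup_mul_card_inf (H := (P : Subgroup G)) (N := O' r D)
    ((le_centralizer_iff.1 h.W_le_CP).trans (centralizer_le_normalizer _))
  rw [hdis, Subgroup.card_bot, mul_one, ← h.D_eq] at h1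
  exact h1

theorem card_X : Nat.card (Cfsg.sigmaCore H) = Nat.card Q * (Nat.card (P : Subgroup G) * Nat.card ↥(O' r D)) := by
  rw [← h.card_D, ← complIn_card h.hcompl]

/-- Elements of `E` of order prime to `r` in `H_σ` centralise `A`. -/
theorem mem_CA_of_coprime {x : G} (hxX : x ∈ Cfsg.sigmaCore H) (hxE : x ∈ E) (hxr : ¬ r ∣ orderOf x) :
    x ∈ centralizer (A : Set G) := by
  obtain ⟨q, hq, d, hd, rfl⟩ := h.hcompl.2.2.2 x hxX
  -- the component in `D` has order prime to `r`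
  have hpow : ∀ n : ℕ, (q * d) ^ n * (d ^ n)⁻¹ ∈ Q := by
    intro n
    induction n with
    | zero => simp
    | succ n ih =>
      have h1 : (q * d) ^ (n + 1) * (d ^ (n + 1))⁻¹ = ((q * d) ^ n * (d ^ n)⁻¹) * (d ^ n * q * (d ^ n)⁻¹) := by
        rw [pow_succ, pow_succ]; group
      rw [h1]
      exact mul_mem ih (Grp.mem_conj_normalizer (h.DQ (D.pow_mem hd n)) hq)
  have hdn : d ^ orderOf (q * d) = 1 := by
    have h1 := hpow (orderOf (q * d))
    rw [pow_orderOf_eq_one, one_mul] at h1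
    rw [← mem_bot, ← h.hcompl.2.2.1]
    exact ⟨Q.inv_mem_iff.1 h1, D.pow_mem hd _⟩
  have hdA : ∀ a ∈ A, d * a = a * d := fun a ha => by
    refine TypeP.commute_of_coprime_orderOf h.hDn hd (h.hPD (h.setup.AP ha)) ?_
    refine Nat.Coprime.coprime_dvd_left (orderOf_dvd_of_pow_eq_one hdn) ?_
    obtain ⟨n, hn⟩ := IsPGroup.iff_card.1 P.isPGroup'
    exact Nat.Coprime.coprime_dvd_right (hn ▸ Subgroup.orderOf_dvd_natCard _ (h.setup.AP ha))
      (((hr.out.coprime_iff_not_dvd.2 hxr).symm).pow_right n)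
  refine mem_centralizer_iff.2 fun a ha => ?_
  have hEA := h.setup.plane.compl_normalizes
  have hc : q * d * a * (q * d)⁻¹ * a⁻¹ ∈ Q ⊓ A := by
    refine ⟨?_, A.mul_mem (Grp.mem_conj_normalizer (hEA hxE) ha) (A.inv_mem ha)⟩
    rw [show q * d * a * (q * d)⁻¹ * a⁻¹ = q * (d * a) * d⁻¹ * q⁻¹ * a⁻¹ by group, hdA a ha,
      show q * (a * d) * d⁻¹ * q⁻¹ * a⁻¹ = q * (a * q⁻¹ * a⁻¹) by group]
    exact Q.mul_mem hq (Grp.mem_conj_normalizer (h.AQ ha) (Q.inv_mem hq))
  rw [Grp.inf_eq_bot_of_coprime (by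
    rw [h.setup.plane.card]; exact ((hr.out.coprime_iff_not_dvd.2 h.hQr).symm).pow_right 2), mem_bot] at hc
  calc a * (q * d) = (q * d * a * (q * d)⁻¹ * a⁻¹)⁻¹ * (q * d * a) := by group
    _ = q * d * a := by rw [hc, inv_one, one_mul]

/-- `E ∩ H_σ` centralises the plane. -/
theorem EX_le_CA : E ⊓ Cfsg.sigmaCore H ≤ centralizer (A : Set G) := by
  refine (Grp.le_of_forall_sylow (inf_le_left : (E ⊓ Cfsg.sigmaCore H) ⊓ centralizer (A : Set G) ≤ _)
    fun t ht => ?_).trans inf_le_right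
  by_cases htr : t = r
  · subst htr
    have hTX : T ≤ E ⊓ Cfsg.sigmaCore H := le_inf h.setup.plane.hT.1 (h.setup.hTP.trans h.setup.PX)
    exact ⟨T, ⟨hTX, h.setup.plane.hT.2.1, fun hd => h.setup.plane.hT.2.2
      (hd.trans (Dvd.intro _ (relIndex_mul_relIndex T _ E hTX inf_le_left)))⟩, le_inf hTX h.setup.plane.sylow_le_centralizer⟩
  obtain ⟨R, hR⟩ := Grp.exists_isSylowIn t (E ⊓ Cfsg.sigmaCore H)
  refine ⟨R, hR, le_inf hR.1 fun x hx => h.mem_CA_of_coprime (hR.1 hx).2 (hR.1 hx).1 fun hd => ?_⟩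
  exact htr (eq_of_dvd_pGroup hR.2.1 hr.out (hd.trans (Subgroup.orderOf_dvd_natCard _ hx))).symm

theorem CXv : Cfsg.sigmaCore H ⊓ centralizer ({v} : Set G) ≤ E := fun x hx => by
  rw [← h.setup.conf.meet]
  exact ⟨h.setup.conf.hCv hx.2, h.XH hx.1⟩

theorem EX_le_Cv : E ⊓ Cfsg.sigmaCore H ≤ centralizer ({v} : Set G) := fun x hx =>
  mem_centralizer_singleton_iff.2 (mem_centralizer_iff.1 (h.EX_le_CA hx) v h.setup.hvA).symm

/-- `[Q, v]` meets the centraliser of `v` trivially. -/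
theorem L_inf : ⁅Q, zpowers v⁆ ⊓ centralizer ({v} : Set G) = ⊥ := by
  haveI := h.hQc
  have hcop : (Nat.card (zpowers v)).Coprime (Nat.card Q) := by
    rw [Nat.card_zpowers, h.setup.conf.hvo]; exact hr.out.coprime_iff_not_dvd.2 h.hQr
  rw [← le_bot_iff, ← Grp.abelian_commutator_inf_fixed (zpowers v) Q h.vQ hcop, centralizer_zpowers_eq]
  exact le_inf (le_inf (inf_le_left.trans (Grp.commutator_le_left_of_le_normalizer h.vQ)) inf_le_right) inf_le_left

theorem L_le : ⁅Q, zpowers v⁆ ≤ Q := Grp.commutator_le_left_of_le_normalizer h.vQ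

theorem Q_split : Q ≤ ⁅Q, zpowers v⁆ ⊔ (Q ⊓ E) := by
  have hcop : (Nat.card (zpowers v)).Coprime (Nat.card Q) := by
    rw [Nat.card_zpowers, h.setup.conf.hvo]; exact hr.out.coprime_iff_not_dvd.2 h.hQr
  refine (Grp.commutator_sup_fixed (zpowers v) Q h.vQ hcop (Or.inl inferInstance)).ge.trans
    (sup_le_sup_left (le_inf inf_le_left ?_) _)
  rw [centralizer_zpowers_eq]
  exact (le_inf (inf_le_left.trans h.hQX) inf_le_right).trans h.CXv

/-- `[Q, v]` is normal in `H_σ`. -/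
theorem L_normal : Cfsg.sigmaCore H ≤ normalizer ((⁅Q, zpowers v⁆ : Subgroup G) : Set G) := by
  haveI := h.hQc
  have hQL : Q ≤ normalizer ((⁅Q, zpowers v⁆ : Subgroup G) : Set G) :=
    ((le_centralizer_iff_isMulCommutative.2 h.hQc).trans (centralizer_le h.L_le)).trans (centralizer_le_normalizer _)
  have hDL : D ≤ normalizer ((⁅Q, zpowers v⁆ : Subgroup G) : Set G) := by
    rw [h.D_eq]
    refine sup_le (fun y hy => ?_) (le_normalizer_commutator' ((((O'_le r D).trans h.DX).trans h.XH).trans h.hQH)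
      ((h.W_le_CP.trans (centralizer_le (zpowers_le.2 h.vP))).trans (centralizer_le_normalizer _)))
    rw [Grp.mem_normalizer_iff_smul, ← Grp.map_conj_eq_smul]
    refine Subgroup.eq_of_le_of_card_ge ?_ (by rw [card_map_of_injective (MulAut.conj y).injective])
    rw [Subgroup.map_commutator, Subgroup.commutator_le]
    rintro _ ⟨q, hq, rfl⟩ _ ⟨b, hb, rfl⟩
    show ⁅y * q * y⁻¹, y * b * y⁻¹⁆ ∈ _
    have hq' : y * q * y⁻¹ ∈ Q := Grp.mem_conj_normalizer (h.DQ (h.hPD hy)) hq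
    have hc := h.hPQ y hy b ((zpowers_le.2 h.vP) hb)
    set q' := y * q * y⁻¹
    set c := ⁅y, b⁆
    have hu : ⁅q', b⁆ ∈ Q := h.L_le (commutator_mem_commutator hq' hb)
    rw [show y * b * y⁻¹ = c * b by simp only [c, commutatorElement_def]; group]
    have e : ⁅q', c * b⁆ = ⁅q', b⁆ := by
      have c1 : Commute c q' := (mem_centralizer_iff.1 hc q' hq').symm
      have c2 : Commute c ⁅q', b⁆ := (mem_centralizer_iff.1 hc _ hu).symm
      rw [commutatorElement_def, commutatorElement_def]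
      calc q' * (c * b) * q'⁻¹ * (c * b)⁻¹ = (q' * c) * b * q'⁻¹ * b⁻¹ * c⁻¹ := by group
        _ = (c * q') * b * q'⁻¹ * b⁻¹ * c⁻¹ := by rw [c1.eq]
        _ = c * (q' * b * q'⁻¹ * b⁻¹) * c⁻¹ := by group
        _ = c * ⁅q', b⁆ * c⁻¹ := by rw [commutatorElement_def]
        _ = q' * b * q'⁻¹ * b⁻¹ := by rw [c2.eq, mul_inv_cancel_right, commutatorElement_def]
    rw [e]
    exact commutator_mem_commutator hq' hb
  intro x hx
  obtain ⟨q, hq, d, hd, rfl⟩ := h.hcompl.2.2.2 x hx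
  exact mul_mem (hQL hq) (hDL hd)

/-- A part of `P` outside `T` bounds `E ∩ H_σ`. -/
theorem card_bound {k : ℕ} (hk : Nat.card (P : Subgroup G) = Nat.card T * r ^ k) :
    r ^ k * (Nat.card ↥(E ⊓ Cfsg.sigmaCore H) * Nat.card ↥⁅Q, zpowers v⁆) ≤ Nat.card (Cfsg.sigmaCore H) := by
  set C := E ⊓ Cfsg.sigmaCore H
  set L := ⁅Q, zpowers v⁆
  set S₁ := C ⊔ L
  have hLX : L ≤ Cfsg.sigmaCore H := h.L_le.trans h.hQX
  have hCL : C ≤ normalizer (L : Set G) := inf_le_right.trans h.L_normal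
  have hdis : C ⊓ L = ⊥ := by
    rw [← le_bot_iff, ← h.L_inf]
    exact le_inf inf_le_right (inf_le_left.trans h.EX_le_Cv)
  have hcard : Nat.card ↥S₁ = Nat.card C * Nat.card L := by
    have h1 := Grp.card_sup_mul_card_inf hCL
    rwa [hdis, Subgroup.card_bot, mul_one] at h1
  have hTC : T ≤ C := le_inf h.setup.plane.hT.1 (h.setup.hTP.trans h.setup.PX)
  have hTS : T ≤ S₁ := hTC.trans le_sup_left
  have hm : ¬ r ∣ T.relIndex S₁ := by
    intro hd
    rw [← relIndex_mul_relIndex T C S₁ hTC le_sup_left] at hd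
    rcases hr.out.dvd_mul.1 hd with h1 | h1
    · exact h.setup.plane.hT.2.2 (h1.trans (Dvd.intro _ (relIndex_mul_relIndex T _ E hTC inf_le_left)))
    · have h2 : C.relIndex S₁ = Nat.card L := by
        refine Nat.eq_of_mul_eq_mul_left (Nat.card_pos (α := C)) ?_
        rw [Grp.card_mul_relIndex le_sup_left, hcard]
      exact h.hQr ((h2 ▸ h1).trans (card_dvd_of_le h.L_le))
  have h1 : Nat.card T * r ^ k ∣ Nat.card T * (T.relIndex S₁ * S₁.relIndex (Cfsg.sigmaCore H)) := by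
    rw [← hk, ← mul_assoc, Grp.card_mul_relIndex hTS, Grp.card_mul_relIndex (sup_le inf_le_right hLX)]
    exact card_dvd_of_le h.setup.PX
  have h2 : r ^ k ∣ S₁.relIndex (Cfsg.sigmaCore H) :=
    ((hr.out.coprime_iff_not_dvd.2 hm).pow_left k).dvd_of_dvd_mul_left (Nat.dvd_of_mul_dvd_mul_left Nat.card_pos h1)
  calc r ^ k * (Nat.card C * Nat.card L) = Nat.card ↥S₁ * r ^ k := by rw [hcard]; ring
    _ ≤ Nat.card ↥S₁ * S₁.relIndex (Cfsg.sigmaCore H) :=
        Nat.mul_le_mul_left _ (Nat.le_of_dvd (Nat.pos_of_ne_zero (Subgroup.index_ne_zero_of_finite)) h2)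
    _ = _ := Grp.card_mul_relIndex (sup_le inf_le_right hLX)

end Frame

end Cfsg.Agent.Transfer.Loc.TypeI
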