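import Cfsg.Agent.Lib.Transfer.Local.TypeICases
import Cfsg.Agent.Lib.Transfer.Local.TypeIPlane

/-!
The case `κ(H) = ∅`.
-/

set_option autoImplicit false
set_option linter.style.haveILetI false
set_option linter.unusedSectionVars false
set_option maxHeartbeats 2000000

namespace Cfsg.Agent.Transfer.Loc.TypeI

open Subgroup
open scoped commutatorElement Pointwise

attribute [local instance] core_normal

universe u

variable {G : Type u} [Group G] [Finite G] {r : ℕ} [hr : Fact r.Prime]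
  {M H E N A T : Subgroup G} {P : Sylow r G} {v : G}

/-- An element of order `r` of the plane generates its line. -/
theorem card_line (h : Setup M H E N A T P v) : Nat.card (omZ r (P : Subgroup G)) = r ∨
    IsMulCommutative (P : Subgroup G) := by
  by_cases hab : IsMulCommutative (P : Subgroup G)
  · exact Or.inr hab
  obtain ⟨A₀, hexc⟩ := exists_exc h.hG h.conf.hM (h.AE.trans h.conf.hE.1) h.plane.elem h.plane.card h.conf.hτ.2.1
  exact Or.inl (hexc.exists_mover h.AP hab).1

/-- The Sylow normaliser fixes the plane when the Sylow subgroup is abelian. -/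
theorem normalizer_P_le (h : Setup M H E N A T P v) (hab : IsMulCommutative (P : Subgroup G)) :
    normalizer ((P : Subgroup G) : Set G) ≤ normalizer (A : Set G) := fun g hg => by
  obtain ⟨-, -, hmem⟩ := tau2_sylow_compl h.hG h.conf.hM h.conf.hE h.conf.hτ h.AE h.plane.elem h.plane.card hab h.AP
  rw [Grp.mem_normalizer_iff_smul]
  refine Subgroup.eq_of_le_of_card_ge ?_ (by rw [Grp.card_conj_smul])
  rintro _ ⟨b, hb, rfl⟩
  show MulAut.conj g b ∈ A
  exact hmem _ (Grp.mem_conj_normalizer hg (h.AP hb)) (by rw [← map_pow, h.plane.elem.2 b hb, map_one])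

/-- A nilpotent `H_σ` gives the data of the non-TI case at `r`. -/
theorem nonTI_at (h : Setup M H E N A T P v) (hnil : Group.IsNilpotent (Cfsg.sigmaCore H)) :
    NonTIData H r (P : Subgroup G) := by
  obtain ⟨g, hg, hgH⟩ := SetLike.not_le_iff_exists.1 h.conf.hnot
  set F := Cfsg.fittingOf H
  have hvF : v ∈ F := le_fittingOf (TransHyp.piCoreOf_le H) (TransHyp.le_normalizer_piCoreOf H) hnil h.conf.hvX
  have hX : F ⊓ F.map (MulAut.conj g).toMonoidHom ≠ ⊥ := fun e => h.conf.v_ne (by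
    rw [← mem_bot, ← e]
    refine ⟨hvF, v, hvF, ?_⟩
    show g * v * g⁻¹ = v
    rw [mem_centralizer_singleton_iff.1 hg, mul_inv_cancel_right])
  obtain ⟨hH, -, hKU, -, -, -⟩ := fitting_meet_setup h.hG h.conf.hH hgH hX
  obtain ⟨h1, h2, h3, -, h5⟩ := support_sylows h.hG h.conf.hH hnil h.conf.hvX h.conf.hvo h.conf.hnot h.hP
  exact ⟨hnil, hH, hKU, h.hP, h.conf.hrH, h.maxPlane.not_beta H, h3, h1, h2, fun e => (h5 e).1⟩

/-- The nilpotent frame. -/
theorem frame_nil (h : Setup M H E N A T P v) (hnil : Group.IsNilpotent (Cfsg.sigmaCore H)) :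
    Frame M H E N A T P v ⊥ (Cfsg.sigmaCore H) where
  setup := h
  hQX := bot_le
  hQH := fun g _ => Grp.mem_normalizer_iff_smul.2 (Subgroup.smul_bot _)
  hQr := by rw [Subgroup.card_bot, Nat.dvd_one]; exact hr.out.ne_one
  hQc := ⟨⟨fun a b => Subsingleton.elim _ _⟩⟩
  hPD := h.PX
  hDn := hnil
  hcompl := ⟨bot_le, le_rfl, bot_inf_eq _, fun m hm => ⟨1, one_mem _, m, hm, (one_mul m).symm⟩⟩
  hPQ := fun _ _ _ _ => mem_centralizer_iff.2 fun z hz => by rw [mem_bot.1 hz, one_mul, mul_one]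

theorem commutator_bot' (x : Subgroup G) : ⁅(⊥ : Subgroup G), x⁆ = ⊥ := Subgroup.commutator_bot_left x

/-- No such configuration with `κ(H) = ∅`. -/
theorem absurd_nil (h : Setup M H E N A T P v) (IH : Below G r) (hκH : Cfsg.kappa H = ∅) : False := by
  letI := Fintype.ofFinite G
  letI := Fintype.ofFinite H
  have hG := h.hG
  have hH := h.conf.hH
  haveI := solvable_of_ne_top hG hH.1
  set X := Cfsg.sigmaCore H with hXdef
  have hXH : X ≤ H := TransHyp.piCoreOf_le H
  have hfit := fitting_of_kappa_empty hG hH hκH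
  have hnil : Group.IsNilpotent X := by rw [hXdef, ← hfit]; exact fittingHallOf_nilpotent H
  have hd := nonTI_at h hnil
  have hf := frame_nil h hnil
  have hfree : ∀ w ∈ H, w ∉ X → ∀ x ∈ X, Commute w x → x = 1 := fun w hw hwX x hx hc =>
    free_of_kappa_empty h IH hκH hw hwX hx hc
  have hCX : H ⊓ centralizer ({v} : Set G) ≤ X := fun w hw => by
    by_contra hwX
    exact h.conf.v_ne (hfree w hw.1 hwX v h.conf.hvX (mem_centralizer_singleton_iff.1 hw.2))
  -- a complement normalising `P`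
  obtain ⟨E₁, hE₁, -⟩ := exists_compl_ge hG hH (U := ⊥) bot_le fun s hs hd => by
    rw [Subgroup.card_bot, Nat.dvd_one] at hd; exact absurd hd hs.ne_one
  have hcop : (Nat.card E₁).Coprime (Nat.card X) := Nat.coprime_of_dvd fun t ht h1 h2 =>
    compl_prime hG hH hE₁ ht h1 (TransHyp.piCoreOf_primes (π := Cfsg.sigma H) (X := H) ht h2)
  obtain ⟨k, hk, hFP⟩ := exists_conj_normalizing h hE₁.1 hcop
  set F := MulAut.conj k • E₁ with hFdef
  have hFc : Nat.card F = Nat.card E₁ := Grp.card_conj_smul k E₁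
  have hFH : F ≤ H := by
    rw [hFdef, ← Grp.mem_normalizer_iff_smul.1 ((le_normalizer (H := H)) (hXH hk))]
    exact Subgroup.pointwise_smul_le_pointwise_smul_iff.2 hE₁.1
  have hFX : X ⊓ F = ⊥ := Grp.inf_eq_bot_of_coprime (by rw [hFc]; exact hcop.symm)
  have hnotX : ∀ f ∈ F, f ≠ 1 → f ∉ X := fun f hf hf1 hh => hf1 (mem_bot.1 (hFX ▸ (⟨hh, hf⟩ : f ∈ X ⊓ F)))
  have he : X.relIndex H = Nat.card F := by
    rw [hFc]
    refine Nat.eq_of_mul_eq_mul_left (Nat.card_pos (α := X)) ?_
    rw [Grp.card_mul_relIndex hXH, ← complIn_card hE₁, mul_comm]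
  have heodd : Odd (X.relIndex H) := he ▸ hG.1.of_dvd_nat (card_subgroup_dvd_card F)
  have he3 : 3 ≤ X.relIndex H := by
    obtain ⟨j, hj⟩ := heodd
    rcases Nat.eq_zero_or_pos j with rfl | hpos
    · exfalso
      have hF1 : E₁ = ⊥ := Subgroup.card_eq_one.1 (by rw [← hFc, ← he, hj, mul_zero, zero_add])
      refine sigmaCore_ne_bot hG hH ?_
      rw [← (Cfsg.Agent.S1426.result hG H hH E₁ hE₁).2.1, hF1, Subgroup.commutator_bot_right]
    · omega
  have hH'X : ⁅H, H⁆ ≤ X := by
    refine (hd.derived_le_fitting hG hH).trans ?_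
    rw [(Cfsg.Agent.S1356.result hG H hH).2.1, hfit]
    refine sup_le (fun w hw => ?_) le_rfl
    by_contra hwX
    exact h.conf.v_ne (hfree w hw.1 hwX v h.conf.hvX (mem_centralizer_iff.1 hw.2 v h.conf.hvX).symm)
  have hFab : ∀ a ∈ F, ∀ b ∈ F, Commute a b := fun a ha b hb => by
    refine commutatorElement_eq_one_iff_mul_comm.1 (mem_bot.1 (hFX ▸ (⟨hH'X (commutator_mem_commutator (hFH ha)
      (hFH hb)), ?_⟩ : ⁅a, b⁆ ∈ X ⊓ F)))
    rw [commutatorElement_def]
    exact F.mul_mem (F.mul_mem (F.mul_mem ha hb) (F.inv_mem ha)) (F.inv_mem hb)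
  -- characters fixed outside `H_σ` are principal
  have hin : ∀ θ : X.subgroupOf H → ℂ, Cfsg.IsIrrCharacter _ θ → θ ≠ (fun _ => 1) →
      ∀ g : H, Cfsg.Agent.Char.conjN (X.subgroupOf H) g θ = θ → (g : G) ∈ X := by
    intro θ hθ hne g hg
    by_contra hgX
    refine hne (Cfsg.Agent.Char.eq_one_of_conjN_fixed (X.subgroupOf H) (fun m hm n hn hc => ?_) hθ hg)
    exact Subtype.ext (hfree ((m * g : H) : G) (m * g).2
      (fun hh => hgX ((X.mul_mem_cancel_left (show ((m : H) : G) ∈ X from hm)).1 hh)) n hn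
      (congrArg Subtype.val hc))
  by_cases hab : IsMulCommutative (P : Subgroup G)
  · -- abelian Sylow subgroup
    obtain ⟨hXc, -⟩ := hd.comm_case hG hH hab
    have hXE : X ≤ E := fun x hx => hf.CXv ⟨hx, mem_centralizer_singleton_iff.2
      (congrArg Subtype.val (hXc.is_comm.comm (⟨x, hx⟩ : X) ⟨v, h.conf.hvX⟩))⟩
    have hEX : E ≤ X := E_le_X h fun w hw hwX a ha hc => hfree w (h.EH hw) hwX a (h.PX (h.AP ha)) hc
    have hre : 2 * X.relIndex H ≤ r + 1 := by
      rw [he]
      refine two_mul_card_le h.plane.elem h.plane.card h.plane.prime_ne_two h.hvA h.conf.hvo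
        (hFP.trans (normalizer_P_le h hab)) (he ▸ heodd)
        (fun f hfF hf1 a ha hc => hfree f (hFH hfF) (hnotX f hfF hf1) a (h.PX (h.AP ha)) hc) hFab
        fun f hfF hfv => ?_
      by_contra hf1
      refine hnotX f hfF hf1 (hEX ?_)
      rw [← h.conf.meet]
      exact ⟨h.conf.mem_of_normalizes hfv, hFH hfF⟩
    refine absurd_linear_case h (O := ⊥) bot_le (fun g _ => Grp.mem_normalizer_iff_smul.2 (Subgroup.smul_bot _))
      (fun a ha b hb => mem_bot.2 (commutatorElement_eq_one_iff_mul_comm.2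
        (congrArg Subtype.val (hXc.is_comm.comm (⟨a, ha⟩ : X) ⟨b, hb⟩))))
      (fun hv => h.conf.v_ne (mem_bot.1 hv)) (fun θ hθ _ hne g hg => hin θ hθ hne g hg) he3 hre ?_ ?_
    · rw [Subgroup.relIndex_bot_left, ← h.plane.card]
      exact Nat.le_of_dvd Nat.card_pos (card_dvd_of_le (h.AP.trans h.PX))
    · rw [Subgroup.relIndex_bot_left, le_antisymm hEX hXE]
  -- nonabelian Sylow subgroup
  have hline := (card_line h).resolve_right hab
  have hre : 2 * X.relIndex H + 1 ≤ r := by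
    obtain ⟨z, hz, hz1, -⟩ := exists_generator_line hline
    obtain ⟨c, hc⟩ := card_dvd_pred hline (hFP.trans (normalizer_le_omZ _)) fun f hfF hcy => by
      by_contra hf1
      exact hz1 (hfree f (hFH hfF) (hnotX f hfF hf1) z (h.PX (omZ_le _ hz)) (hcy z hz))
    rw [← he] at hc
    have hr3 : 3 ≤ r := lt_of_le_of_ne hr.out.two_le h.plane.prime_ne_two.symm
    have hc2 : 2 ≤ c := by
      by_contra hlt
      obtain ⟨j, hj⟩ := heodd
      obtain ⟨i, hi⟩ := hr.out.odd_of_ne_two h.plane.prime_ne_two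
      interval_cases c <;> omega
    have := Nat.mul_le_mul_left (X.relIndex H) hc2
    omega
  obtain ⟨i, hi⟩ := IsPGroup.iff_card.1 P.isPGroup'
  obtain ⟨j, hji, hj⟩ := (Nat.dvd_prime_pow hr.out).1 (hi ▸ card_dvd_of_le h.hTP)
  have hlt : j < i := lt_of_le_of_ne hji fun e => h.P_not_le hab (by
    rw [← Subgroup.eq_of_le_of_card_ge h.hTP (by rw [hi, hj, e])]
    exact h.plane.hT.1)
  refine absurd_chain_case hf hCX he3 hre
    (b := 0) (by omega) ∅ le_rfl (by simp) (fun θ hθ _ hne _ g hg => hin θ hθ hne g hg) ?_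
  have h1 := hf.card_bound (k := i - j) (by rw [hi, hj, ← pow_add, Nat.add_sub_cancel' hji])
  rw [Nat.sub_zero]
  refine le_trans ?_ (Nat.mul_le_mul_left r h1)
  rw [sq, mul_assoc]
  exact Nat.mul_le_mul_left r (Nat.mul_le_mul_right _ (Nat.le_self_pow (by omega) r))

end Cfsg.Agent.Transfer.Loc.TypeI
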