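import Cfsg.Agent.Lib.Transfer.Local.TypeIDecomp
import Cfsg.Agent.Lib.Transfer.Local.TypeINil
import Cfsg.Agent.S1412

/-!
The case `κ(H) ≠ ∅` with `H_σ` nilpotent.
-/

set_option autoImplicit false
set_option linter.style.haveILetI false
set_option linter.unusedSectionVars false
set_option maxHeartbeats 2000000

namespace Cfsg.Agent.Transfer.Loc.TypeI

open Subgroup Cfsg.Agent.Char Cfsg.Agent.Char.KerSets
open scoped commutatorElement Pointwise

attribute [local instance] core_normal Classical.propDecidable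

universe u

variable {G : Type u} [Group G] [Finite G] {r : ℕ} [hr : Fact r.Prime]
  {M H E N A T : Subgroup G} {P : Sylow r G} {v : G} {K : Subgroup G}

section Nilpotent

variable (h : Setup M H E N A T P v) (hnil : Group.IsNilpotent (Cfsg.sigmaCore H))
include h hnil

/-- The `r'`-part is central in `H_σ`. -/
theorem W_central : O' r (Cfsg.sigmaCore H) ≤ centralizer (Cfsg.sigmaCore H : Set G) := by
  have hf := frame_nil h hnil
  rw [le_centralizer_iff]
  conv_lhs => rw [hf.D_eq]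
  exact sup_le (le_centralizer_iff.1 hf.W_le_CP) (le_centralizer_iff_isMulCommutative.2 hf.W_comm)

/-- The commutators of `H_σ` are those of `P`. -/
theorem derived_le_P : ⁅Cfsg.sigmaCore H, Cfsg.sigmaCore H⁆ ≤ ⁅(P : Subgroup G), (P : Subgroup G)⁆ := by
  have hf := frame_nil h hnil
  have hW := W_central h hnil
  set X := Cfsg.sigmaCore H
  have hsplit : ∀ x ∈ X, ∃ p ∈ (P : Subgroup G), ∃ w ∈ O' r X, p * w = x := fun x hx => by
    have h1 : x ∈ (P : Subgroup G) ⊔ O' r X := hf.D_eq.le hx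
    rw [← SetLike.mem_coe, Subgroup.coe_mul_of_left_le_normalizer_right (P : Subgroup G) (O' r X)
      ((le_centralizer_iff.1 hf.W_le_CP).trans (centralizer_le_normalizer _))] at h1
    exact h1
  rw [commutator_le]
  intro x hx y hy
  obtain ⟨p, hp, w, hw, rfl⟩ := hsplit x hx
  obtain ⟨q, hq, z, hz, rfl⟩ := hsplit y hy
  have cw : ∀ a ∈ X, Commute w a := fun a ha => (mem_centralizer_iff.1 (hW hw) a ha).symm
  have cz : ∀ a ∈ X, Commute z a := fun a ha => (mem_centralizer_iff.1 (hW hz) a ha).symm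
  have hpX := h.PX hp
  have hqX := h.PX hq
  have hzX : z ∈ X := O'_le r X hz
  have c1 := cw _ (X.mul_mem hqX hzX)
  have c2 := cz p hpX
  have e : ⁅p * w, q * z⁆ = ⁅p, q⁆ := by
    rw [commutatorElement_def, commutatorElement_def]
    calc p * w * (q * z) * (p * w)⁻¹ * (q * z)⁻¹ = p * (w * (q * z) * w⁻¹) * p⁻¹ * (q * z)⁻¹ := by group
      _ = p * (q * z) * p⁻¹ * (q * z)⁻¹ := by rw [c1.eq, mul_inv_cancel_right]
      _ = p * q * (z * p⁻¹ * z⁻¹) * q⁻¹ := by group
      _ = p * q * p⁻¹ * q⁻¹ := by rw [(c2.inv_right).eq, mul_inv_cancel_right]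
  rw [e]
  exact commutator_mem_commutator hp hq

/-- Rank at least three gives index `r²` over `T`. -/
theorem sq_index_of_rank (hrk : ¬ Cfsg.PRankLE r 2 (P : Subgroup G)) {i j : ℕ}
    (hi : Nat.card (P : Subgroup G) = r ^ i) (hj : Nat.card T = r ^ j) : j + 2 ≤ i := by
  by_contra hlt
  obtain ⟨B, hBP, hB, hBc⟩ := exists_elem_of_not_prank hrk
  set B₁ := B ⊓ T
  have hB₁A : B₁ ≤ A := fun x hx => h.plane.mem_plane (h.plane.hT.1 hx.2) (hB.2 x hx.1)
  have h1 : Nat.card B ≤ Nat.card B₁ * T.relIndex (P : Subgroup G) := by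
    rw [← Grp.card_mul_relIndex (inf_le_left : B₁ ≤ B)]
    refine Nat.mul_le_mul_left _ ?_
    rw [inf_comm, inf_relIndex_right]
    exact Subgroup.relIndex_le_of_le_right hBP (Subgroup.index_ne_zero_of_finite)
  have hidx : T.relIndex (P : Subgroup G) ≤ r := by
    have h2 := Grp.card_mul_relIndex h.hTP
    rw [hi, hj] at h2
    have h3 : r ^ i ≤ r ^ j * r := by rw [← pow_succ]; exact Nat.pow_le_pow_right hr.out.pos (by omega)
    rw [← h2] at h3
    exact Nat.le_of_mul_le_mul_left h3 (pow_pos hr.out.pos j)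
  have h4 : r ^ 3 ≤ Nat.card B₁ * r := hBc.trans (h1.trans (Nat.mul_le_mul_left _ hidx))
  have h5 : B₁ = A := Subgroup.eq_of_le_of_card_ge hB₁A (by
    rw [h.plane.card]
    exact Nat.le_of_mul_le_mul_right (by rw [← pow_succ]; exact h4) hr.out.pos)
  have h6 : B ≤ T := by
    rw [← h.PE_eq]
    exact le_inf hBP (((le_centralizer_iff_isMulCommutative.2 hB.1).trans
      (centralizer_le (h5.ge.trans inf_le_left))).trans h.CA)
  have h7 : Nat.card B ≤ r ^ 2 := by
    rw [← h.plane.card, ← h5, show B₁ = B from inf_eq_left.2 h6]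
  exact absurd (hBc.trans h7) (not_le.2 (Nat.pow_lt_pow_right hr.out.one_lt (by norm_num)))

end Nilpotent

/-- In rank two the commutator subgroup of a nonabelian Sylow subgroup is its central line. -/
theorem derived_le_line (hG : Cfsg.IsMinSimpleOddOrder G) (hrk : Cfsg.PRankLE r 2 (P : Subgroup G))
    (hna : ¬ IsMulCommutative (P : Subgroup G)) :
    ⁅(P : Subgroup G), (P : Subgroup G)⁆ ≤ omZ r (P : Subgroup G) := by
  rcases Cfsg.Agent.S1412.result hG r P hrk with hab | ⟨S₁, S₂, hsup, hc12, -, hcard, hexp, hcyc, -⟩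
  · exact absurd hab hna
  haveI := hcyc
  have hS12 : S₁ ≤ normalizer (S₂ : Set G) := fun u hu => centralizer_le_normalizer _
    (mem_centralizer_iff.2 fun b hb => (hc12 u hu b hb).symm)
  have hbb : ∀ c ∈ S₂, ∀ d ∈ S₂, Commute c d := fun c hc d hd =>
    congrArg Subtype.val ((IsCyclic.isMulCommutative (α := S₂)).is_comm.comm ⟨c, hc⟩ ⟨d, hd⟩)
  rw [commutator_le]
  intro g₁ hg₁ g₂ hg₂
  rw [← hsup, ← SetLike.mem_coe, Subgroup.coe_mul_of_left_le_normalizer_right S₁ S₂ hS12] at hg₁ hg₂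
  obtain ⟨a₁, ha₁, b₁, hb₁, rfl⟩ := hg₁
  obtain ⟨a₂, ha₂, b₂, hb₂, rfl⟩ := hg₂
  have e : ⁅a₁ * b₁, a₂ * b₂⁆ = ⁅a₁, a₂⁆ := by
    have c1 : Commute b₁ (a₂ * b₂) := (show Commute a₂ b₁ from hc12 _ ha₂ _ hb₁).symm.mul_right (hbb _ hb₁ _ hb₂)
    have c2 : Commute b₂ a₁ := (show Commute a₁ b₂ from hc12 _ ha₁ _ hb₂).symm
    rw [commutatorElement_def, commutatorElement_def]
    calc a₁ * b₁ * (a₂ * b₂) * (a₁ * b₁)⁻¹ * (a₂ * b₂)⁻¹
        = a₁ * (b₁ * (a₂ * b₂) * b₁⁻¹) * a₁⁻¹ * (a₂ * b₂)⁻¹ := by group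
      _ = a₁ * (a₂ * b₂) * a₁⁻¹ * (a₂ * b₂)⁻¹ := by rw [c1.eq, mul_inv_cancel_right]
      _ = a₁ * a₂ * (b₂ * a₁⁻¹ * b₂⁻¹) * a₂⁻¹ := by group
      _ = a₁ * a₂ * a₁⁻¹ * a₂⁻¹ := by rw [c2.inv_right.eq, mul_inv_cancel_right]
  rw [e]
  have hcS : ⁅a₁, a₂⁆ ∈ S₁ := S₁.commutator_le_self (commutator_mem_commutator ha₁ ha₂)
  refine ⟨hsup.le (mem_sup_left hcS), mem_centralizer_iff.2 fun c hc => ?_, ?_⟩
  · rw [← hsup, Subgroup.coe_mul_of_left_le_normalizer_right S₁ S₂ hS12] at hc
    obtain ⟨a₃, ha₃, b₃, hb₃, rfl⟩ := hc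
    have c3 : Commute a₃ ⁅a₁, a₂⁆ := derived_central_of_card_cube hcard ha₁ ha₂ a₃ ha₃
    have c4 : Commute b₃ ⁅a₁, a₂⁆ := (show Commute ⁅a₁, a₂⁆ b₃ from hc12 _ hcS _ hb₃).symm
    exact (c3.mul_left c4).eq
  · have := Monoid.pow_exponent_eq_one (⟨_, hcS⟩ : S₁)
    rw [hexp] at this
    simpa using congrArg Subtype.val this

/-- No such configuration with `H_σ` nilpotent and `κ(H) ≠ ∅`. -/
theorem absurd_kappa_nil (h : Setup M H E N A T P v) (hk : KSetup H P K)
    (hnil : Group.IsNilpotent (Cfsg.sigmaCore H)) : False := by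
  letI := Fintype.ofFinite G
  letI := Fintype.ofFinite H
  have hG := h.hG
  have hH := h.conf.hH
  haveI := solvable_of_ne_top hG hH.1
  have hd := nonTI_at h hnil
  have hf := frame_nil h hnil
  have hXH : Cfsg.sigmaCore H ≤ H := TransHyp.piCoreOf_le H
  obtain ⟨-, hna, -, hcase⟩ := hd.kappa_case hG hH hk.decomp hk.ne
  set Z := omZ r (P : Subgroup G) with hZdef
  have hZc : Nat.card Z = r := hd.line hna
  have hsP : kStar H K ≤ ⁅(P : Subgroup G), (P : Subgroup G)⁆ := hk.star_der.trans (derived_le_P h hnil)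
  have hsc : Nat.card (kStar H K) = r := eq_of_dvd_pGroup
    (P.isPGroup'.to_le (hsP.trans (P : Subgroup G).commutator_le_self)) hk.star_prime dvd_rfl
  have hCX := hk.CX h
  have hE := h.card_E
  rw [hk.idx] at hE
  obtain ⟨i, hi⟩ := IsPGroup.iff_card.1 P.isPGroup'
  obtain ⟨j, hji, hj⟩ := (Nat.dvd_prime_pow hr.out).1 (hi ▸ card_dvd_of_le h.hTP)
  have hlt : j < i := lt_of_le_of_ne hji fun e => h.P_not_le hna (by
    rw [← Subgroup.eq_of_le_of_card_ge h.hTP (by rw [hi, hj, e])]
    exact h.plane.hT.1)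
  have hk1 := hf.card_bound (k := i - j) (by rw [hi, hj, ← pow_add, Nat.add_sub_cancel' hji])
  have hLbot : (⁅(⊥ : Subgroup G), zpowers v⁆ : Subgroup G) = ⊥ := commutator_bot' _
  rw [hLbot, Subgroup.card_bot, mul_one] at hk1
  by_cases hrk : Cfsg.PRankLE r 2 (P : Subgroup G)
  · -- rank two
    have hsZ : kStar H K = Z := Subgroup.eq_of_le_of_card_ge (hsP.trans (derived_le_line hG hrk hna))
      (le_of_eq (hZc.trans hsc.symm))
    have hXZ : ⁅Cfsg.sigmaCore H, Cfsg.sigmaCore H⁆ ≤ Z := (derived_le_P h hnil).trans (derived_le_line hG hrk hna)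
    have hZX : Z ≤ Cfsg.sigmaCore H := hsZ ▸ inf_le_left
    have hHZ : H ≤ centralizer (Z : Set G) := by
      rw [← hk.sup]
      refine sup_le ?_ (hsZ ▸ le_centralizer_iff.1 inf_le_right)
      rw [hf.D_eq]
      exact sup_le (le_centralizer_iff.1 (omZ_le_centralizer _))
        ((W_central h hnil).trans (centralizer_le hZX))
    have hHO : H ≤ normalizer (Z : Set G) := hHZ.trans (centralizer_le_normalizer _)
    have hZN : ∀ z ∈ Z, z ≠ 1 → ∀ g : G, g * z * g⁻¹ ∈ Z → g ∈ H := by
      intro z hz hz1 g hg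
      by_contra hgH
      have h2 : g * z * g⁻¹ ∈ kStar H K ⊓ H.map (MulAut.conj g).toMonoidHom :=
        ⟨hsZ.ge hg, z, hXH (hZX hz), rfl⟩
      rw [(Cfsg.Agent.S1431.result hG H hH K hk.decomp.hall hk.ne).1 g hgH, mem_bot, conj_eq_one_iff] at h2
      exact hz1 h2
    have hvZ : v ∉ Z := fun hv => h.conf.hnot fun g hg => hZN v hv h.conf.v_ne g (by
      rwa [mem_centralizer_singleton_iff.1 hg, mul_inv_cancel_right])
    have hin : ∀ θ : (Cfsg.sigmaCore H).subgroupOf H → ℂ, Cfsg.IsIrrCharacter _ θ →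
        (∀ a ∈ lift H (Cfsg.sigmaCore H) Z, θ a = θ 1) → θ ≠ (fun _ => 1) →
        ∀ g : H, conjN ((Cfsg.sigmaCore H).subgroupOf H) g θ = θ → (g : G) ∈ Cfsg.sigmaCore H :=
      fun θ hθ htr hne g hg => by_contra fun hgX => hne (hk.stable_principal h hsZ.le hθ htr hg hgX)
    have hab : ∀ a ∈ Cfsg.sigmaCore H, ∀ b ∈ Cfsg.sigmaCore H, ⁅a, b⁆ ∈ Z := fun a ha b hb =>
      hXZ (commutator_mem_commutator ha hb)
    have hrel : Nat.card Z * Z.relIndex (Cfsg.sigmaCore H) = Nat.card (Cfsg.sigmaCore H) :=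
      Grp.card_mul_relIndex hZX
    rw [hZc] at hrel
    have hC : Nat.card ↥(E ⊓ Cfsg.sigmaCore H) ≤ Z.relIndex (Cfsg.sigmaCore H) := by
      refine Nat.le_of_mul_le_mul_left ?_ hr.out.pos
      rw [hrel]
      exact le_trans (Nat.mul_le_mul_right _ (Nat.le_self_pow (by omega) r)) hk1
    have hr2 : r ^ 2 ≤ Z.relIndex (Cfsg.sigmaCore H) := by
      refine Nat.le_of_mul_le_mul_left ?_ hr.out.pos
      rw [hrel, ← pow_succ']
      refine le_trans (Nat.pow_le_pow_right hr.out.pos ?_)
        (hi ▸ Nat.le_of_dvd Nat.card_pos (card_dvd_of_le h.PX))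
      have h2 : r ^ 2 ∣ r ^ j := hj ▸ h.plane.card ▸ card_dvd_of_le h.plane.le_sylow
      have := (Nat.pow_dvd_pow_iff_le_right hr.out.one_lt).1 h2
      omega
    rcases hcase with h1 | ⟨-, h1⟩
    · -- `e ∣ r - 1`
      have hre : 2 * Nat.card K + 1 ≤ r := by
        obtain ⟨c, hc⟩ := h1
        have hc2 : 2 ≤ c := by
          by_contra hlt
          obtain ⟨a, ha⟩ := hk.odd
          obtain ⟨b, hb⟩ := hr.out.odd_of_ne_two h.plane.prime_ne_two
          have := hr.out.two_le
          interval_cases c <;> omega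
        have := Nat.mul_le_mul_left (Nat.card K) hc2
        have := hr.out.two_le
        omega
      obtain ⟨F, Ψ, ξ, σ, W, b, d, hdata, hW, hσ⟩ := linear_family h hZX hHO hab hvZ hin
        (by rw [hk.idx]; exact hk.e3) (by rw [hk.idx]; omega) hr2
      rw [hk.idx] at hdata hW
      have hZA : Z ≤ A := h.maxPlane.omZ_le_self h.AP
      refine h.conf.absurd_center hHO hvZ le_rfl hZX hZc hZN
        (fun z hz => ⟨h.conf.hE.1 (h.AE (hZA hz)), congrArg Subtype.val
          (h.plane.elem.1.is_comm.comm (⟨z, hZA hz⟩ : A) ⟨v, h.hvA⟩)⟩)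
        (fun z hz hz1 u hu hc => ?_) (fun z hz t ht => ?_) hdata hk.e3 hre hσ (hW ▸ hr2) ?_ ?_
      · -- `⟨z, v⟩ = A`
        have hvc : Nat.card (zpowers v) = r := by rw [Nat.card_zpowers, h.conf.hvo]
        have hsup : Z ⊔ zpowers v = A := sup_lines h.plane.card hZA (zpowers_le.2 h.hvA) hZc hvc
          fun e => hvZ (e ▸ mem_zpowers v)
        have hu' : u ∈ Cfsg.sigmaCore M ⊓ centralizer (A : Set G) := by
          refine ⟨hu.1, ?_⟩
          rw [← hsup, ← zpowers_eq_of_prime hZc hz hz1]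
          have : zpowers z ⊔ zpowers v ≤ centralizer ({u} : Set G) :=
            sup_le (zpowers_le.2 (mem_centralizer_singleton_iff.2 hc))
              (zpowers_le.2 (mem_centralizer_singleton_iff.2 (mem_centralizer_singleton_iff.1 hu.2).symm))
          exact mem_centralizer_iff.2 fun a ha => mem_centralizer_singleton_iff.1 (this ha)
        rw [(Cfsg.Agent.S1417.result hG M h.conf.hM r h.conf.hτ A
          ⟨h.AE.trans h.conf.hE.1, h.plane.elem, h.plane.card⟩).2.2.2.1, mem_bot] at hu'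
        exact hu'
      · obtain ⟨htv, ht1⟩ := (Finset.mem_filter.1 ht).2
        have htP : t ∈ (P : Subgroup G) := (zpowers_le.2 (h.AP h.hvA)) htv
        have htZ : t ∉ Z := fun hh => hvZ ((zpowers_eq_of_prime hZc hh ht1).le (by
          rw [zpowers_eq_of_prime (by rw [Nat.card_zpowers, h.conf.hvo]) htv ht1]
          exact mem_zpowers v))
        have hto : t ^ r = 1 := by
          rw [← orderOf_dvd_iff_pow_eq_one, ← h.conf.hvo]; exact orderOf_dvd_of_mem_zpowers htv
        obtain ⟨x₀, hx₀, hx₀t⟩ : ∃ x₀ ∈ (P : Subgroup G), ⁅t⁻¹, x₀⁆ ≠ 1 := by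
          by_contra hno
          push Not at hno
          refine htZ ⟨htP, mem_centralizer_iff.2 fun y hy => ?_, hto⟩
          have hty := ((show Commute t⁻¹ y from commutatorElement_eq_one_iff_mul_comm.1 (hno y hy)).inv_left)
          rw [inv_inv] at hty
          exact hty.symm.eq
        have hcZ : ⁅t⁻¹, x₀⁆ ∈ Z := derived_le_line hG hrk hna
          (commutator_mem_commutator ((P : Subgroup G).inv_mem htP) hx₀)
        obtain ⟨n, hn⟩ := (Submonoid.mem_powers_iff _ _).1 (mem_powers_iff_mem_zpowers.2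
          ((zpowers_eq_of_prime hZc hcZ hx₀t).ge hz))
        set c := ⁅t⁻¹, x₀⁆
        have hct : Commute c t := (mem_centralizer_iff.1 hcZ.2.1 t htP).symm
        have hcx : Commute c x₀ := (mem_centralizer_iff.1 hcZ.2.1 x₀ hx₀).symm
        refine ⟨x₀ ^ n, h.PH ((P : Subgroup G).pow_mem hx₀ n), ?_⟩
        rw [← hn]
        have hbase : x₀ * t * x₀⁻¹ = t * c := by
          simp only [c, commutatorElement_def]; group
        clear hn
        induction n with
        | zero => simp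
        | succ n ih =>
          rw [pow_succ', pow_succ, show x₀ * x₀ ^ n * t * (x₀ * x₀ ^ n)⁻¹ = x₀ * (x₀ ^ n * t * (x₀ ^ n)⁻¹) * x₀⁻¹ by
            group, ih, show x₀ * (t * c ^ n) * x₀⁻¹ = x₀ * t * x₀⁻¹ * (x₀ * c ^ n * x₀⁻¹) by group, hbase,
            ← (hcx.pow_left n).eq, mul_inv_cancel_right, mul_assoc, (Commute.self_pow c n).eq]
      · rw [hW, hrel, ← hk.idx, mul_comm, Grp.card_mul_relIndex hXH]
      · rw [hW]; exact hE.trans (Nat.mul_le_mul_left _ hC)
    · -- `e ∣ r + 1`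
      have hre : 2 * Nat.card K ≤ r + 1 := by
        obtain ⟨c, hc⟩ := h1
        have hc2 : 2 ≤ c := by
          by_contra hlt
          obtain ⟨a, ha⟩ := hk.odd
          obtain ⟨b, hb⟩ := hr.out.odd_of_ne_two h.plane.prime_ne_two
          interval_cases c <;> omega
        rw [hc, mul_comm 2]
        exact Nat.mul_le_mul_left _ hc2
      have hEX : E ≤ Cfsg.sigmaCore H := by
        intro x hx
        by_contra hxX
        obtain ⟨s, hs, hsσ, k, hwo⟩ := exists_sigma'_power hG hH (h.EH hx) hxX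
        haveI := Fact.mk hs
        set w := x ^ k
        have hwE : w ∈ E := E.pow_mem hx k
        have hw1 : w ≠ 1 := fun e => hs.ne_one (by rw [← hwo, e, orderOf_one])
        have hwX : w ∉ Cfsg.sigmaCore H := fun hh => hsσ (TransHyp.piCoreOf_primes (π := Cfsg.sigma H) (X := H) hs
          (hwo ▸ Subgroup.orderOf_dvd_natCard _ hh))
        have hwA : zpowers w ≤ normalizer (A : Set G) := zpowers_le.2 (h.plane.compl_normalizes hwE)
        have hsK : s ∣ Nat.card K := by
          have hd' : s ∣ Nat.card H := hwo ▸ Subgroup.orderOf_dvd_natCard _ (h.EH hwE)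
          rw [hk.card] at hd'
          exact (hs.dvd_mul.1 hd').resolve_left fun h2 =>
            hsσ (TransHyp.piCoreOf_primes (π := Cfsg.sigma H) (X := H) hs h2)
        have hsodd : Odd s := hk.odd.of_dvd_nat hsK
        have hsr : ¬ s ∣ r - 1 := fun h2 => by
          have h3 : s ∣ r + 1 := hsK.trans h1
          have h4 := Nat.dvd_sub h3 h2
          rw [show r + 1 - (r - 1) = 2 by have := hr.out.two_le; omega] at h4
          rcases (Nat.dvd_prime Nat.prime_two).1 h4 with e | e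
          · exact hs.ne_one e
          · rw [e] at hsodd; exact absurd hsodd (by decide)
        set F := zpowers w
        have hFc : Nat.card F = s := by rw [Nat.card_zpowers, hwo]
        have hcop : (Nat.card F).Coprime (Nat.card A) := by
          rw [hFc, h.plane.card]
          exact ((Nat.coprime_primes hs hr.out).2 fun e => hsσ (e ▸ h.conf.hrH)).pow_right 2
        haveI := h.plane.elem.1
        have hfix := Grp.abelian_commutator_inf_fixed F A hwA hcop
        have hsplit := Grp.commutator_sup_fixed F A hwA hcop (Or.inl inferInstance)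
        set C₀ := ⁅A, F⁆
        have hC₀A : C₀ ≤ A := Grp.commutator_le_left_of_le_normalizer hwA
        have hZC : Z ≤ A ⊓ centralizer (F : Set G) := le_inf (h.maxPlane.omZ_le_self h.AP)
          (le_centralizer_iff.1 (zpowers_le.2 (hHZ (h.EH hwE))))
        have hC0 : C₀ = ⊥ := by
          by_contra hne
          have hdis : C₀ ⊓ (A ⊓ centralizer (F : Set G)) = ⊥ := by rw [inf_comm]; exact hfix
          obtain ⟨a, -, hca⟩ := (Nat.dvd_prime_pow hr.out).1 (h.plane.card ▸ card_dvd_of_le hC₀A :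
            Nat.card C₀ ∣ r ^ 2)
          have hC₀c : Nat.card C₀ = r := by
            have h2 := Grp.card_sup_mul_card_inf (H := C₀) (N := A ⊓ centralizer (F : Set G))
              ((hC₀A.trans (le_centralizer_iff_isMulCommutative.2 h.plane.elem.1)).trans
                ((centralizer_le inf_le_left).trans (centralizer_le_normalizer _)))
            rw [hdis, Subgroup.card_bot, mul_one, hsplit, h.plane.card, hca] at h2
            have h3 : r ^ a * r ≤ r ^ 2 := by
              rw [h2]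
              exact Nat.mul_le_mul_left _ (hZc ▸ Nat.le_of_dvd Nat.card_pos (card_dvd_of_le hZC))
            rw [← pow_succ] at h3
            have := (Nat.pow_le_pow_iff_right hr.out.one_lt).1 h3
            have ha1 : a = 1 := by
              rcases Nat.eq_zero_or_pos a with e | e
              · exact absurd (Subgroup.card_eq_one.1 (by rw [hca, e, pow_zero])) hne
              · omega
            rw [hca, ha1, pow_one]
          refine hsr (hFc ▸ card_dvd_pred hC₀c ?_ fun f hf hcy => ?_)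
          · exact le_normalizer_commutator' hwA le_normalizer
          · by_contra hf1
            refine hne (le_bot_iff.1 (le_trans (le_inf le_rfl (le_inf hC₀A fun y hy => ?_)) hdis.le))
            rw [show F = zpowers f from (zpowers_eq_of_prime hFc hf hf1).symm, centralizer_zpowers_eq]
            exact mem_centralizer_singleton_iff.2 (hcy y hy).symm.eq
        rw [hC0, bot_sup_eq] at hsplit
        refine hwX (hCX ⟨h.EH hwE, mem_centralizer_singleton_iff.2 ?_⟩)
        exact (mem_centralizer_iff.1 (hsplit.ge h.hvA).2 w (mem_zpowers w))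
      refine absurd_linear_case h hZX hHO hab hvZ hin (by rw [hk.idx]; exact hk.e3) (by rw [hk.idx]; exact hre) hr2 ?_
      rw [← inf_eq_left.2 hEX]
      exact hC
  -- rank three or more
  have h1 : Nat.card K ∣ r - 1 := hcase.resolve_right fun ⟨h3, _⟩ => hrk fun B hBc hBp => by
    haveI := hBc
    by_contra hgt
    push Not at hgt
    have hB : B = ⊤ := Subgroup.eq_top_of_card_eq _ (le_antisymm (Nat.le_of_dvd Nat.card_pos (card_subgroup_dvd_card B))
      (by
        rw [h3]
        obtain ⟨a, -, ha⟩ := (Nat.dvd_prime_pow hr.out).1 (h3 ▸ card_subgroup_dvd_card B)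
        rw [ha] at hgt ⊢
        have := (Nat.pow_lt_pow_iff_right hr.out.one_lt).1 hgt
        exact Nat.pow_le_pow_right hr.out.pos this))
    exact hna ⟨⟨fun a b => by
      have := congrArg Subtype.val (hBc.is_comm.comm (⟨a, hB ▸ mem_top a⟩ : B) ⟨b, hB ▸ mem_top b⟩)
      exact this⟩⟩
  have hre : 2 * Nat.card K + 1 ≤ r := by
    obtain ⟨c, hc⟩ := h1
    have hc2 : 2 ≤ c := by
      by_contra hlt
      obtain ⟨a, ha⟩ := hk.odd
      obtain ⟨b, hb⟩ := hr.out.odd_of_ne_two h.plane.prime_ne_two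
      have := hr.out.two_le
      interval_cases c <;> omega
    have := Nat.mul_le_mul_left (Nat.card K) hc2
    have := hr.out.two_le
    omega
  have hij := sq_index_of_rank h hnil hrk hi hj
  haveI := hk.decomp.cyclic
  obtain ⟨g₀, hg₀⟩ := IsCyclic.exists_generator (α := K)
  set g : H := ⟨g₀, hk.KH g₀.2⟩
  letI : Fintype ((Cfsg.sigmaCore H).subgroupOf H) := Fintype.ofFinite _
  let Bd : Finset ((Cfsg.sigmaCore H).subgroupOf H → ℂ) :=
    (trivOn (⊥ : Subgroup ((Cfsg.sigmaCore H).subgroupOf H))).filter fun θ =>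
      θ ≠ (fun _ => 1) ∧ conjN ((Cfsg.sigmaCore H).subgroupOf H) g θ = θ
  have hgne : (g₀ : G) ≠ 1 := fun e => hk.ne ((Subgroup.eq_bot_iff_forall _).2 fun x hx => by
    obtain ⟨n, hn⟩ := Subgroup.mem_zpowers_iff.1 (hg₀ ⟨x, hx⟩)
    have := congrArg Subtype.val hn
    rw [Subgroup.coe_zpow, e, one_zpow] at this
    exact this.symm)
  have hfixK := (Cfsg.Agent.S1430.result hG H hH K hk.decomp.hall hk.ne).1
  set C := lift H (Cfsg.sigmaCore H) (kStar H K)
  have hcopg : (orderOf g).Coprime (Nat.card ((Cfsg.sigmaCore H).subgroupOf H)) := by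
    have e1 : Nat.card ((Cfsg.sigmaCore H).subgroupOf H) = Nat.card (Cfsg.sigmaCore H) :=
      Nat.card_congr (subgroupOfEquivOfLe hXH).toEquiv
    rw [e1]
    exact hk.cop.coprime_dvd_left (Subgroup.orderOf_coe g ▸ Subgroup.orderOf_dvd_natCard _ g₀.2)
  have hCmem : ∀ (f : H), (f : G) ∈ K → f ≠ 1 → ∀ n : (Cfsg.sigmaCore H).subgroupOf H, n ∈ C ↔ f * n = n * f := by
    intro f hf hf1 n
    have hf1' : (f : G) ≠ 1 := fun e => hf1 (Subtype.ext e)
    constructor
    · intro hn
      exact Subtype.ext ((show Commute ((n : H) : G) (f : G) from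
        (mem_centralizer_iff.1 (show ((n : H) : G) ∈ kStar H K from hn).2 _ hf).symm).symm.eq)
    · intro hn
      exact (hfixK (f : G) hf hf1').le ⟨n.2, mem_centralizer_singleton_iff.2 (congrArg Subtype.val hn).symm⟩
  obtain ⟨hcount, hpow⟩ := fixed_chars ((Cfsg.sigmaCore H).subgroupOf H) g hcopg
    (hCmem g g₀.2 fun e => hgne (congrArg Subtype.val e))
  have hBdc : Bd.card ≤ r - 1 := by
    have h2 : (insert (fun _ => (1 : ℂ)) Bd).card ≤
        Nat.card {χ : Cfsg.IrrCharacter ((Cfsg.sigmaCore H).subgroupOf H) //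
          conjN ((Cfsg.sigmaCore H).subgroupOf H) g (χ : _ → ℂ) = χ} := by
      rw [← Fintype.card_coe, ← Nat.card_eq_fintype_card]
      refine Nat.card_le_card_of_injective (fun θ => ⟨⟨θ.1, ?_⟩, ?_⟩) fun a b e => Subtype.ext ?_
      · rcases Finset.mem_insert.1 θ.2 with e | hθ
        · rw [e]; exact isIrr_one
        · exact (mem_trivOn.1 (Finset.mem_filter.1 hθ).1).1
      · rcases Finset.mem_insert.1 θ.2 with e | hθ
        · show conjN _ g θ.1 = θ.1
          rw [e]; rfl
        · exact (Finset.mem_filter.1 hθ).2.2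
      · exact congrArg (fun χ : {χ : Cfsg.IrrCharacter ((Cfsg.sigmaCore H).subgroupOf H) //
            conjN ((Cfsg.sigmaCore H).subgroupOf H) g (χ : _ → ℂ) = χ} => χ.1.1) e
    rw [Finset.card_insert_of_notMem fun hh => (Finset.mem_filter.1 hh).2.1 rfl] at h2
    have h3 : Nat.card C = r := by
      rw [← hsc]
      exact (Nat.card_congr (subgroupOfEquivOfLe (show (kStar H K).subgroupOf H ≤
        (Cfsg.sigmaCore H).subgroupOf H from fun x hx => hx.1)).toEquiv).trans
        (Nat.card_congr (subgroupOfEquivOfLe (inf_le_left.trans hXH)).toEquiv)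
    have := h2.trans (hcount.trans h3.le)
    omega
  have hBdeg : ∀ θ ∈ Bd, dg θ ≠ 1 ∧ r * dg θ ^ 2 ≤ Nat.card (P : Subgroup G) := by
    intro θ hθ
    obtain ⟨ht, hne, hfx⟩ := Finset.mem_filter.1 hθ
    have hirr := (mem_trivOn.1 ht).1
    refine ⟨fun h2 => hne (hk.stable_principal h le_rfl hirr (triv_of_linear hirr h2 ?_) hfx
      (hk.notX g₀.2 hgne)), ?_⟩
    · intro x hx
      have h4 : ((x : H) : G) ∈ ⁅Cfsg.sigmaCore H, Cfsg.sigmaCore H⁆ := hk.star_der hx
      have e1 : (commutator ((Cfsg.sigmaCore H).subgroupOf H)).map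
          (H.subtype.comp ((Cfsg.sigmaCore H).subgroupOf H).subtype) = ⁅Cfsg.sigmaCore H, Cfsg.sigmaCore H⁆ := by
        rw [← Subgroup.map_map, Subgroup.map_subtype_commutator, Subgroup.map_commutator,
          Subgroup.map_subgroupOf_eq_of_le hXH]
      rw [← e1] at h4
      obtain ⟨y, hy, hye⟩ := h4
      rwa [show x = y from Subtype.ext (Subtype.ext hye.symm)]
    set Wc := O' r (Cfsg.sigmaCore H) ⊔ Z
    have hZP : Z ≤ (P : Subgroup G) := omZ_le _
    have hWX : Wc ≤ Cfsg.sigmaCore H := sup_le (O'_le r _) (hZP.trans h.PX)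
    have hcen : Wc ≤ centralizer (Cfsg.sigmaCore H : Set G) := by
      refine sup_le (W_central h hnil) ?_
      rw [le_centralizer_iff]
      conv_lhs => rw [hf.D_eq]
      exact sup_le (le_centralizer_iff.1 (omZ_le_centralizer _)) (hf.W_le_CP.trans (centralizer_le hZP))
    have h4 := Descent.sq_le_index (lift H (Cfsg.sigmaCore H) Wc) hirr (dg_spec hirr) fun z hz y => by
      have hcm : Commute ((z : H) : G) ((y : H) : G) :=
        (mem_centralizer_iff.1 (hcen hz) _ y.2).symm
      rw [show z * y * z⁻¹ * y⁻¹ = 1 from Subtype.ext (Subtype.ext (by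
        show ((z : H) : G) * ((y : H) : G) * ((z : H) : G)⁻¹ * ((y : H) : G)⁻¹ = 1
        rw [hcm.eq, mul_inv_cancel_right, mul_inv_cancel]))]
    rw [lift_index hXH] at h4
    refine le_trans (Nat.mul_le_mul_left r h4) ?_
    have hWc : Nat.card Wc = Nat.card ↥(O' r (Cfsg.sigmaCore H)) * r := by
      have h5 := Grp.card_sup_mul_card_inf (H := O' r (Cfsg.sigmaCore H)) (N := Z)
        ((hf.W_le_CP.trans (centralizer_le hZP)).trans (centralizer_le_normalizer _))
      rwa [Grp.inf_eq_bot_of_coprime (by rw [hZc]; exact O'_coprime _), Subgroup.card_bot, mul_one, hZc] at h5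
    refine Nat.le_of_mul_le_mul_left ?_ (Nat.card_pos (α := ↥(O' r (Cfsg.sigmaCore H))))
    rw [← mul_assoc, ← hWc, Grp.card_mul_relIndex hWX, hf.card_X, Subgroup.card_bot, one_mul, mul_comm]
  have hr1 : 1 ≤ r := hr.out.one_lt.le
  refine absurd_chain_case hf hCX
    (by rw [hk.idx]; exact hk.e3) (by rw [hk.idx]; exact hre) (b := r - 1) (by omega) Bd hBdc hBdeg
    (fun θ hθ _ hne hB f hf' => ?_) ?_
  · by_contra hfX
    obtain ⟨f', hf'K, hf'1, hf'f⟩ := hk.exists_fixer hθ hf' hfX
    obtain ⟨m, hm⟩ := (Submonoid.mem_powers_iff _ _).1 (mem_powers_iff_mem_zpowers.2 (hg₀ ⟨f', hf'K⟩))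
    have e : g ^ m = f' := Subtype.ext (by
      show ((g₀ : K) : G) ^ m = (f' : G)
      exact (SubmonoidClass.coe_pow g₀ m).symm.trans (congrArg Subtype.val hm))
    refine hB (Finset.mem_filter.2 ⟨mem_trivOn.2 ⟨hθ, fun o ho => by rw [Subgroup.mem_bot.1 ho]⟩, hne,
      hpow m (fun n hn => (hCmem f' hf'K hf'1 n).2 (e ▸ hn)) θ hθ (e ▸ hf'f)⟩)
  · rw [show r - (r - 1) = 1 by omega, one_mul, hLbot, Subgroup.card_bot, mul_one]
    exact le_trans (Nat.mul_le_mul_right _ (Nat.pow_le_pow_right hr.out.pos (by omega))) hk1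

end Cfsg.Agent.Transfer.Loc.TypeI
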