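import Cfsg.Agent.Lib.Transfer.Local.TypeIDecomp
import Cfsg.Agent.Lib.Transfer.Local.TypeINil
import Cfsg.Agent.Lib.Transfer.Local.TwistCore

/-!
The case `κ(H) ≠ ∅` with `H_σ` not nilpotent.
-/

set_option autoImplicit false
set_option linter.style.haveILetI false
set_option linter.unusedSectionVars false
set_option maxHeartbeats 4000000

namespace Cfsg.Agent.Transfer.Loc.TypeI

open Subgroup Cfsg.Agent.Char Cfsg.Agent.Char.KerSets
open scoped commutatorElement Pointwise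

attribute [local instance] core_normal Classical.propDecidable

universe u

variable {G : Type u} [Group G] [Finite G] {r : ℕ} [hr : Fact r.Prime]
  {M H E N A T : Subgroup G} {P : Sylow r G} {v : G} {K : Subgroup G}

/-- The shape of `H_σ`. -/
structure Shape (M H E N A T : Subgroup G) (P : Sylow r G) (v : G) (K Q D : Subgroup G) : Prop where
  frame : Frame M H E N A T P v Q D
  hQp : IsPGroup (Nat.card (kStar H K)) Q
  hqr : Nat.card (kStar H K) ≠ r
  hKQ : kStar H K ≤ Q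
  hnot : ¬ Q ≤ centralizer ({v} : Set G)
  hchief : ∀ N₁ : Subgroup G, Q ⊓ centralizer (D : Set G) < N₁ → N₁ < Q → ¬ H ≤ normalizer (N₁ : Set G)

theorem exists_shape (h : Setup M H E N A T P v) (hk : KSetup H P K)
    (hnil : ¬ Group.IsNilpotent (Cfsg.sigmaCore H)) : ∃ Q D, Shape M H E N A T P v K Q D := by
  have hG := h.hG
  have hM := h.conf.hM
  have hH := h.conf.hH
  haveI := solvable_of_ne_top hG hH.1
  set X := Cfsg.sigmaCore H with hX
  obtain ⟨-, -, -, hKp, hqp, hβ, Q, hQT, hHQ, -, -, -, hQD⟩ := sigmaCore_structure hG hH hk.decomp hnil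
  set q := Nat.card (kStar H K) with hqdef
  haveI := Fact.mk hqp
  have hTH : X ≤ H := TransHyp.piCoreOf_le H
  haveI := isSolvable_of_le hTH
  have hqr : q ≠ r := fun e => h.maxPlane.not_beta H (e ▸ hβ)
  have hqσ : q ∉ Cfsg.sigma M := fun h1 => by
    obtain ⟨g, hg⟩ := sigma_conj_of_common hG hM hH h1 (alpha_subset_sigma hG hH hβ.1)
    exact h.conf.hMH g hg
  have hq1 : Cfsg.PRankLE q 1 M := by
    by_contra hc
    have hτ := tau2_of_not_rank_one hG hM hqσ hc
    exact (Cfsg.Agent.S1408.result hG M hM q hqσ hτ.2.2.1 hc).1 hβ.2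
  have hq2 : q ≠ 2 := ne_two hG ((card_dvd_of_le (inf_le_left : kStar H K ≤ X)).trans
    (card_subgroup_dvd_card _))
  obtain ⟨i, hi⟩ := IsPGroup.iff_card.1 hQT.2.1
  -- `Q` is the Sylow subgroup of `H`
  have hQH' : Grp.IsSylowIn q Q H := by
    refine ⟨hQT.1.trans hTH, hQT.2.1, fun hd => ?_⟩
    rw [← relIndex_mul_relIndex Q X H hQT.1 hTH, hk.idx] at hd
    refine (hqp.dvd_mul.1 hd).elim hQT.2.2 fun h1 => hqp.ne_one (Nat.eq_one_of_dvd_coprimes hk.cop h1 ?_)
    exact card_dvd_of_le (inf_le_left : kStar H K ≤ X)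
  have hmax : ∀ B : Subgroup G, B ≤ H → IsPGroup q B → B ≤ Q := fun B hBH hB => by
    rw [hQH'.eq_of_le le_sup_right (sup_le hBH hQH'.1)
      (hB.to_sup_of_normal_right' hQT.2.1 (hBH.trans hHQ))]
    exact le_sup_left
  have hKQ : kStar H K ≤ Q := hmax _ ((inf_le_left : kStar H K ≤ X).trans hTH)
    (IsPGroup.of_card (n := 1) (by rw [pow_one]))
  -- a nilpotent complement of `Q` over `P`
  obtain ⟨D, hD, -, hSD⟩ := Grp.PiHall.exists_ge (π := {t : ℕ | t ≠ q}) _ G ⊥ X (P : Subgroup G) rfl bot_le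
    (by simp) inferInstance h.hP.1 bot_le fun t ht hd => by
      rw [eq_of_dvd_pGroup P.isPGroup' ht hd]; exact hqr.symm
  have hcopQD : (Nat.card Q).Coprime (Nat.card D) := by
    rw [hi]
    exact (hqp.coprime_iff_not_dvd.2 fun hd => hD.2.1 q hqp hd rfl).pow_left i
  have hsupQD : X ≤ Q ⊔ D := by
    refine Grp.le_of_forall_sylow (sup_le hQT.1 hD.1) fun t ht => ?_
    by_cases htq : t = q
    · subst htq; exact ⟨Q, hQT, le_sup_left⟩
    · obtain ⟨V, hV⟩ := Grp.exists_isSylowIn t D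
      exact ⟨V, sylowIn_trans hV hD.1 (hD.2.2 t ht.out htq), hV.1.trans le_sup_right⟩
  have hDQ : D ≤ normalizer (Q : Set G) := (hD.1.trans hTH).trans hHQ
  have hcompl : Cfsg.IsComplIn Q D X := ⟨hQT.1, hD.1, Grp.inf_eq_bot_of_coprime hcopQD, fun m hm => by
    have h1 := hsupQD hm
    rw [← SetLike.mem_coe, Subgroup.coe_mul_of_right_le_normalizer_left Q D hDQ] at h1
    obtain ⟨a, ha, b, hb, e⟩ := h1
    exact ⟨a, ha, b, hb, e.symm⟩⟩
  obtain ⟨hDn, hH0, hlt, hcardQ, hQ0, hchief, hDD⟩ := hQD D hcompl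
  set Q₀ := Q ⊓ centralizer (D : Set G) with hQ0def
  have hQ0E : Q₀ ≤ E := inf_le_right.trans ((centralizer_le hSD).trans h.CP)
  have hcyc : IsCyclic Q₀ := by
    by_contra hc
    exact not_prank_one_of_not_cyclic hG hq2 (hQT.2.1.to_le inf_le_left) hc
      (prankLE_mono (hQ0E.trans h.conf.hE.1) hq1)
  haveI := hcyc
  -- a subgroup over `Q₀` catching all commutators with `D` is `Q`
  have hcatch : ∀ N : Subgroup G, Q₀ ≤ N → (∀ x ∈ Q, ∀ d ∈ D, ⁅x, d⁆ ∈ N) → Q ≤ N := fun N h0 hc => by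
    rw [← Grp.commutator_sup_fixed D Q hDQ hcopQD.symm (Or.inr (isSolvable_of_le (hQT.1.trans hTH)))]
    exact sup_le (commutator_le.2 hc) h0
  have hQ0n : Q ≤ normalizer (Q₀ : Set G) := (hQT.1.trans hTH).trans hH0
  have hQ0ab : ∀ a ∈ Q₀, ∀ b ∈ Q₀, a * b = b * a := fun a ha b hb =>
    congrArg Subtype.val ((IsCyclic.commGroup (α := Q₀)).mul_comm (⟨a, ha⟩ : Q₀) ⟨b, hb⟩)
  have hfixD : ∀ z ∈ Q₀, ∀ d ∈ D, d * z = z * d := fun z hz d hd => mem_centralizer_iff.1 hz.2 d hd
  have hcen : Q ≤ centralizer (Q₀ : Set G) := by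
    refine (hcatch (Q ⊓ centralizer (Q₀ : Set G)) (le_inf inf_le_left fun z hz => mem_centralizer_iff.2 fun w hw =>
      hQ0ab w hw z hz) fun x hx d hd => ⟨?_, mem_centralizer_iff.2 fun z hz => ?_⟩).trans inf_le_right
    · rw [commutatorElement_def, mul_assoc, mul_assoc, ← mul_assoc d]
      exact Q.mul_mem hx (Grp.mem_conj_normalizer (hDQ hd) (Q.inv_mem hx))
    · have h1 : x⁻¹ * z * x ∈ Q₀ := Grp.mem_conj_normalizer' (hQ0n hx) hz
      have h2 := hfixD _ h1 d hd
      have h3 := hfixD _ hz d hd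
      have h4 : x * d * x⁻¹ * d⁻¹ * z = z * (x * d * x⁻¹ * d⁻¹) := by
        calc x * d * x⁻¹ * d⁻¹ * z = x * d * x⁻¹ * (d⁻¹ * (z * d)) * d⁻¹ := by group
          _ = x * (d * (x⁻¹ * z * x)) * x⁻¹ * d⁻¹ := by rw [← h3]; group
          _ = x * (x⁻¹ * z * x * d) * x⁻¹ * d⁻¹ := by rw [h2]
          _ = z * (x * d * x⁻¹ * d⁻¹) := by group
      rw [commutatorElement_def]
      exact h4.symm
  have hcen' : ∀ z ∈ Q₀, ∀ x ∈ Q, z * x = x * z := fun z hz x hx => mem_centralizer_iff.1 (hcen hx) z hz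
  have hcomm : ∀ a ∈ Q, ∀ b ∈ Q, ⁅a, b⁆ ∈ Q₀ := fun a ha b hb => by
    rw [commutatorElement_def]; exact (hQ0 a ha b hb).2
  -- `Q` is abelian
  have hab : IsMulCommutative Q := by
    by_contra hna
    have hna' : ¬ Q ≤ centralizer (Q : Set G) := fun h => hna (le_centralizer_iff_isMulCommutative.1 h)
    have h01 : Q₀ ≠ ⊥ := fun e => hna' fun a ha => mem_centralizer_iff.2 fun b hb => by
      have h1 := hcomm b hb a ha
      rw [e, mem_bot, commutatorElement_eq_one_iff_mul_comm] at h1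
      exact h1
    have hZ : ∀ z ∈ Q, (∀ x ∈ Q, z * x = x * z) → z ∈ Q₀ := by
      intro z hz hzc
      by_contra hz0
      have hHZ : H ≤ normalizer ((Q ⊓ centralizer (Q : Set G) : Subgroup G) : Set G) :=
        Grp.le_normalizer_inf' hHQ (hHQ.trans (normalizer_le_normalizer_cent _))
      have h0Z : Q₀ ≤ Q ⊓ centralizer (Q : Set G) := le_inf inf_le_left fun w hw =>
        mem_centralizer_iff.2 fun x hx => (hcen' w hw x hx).symm
      refine hchief _ (lt_of_le_of_ne h0Z fun e => hz0 (e ▸ ⟨hz, mem_centralizer_iff.2 fun x hx => (hzc x hx).symm⟩))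
        (lt_of_le_of_ne inf_le_left fun e => hna' (e.ge.trans inf_le_right)) hHZ
    have hpow : ∀ x ∈ Q, ∃ y ∈ Q₀, x ^ q = y ^ q := by
      have hq' : q ∣ q.choose 2 := hqp.dvd_choose_self (by norm_num) (lt_of_le_of_ne hqp.two_le (Ne.symm hq2))
      have hcq : ∀ a ∈ Q, ∀ b ∈ Q, ⁅a, b⁆ ^ q = 1 := by
        intro a ha b hb
        have hk : ∀ k : ℕ, ⁅a ^ k, b⁆ = ⁅a, b⁆ ^ k := by
          intro k
          induction k with
          | zero => simp
          | succ k ih =>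
            rw [pow_succ, PGroups.comm_mul (Z := Q₀) (fun z hz => hcen' z hz _ (Q.pow_mem ha k)) (hcomm a ha b hb)
              (fun z hz => hcen' z hz _ (inf_le_left (α := Subgroup G) (hcomm _ (Q.pow_mem ha k) b hb))), ih,
              ← pow_succ]
        rw [← hk, commutatorElement_eq_one_iff_mul_comm]
        exact hcen' _ (hQ0 a ha b hb).1 b hb
      have hmul : ∀ a ∈ Q, ∀ b ∈ Q, (a * b) ^ q = a ^ q * b ^ q := fun a ha b hb => by
        have hc := hcen' _ (hcomm b hb a ha)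
        obtain ⟨t, ht⟩ := hq'
        rw [Cfsg.Agent.Grp.mul_pow_class_two (x := a) (y := b) (c := ⁅b, a⁆)
          (by rw [commutatorElement_def]; group) (hc a ha) (hc b hb) q, ht, pow_mul, hcq b hb a ha, one_pow, one_mul]
      let N : Subgroup G :=
        { carrier := {x | x ∈ Q ∧ ∃ y ∈ Q₀, x ^ q = y ^ q}
          one_mem' := ⟨Q.one_mem, 1, Q₀.one_mem, rfl⟩
          inv_mem' := fun {x} hx => ⟨Q.inv_mem hx.1, by
            obtain ⟨y, hy, e⟩ := hx.2
            exact ⟨y⁻¹, Q₀.inv_mem hy, by rw [inv_pow, e, inv_pow]⟩⟩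
          mul_mem' := fun {a b} ha hb => ⟨Q.mul_mem ha.1 hb.1, by
            obtain ⟨y, hy, e⟩ := ha.2
            obtain ⟨z, hz, e'⟩ := hb.2
            exact ⟨y * z, Q₀.mul_mem hy hz, by
              rw [hmul a ha.1 b hb.1, e, e', (show Commute y z from hQ0ab y hy z hz).mul_pow]⟩⟩ }
      have h1 : Q ≤ N := hcatch N (fun z hz => ⟨hz.1, z, hz, rfl⟩) fun x hx d hd => by
        have hxd : d * x⁻¹ * d⁻¹ ∈ Q := Grp.mem_conj_normalizer (hDQ hd) (Q.inv_mem hx)
        rw [show ⁅x, d⁆ = x * (d * x⁻¹ * d⁻¹) by rw [commutatorElement_def]; group]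
        refine ⟨Q.mul_mem hx hxd, 1, Q₀.one_mem, ?_⟩
        rw [hmul x hx _ hxd, conj_pow, inv_pow, hfixD _ (Q₀.inv_mem (hQ0 x hx x hx).1) d hd]
        group
      exact fun x hx => (h1 hx).2
    have h2 := even_of_central hq2 hQT.2.1 inf_le_left hcyc h01 hcen' hcomm hpow hZ hcardQ
    exact (Nat.not_even_iff_odd.2 (hG.1.of_dvd_nat (card_subgroup_dvd_card K))) h2
  refine ⟨Q, D, ⟨h, hQT.1, hHQ, fun hd => hqr (eq_of_dvd_pGroup hQT.2.1 hr.out hd).symm, hab, hSD, hDn, hcompl,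
    fun a ha b hb => hDD (commutator_mem_commutator (hSD ha) (hSD hb))⟩, hQT.2.1, hqr, hKQ, fun hle => ?_,
    hchief⟩
  obtain ⟨B, hBH, hB, hBc⟩ := exists_elem_of_not_prank hβ.1.2
  have hBp : IsPGroup q B := fun a => ⟨1, Subtype.ext (by rw [coe_pow, coe_one, pow_one]; exact hB.2 a a.2)⟩
  exact not_prank_of_elem (((hmax B hBH hBp).trans hle).trans h.conf.hCv) hB
    ((Nat.pow_le_pow_right hqp.pos (by omega)).trans hBc) hq1

namespace Shape

variable {Q D : Subgroup G} (s : Shape M H E N A T P v K Q D)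
include s

theorem QE_ne : Q ⊓ E ≠ Q := fun e => s.hnot ((le_inf (e ▸ inf_le_right) s.frame.hQX).trans s.frame.EX_le_Cv)

theorem L_ne : ⁅Q, zpowers v⁆ ≠ ⊥ := fun e => s.QE_ne (le_antisymm inf_le_left (by
  have h1 := s.frame.Q_split
  rwa [e, bot_sup_eq] at h1))

/-- An `H`-invariant subgroup of `Q` containing `[Q, v]` contains `K*`. -/
theorem kStar_le (hk : KSetup H P K) {J : Subgroup G} (hJQ : J ≤ Q) (hHJ : H ≤ normalizer (J : Set G))
    (hLJ : ⁅Q, zpowers v⁆ ≤ J) : kStar H K ≤ J := by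
  have h := s.frame.setup
  have hG := h.hG
  haveI := solvable_of_ne_top hG h.conf.hH.1
  haveI := Fact.mk hk.star_prime
  set q := Nat.card (kStar H K) with hq
  by_contra hle
  have hdis : J ⊓ centralizer (K : Set G) = ⊥ := by
    by_contra hne
    have h1 : J ⊓ centralizer (K : Set G) ≤ kStar H K := inf_le_inf_right _ (hJQ.trans s.frame.hQX)
    refine hle (le_trans (le_of_eq (Subgroup.eq_of_le_of_card_ge h1 ?_).symm) inf_le_left)
    rcases (Nat.dvd_prime hk.star_prime).1 (card_dvd_of_le h1) with h2 | h2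
    · exact absurd (Subgroup.card_eq_one.1 h2) hne
    · exact h2.ge
  have hJp : IsPGroup q J := s.hQp.to_le hJQ
  obtain ⟨i, hi⟩ := IsPGroup.iff_card.1 hJp
  obtain ⟨n, hn⟩ := IsPGroup.iff_card.1 P.isPGroup'
  have hrK : ¬ r ∣ Nat.card K := fun hd => hr.out.ne_one (Nat.eq_one_of_dvd_coprimes hk.cop hd
    ((h.conf.hvo ▸ Subgroup.orderOf_dvd_natCard _ h.conf.hvX)))
  have hPK : (P : Subgroup G) ⊓ K = ⊥ := Grp.inf_eq_bot_of_coprime (by
    rw [hn]; exact ((hr.out.coprime_iff_not_dvd.2 hrK)).pow_left n)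
  have hcard : Nat.card ↥((P : Subgroup G) ⊔ K) = Nat.card (P : Subgroup G) * Nat.card K := by
    have h1 := Grp.card_sup_mul_card_inf (H := K) (N := (P : Subgroup G)) hk.normP
    rw [inf_comm, hPK, Subgroup.card_bot, mul_one, sup_comm, mul_comm (Nat.card K)] at h1
    exact h1
  have hcop : (Nat.card J).Coprime (Nat.card ↥((P : Subgroup G) ⊔ K)) := by
    rw [hi, hcard, hn]
    refine ((hk.star_prime.coprime_iff_not_dvd.2 fun hd => ?_)).pow_left i
    rcases hk.star_prime.dvd_mul.1 hd with h1 | h1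
    · exact s.hqr ((Nat.prime_dvd_prime_iff_eq hk.star_prime hr.out).1 (hk.star_prime.dvd_of_dvd_pow h1))
    · exact hk.star_prime.ne_one (Nat.eq_one_of_dvd_coprimes hk.cop h1
        (card_dvd_of_le (inf_le_left : kStar H K ≤ Cfsg.sigmaCore H)))
  have hPKH : (P : Subgroup G) ⊔ K ≤ H := sup_le h.PH hk.KH
  have hform := Cfsg.Agent.S1545.result (P : Subgroup G) K J
    (fun e => h.conf.v_ne (mem_bot.1 (e ▸ s.frame.vP))) hk.ne hPK
    (fun k hkK u hu => Grp.mem_conj_normalizer (hk.normP hkK) hu)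
    (fun k hkK hk1 u hu hc => by
      by_contra hu1
      obtain ⟨m, hm⟩ := (Nat.dvd_prime_pow hr.out).1 (hn ▸ Subgroup.orderOf_dvd_natCard _ hu)
      have h1 := (hk.fixed h (hk.KH hkK) (hk.notX hkK hk1) (h.PX hu) hu1 hc).2
      rw [hm.2] at h1
      rcases Nat.eq_zero_or_pos m with h2 | h2
      · exact hu1 (orderOf_eq_one_iff.1 (by rw [hm.2, h2, pow_zero]))
      · exact s.hqr ((Nat.prime_dvd_prime_iff_eq hr.out hk.star_prime).1 ((dvd_pow_self r h2.ne').trans h1)).symm)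
    (fun x hx y hy => Grp.mem_conj_normalizer (hHJ (hPKH hx)) hy)
    (Grp.inf_eq_bot_of_coprime hcop) (isSolvable_of_le (((hJQ.trans s.frame.hQX)).trans s.frame.XH)) hcop
  have h2 : J ⊓ centralizer ((((P : Subgroup G) ⊔ K) : Subgroup G) : Set G) = ⊥ := le_bot_iff.1
    ((inf_le_inf_left _ (centralizer_le (SetLike.coe_subset_coe.2 (le_sup_right : K ≤ (P : Subgroup G) ⊔ K)))).trans
      hdis.le)
  rw [h2, hdis, Subgroup.card_bot, one_pow, one_mul, one_mul] at hform
  have h3 : J ≤ centralizer ((P : Subgroup G) : Set G) := by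
    rw [← Subgroup.eq_of_le_of_card_ge (inf_le_left : J ⊓ centralizer ((P : Subgroup G) : Set G) ≤ J) hform.le]
    exact inf_le_right
  refine s.L_ne (le_bot_iff.1 (le_trans (le_inf le_rfl ?_) s.frame.L_inf.le))
  exact (hLJ.trans h3).trans (centralizer_le (Set.singleton_subset_iff.2 s.frame.vP))

/-- A fixed character trivial on `[Q, v]` is principal. -/
theorem fixed_principal (hk : KSetup H P K) (hKp : (Nat.card K).Prime)
    {θ : (Cfsg.sigmaCore H).subgroupOf H → ℂ} (hθ : Cfsg.IsIrrCharacter _ θ)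
    (htriv : ∀ a ∈ lift H (Cfsg.sigmaCore H) ⁅Q, zpowers v⁆, θ a = θ 1) {g : H}
    (hg : conjN ((Cfsg.sigmaCore H).subgroupOf H) g θ = θ) (hgX : (g : G) ∉ Cfsg.sigmaCore H) :
    θ = fun _ => 1 := by
  obtain ⟨f, hfK, hf1, hff⟩ := hk.exists_fixer hθ hg hgX
  have hall : ∀ x : H, conjN ((Cfsg.sigmaCore H).subgroupOf H) x θ = θ := by
    intro x
    have h1 : (x : G) ∈ (Cfsg.sigmaCore H) ⊔ K := by rw [hk.sup]; exact x.2
    rw [← SetLike.mem_coe, Subgroup.coe_mul_of_right_le_normalizer_left (Cfsg.sigmaCore H) K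
      (hk.KH.trans (TransHyp.le_normalizer_piCoreOf H))] at h1
    obtain ⟨y, hy, k, hkK, e⟩ := h1
    replace e : y * k = x := e
    have hkf : k ∈ zpowers (f : G) :=
      (@zpowers_eq_of_prime _ _ _ _ (Fact.mk hKp) _ rfl _ hfK fun e1 => hf1 (Subtype.ext e1)).ge hkK
    obtain ⟨m, hm⟩ := mem_zpowers_iff.1 hkf
    rw [← mem_inertia, show x = (⟨y, TransHyp.piCoreOf_le H hy⟩ : H) * f ^ m from Subtype.ext (by
      show (x : G) = y * ((f ^ m : H) : G)
      rw [Subgroup.coe_zpow, hm, e])]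
    exact mul_mem (le_inertia _ (IsIrr.classFun hθ) hy) (zpow_mem ((mem_inertia _).2 hff) m)
  let S : Set G := {y | ∃ x ∈ H, ∃ a ∈ ⁅Q, zpowers v⁆, y = x * a * x⁻¹}
  set J := Subgroup.closure S
  have hQH := s.frame.hQH
  have hJQ : J ≤ Q := (Subgroup.closure_le _).2 fun y ⟨x, hx, a, ha, e⟩ => by
    rw [e]; exact Grp.mem_conj_normalizer (hQH hx) (s.frame.L_le ha)
  have hHJ : H ≤ normalizer (J : Set G) := fun g hg' => by
    rw [Grp.mem_normalizer_iff_smul, ← Grp.map_conj_eq_smul]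
    refine Subgroup.eq_of_le_of_card_ge ?_ (by rw [card_map_of_injective (MulAut.conj g).injective])
    rw [Subgroup.map_le_iff_le_comap, Subgroup.closure_le]
    rintro _ ⟨x, hx, a, ha, rfl⟩
    exact Subgroup.subset_closure ⟨g * x, H.mul_mem hg' hx, a, ha, by
      show g * (x * a * x⁻¹) * g⁻¹ = _; group⟩
  have hLJ : ⁅Q, zpowers v⁆ ≤ J := fun a ha => Subgroup.subset_closure ⟨1, H.one_mem, a, ha, by group⟩
  have hker : J ≤ ((charKer (IsIrr.isCharacter hθ)).map (((Cfsg.sigmaCore H).subgroupOf H).subtype)).map H.subtype := by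
    refine (Subgroup.closure_le _).2 ?_
    rintro _ ⟨x, hx, a, ha, rfl⟩
    have haX : a ∈ (Cfsg.sigmaCore H) := s.frame.hQX (s.frame.L_le ha)
    have hyX : x * a * x⁻¹ ∈ (Cfsg.sigmaCore H) := Grp.mem_conj_normalizer (TransHyp.le_normalizer_piCoreOf H hx) haX
    refine ⟨⟨_, TransHyp.piCoreOf_le H hyX⟩, ⟨⟨⟨_, TransHyp.piCoreOf_le H hyX⟩, hyX⟩, ?_, rfl⟩, rfl⟩
    rw [SetLike.mem_coe, mem_charKer]
    have h1 := congrFun (hall ⟨x, hx⟩) ⟨⟨a, TransHyp.piCoreOf_le H haX⟩, haX⟩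
    rw [conjN_apply] at h1
    refine (Eq.trans ?_ h1).trans (htriv _ (mem_lift.2 ha))
    rfl
  refine hk.stable_principal s.frame.setup (s.kStar_le hk hJQ hHJ hLJ) hθ (fun n hn => ?_) hg hgX
  obtain ⟨m, ⟨m', hm', rfl⟩, hm⟩ := hker (mem_lift.1 hn)
  rw [show n = m' from Subtype.ext (Subtype.ext hm.symm)]
  exact (mem_charKer _).1 hm'

/-- The abelian Sylow case. -/
theorem absurd_comm (hk : KSetup H P K) (hab : IsMulCommutative (P : Subgroup G)) : False := by
  letI := Fintype.ofFinite G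
  letI := Fintype.ofFinite H
  have h := s.frame.setup
  have hf := s.frame
  haveI := hf.hQc
  haveI := hk.decomp.cyclic
  set X := Cfsg.sigmaCore H
  have hrq : ∀ {w : G}, w ∈ H → w ∉ X → ∀ a ∈ A, Commute w a → a = 1 := fun {w} hw hwX a ha hc => by
    by_contra ha1
    have h1 := (hk.fixed h hw hwX (h.PX (h.AP ha)) ha1 hc).2
    rw [orderOf_eq_prime (h.plane.elem.2 a ha) ha1] at h1
    exact s.hqr ((Nat.prime_dvd_prime_iff_eq hr.out hk.star_prime).1 h1).symm
  have hEX : E ≤ X := E_le_X h fun w hw hwX a ha hc => hrq (h.EH hw) hwX a ha hc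
  have hre : 2 * Nat.card K ≤ r + 1 := by
    refine two_mul_card_le h.plane.elem h.plane.card h.plane.prime_ne_two h.hvA h.conf.hvo
      (hk.normP.trans (normalizer_P_le h hab)) hk.odd
      (fun f hfK hf1 a ha hc => hrq (hk.KH hfK) (hk.notX hfK hf1) a ha hc)
      (fun a ha b hb => congrArg Subtype.val ((IsCyclic.commGroup (α := K)).mul_comm (⟨a, ha⟩ : K) ⟨b, hb⟩))
      fun f hfK hfv => ?_
    by_contra hf1
    refine hk.notX hfK hf1 (hEX ?_)
    rw [← h.conf.meet]
    exact ⟨h.conf.mem_of_normalizes hfv, hk.KH hfK⟩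
  have hEA : E ≤ centralizer (A : Set G) := (le_inf le_rfl hEX).trans hf.EX_le_CA
  have hPA : (P : Subgroup G) ≤ centralizer (A : Set G) :=
    (le_centralizer_iff_isMulCommutative.2 hab).trans (centralizer_le h.AP)
  have hDP : D ≤ centralizer ((P : Subgroup G) : Set G) := by
    rw [hf.D_eq]; exact sup_le (le_centralizer_iff_isMulCommutative.2 hab) hf.W_le_CP
  have hDA : D ≤ centralizer (A : Set G) := hDP.trans (centralizer_le h.AP)
  have hDc : IsMulCommutative D := h.nilpotent_comm (hDA.trans h.CA) hf.hDn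
  -- `Q ∩ E` is centralised by `D`
  have hQA : Q ⊓ E = Q ⊓ centralizer (A : Set G) := le_antisymm (inf_le_inf_left _ hEA) (inf_le_inf_left _ h.CA)
  have hQN : ∀ R ≤ Q, Q ≤ normalizer (R : Set G) := fun R hR =>
    ((le_centralizer_iff_isMulCommutative.2 hf.hQc).trans (centralizer_le hR)).trans (centralizer_le_normalizer _)
  have hKA : K ≤ normalizer (A : Set G) := hk.normP.trans (normalizer_P_le h hab)
  have hXQD : X ≤ Q ⊔ D := fun x hx => by
    obtain ⟨q, hq, d, hd, rfl⟩ := hf.hcompl.2.2.2 x hx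
    exact mul_mem_sup hq hd
  have hHC : H ≤ normalizer ((Q ⊓ centralizer (A : Set G) : Subgroup G) : Set G) := by
    rw [← hk.sup]
    refine sup_le (hXQD.trans (sup_le (hQN _ inf_le_left) (Grp.le_normalizer_inf' hf.DQ
      ((hDA.trans (centralizer_le_normalizer _)).trans (normalizer_le_normalizer_cent _))))) ?_
    exact Grp.le_normalizer_inf' (hk.KH.trans hf.hQH) (hKA.trans (normalizer_le_normalizer_cent _))
  have hC0 : Q ⊓ E ≤ centralizer (D : Set G) := by
    rw [hQA]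
    have h1 : Q ⊓ centralizer (D : Set G) ≤ Q ⊓ centralizer (A : Set G) :=
      inf_le_inf_left _ (centralizer_le (h.AP.trans hf.hPD))
    rcases h1.eq_or_lt with e | hlt
    · rw [← e]; exact inf_le_right
    · exact absurd hHC (s.hchief _ hlt (lt_of_le_of_ne inf_le_left fun e => s.QE_ne (hQA.trans e)))
  -- the kernel `[Q, A]`
  set O := ⁅Q, A⁆
  have hOQ : O ≤ Q := Grp.commutator_le_left_of_le_normalizer hf.AQ
  have hOX : O ≤ X := hOQ.trans hf.hQX
  have hHO : H ≤ normalizer (O : Set G) := by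
    rw [← hk.sup]
    refine sup_le (hXQD.trans (sup_le (hQN _ hOQ) (le_normalizer_commutator' hf.DQ
      (hDA.trans (centralizer_le_normalizer _))))) ?_
    exact le_normalizer_commutator' (hk.KH.trans hf.hQH) hKA
  have hLO : ⁅Q, zpowers v⁆ ≤ O := commutator_mono le_rfl (zpowers_le.2 h.hvA)
  set B := (Q ⊓ E) ⊔ D with hB
  have hBc : IsMulCommutative B := by
    refine le_centralizer_iff_isMulCommutative.1 (sup_le ?_ ?_) <;> rw [le_centralizer_iff] <;> refine sup_le ?_ ?_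
    · exact ((inf_le_left).trans (le_centralizer_iff_isMulCommutative.2 hf.hQc)).trans (centralizer_le inf_le_left)
    · exact le_centralizer_iff.1 hC0
    · exact hC0
    · exact le_centralizer_iff_isMulCommutative.2 hDc
  have hBX : B ≤ X := sup_le (inf_le_left.trans hf.hQX) hf.DX
  have hXN : X ≤ normalizer (O : Set G) := hf.XH.trans hHO
  have hXB : X ≤ O ⊔ B := hXQD.trans (sup_le (hf.Q_split.trans (sup_le (hLO.trans le_sup_left)
    (le_sup_left.trans le_sup_right))) (le_sup_right.trans le_sup_right))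
  have hXab : ∀ a ∈ X, ∀ b ∈ X, ⁅a, b⁆ ∈ O := by
    intro x hx y hy
    have hc : ⁅qimg O X, qimg O X⁆ = ⊥ := by
      refine le_bot_iff.1 ((commutator_mono (qimg_mono hXB) (qimg_mono hXB)).trans (le_of_eq ?_))
      rw [qimg_sup le_normalizer (hBX.trans hXN), qimg_self, bot_sup_eq,
        ← qimg_commutator (hBX.trans hXN) (hBX.trans hXN),
        commutator_eq_bot_iff_le_centralizer.2 (le_centralizer_iff_isMulCommutative.2 hBc)]
      exact (qimg_eq_bot bot_le).2 bot_le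
    rw [← qimg_commutator hXN hXN, qimg_eq_bot (commutator_le.2 fun a ha b hb =>
      hXN (mul_mem (mul_mem (mul_mem ha hb) (inv_mem ha)) (inv_mem hb)))] at hc
    exact hc (commutator_mem_commutator hx hy)
  have hvO : v ∉ O := fun hv => hf.hQr (h.conf.hvo ▸ Subgroup.orderOf_dvd_natCard _ (hOQ hv))
  have hKO : kStar H K ≤ O := s.kStar_le hk hOQ hHO hLO
  have hcop : (Nat.card A).Coprime (Nat.card Q) := by
    rw [h.plane.card]; exact (hr.out.coprime_iff_not_dvd.2 hf.hQr).pow_left 2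
  have hdis : (E ⊓ X) ⊓ O = ⊥ := by
    rw [← le_bot_iff, ← Grp.abelian_commutator_inf_fixed A Q hf.AQ hcop]
    exact le_inf (le_inf (inf_le_right.trans hOQ) (inf_le_left.trans hf.EX_le_CA)) inf_le_right
  have hEO : Nat.card ↥(E ⊓ X) ≤ O.relIndex X := by
    have h1 := Grp.card_sup_mul_card_inf (H := E ⊓ X) (N := O) (inf_le_right.trans hXN)
    rw [hdis, Subgroup.card_bot, mul_one] at h1
    refine Nat.le_of_mul_le_mul_left ?_ (Nat.card_pos (α := O))
    rw [Grp.card_mul_relIndex hOX, mul_comm, ← h1]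
    exact Nat.le_of_dvd Nat.card_pos (card_dvd_of_le (sup_le inf_le_right hOX))
  refine absurd_linear_case h hOX hHO hXab hvO
    (fun θ hθ htr hne g hg => by_contra fun hgX => hne (hk.stable_principal h hKO hθ htr hg hgX))
    (by rw [hk.idx]; exact hk.e3) (by rw [hk.idx]; exact hre) ?_ ?_
  · rw [← h.plane.card]
    exact (Nat.le_of_dvd Nat.card_pos (card_dvd_of_le (le_inf h.AE (h.AP.trans h.PX)))).trans hEO
  · rw [← inf_eq_left.2 hEX]
    exact hEO

end Shape

/-- The case where `H_σ` is not nilpotent. -/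
theorem absurd_kappa_struct (h : Setup M H E N A T P v) (hk : KSetup H P K)
    (hnil : ¬ Group.IsNilpotent (Cfsg.sigmaCore H)) : False := by
  letI := Fintype.ofFinite G
  letI := Fintype.ofFinite H
  obtain ⟨-, -, -, hKp, -⟩ := sigmaCore_structure h.hG h.conf.hH hk.decomp hnil
  obtain ⟨Q, D, s⟩ := exists_shape h hk hnil
  by_cases hab : IsMulCommutative (P : Subgroup G)
  · exact s.absurd_comm hk hab
  have hline := (card_line h).resolve_right hab
  have hre : 2 * Nat.card K + 1 ≤ r := by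
    obtain ⟨z, hz, hz1, -⟩ := exists_generator_line hline
    obtain ⟨c, hc⟩ := card_dvd_pred hline (hk.normP.trans (normalizer_le_omZ _)) fun f hfK hcy => by
      by_contra hf1
      have h1 := (hk.fixed h (hk.KH hfK) (hk.notX hfK hf1) (h.PX (omZ_le _ hz)) hz1 (hcy z hz)).2
      rw [orderOf_eq_prime hz.2.2 hz1] at h1
      exact s.hqr ((Nat.prime_dvd_prime_iff_eq hr.out hk.star_prime).1 h1).symm
    have hr3 : 3 ≤ r := lt_of_le_of_ne hr.out.two_le h.plane.prime_ne_two.symm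
    have hc2 : 2 ≤ c := by
      by_contra hlt
      obtain ⟨j, hj⟩ := hk.odd
      obtain ⟨i, hi⟩ := hr.out.odd_of_ne_two h.plane.prime_ne_two
      interval_cases c <;> omega
    have := Nat.mul_le_mul_left (Nat.card K) hc2
    omega
  obtain ⟨i, hi⟩ := IsPGroup.iff_card.1 P.isPGroup'
  obtain ⟨j, hji, hj⟩ := (Nat.dvd_prime_pow hr.out).1 (hi ▸ card_dvd_of_le h.hTP)
  have hlt : j < i := lt_of_le_of_ne hji fun e => h.P_not_le hab (by
    rw [← Subgroup.eq_of_le_of_card_ge h.hTP (by rw [hi, hj, e])]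
    exact h.plane.hT.1)
  have hk1 := s.frame.card_bound (k := i - j) (by rw [hi, hj, ← pow_add, Nat.add_sub_cancel' hji])
  refine absurd_chain_case s.frame (hk.CX h) (by rw [hk.idx]; exact hk.e3) (by rw [hk.idx]; exact hre)
    (b := 0) (by omega) ∅ le_rfl (by simp)
    (fun θ hθ htr hne _ g hg => by_contra fun hgX => hne (s.fixed_principal hk hKp hθ htr hg hgX)) ?_
  rw [Nat.sub_zero, sq, mul_assoc]
  refine Nat.mul_le_mul_left r (le_trans (Nat.mul_le_mul_right _ ?_) hk1)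
  exact Nat.le_self_pow (by omega) r

end Cfsg.Agent.Transfer.Loc.TypeI
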