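import Cfsg.Agent.Lib.Transfer.Local.TypeIKappa
import Cfsg.Agent.Lib.Transfer.Local.TypeIStruct
import Cfsg.Agent.S1380
import Cfsg.Agent.S1538

/-!
Elements of order in `τ₂(M)` act without fixed points on `M_σ` when `κ(M) = ∅`.
-/

set_option autoImplicit false
set_option linter.style.haveILetI false
set_option linter.unusedSectionVars false

namespace Cfsg.Agent.Transfer.Loc.TypeI

open Subgroup

universe u

variable {G : Type u} [Group G] [Finite G]

/-- No configuration exists above a smaller one. -/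
theorem no_setup {r : ℕ} [hr : Fact r.Prime] {M H E N A T : Subgroup G} {P : Sylow r G} {v : G}
    (h : Setup M H E N A T P v) (IH : Below G r) : False := by
  have hG := h.hG
  have hH := h.conf.hH
  by_cases hκ : Cfsg.kappa H = ∅
  · exact absurd_nil h IH hκ
  obtain ⟨K, U, hKU⟩ := exists_decomp_of_max hG hH
  have hK1 : K ≠ ⊥ := fun e => by
    obtain ⟨p, hp⟩ := Set.nonempty_iff_ne_empty.2 hκ
    exact hKU.hall.2.2 p hp.1 hp (by rw [e, Subgroup.relIndex_bot_left]; exact hp.2.1)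
  by_cases hU : U = ⊥
  · subst hU
    obtain ⟨K', hk⟩ := exists_ksetup h hKU hK1
    by_cases hnil : Group.IsNilpotent (Cfsg.sigmaCore H)
    · exact absurd_kappa_nil h hk hnil
    · exact absurd_kappa_struct h hk hnil
  -- type II
  have hII : Cfsg.IsOfTypeII H := (typeII_iff hG hH hKU).2 ⟨hK1, hU⟩
  obtain ⟨⟨hTI, hN⟩, -, -⟩ := Cfsg.Agent.S1538.result hG H hH hII
  have hnI : ¬ Cfsg.IsOfTypeI H := fun hI => hK1 ((Cfsg.Agent.S1380.result hG H hH K U hKU).1 hI).1
  have hv : v ∈ Cfsg.typeA0 H := Or.inl (by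
    rw [Cfsg.typeA, if_neg hnI]
    exact ⟨(derived_compl hG hH hKU hK1).1.1 h.conf.hvX, h.conf.v_ne, v,
      by rw [typeCore_eq hG hH]; exact h.conf.hvX, h.conf.v_ne, rfl⟩)
  refine h.conf.hnot fun g hg => by_contra fun hgH => h.conf.v_ne (hTI g (by rwa [hN]) v hv ?_)
  rwa [mem_centralizer_singleton_iff.1 hg, mul_inv_cancel_right]

/-- Elements of order in `τ₂(M)` are free on `M_σ` when `κ(M) = ∅`. -/
theorem fixed_eq_bot (hG : Cfsg.IsMinSimpleOddOrder G) :
    ∀ r : ℕ, r.Prime → ∀ L : Subgroup G, IsCoatom L → Cfsg.kappa L = ∅ → r ∈ Cfsg.tau2 L →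
      ∀ w ∈ L, orderOf w = r → Cfsg.sigmaCore L ⊓ centralizer ({w} : Set G) = ⊥ := by
  intro r
  induction r using Nat.strong_induction_on with
  | _ r ih =>
    intro hr L hL hκ hτ w _ _
    exfalso
    haveI := Fact.mk hr
    obtain ⟨H, E, N, A, T, P, v, h⟩ := exists_setup hG hL hκ hτ
    exact no_setup h fun s hs hsp => ih s hs hsp

end Cfsg.Agent.Transfer.Loc.TypeI
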