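import Cfsg.Agent.Lib.Transfer.Local.TypeICore

/-!
The inequality for a weighted sum of images at an element `v` of `H_σ` whose signalizer lies in `M_σ`.
-/

set_option autoImplicit false
set_option linter.style.haveILetI false
set_option linter.unusedSectionVars false
set_option maxHeartbeats 2000000

namespace Cfsg.Agent.Transfer.Loc.TypeI

open Subgroup
open scoped ComplexConjugate Pointwise

attribute [local instance] Classical.propDecidable

universe u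

variable {G : Type u} [Group G] [Fintype G]

/-- The elements of a subgroup. -/
noncomputable abbrev els (K : Subgroup G) : Finset G := Finset.univ.filter fun g => g ∈ K

/-- The nontrivial elements of a subgroup. -/
noncomputable abbrev els1 (K : Subgroup G) : Finset G := Finset.univ.filter fun g => g ∈ K ∧ g ≠ 1

theorem card_els (K : Subgroup G) : (els K).card = Nat.card K := by
  classical
  rw [Nat.card_eq_fintype_card, Fintype.card_subtype]

theorem gen_isIntegral {X : Type u} [Group X] [Finite X] {F : X → ℂ} (hF : Cfsg.IsGeneralizedCharacter X F)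
    (x : X) : IsIntegral ℤ (F x) := by
  obtain ⟨a, b, ha, hb, rfl⟩ := hF
  exact (Char.IsChar.isIntegral ha x).sub (Char.IsChar.isIntegral hb x)

/-- Sums over a comapped subgroup. -/
theorem sum_comap {X : Type u} [Group X] {β : Type*} [AddCommMonoid β] (f : X →* G) (hf : Function.Injective f)
    (K : Subgroup G) (hK : K ≤ f.range) [Fintype (K.comap f)] (g : G → β) :
    ∑ n : K.comap f, g (f n) = ∑ x ∈ els K, g x := by
  classical
  refine Finset.sum_bij (fun n _ => f n) (fun n _ => Finset.mem_filter.2 ⟨Finset.mem_univ _, n.2⟩)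
    (fun a _ b _ e => Subtype.ext (hf e)) (fun x hx => ?_) fun _ _ => rfl
  obtain ⟨y, hy⟩ := hK (Finset.mem_filter.1 hx).2
  exact ⟨⟨y, show f y ∈ K by rw [hy]; exact (Finset.mem_filter.1 hx).2⟩, Finset.mem_univ _, hy⟩

theorem sum_comp_le {ι : Type*} (I : Finset ι) (S : Finset G) (Φ : ι → G) (f : G → ℝ) (N : ℕ)
    (hmem : ∀ i ∈ I, Φ i ∈ S) (hf : ∀ z ∈ S, 0 ≤ f z)
    (hfib : ∀ z ∈ S, (I.filter fun i => Φ i = z).card ≤ N) :
    ∑ i ∈ I, f (Φ i) ≤ (N : ℝ) * ∑ z ∈ S, f z := by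
  classical
  rw [← Finset.sum_fiberwise_of_maps_to hmem (fun i => f (Φ i)), Finset.mul_sum]
  refine Finset.sum_le_sum fun z hz => ?_
  rw [Finset.sum_congr rfl fun i hi => by rw [(Finset.mem_filter.1 hi).2], Finset.sum_const, nsmul_eq_mul]
  exact mul_le_mul_of_nonneg_right (by exact_mod_cast hfib z hz) (hf z hz)

/-- The congruence at an element commuting with an element of order `r`. -/
theorem congr_value {H : Subgroup G} {r : ℕ} [hr : Fact r.Prime] {F : G → ℂ}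
    (hF : Cfsg.IsGeneralizedCharacter G F) {ξ : H → ℂ} (hξ : Cfsg.IsGeneralizedCharacter H ξ) {e : ℕ}
    (he : ξ 1 = (e : ℂ)) {t : H} (hto : orderOf (t : G) = r) {y : G} (hcom : (t : G) * y = y * t) {k b : ℤ}
    (hy : F y = k) (hty : F ((t : G) * y) = ξ t + b) : (r : ℤ) ∣ k - b - e := by
  obtain ⟨ω₁, hω₁, e1⟩ := Cfsg.Agent.S1494.result F hF r hr.out t y hto hcom
  obtain ⟨ω₂, hω₂, e2⟩ := Cfsg.Agent.S1494.result ξ hξ r hr.out t 1 (by rw [← Subgroup.orderOf_coe, hto])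
    (by rw [mul_one, one_mul])
  rw [mul_one, he] at e2
  rw [hty, hy] at e1
  refine Cfsg.Agent.S1495.result _ hr.out (k - b - e) (ω₂ - ω₁) (hω₂.sub hω₁) ?_
  push_cast
  linear_combination e2 - e1

variable {M H E N : Subgroup G} {r : ℕ} [hr : Fact r.Prime] {v : G} {O : Subgroup G}

/-- The inequality. -/
theorem Conf.master [Fintype H] (h : Conf M H E N r v) (hHO : H ≤ normalizer (O : Set G)) (hvO : v ∉ O)
    {Z : Subgroup G} (hZO : Z ≤ O) (hZX : Z ≤ Cfsg.sigmaCore H) (hZo : ∀ z ∈ Z, z ≠ 1 → orderOf z = r)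
    (hZN : ∀ z ∈ Z, z ≠ 1 → ∀ g : G, g * z * g⁻¹ ∈ Z → g ∈ H)
    {F Ψ : G → ℂ} {ξ σ : H → ℂ} {e W : ℕ} {b : G → G → ℤ} {d : G → ℤ}
    (hd : Data H {a : G | a ∈ Cfsg.sigmaCore H ∧ a ∉ O} F Ψ ξ σ e W b d) :
    ∃ (B : G → G → ℤ) (m : G → ℤ) (B₀ : G → ℤ),
      (∀ t ∈ zpowers v, t ≠ 1 → ∀ y ∈ Fix M v, y ∉ N → (r : ℤ) ∣ m y - B t y - e) ∧
      (∀ t ∈ zpowers v, t ≠ 1 → (Nat.card (Fix M v) : ℤ) * B₀ t = ∑ u ∈ els (Fix M v), b t u) ∧
      (Nat.card H : ℝ) * ∑ y ∈ els (Fix M v) \ els N, (∑ t ∈ els1 (zpowers v),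
          ‖Cfsg.extendByZero H σ t + (W : ℂ) * B t y‖ ^ 2 + (W : ℝ) ^ 2 * (m y : ℝ) ^ 2) +
          (Nat.card E : ℝ) * Nat.card (Fix M v) * (W : ℝ) ^ 2 * ∑ z ∈ els1 Z, (d z : ℝ) ^ 2 ≤
        (W : ℝ) * Nat.card E * Nat.card H * Nat.card (Fix M v) ∧
      (Nat.card H : ℝ) * ∑ t ∈ els1 (zpowers v), ‖Cfsg.extendByZero H σ t + (W : ℂ) * B₀ t‖ ^ 2 +
          (Nat.card E : ℝ) * (W : ℝ) ^ 2 * ∑ z ∈ els1 Z, (d z : ℝ) ^ 2 ≤
        (W : ℝ) * Nat.card E * Nat.card H := by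
  set S := Cfsg.sigmaCore M with hSdef
  set S₁ := Fix M v with hS₁def
  set A' : Set G := {a : G | a ∈ Cfsg.sigmaCore H ∧ a ∉ O} with hA'
  set R := Cfsg.supportR H with hR
  set RM := Cfsg.supportR M with hRM
  have hD := h.dade hHO
  have hDM := h.core_dade
  have hvM := h.v_mem
  have hS₁S : S₁ ≤ S := inf_le_left
  have hvc : ∀ y ∈ S₁, Commute v y := fun y hy =>
    (show Commute y v from mem_centralizer_singleton_iff.1 hy.2).symm
  have hmemS₁ : ∀ y ∈ S, v * y = y * v → y ∈ S₁ := fun y hy e' => ⟨hy, mem_centralizer_singleton_iff.2 e'.symm⟩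
  have hvS : ∀ x ∈ S, v * x * v⁻¹ ∈ S := fun x hx =>
    Grp.mem_conj_normalizer (TransHyp.le_normalizer_piCoreOf M hvM) hx
  -- the powers of `v`
  set T := els1 (zpowers v) with hTdef
  have hmemT : ∀ t, t ∈ T ↔ t ∈ zpowers v ∧ t ≠ 1 := fun t => by simp [hTdef]
  have hTo : ∀ t ∈ T, orderOf t = r := fun t ht => by
    refine orderOf_eq_prime ?_ ((hmemT t).1 ht).2
    rw [← orderOf_dvd_iff_pow_eq_one, ← h.hvo]
    exact orderOf_dvd_of_mem_zpowers ((hmemT t).1 ht).1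
  have hTgen : ∀ t ∈ T, zpowers t = zpowers v := fun t ht => by
    refine Subgroup.eq_of_le_of_card_ge (zpowers_le.2 ((hmemT t).1 ht).1) ?_
    rw [Nat.card_zpowers, Nat.card_zpowers, h.hvo, hTo t ht]
  have hTA : ∀ t ∈ T, t ∈ A' := fun t ht => by
    refine ⟨(zpowers_le.2 h.hvX) ((hmemT t).1 ht).1, fun hto => hvO ?_⟩
    exact (zpowers_le.2 hto) (hTgen t ht ▸ mem_zpowers v)
  have hTR : ∀ t ∈ T, R t = S₁ := fun t ht => (h.supportR_pow ((hmemT t).1 ht).1 ((hmemT t).1 ht).2).2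
  have hTC : ∀ t ∈ T, ∀ y ∈ S₁, Commute t y := fun t ht y hy => by
    obtain ⟨i, hi⟩ := mem_zpowers_iff.1 ((hmemT t).1 ht).1
    exact hi ▸ (hvc y hy).zpow_left i
  -- values off the support
  have hoff : ∀ g, g ∉ Char.Dade.supp A' R → ∀ x : G, d (x * g * x⁻¹) = d g := by
    intro g hg x
    have h2 : x * g * x⁻¹ ∉ Char.Dade.supp A' R := fun h3 => hg (by
      simpa [mul_assoc] using Char.Dade.mem_supp_conj h3 x⁻¹)
    have h4 := Char.IsGenChar.classFun hd.gen g x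
    rw [(hd.off _ h2).1, (hd.off _ hg).1] at h4
    exact_mod_cast h4
  have hcross : ∀ x ∈ S, x ≠ 1 → ∀ u ∈ RM x, x * u ∉ Char.Dade.supp A' R := fun x hx hx1 u hu =>
    h.cross hHO hx hx1 hu
  have hself : ∀ x ∈ S, x ≠ 1 → x ∉ Char.Dade.supp A' R := fun x hx hx1 => by
    simpa using hcross x hx hx1 1 (one_mem _)
  -- the averages over the cosets
  haveI : Fintype M := Fintype.ofFinite M
  set Sm := S.subgroupOf M with hSm
  haveI : Sm.Normal := (normal_subgroupOf_iff_le_normalizer (TransHyp.piCoreOf_le M)).2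
    (TransHyp.le_normalizer_piCoreOf M)
  haveI : Fintype Sm := Fintype.ofFinite Sm
  obtain ⟨Φ, hΦ, hΦv⟩ := exists_genChar_avg hDM Sm (fun x => ⟨fun hx => ⟨hx.1, fun e' => hx.2 (by rw [e']; rfl)⟩,
    fun hx => ⟨hx.1, fun e' => hx.2 (Subtype.ext e')⟩⟩) hd.gen
  let ι : Sm →* G := M.subtype.comp Sm.subtype
  have hι : Function.Injective ι := M.subtype_injective.comp Sm.subtype_injective
  have hιr : ∀ x ∈ S, ∃ y : Sm, ι y = x := fun x hx => ⟨⟨⟨x, TransHyp.piCoreOf_le M hx⟩, hx⟩, rfl⟩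
  have hρx : ∀ x : G, ∃ k : ℤ, x ∈ S → x ≠ 1 →
      (∑ u ∈ els (RM x), d (x * u) = Nat.card (RM x) * k ∧ ∀ y : Sm, ι y = x → Φ y = k) := by
    intro x
    by_cases hx : x ∈ S ∧ x ≠ 1
    swap
    · exact ⟨0, fun h1 h2 => absurd ⟨h1, h2⟩ hx⟩
    obtain ⟨y, hy⟩ := hιr x hx.1
    have hy1 : y ≠ 1 := fun e' => hx.2 (by rw [← hy, e', map_one])
    have hn : (Nat.card (RM x) : ℂ) ≠ 0 := Nat.cast_ne_zero.2 Nat.card_pos.ne'
    have h1 : Φ y = ((((∑ u ∈ els (RM x), d (x * u) : ℤ) : ℚ) / Nat.card (RM x) : ℚ) : ℂ) := by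
      rw [hΦv y hy1, show ((y : M) : G) = x from hy]
      push_cast
      rw [div_eq_inv_mul]
      congr 1
      refine Finset.sum_congr (by ext u; simp [hRM]) fun u hu => ?_
      exact (hd.off _ (hcross x hx.1 hx.2 u (Finset.mem_filter.1 hu).2)).1
    obtain ⟨k, hk⟩ := Char.int_of_isIntegral_rat (h1 ▸ gen_isIntegral hΦ y)
    refine ⟨k, fun _ _ => ⟨?_, fun y' hy' => by rw [hι (hy'.trans hy.symm), h1, hk]⟩⟩
    push_cast at hk
    rw [div_eq_iff hn] at hk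
    have : ((∑ u ∈ els (RM x), d (x * u) : ℤ) : ℂ) = ((Nat.card (RM x) * k : ℤ) : ℂ) := by
      push_cast; rw [hk]; ring
    exact_mod_cast this
  choose ρ hρ using hρx
  -- `ρ` is invariant under `v`
  have hRconj : ∀ x ∈ S, x ≠ 1 → ∀ u, u ∈ RM x → v * u * v⁻¹ ∈ RM (v * x * v⁻¹) := fun x hx hx1 u hu =>
    Char.Dade.conj_mem_H hDM ⟨hx, hx1⟩ hvM hu
  have hρinv : ∀ x ∈ S, x ≠ 1 → ρ (v * x * v⁻¹) = ρ x := by
    intro x hx hx1
    have hx' : v * x * v⁻¹ ∈ S := hvS x hx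
    have hx'1 : v * x * v⁻¹ ≠ 1 := fun e' => hx1 (conj_eq_one_iff.1 e')
    have h1 := (hρ _ hx' hx'1).1
    rw [Char.Dade.card_H_conj hDM ⟨hx, hx1⟩ hvM] at h1
    refine mul_left_cancel₀ (Nat.cast_ne_zero.2 (Nat.card_pos (α := RM x)).ne' : (Nat.card (RM x) : ℤ) ≠ 0) ?_
    rw [← h1, ← (hρ x hx hx1).1]
    refine Finset.sum_nbij' (fun u => v⁻¹ * u * v) (fun u => v * u * v⁻¹) (fun u hu => ?_) (fun u hu => ?_)
      (fun u _ => by group) (fun u _ => by group) fun u hu => ?_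
    · have h2 := Char.Dade.conj_mem_H hDM (show v * x * v⁻¹ ∈ _ from ⟨hx', hx'1⟩) (M.inv_mem hvM)
        (Finset.mem_filter.1 hu).2
      rw [inv_inv, show v⁻¹ * (v * x * v⁻¹) * v = x by group] at h2
      exact Finset.mem_filter.2 ⟨Finset.mem_univ _, h2⟩
    · exact Finset.mem_filter.2 ⟨Finset.mem_univ _, hRconj x hx hx1 u (Finset.mem_filter.1 hu).2⟩
    · have hu' : v⁻¹ * u * v ∈ RM x := by
        have h2 := Char.Dade.conj_mem_H hDM (show v * x * v⁻¹ ∈ _ from ⟨hx', hx'1⟩) (M.inv_mem hvM)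
          (Finset.mem_filter.1 hu).2
        rwa [inv_inv, show v⁻¹ * (v * x * v⁻¹) * v = x by group] at h2
      rw [← hoff _ (hcross x hx hx1 _ hu') v]
      congr 1
      group
  -- `ρ ≡ d` at fixed elements
  have hρd : ∀ z ∈ S₁, z ≠ 1 → (r : ℤ) ∣ ρ z - d z := by
    intro z hz hz1
    have hzv : v * z * v⁻¹ = z := by rw [(hvc z hz).eq, mul_inv_cancel_right]
    have hSf : ∀ u ∈ els1 (RM z), v * u * v⁻¹ ∈ els1 (RM z) := fun u hu => by
      obtain ⟨hu, hu1⟩ := (Finset.mem_filter.1 hu).2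
      refine Finset.mem_filter.2 ⟨Finset.mem_univ _, ?_, fun e' => hu1 (conj_eq_one_iff.1 e')⟩
      simpa only [hzv] using hRconj z (hS₁S hz) hz1 u hu
    have hfree : ∀ u ∈ els1 (RM z), v * u ≠ u * v := fun u hu e' => by
      obtain ⟨hu, hu1⟩ := (Finset.mem_filter.1 hu).2
      refine hu1 ?_
      rw [← mem_bot, ← hDM.inf_eq_bot z ⟨hS₁S hz, hz1⟩]
      exact ⟨hu, h.hCv (mem_centralizer_singleton_iff.2 e'.symm), hDM.le_centralizer z ⟨hS₁S hz, hz1⟩ hu⟩
    have h1 := dvd_sum_free h.hvo (els1 (RM z)) (fun u => d (z * u)) hSf (fun u hu => by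
      rw [← hoff _ (hcross z (hS₁S hz) hz1 u (Finset.mem_filter.1 hu).2.1) v]
      congr 1
      conv_lhs => rw [← hzv]
      group) hfree
    have h2 := dvd_sum_free h.hvo (els1 (RM z)) (fun _ => 1) hSf (fun _ _ => rfl) hfree
    have hone : (1 : G) ∈ els (RM z) := Finset.mem_filter.2 ⟨Finset.mem_univ _, one_mem _⟩
    have hsplit : els1 (RM z) = (els (RM z)).erase 1 := by ext u; simp [and_comm]
    rw [hsplit] at h1 h2
    have e1 := Finset.add_sum_erase (els (RM z)) (fun u => d (z * u)) hone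
    rw [(hρ z (hS₁S hz) hz1).1, mul_one] at e1
    have e2 := Finset.add_sum_erase (els (RM z)) (fun _ => (1 : ℤ)) hone
    rw [Finset.sum_const (s := els (RM z)), card_els, nsmul_eq_mul, mul_one] at e2
    obtain ⟨q₁, hq₁⟩ := h1
    obtain ⟨q₂, hq₂⟩ := h2
    rw [hq₁] at e1
    rw [hq₂] at e2
    exact ⟨q₁ - q₂ * ρ z, by linear_combination -e1 + (ρ z) * e2⟩
  -- the means on the cosets of `N`
  let N' : Subgroup Sm := N.comap ι
  haveI : N'.Normal := ⟨fun n hn x => by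
    show ι (x * n * x⁻¹) ∈ N
    rw [map_mul, map_mul, map_inv]
    exact Grp.mem_conj_normalizer (h.hSN x.2) hn⟩
  haveI : Fintype N' := Fintype.ofFinite N'
  have hNr : N ≤ ι.range := fun x hx => hιr x (h.hNS hx)
  have hN'card : Nat.card N' = Nat.card N := by
    refine Nat.card_congr (Equiv.ofBijective (fun n => ⟨ι n, n.2⟩) ⟨fun a b e' => Subtype.ext (hι
      (congrArg (fun z : N => (z : G)) e')), fun x => ?_⟩)
    obtain ⟨y, hy⟩ := hNr x.2
    exact ⟨⟨y, show ι y ∈ N by rw [hy]; exact x.2⟩, Subtype.ext hy⟩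
  have hne1 : ∀ y ∈ S₁, y ∉ N → ∀ n ∈ N, n * y ∈ S ∧ n * y ≠ 1 := fun y hy hyN n hn =>
    ⟨S.mul_mem (h.hNS hn) (hS₁S hy), fun e' => hyN (by
      rw [eq_inv_of_mul_eq_one_right e']; exact N.inv_mem hn)⟩
  have hmx : ∀ y : G, ∃ k : ℤ, y ∈ S₁ → y ∉ N → ∑ n ∈ els N, ρ (n * y) = Nat.card N * k := by
    intro y
    by_cases hy : y ∈ S₁ ∧ y ∉ N
    swap
    · exact ⟨0, fun h1 h2 => absurd ⟨h1, h2⟩ hy⟩
    obtain ⟨y', hy'⟩ := hιr y (hS₁S hy.1)
    obtain ⟨k, hk⟩ := exists_mean N' hΦ y' isIntegral_zero (fun n => ρ (ι n * y)) fun n => by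
      obtain ⟨h1, h2⟩ := hne1 y hy.1 hy.2 (ι n) n.2
      rw [zero_add]
      exact (hρ _ h1 h2).2 _ (by rw [map_mul, hy'])
    exact ⟨k, fun _ _ => by rw [← sum_comap ι hι N hNr fun x => ρ (x * y), hk, hN'card]⟩
  choose m hm using hmx
  -- the means of the shifts
  set D := zpowers v ⊔ S₁ with hDdef
  haveI : Fintype D := Fintype.ofFinite D
  have hbmean : ∀ K : Subgroup G, K ≤ S₁ → S₁ ≤ normalizer (K : Set G) → ∀ t ∈ T, ∀ y ∈ S₁,
      ∃ k : ℤ, ∑ n ∈ els K, b t (n * y) = Nat.card K * k := by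
    intro K hK hKn t ht y hy
    let K' : Subgroup D := K.comap D.subtype
    have hDn : D ≤ normalizer (K : Set G) := sup_le (zpowers_le.2 (centralizer_le_normalizer _
      (mem_centralizer_iff.2 fun k hk => (hvc k (hK hk)).eq.symm))) hKn
    haveI : K'.Normal := ⟨fun n hn x => by
      show (x : G) * n * (x : G)⁻¹ ∈ K
      exact Grp.mem_conj_normalizer (hDn x.2) hn⟩
    haveI : Fintype K' := Fintype.ofFinite K'
    have hKr : K ≤ D.subtype.range := by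
      rw [Subgroup.range_subtype]; exact hK.trans le_sup_right
    have htH : t ∈ H := TransHyp.piCoreOf_le H (hTA t ht).1
    obtain ⟨k, hk⟩ := exists_mean K' (Char.IsGenChar.comp D.subtype hd.gen)
      (⟨t * y, mul_mem_sup ((hmemT t).1 ht).1 hy⟩ : D) (gen_isIntegral hd.genξ ⟨t, htH⟩)
      (fun n => b t ((D.subtype (n : D)) * y)) fun n => by
        have hn : ((n : D) : G) ∈ S₁ := hK n.2
        show F (((n : D) : G) * (t * y)) = _
        rw [← mul_assoc, ← (hTC t ht _ hn).eq, mul_assoc]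
        exact (hd.val ⟨t, htH⟩ (hTA t ht) _ (by
          show _ ∈ R t
          rw [hTR t ht]; exact mul_mem hn hy)).1
    refine ⟨k, ?_⟩
    rw [← sum_comap D.subtype D.subtype_injective K hKr fun x => b t (x * y), hk]
    congr 2
    refine Nat.card_congr (Equiv.ofBijective (fun n : K' => (⟨((n : D) : G), n.2⟩ : K))
      ⟨fun a b e' => Subtype.ext (Subtype.ext (congrArg (fun z : K => (z : G)) e')), fun x => ?_⟩)
    exact ⟨⟨⟨x, (hK.trans le_sup_right) x.2⟩, x.2⟩, rfl⟩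
  set N₁ := N ⊓ S₁ with hN₁
  have hN₁n : S₁ ≤ normalizer (N₁ : Set G) := Grp.le_normalizer_inf' (hS₁S.trans h.hSN) le_normalizer
  have hBx : ∀ t y : G, ∃ k : ℤ, t ∈ T → y ∈ S₁ → ∑ n ∈ els N₁, b t (n * y) = Nat.card N₁ * k := by
    intro t y
    by_cases hty : t ∈ T ∧ y ∈ S₁
    · obtain ⟨k, hk⟩ := hbmean N₁ inf_le_right hN₁n t hty.1 y hty.2
      exact ⟨k, fun _ _ => hk⟩
    · exact ⟨0, fun h1 h2 => absurd ⟨h1, h2⟩ hty⟩
  choose B hB using hBx
  have hB0x : ∀ t : G, ∃ k : ℤ, t ∈ T → ∑ u ∈ els S₁, b t u = Nat.card S₁ * k := by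
    intro t
    by_cases ht : t ∈ T
    · obtain ⟨k, hk⟩ := hbmean S₁ le_rfl le_normalizer t ht 1 (one_mem _)
      exact ⟨k, fun _ => by simpa using hk⟩
    · exact ⟨0, fun h1 => absurd h1 ht⟩
  choose B₀ hB₀ using hB0x
  refine ⟨B, m, B₀, fun t ht ht1 y hy hyN => ?_, fun t ht ht1 => (hB₀ t ((hmemT t).2 ⟨ht, ht1⟩)).symm, ?_⟩
  · -- the congruence
    replace ht : t ∈ T := (hmemT t).2 ⟨ht, ht1⟩
    set P := (els N).filter fun n => ¬ n ∈ S₁ with hP
    have hPm : ∀ n ∈ P, n ∈ N ∧ n ∉ S₁ := fun n hn =>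
      ⟨(Finset.mem_filter.1 (Finset.mem_filter.1 hn).1).2, (Finset.mem_filter.1 hn).2⟩
    have hPc : ∀ n ∈ P, v * n * v⁻¹ ∈ P := fun n hn => by
      obtain ⟨h1, h2⟩ := hPm n hn
      refine Finset.mem_filter.2 ⟨Finset.mem_filter.2 ⟨Finset.mem_univ _, Grp.mem_conj_normalizer h.hvN h1⟩,
        fun h3 => h2 ?_⟩
      have e' := (hvc _ h3).eq
      rw [show v * (v * n * v⁻¹) = v * n * v⁻¹ * v ↔ v * n * v⁻¹ = n by
        constructor
        · intro e''
          calc v * n * v⁻¹ = v⁻¹ * (v * (v * n * v⁻¹)) := by group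
            _ = v⁻¹ * (v * n * v⁻¹ * v) := by rw [e'']
            _ = n := by group
        · intro e''
          rw [e'', ← mul_inv_eq_iff_eq_mul, e'']] at e'
      exact hmemS₁ n (h.hNS h1) (mul_inv_eq_iff_eq_mul.1 e')
    have hPf : ∀ n ∈ P, v * n ≠ n * v := fun n hn e' => (hPm n hn).2 (hmemS₁ n (h.hNS (hPm n hn).1) e')
    have h1 := dvd_sum_free h.hvo P (fun n => ρ (n * y)) hPc (fun n hn => by
      obtain ⟨h2, h3⟩ := hne1 y hy hyN n (hPm n hn).1
      rw [← hρinv _ h2 h3]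
      congr 1
      rw [show v * (n * y) * v⁻¹ = v * n * v⁻¹ * (v * y * v⁻¹) by group, (hvc y hy).eq, mul_inv_cancel_right]) hPf
    have h2 := dvd_sum_free h.hvo P (fun _ => 1) hPc (fun _ _ => rfl) hPf
    have hsplit : (els N).filter (fun n => n ∈ S₁) = els N₁ := by ext n; simp [hN₁]
    have e1 := Finset.sum_filter_add_sum_filter_not (els N) (fun n => n ∈ S₁) fun n => ρ (n * y)
    have e2 := Finset.sum_filter_add_sum_filter_not (els N) (fun n => n ∈ S₁) fun _ => (1 : ℤ)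
    rw [hsplit, hm y hy hyN, ← hP] at e1
    rw [hsplit, ← hP, Finset.sum_const (s := els N), Finset.sum_const (s := els N₁), card_els, card_els,
      nsmul_eq_mul, nsmul_eq_mul, mul_one, mul_one] at e2
    have h3 : (r : ℤ) ∣ ∑ n ∈ els N₁, (ρ (n * y) - b t (n * y) - e) := Finset.dvd_sum fun n hn => by
      obtain ⟨hnN, hnS⟩ := (Finset.mem_filter.1 hn).2
      obtain ⟨hz, hz1⟩ := hne1 y hy hyN n hnN
      have hz' : n * y ∈ S₁ := mul_mem hnS hy
      have htH : t ∈ H := TransHyp.piCoreOf_le H (hTA t ht).1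
      have h4 := congr_value hd.gen hd.genξ hd.degξ (t := ⟨t, htH⟩) (hTo t ht) (hTC t ht _ hz').eq
        (hd.off _ (hself _ hz hz1)).1 (hd.val ⟨t, htH⟩ (hTA t ht) _ (show n * y ∈ R t by rw [hTR t ht]; exact hz')).1
      have h5 := (hρd _ hz' hz1).add h4
      rwa [show ρ (n * y) - d (n * y) + (d (n * y) - b t (n * y) - e) = ρ (n * y) - b t (n * y) - e by ring] at h5
    rw [Finset.sum_sub_distrib, Finset.sum_sub_distrib, hB t y ht hy, Finset.sum_const, card_els, nsmul_eq_mul] at h3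
    obtain ⟨q₁, hq₁⟩ := h1
    obtain ⟨q₂, hq₂⟩ := h2
    obtain ⟨q₃, hq₃⟩ := h3
    rw [hq₁] at e1
    rw [hq₂] at e2
    have hcop : ((r : ℤ)).natAbs.Coprime (Nat.card N₁) := by
      rw [Int.natAbs_natCast]
      exact hr.out.coprime_iff_not_dvd.2 fun hd' => h.not_dvd_core
        (hd'.trans (card_dvd_of_le (inf_le_left.trans h.hNS)))
    refine Int.dvd_of_dvd_mul_right_of_gcd_one (b := (Nat.card N₁ : ℤ)) ⟨q₃ + q₁ - q₂ * m y, ?_⟩
      (by rwa [Int.gcd, Int.natAbs_natCast])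
    linear_combination -e1 + (m y) * e2 + hq₃
  -- the norms
  have hG0 : (0 : ℝ) < Nat.card G := Nat.cast_pos.2 Nat.card_pos
  have hH0 : (0 : ℝ) < Nat.card H := Nat.cast_pos.2 Nat.card_pos
  have hE0 : (0 : ℝ) < Nat.card E := Nat.cast_pos.2 Nat.card_pos
  have hS0 : (0 : ℝ) < Nat.card S := Nat.cast_pos.2 Nat.card_pos
  have hS10 : (0 : ℝ) < Nat.card S₁ := Nat.cast_pos.2 Nat.card_pos
  have hN10 : (0 : ℝ) < Nat.card N₁ := Nat.cast_pos.2 Nat.card_pos
  have hNc : ∀ g x : G, ‖Ψ (x * g * x⁻¹)‖ ^ 2 = ‖Ψ g‖ ^ 2 := fun g x => by rw [hd.classFun g x]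
  have htot : ∑ g : G, ‖Ψ g‖ ^ 2 = (W : ℝ) * Nat.card G := by
    have h1 := hd.norm
    rw [Char.classInner_self, ← Complex.ofReal_natCast, Complex.ofReal_inj, inv_mul_eq_iff_eq_mul₀ hG0.ne'] at h1
    rw [h1, mul_comm]
  set SH : Finset G := Finset.univ.filter (fun g => g ∈ Char.Dade.supp A' R) with hSH
  set SM : Finset G :=
    Finset.univ.filter (fun g => g ∈ Char.Dade.supp {x : G | x ∈ S ∧ x ≠ 1} RM) with hSM
  set SZ : Finset G := ((Finset.univ : Finset G) ×ˢ els1 Z).image (fun p => p.1 * p.2 * p.1⁻¹) with hSZ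
  have hZoff : ∀ z ∈ Z, z ≠ 1 → ∀ x : G, x * z * x⁻¹ ∉ Char.Dade.supp A' R := fun z hz hz1 x h3 =>
    h.off_O hHO (hZX hz) (hZO hz) (hZo z hz hz1) (by simpa [mul_assoc] using Char.Dade.mem_supp_conj h3 x⁻¹)
  have hdHM : Disjoint SH SM := Finset.disjoint_left.2 fun g hgH hgM => by
    obtain ⟨a, ha, u, hu, x, hx⟩ := (Finset.mem_filter.1 hgM).2
    exact hcross a ha.1 ha.2 u hu (hx ▸ Char.Dade.mem_supp_conj (Finset.mem_filter.1 hgH).2 x)
  have hdHZ : Disjoint SH SZ := Finset.disjoint_left.2 fun g hgH hgZ => by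
    obtain ⟨p, hp, rfl⟩ := Finset.mem_image.1 hgZ
    obtain ⟨hz, hz1⟩ := (Finset.mem_filter.1 (Finset.mem_product.1 hp).2).2
    exact hZoff p.2 hz hz1 p.1 (Finset.mem_filter.1 hgH).2
  have hdMZ : Disjoint SM SZ := Finset.disjoint_left.2 fun g hgM hgZ => by
    obtain ⟨p, hp, rfl⟩ := Finset.mem_image.1 hgZ
    obtain ⟨hz, hz1⟩ := (Finset.mem_filter.1 (Finset.mem_product.1 hp).2).2
    obtain ⟨a, ha, u, hu, x, hx⟩ := (Finset.mem_filter.1 hgM).2
    refine h.primes_coset ha.1 ha.2 hu (p := r) (dvd_of_eq ?_) h.hrH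
    rw [← hx, Char.Dade.orderOf_conj, Char.Dade.orderOf_conj, hZo p.2 hz hz1]
  have hle : ∑ g ∈ SH, ‖Ψ g‖ ^ 2 + ∑ g ∈ SM, ‖Ψ g‖ ^ 2 + ∑ g ∈ SZ, ‖Ψ g‖ ^ 2 ≤ (W : ℝ) * Nat.card G := by
    rw [← Finset.sum_union hdHM, ← Finset.sum_union (Finset.disjoint_union_left.2 ⟨hdHZ, hdMZ⟩), ← htot]
    exact Finset.sum_le_univ_sum_of_nonneg fun g => sq_nonneg _
  -- the part at `Z`
  have hZ : (Nat.card G : ℝ) * ((W : ℝ) ^ 2 * ∑ z ∈ els1 Z, (d z : ℝ) ^ 2) ≤
      (Nat.card H : ℝ) * ∑ g ∈ SZ, ‖Ψ g‖ ^ 2 := by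
    have h1 := sum_comp_le ((Finset.univ : Finset G) ×ˢ els1 Z) SZ (fun p => p.1 * p.2 * p.1⁻¹)
      (fun g => ‖Ψ g‖ ^ 2) (Nat.card H) (fun p hp => Finset.mem_image_of_mem _ hp) (fun g _ => sq_nonneg _)
      fun z _ => ?_
    · refine le_trans (le_of_eq ?_) h1
      rw [Finset.sum_product, Finset.sum_congr rfl fun x _ => Finset.sum_congr rfl fun z _ => hNc z x,
        Finset.sum_const, Finset.card_univ, nsmul_eq_mul, ← Nat.card_eq_fintype_card, Finset.mul_sum]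
      congr 1
      refine Finset.sum_congr rfl fun z hz => ?_
      obtain ⟨hz, hz1⟩ := (Finset.mem_filter.1 hz).2
      rw [(hd.off z (by simpa using hZoff z hz hz1 1)).2, norm_mul, mul_pow, Complex.norm_natCast,
        Complex.norm_intCast, sq_abs]
    · set Fb := ((Finset.univ : Finset G) ×ˢ els1 Z).filter fun p => p.1 * p.2 * p.1⁻¹ = z
      rcases Fb.eq_empty_or_nonempty with hF0 | ⟨p₀, hp₀⟩
      · exact (le_of_eq (Finset.card_eq_zero.2 hF0)).trans (Nat.zero_le _)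
      have hkey : ∀ p ∈ Fb, p₀.1⁻¹ * p.1 ∈ H ∧ p.2 = p.1⁻¹ * z * p.1 := by
        intro p hp
        simp only [Fb, Finset.mem_filter, Finset.mem_product] at hp hp₀
        refine ⟨hZN p.2 hp.1.2.2.1 hp.1.2.2.2 _ ?_, by rw [← hp.2]; group⟩
        rw [show p₀.1⁻¹ * p.1 * p.2 * (p₀.1⁻¹ * p.1)⁻¹ = p₀.1⁻¹ * (p.1 * p.2 * p.1⁻¹) * p₀.1 by group, hp.2,
          ← hp₀.2, show p₀.1⁻¹ * (p₀.1 * p₀.2 * p₀.1⁻¹) * p₀.1 = p₀.2 by group]
        exact hp₀.1.2.2.1
      refine ((Finset.card_le_card_of_injOn (s := Fb) (t := els H)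
        (fun p => p₀.1⁻¹ * p.1) (fun p hp => by simpa using (hkey p hp).1) fun p hp q hq e' => ?_).trans
        (card_els H).le)
      have e1 : p.1 = q.1 := mul_left_cancel e'
      exact Prod.ext e1 (by rw [(hkey p hp).2, (hkey q hq).2, e1])
  -- the part at `v`
  let ext : G → ℝ := fun a => (Nat.card (R a) : ℝ)⁻¹ * ∑ u ∈ els (R a), ‖Ψ (a * u)‖ ^ 2
  have hext0 : ∀ a, 0 ≤ ext a := fun a => mul_nonneg (by positivity) (Finset.sum_nonneg fun u _ => sq_nonneg _)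
  set As : Finset G := Finset.univ.filter (fun a => a ∈ A') with hAs
  have hextc : ∀ a ∈ A', ∀ x ∈ H, ext (x * a * x⁻¹) = ext a := by
    intro a ha x hx
    simp only [ext, hR, Char.Dade.card_H_conj hD ha hx]
    congr 1
    refine Finset.sum_nbij' (fun u => x⁻¹ * u * x) (fun u => x * u * x⁻¹) (fun u hu => ?_) (fun u hu => ?_)
      (fun u _ => by group) (fun u _ => by group) fun u _ => ?_
    · have h1 := Char.Dade.conj_mem_H hD (hD.conj_mem x hx a ha) (H.inv_mem hx) (Finset.mem_filter.1 hu).2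
      rw [inv_inv, show x⁻¹ * (x * a * x⁻¹) * x = a by group] at h1
      exact Finset.mem_filter.2 ⟨Finset.mem_univ _, h1⟩
    · exact Finset.mem_filter.2 ⟨Finset.mem_univ _, Char.Dade.conj_mem_H hD ha hx (Finset.mem_filter.1 hu).2⟩
    · rw [← hNc (a * (x⁻¹ * u * x)) x]
      congr 3
      group
  have hTv : ∀ t ∈ T, (Nat.card S₁ : ℝ) * ext t =
      ∑ u ∈ els S₁, ‖Cfsg.extendByZero H σ t + (W : ℂ) * b t u‖ ^ 2 := by
    intro t ht
    have htH : t ∈ H := TransHyp.piCoreOf_le H (hTA t ht).1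
    simp only [ext, hTR t ht]
    rw [mul_inv_cancel_left₀ hS10.ne']
    refine Finset.sum_congr rfl fun u hu => ?_
    rw [(hd.val ⟨t, htH⟩ (hTA t ht) u (show u ∈ R t by rw [hTR t ht]; exact (Finset.mem_filter.1 hu).2)).2,
      Char.extendByZero_of_mem _ htH]
  have hHp : (Nat.card G : ℝ) * ∑ t ∈ T, ext t ≤ (Nat.card E : ℝ) * ∑ g ∈ SH, ‖Ψ g‖ ^ 2 := by
    have h0 : (Nat.card G : ℝ)⁻¹ * ∑ g ∈ SH, ‖Ψ g‖ ^ 2 = (Nat.card H : ℝ)⁻¹ * ∑ a ∈ As, ext a := by
      rw [hSH, Finset.sum_filter,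
        Char.Dade.average hD (fun g => if g ∈ Char.Dade.supp A' R then ‖Ψ g‖ ^ 2 else 0)
        (fun g x => by
          by_cases hg : g ∈ Char.Dade.supp A' R
          · rw [if_pos hg, if_pos (Char.Dade.mem_supp_conj hg x), hNc]
          · rw [if_neg hg, if_neg fun h3 => hg (by simpa [mul_assoc] using Char.Dade.mem_supp_conj h3 x⁻¹)])
        (fun g hg => if_neg hg)]
      congr 1
      refine Finset.sum_congr (by ext a; simp [hAs, hA']) fun a ha => ?_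
      congr 1
      refine Finset.sum_congr (by ext u; simp [hR]) fun u hu => ?_
      exact if_pos (Char.Dade.mem_supp_coset (by simpa [hAs] using ha) (by simpa using hu))
    have h1 := sum_comp_le ((Finset.univ : Finset H) ×ˢ T) As (fun p => (p.1 : G) * p.2 * (p.1 : G)⁻¹) ext
      (Nat.card E) (fun p hp => by
        exact Finset.mem_filter.2 ⟨Finset.mem_univ _, hD.conj_mem p.1 p.1.2 p.2 (hTA _ (Finset.mem_product.1 hp).2)⟩)
      (fun a _ => hext0 a) fun z _ => ?_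
    · rw [Finset.sum_product, Finset.sum_congr rfl fun (x : H) _ => Finset.sum_congr rfl fun t ht =>
        hextc t (hTA t ht) x x.2, Finset.sum_const, Finset.card_univ, nsmul_eq_mul,
        ← Nat.card_eq_fintype_card] at h1
      rw [eq_inv_mul_iff_mul_eq₀ hH0.ne', mul_left_comm, inv_mul_eq_iff_eq_mul₀ hG0.ne'] at h0
      refine le_of_mul_le_mul_left ?_ hH0
      calc (Nat.card H : ℝ) * ((Nat.card G : ℝ) * ∑ t ∈ T, ext t) =
          (Nat.card G : ℝ) * ((Nat.card H : ℝ) * ∑ t ∈ T, ext t) := by ring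
        _ ≤ (Nat.card G : ℝ) * ((Nat.card E : ℝ) * ∑ a ∈ As, ext a) := mul_le_mul_of_nonneg_left h1 hG0.le
        _ = (Nat.card E : ℝ) * ((Nat.card G : ℝ) * ∑ a ∈ As, ext a) := by ring
        _ = _ := by rw [← h0]; ring
    · set Fb := ((Finset.univ : Finset H) ×ˢ T).filter fun p => (p.1 : G) * p.2 * (p.1 : G)⁻¹ = z
      rcases Fb.eq_empty_or_nonempty with hF0 | ⟨p₀, hp₀⟩
      · exact (le_of_eq (Finset.card_eq_zero.2 hF0)).trans (Nat.zero_le _)
      have hkey : ∀ p ∈ Fb, (p₀.1 : G)⁻¹ * p.1 ∈ E ∧ p.2 = (p.1 : G)⁻¹ * z * p.1 := by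
        intro p hp
        simp only [Fb, Finset.mem_filter, Finset.mem_product] at hp hp₀
        refine ⟨?_, by rw [← hp.2]; group⟩
        set g := (p₀.1 : G)⁻¹ * p.1
        have hg : g * p.2 * g⁻¹ = p₀.2 := by
          calc g * p.2 * g⁻¹ = (p₀.1 : G)⁻¹ * ((p.1 : G) * p.2 * (p.1 : G)⁻¹) * p₀.1 := by simp only [g]; group
            _ = _ := by rw [hp.2, ← hp₀.2]; group
        have hgn : g ∈ normalizer (zpowers v : Set G) := by
          rw [← hTgen p.2 hp.1.2]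
          refine mem_normalizer_zpowers ?_
          rw [hg, hTgen p.2 hp.1.2]
          exact ((hmemT _).1 hp₀.1.2).1
        rw [← h.meet]
        exact ⟨h.mem_of_normalizes hgn, H.mul_mem (H.inv_mem p₀.1.2) p.1.2⟩
      refine ((Finset.card_le_card_of_injOn (s := Fb) (t := els E)
        (fun p => (p₀.1 : G)⁻¹ * p.1) (fun p hp => by simpa using (hkey p hp).1) fun p hp q hq e' => ?_).trans
        (card_els E).le)
      have e1 : p.1 = q.1 := Subtype.ext (mul_left_cancel e')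
      exact Prod.ext e1 (by rw [(hkey p hp).2, (hkey q hq).2, e1])
  -- the part at `M_σ ∖ 1`
  set V : ℝ := ∑ x ∈ els1 S, (ρ x : ℝ) ^ 2 with hVdef
  have hMp : (Nat.card G : ℝ) * ((W : ℝ) ^ 2 * V) ≤ (Nat.card E : ℝ) * Nat.card S * ∑ g ∈ SM, ‖Ψ g‖ ^ 2 := by
    have h0 : (Nat.card G : ℝ)⁻¹ * ∑ g ∈ SM, ‖Ψ g‖ ^ 2 = (Nat.card M : ℝ)⁻¹ * ∑ x ∈ els1 S,
        (Nat.card (RM x) : ℝ)⁻¹ * ∑ u ∈ els (RM x), ‖Ψ (x * u)‖ ^ 2 := by
      rw [hSM, Finset.sum_filter,
        Char.Dade.average hDM (fun g => if g ∈ Char.Dade.supp _ RM then ‖Ψ g‖ ^ 2 else 0)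
        (fun g x => by
          by_cases hg : g ∈ Char.Dade.supp {x : G | x ∈ S ∧ x ≠ 1} RM
          · rw [if_pos hg, if_pos (Char.Dade.mem_supp_conj hg x), hNc]
          · rw [if_neg hg, if_neg fun h3 => hg (by simpa [mul_assoc] using Char.Dade.mem_supp_conj h3 x⁻¹)])
        (fun g hg => if_neg hg)]
      congr 1
      refine Finset.sum_congr (by ext a; simp [hSdef]) fun a ha => ?_
      congr 1
      refine Finset.sum_congr (by ext u; simp [hRM]) fun u hu => ?_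
      exact if_pos (Char.Dade.mem_supp_coset (by simpa using ha) (by simpa [hRM] using hu))
    have h1 : (W : ℝ) ^ 2 * V ≤ ∑ x ∈ els1 S, (Nat.card (RM x) : ℝ)⁻¹ * ∑ u ∈ els (RM x), ‖Ψ (x * u)‖ ^ 2 := by
      rw [hVdef, Finset.mul_sum]
      refine Finset.sum_le_sum fun x hx => ?_
      obtain ⟨hx, hx1⟩ := (Finset.mem_filter.1 hx).2
      have hR0 : (0 : ℝ) < Nat.card (RM x) := Nat.cast_pos.2 Nat.card_pos
      rw [Finset.sum_congr rfl (g := fun u => (W : ℝ) ^ 2 * (d (x * u) : ℝ) ^ 2) fun u hu => by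
          rw [(hd.off _ (hcross x hx hx1 u (Finset.mem_filter.1 hu).2)).2, norm_mul, mul_pow, Complex.norm_natCast,
            Complex.norm_intCast, sq_abs], ← Finset.mul_sum, le_inv_mul_iff₀ hR0]
      have h2 := sq_sum_le_card_mul_sum_sq (s := els (RM x)) (f := fun u => (d (x * u) : ℝ))
      rw [card_els, ← Int.cast_sum, (hρ x hx hx1).1] at h2
      push_cast at h2
      nlinarith [mul_le_mul_of_nonneg_left h2 (sq_nonneg (W : ℝ))]
    rw [← complIn_card h.hE, Nat.cast_mul, inv_mul_eq_iff_eq_mul₀ hG0.ne', ← hSdef] at h0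
    set X := ∑ x ∈ els1 S, (Nat.card (RM x) : ℝ)⁻¹ * ∑ u ∈ els (RM x), ‖Ψ (x * u)‖ ^ 2
    rw [h0, show (Nat.card E : ℝ) * Nat.card S * ((Nat.card G : ℝ) * (((Nat.card E : ℝ) * Nat.card S)⁻¹ * X)) =
      Nat.card G * X by field_simp]
    exact mul_le_mul_of_nonneg_left h1 hG0.le
  set L : ℝ := ∑ t ∈ T, ∑ u ∈ els S₁, ‖Cfsg.extendByZero H σ t + (W : ℂ) * b t u‖ ^ 2 with hLdef
  set ZT : ℝ := ∑ z ∈ els1 Z, (d z : ℝ) ^ 2 with hZTdef
  have hstar : (Nat.card H : ℝ) * Nat.card S * L + (W : ℝ) ^ 2 * Nat.card H * Nat.card S₁ * V +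
      (Nat.card E : ℝ) * Nat.card S * Nat.card S₁ * ((W : ℝ) ^ 2 * ZT) ≤
      (W : ℝ) * Nat.card E * Nat.card H * Nat.card S * Nat.card S₁ := by
    have hL : (Nat.card S₁ : ℝ) * ∑ t ∈ T, ext t = L := by
      rw [Finset.mul_sum, Finset.sum_congr rfl hTv]
    refine le_of_mul_le_mul_left ?_ hG0
    calc (Nat.card G : ℝ) * ((Nat.card H : ℝ) * Nat.card S * L + (W : ℝ) ^ 2 * Nat.card H * Nat.card S₁ * V +
          (Nat.card E : ℝ) * Nat.card S * Nat.card S₁ * ((W : ℝ) ^ 2 * ZT))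
        = (Nat.card H : ℝ) * Nat.card S * Nat.card S₁ * ((Nat.card G : ℝ) * ∑ t ∈ T, ext t) +
          (Nat.card H : ℝ) * Nat.card S₁ * ((Nat.card G : ℝ) * ((W : ℝ) ^ 2 * V)) +
          (Nat.card E : ℝ) * Nat.card S * Nat.card S₁ * ((Nat.card G : ℝ) * ((W : ℝ) ^ 2 * ZT)) := by
          rw [← hL]; ring
      _ ≤ (Nat.card H : ℝ) * Nat.card S * Nat.card S₁ * ((Nat.card E : ℝ) * ∑ g ∈ SH, ‖Ψ g‖ ^ 2) +
          (Nat.card H : ℝ) * Nat.card S₁ * ((Nat.card E : ℝ) * Nat.card S * ∑ g ∈ SM, ‖Ψ g‖ ^ 2) +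
          (Nat.card E : ℝ) * Nat.card S * Nat.card S₁ * ((Nat.card H : ℝ) * ∑ g ∈ SZ, ‖Ψ g‖ ^ 2) := by
          gcongr
      _ = (Nat.card H : ℝ) * Nat.card S * Nat.card S₁ * Nat.card E *
          (∑ g ∈ SH, ‖Ψ g‖ ^ 2 + ∑ g ∈ SM, ‖Ψ g‖ ^ 2 + ∑ g ∈ SZ, ‖Ψ g‖ ^ 2) := by ring
      _ ≤ (Nat.card H : ℝ) * Nat.card S * Nat.card S₁ * Nat.card E * ((W : ℝ) * Nat.card G) :=
          mul_le_mul_of_nonneg_left hle (by positivity)
      _ = _ := by ring
  have hV0 : 0 ≤ V := Finset.sum_nonneg fun x _ => sq_nonneg _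
  refine ⟨?_, ?_⟩
  · -- the classes of `N`
    set Y := els S₁ \ els N with hYdef
    have hmemY : ∀ y ∈ Y, y ∈ S₁ ∧ y ∉ N := fun y hy => by simpa [hYdef] using hy
    have hLY : ∑ t ∈ T, ∑ y ∈ Y, ‖Cfsg.extendByZero H σ t + (W : ℂ) * B t y‖ ^ 2 ≤ L := by
      refine Finset.sum_le_sum fun t ht => le_of_mul_le_mul_left ?_ hN10
      set g : G → ℂ := fun u => Cfsg.extendByZero H σ t + (W : ℂ) * b t u with hg
      have hshift : ∀ n ∈ els N₁, ∑ y ∈ els S₁, ‖g (n * y)‖ ^ 2 = ∑ y ∈ els S₁, ‖g y‖ ^ 2 := fun n hn => by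
        have hn' : n ∈ S₁ := (Finset.mem_filter.1 hn).2.2
        exact Finset.sum_nbij' (fun y => n * y) (fun y => n⁻¹ * y)
          (fun y hy => by simp at hy ⊢; exact mul_mem hn' hy)
          (fun y hy => by simp at hy ⊢; exact mul_mem (inv_mem hn') hy)
          (fun y _ => by group) (fun y _ => by group) fun y _ => rfl
      calc (Nat.card N₁ : ℝ) * ∑ y ∈ Y, ‖Cfsg.extendByZero H σ t + (W : ℂ) * B t y‖ ^ 2
          ≤ ∑ y ∈ Y, ∑ n ∈ els N₁, ‖g (n * y)‖ ^ 2 := by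
            rw [Finset.mul_sum]
            refine Finset.sum_le_sum fun y hy => le_of_mul_le_mul_left ?_ hN10
            have h2 := sq_norm_sum_le (els N₁) fun n => g (n * y)
            rw [card_els, show ∑ n ∈ els N₁, g (n * y) =
              (Nat.card N₁ : ℂ) * (Cfsg.extendByZero H σ t + (W : ℂ) * B t y) by
                simp only [hg, Finset.sum_add_distrib, Finset.sum_const, card_els, nsmul_eq_mul, ← Finset.mul_sum]
                rw [← Int.cast_sum, hB t y ht (hmemY y hy).1]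
                push_cast
                ring, norm_mul, mul_pow, Complex.norm_natCast] at h2
            linarith
        _ ≤ ∑ y ∈ els S₁, ∑ n ∈ els N₁, ‖g (n * y)‖ ^ 2 :=
            Finset.sum_le_sum_of_subset_of_nonneg Finset.sdiff_subset fun y _ _ =>
              Finset.sum_nonneg fun n _ => sq_nonneg _
        _ = (Nat.card N₁ : ℝ) * ∑ y ∈ els S₁, ‖g y‖ ^ 2 := by
            rw [Finset.sum_comm, Finset.sum_congr rfl hshift, Finset.sum_const, card_els, nsmul_eq_mul]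
    have hVY : (Nat.card S : ℝ) * ∑ y ∈ Y, (m y : ℝ) ^ 2 ≤ (Nat.card S₁ : ℝ) * V := by
      have h1 : (Nat.card N : ℝ) * ∑ y ∈ Y, (m y : ℝ) ^ 2 ≤ ∑ p ∈ els N ×ˢ Y, (ρ (p.1 * p.2) : ℝ) ^ 2 := by
        rw [Finset.sum_product_right, Finset.mul_sum]
        refine Finset.sum_le_sum fun y hy => le_of_mul_le_mul_left ?_
          (Nat.cast_pos.2 (Nat.card_pos (α := N)) : (0 : ℝ) < Nat.card N)
        have h2 := sq_sum_le_card_mul_sum_sq (s := els N) (f := fun n => (ρ (n * y) : ℝ))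
        rw [card_els, ← Int.cast_sum, hm y (hmemY y hy).1 (hmemY y hy).2] at h2
        push_cast at h2
        nlinarith
      have h3 := sum_comp_le (els N ×ˢ Y) (els1 S) (fun p => p.1 * p.2) (fun x => (ρ x : ℝ) ^ 2) (Nat.card N₁)
        (fun p hp => by
          obtain ⟨h4, h5⟩ := Finset.mem_product.1 hp
          obtain ⟨h6, h7⟩ := hne1 p.2 (hmemY _ h5).1 (hmemY _ h5).2 p.1 (Finset.mem_filter.1 h4).2
          exact Finset.mem_filter.2 ⟨Finset.mem_univ _, h6, h7⟩)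
        (fun x _ => sq_nonneg _) fun z _ => ?_
      · have h5 : (Nat.card N : ℝ) * Nat.card S₁ = Nat.card S * Nat.card N₁ := by
          have hS₁N : S₁ ≤ normalizer (N : Set G) := hS₁S.trans h.hSN
          have hsup : N ⊔ S₁ = S := le_antisymm (sup_le h.hNS hS₁S) fun x hx => by
            obtain ⟨n, hn, y, hy, rfl⟩ := h.hsplit x hx
            exact mul_mem_sup hn hy
          have h6 := Grp.card_sup_mul_card_inf hS₁N
          rw [sup_comm, hsup, inf_comm, ← hN₁] at h6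
          rw [← Nat.cast_mul, ← Nat.cast_mul, h6, mul_comm]
        refine le_of_mul_le_mul_left ?_ hN10
        calc (Nat.card N₁ : ℝ) * ((Nat.card S : ℝ) * ∑ y ∈ Y, (m y : ℝ) ^ 2)
            = (Nat.card S₁ : ℝ) * ((Nat.card N : ℝ) * ∑ y ∈ Y, (m y : ℝ) ^ 2) := by
              linear_combination (-(∑ y ∈ Y, (m y : ℝ) ^ 2)) * h5
          _ ≤ (Nat.card S₁ : ℝ) * ((Nat.card N₁ : ℝ) * V) :=
              mul_le_mul_of_nonneg_left (h1.trans h3) hS10.le
          _ = _ := by ring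
      · set Fb := (els N ×ˢ Y).filter fun p => p.1 * p.2 = z
        rcases Fb.eq_empty_or_nonempty with hF0 | ⟨p₀, hp₀⟩
        · exact (le_of_eq (Finset.card_eq_zero.2 hF0)).trans (Nat.zero_le _)
        refine ((Finset.card_le_card_of_injOn (s := Fb) (t := els N₁)
          (fun p => p₀.1⁻¹ * p.1) (fun p hp => ?_) fun p hp q hq e' => ?_).trans (card_els N₁).le)
        · simp only [Fb, Finset.coe_filter, Set.mem_ofPred_eq, Finset.mem_product] at hp
          simp only [Fb, Finset.mem_filter, Finset.mem_product] at hp₀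
          have hpN := (Finset.mem_filter.1 hp.1.1).2
          have hp₀N := hp₀.1.1.2
          simp only [Finset.coe_filter, Finset.mem_univ, true_and, Set.mem_ofPred_eq, hN₁]
          refine ⟨N.mul_mem (N.inv_mem hp₀N) hpN, ?_⟩
          rw [show p₀.1⁻¹ * p.1 = p₀.2 * p.2⁻¹ by
            rw [eq_mul_inv_iff_mul_eq, mul_assoc, hp.2, ← hp₀.2]; group]
          exact S₁.mul_mem (hmemY _ hp₀.1.2).1 (S₁.inv_mem (hmemY _ hp.1.2).1)
        · have e1 : p.1 = q.1 := mul_left_cancel e'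
          simp only [Fb, Finset.coe_filter, Set.mem_ofPred_eq] at hp hq
          exact Prod.ext e1 (mul_left_cancel (a := p.1) (by rw [hp.2, e1, hq.2]))
    refine le_of_mul_le_mul_left ?_ hS0
    calc (Nat.card S : ℝ) * ((Nat.card H : ℝ) * ∑ y ∈ Y, (∑ t ∈ T,
          ‖Cfsg.extendByZero H σ t + (W : ℂ) * B t y‖ ^ 2 + (W : ℝ) ^ 2 * (m y : ℝ) ^ 2) +
          (Nat.card E : ℝ) * Nat.card S₁ * (W : ℝ) ^ 2 * ZT)
        = (Nat.card H : ℝ) * Nat.card S * (∑ t ∈ T, ∑ y ∈ Y, ‖Cfsg.extendByZero H σ t + (W : ℂ) * B t y‖ ^ 2) +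
          (W : ℝ) ^ 2 * Nat.card H * ((Nat.card S : ℝ) * ∑ y ∈ Y, (m y : ℝ) ^ 2) +
          (Nat.card E : ℝ) * Nat.card S * Nat.card S₁ * ((W : ℝ) ^ 2 * ZT) := by
          rw [Finset.sum_add_distrib, Finset.sum_comm, ← Finset.mul_sum]; ring
      _ ≤ (Nat.card H : ℝ) * Nat.card S * L + (W : ℝ) ^ 2 * Nat.card H * ((Nat.card S₁ : ℝ) * V) +
          (Nat.card E : ℝ) * Nat.card S * Nat.card S₁ * ((W : ℝ) ^ 2 * ZT) := by gcongr
      _ ≤ _ := by linarith [hstar]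
  · -- the means over all of the fixed points
    have hL0 : (Nat.card S₁ : ℝ) * ∑ t ∈ T, ‖Cfsg.extendByZero H σ t + (W : ℂ) * B₀ t‖ ^ 2 ≤ L := by
      rw [Finset.mul_sum]
      refine Finset.sum_le_sum fun t ht => le_of_mul_le_mul_left ?_ hS10
      have h2 := sq_norm_sum_le (els S₁) fun u => Cfsg.extendByZero H σ t + (W : ℂ) * b t u
      rw [card_els, show ∑ u ∈ els S₁, (Cfsg.extendByZero H σ t + (W : ℂ) * b t u) =
        (Nat.card S₁ : ℂ) * (Cfsg.extendByZero H σ t + (W : ℂ) * B₀ t) by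
          simp only [Finset.sum_add_distrib, Finset.sum_const, card_els, nsmul_eq_mul, ← Finset.mul_sum]
          rw [← Int.cast_sum, hB₀ t ht]
          push_cast
          ring, norm_mul, mul_pow, Complex.norm_natCast] at h2
      linarith
    refine le_of_mul_le_mul_left ?_ (mul_pos hS0 hS10)
    calc (Nat.card S : ℝ) * Nat.card S₁ * ((Nat.card H : ℝ) * ∑ t ∈ T,
          ‖Cfsg.extendByZero H σ t + (W : ℂ) * B₀ t‖ ^ 2 + (Nat.card E : ℝ) * (W : ℝ) ^ 2 * ZT)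
        = (Nat.card H : ℝ) * Nat.card S *
            ((Nat.card S₁ : ℝ) * ∑ t ∈ T, ‖Cfsg.extendByZero H σ t + (W : ℂ) * B₀ t‖ ^ 2) +
          (Nat.card E : ℝ) * Nat.card S * Nat.card S₁ * ((W : ℝ) ^ 2 * ZT) := by ring
      _ ≤ (Nat.card H : ℝ) * Nat.card S * L +
          (Nat.card E : ℝ) * Nat.card S * Nat.card S₁ * ((W : ℝ) ^ 2 * ZT) := by gcongr
      _ ≤ (W : ℝ) * Nat.card E * Nat.card H * Nat.card S * Nat.card S₁ := by
          refine le_trans ?_ hstar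
          have : 0 ≤ (W : ℝ) ^ 2 * Nat.card H * Nat.card S₁ * V := mul_nonneg (by positivity) hV0
          linarith
      _ = _ := by ring

end Cfsg.Agent.Transfer.Loc.TypeI
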