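import Cfsg.Agent.Lib.Transfer.Local.TypeICore
import Cfsg.Agent.Lib.Transfer.Local.TwistSetup
import Cfsg.Agent.Lib.Transfer.Local.Types
import Cfsg.Agent.Lib.Grp.Signalizer
import Cfsg.Agent.S1422

/-!
A plane of a maximal subgroup `M` with `κ(M) = ∅` one of whose lines fixes a point of `M_σ`, and an overgroup `H` of the
normaliser of the plane.
-/

set_option autoImplicit false
set_option linter.style.haveILetI false
set_option linter.unusedSectionVars false
set_option maxHeartbeats 2000000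

namespace Cfsg.Agent.Transfer.Loc.TypeI

open Subgroup
open scoped commutatorElement Pointwise

universe u

variable {G : Type u} [Group G] [Finite G] {r : ℕ} [hr : Fact r.Prime]

/-- The configuration with a plane `A ≤ T ≤ P`. -/
structure Setup (M H E N A T : Subgroup G) (P : Sylow r G) (v : G) : Prop where
  conf : Conf M H E N r v
  hκ : Cfsg.kappa M = ∅
  plane : TauPlane M E r A T
  hTP : T ≤ (P : Subgroup G)
  hvA : v ∈ A
  hNA : normalizer (A : Set G) ≤ H
  hP : Grp.IsSylowIn r (P : Subgroup G) (Cfsg.sigmaCore H)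

/-- `M_F = M_σ` when `κ(M) = ∅`. -/
theorem fitting_of_kappa_empty (hG : Cfsg.IsMinSimpleOddOrder G) {M : Subgroup G} (hM : IsCoatom M)
    (hκ : Cfsg.kappa M = ∅) : Cfsg.fittingHallOf M = Cfsg.sigmaCore M := by
  obtain ⟨K, U, hKU⟩ := exists_decomp_of_max hG hM
  have hK : K = ⊥ := by
    by_contra hK
    obtain ⟨p, hp, hd⟩ := Nat.exists_prime_and_dvd fun e => hK (Subgroup.card_eq_one.1 e)
    exact (hκ ▸ hKU.hall.2.1 p hp hd : p ∈ (∅ : Set ℕ))
  refine fittingHallOf_of_U hG hM hKU fun hU => sigmaCore_ne_bot hG hM ?_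
  obtain ⟨hEc, -, -⟩ := decomp_compl hG hM hKU
  rw [hK, hU, sup_bot_eq] at hEc
  rw [← (Cfsg.Agent.S1426.result hG M hM ⊥ hEc).2.1, Subgroup.commutator_bot_right]

section Choice

variable {M E A T : Subgroup G} (h : TauPlane M E r A T)
include h

/-- Some element of the plane does not move all of `M_σ / M_σ'`. -/
theorem exists_moving : ∃ v ∈ A, v ≠ 1 ∧
    ¬ Cfsg.sigmaCore M ≤ ⁅Cfsg.sigmaCore M, zpowers v⁆ ⊔ ⁅Cfsg.sigmaCore M, Cfsg.sigmaCore M⁆ := by
  haveI := solvable_of_ne_top h.hG h.hM.1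
  set S := Cfsg.sigmaCore M with hS
  set D' := ⁅S, S⁆ with hD'
  haveI : Group.IsSolvable S := isSolvable_of_le (TransHyp.piCoreOf_le M)
  have hS1 : S ≠ ⊥ := sigmaCore_ne_bot h.hG h.hM
  have hne : ¬ S ≤ D' := by
    intro hle
    haveI : Nontrivial S := (Subgroup.nontrivial_iff_ne_bot S).2 hS1
    refine (Group.IsSolvable.commutator_lt_top_of_nontrivial S).ne
      (Subgroup.map_injective S.subtype_injective ?_)
    rw [Subgroup.map_subtype_commutator, ← MonoidHom.range_eq_map, Subgroup.range_subtype]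
    exact le_antisymm S.commutator_le_self hle
  by_contra hno
  push Not at hno
  have hAS : A ≤ normalizer (S : Set G) := (h.hAE.trans h.hE.1).trans (TransHyp.le_normalizer_piCoreOf M)
  have hAD : A ≤ normalizer (D' : Set G) := le_normalizer_commutator' hAS hAS
  have hrS : ¬ r ∣ Nat.card S := fun hd =>
    h.hτ.2.1 (TransHyp.piCoreOf_primes (π := Cfsg.sigma M) (X := M) hr.out hd)
  have hA1 : A ≠ ⊥ := fun e => hr.out.ne_one (by
    have h1 := h.dvd_card
    rw [e, Subgroup.card_bot, Nat.dvd_one] at h1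
    exact h1)
  refine hne (Grp.le_of_hyperplanes h.elem hA1 S hrS hAS fun D hDA hDr x hx => ?_)
  have hDc : Nat.card D = r := by
    have h1 := Grp.card_mul_relIndex hDA
    rw [hDr, h.card, sq] at h1
    exact Nat.eq_of_mul_eq_mul_right hr.out.pos h1
  obtain ⟨a, ha, ha1, hgen⟩ := exists_generator_line hDc
  have hZA : zpowers a ≤ A := zpowers_le.2 (hDA ha)
  have hle := hno a (hDA ha) ha1
  rw [hgen] at hle
  have hDD : D ≤ normalizer (D' : Set G) := hDA.trans hAD
  have hSD : S ≤ normalizer (D' : Set G) := le_normalizer_commutator' le_normalizer le_normalizer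
  haveI : IsMulCommutative ↥(qimg D' S) := by
    refine le_centralizer_iff_isMulCommutative.1 (Subgroup.commutator_eq_bot_iff_le_centralizer.1 ?_)
    rw [← qimg_commutator hSD hSD]
    exact (qimg_eq_bot ((Subgroup.commutator_le_self _).trans hSD)).2 le_rfl
  have hcop : (Nat.card D).Coprime (Nat.card S) := by
    rw [hDc]; exact hr.out.coprime_iff_not_dvd.2 hrS
  have hfix := Grp.abelian_commutator_inf_fixed (qimg D' D) (qimg D' S) (qimg_normalizer (hDA.trans hAS))
    ((hcop.coprime_dvd_left (card_qimg_dvd hDD)).coprime_dvd_right (card_qimg_dvd hSD))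
  rw [← qimg_commutator hSD hDD] at hfix
  have hxN : x ∈ normalizer (D' : Set G) := hSD hx.1
  have hSDS : ⁅S, D⁆ ≤ S := Grp.commutator_le_left_of_le_normalizer (hDA.trans hAS)
  have h1 : qimg D' S ≤ qimg D' ⁅S, D⁆ := by
    refine (qimg_mono hle).trans ?_
    rw [qimg_sup (hSDS.trans hSD) le_normalizer, qimg_self, sup_bot_eq]
  have hmem : QuotientGroup.mk' (D'.subgroupOf (normalizer (D' : Set G))) ⟨x, hxN⟩ ∈
      (qimg D' S ⊓ centralizer (qimg D' D : Set (Qt D'))) ⊓ qimg D' ⁅S, D⁆ := by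
    refine ⟨⟨mem_qimg hx.1 hxN, mem_centralizer_iff.2 ?_⟩, h1 (mem_qimg hx.1 hxN)⟩
    rintro _ ⟨⟨d, hdN⟩, hd, rfl⟩
    rw [← map_mul, ← map_mul]
    exact congrArg _ (Subtype.ext (mem_centralizer_iff.1 hx.2 d hd))
  rw [hfix, mem_bot] at hmem
  exact (QuotientGroup.eq_one_iff (⟨x, hxN⟩ : normalizer (D' : Set G))).1 hmem

end Choice

/-- The configuration exists. -/
theorem exists_setup (hG : Cfsg.IsMinSimpleOddOrder G) {M : Subgroup G} (hM : IsCoatom M)
    (hκ : Cfsg.kappa M = ∅) (hτ : r ∈ Cfsg.tau2 M) :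
    ∃ (H E N A T : Subgroup G) (P : Sylow r G) (v : G), Setup M H E N A T P v := by
  haveI := solvable_of_ne_top hG hM.1
  obtain ⟨E, hE, -⟩ := exists_compl_ge hG hM (U := ⊥) bot_le fun s hs hd => by
    rw [Subgroup.card_bot, Nat.dvd_one] at hd; exact absurd hd hs.ne_one
  haveI := isSolvable_of_le hE.1
  obtain ⟨T, hT⟩ := Grp.exists_isSylowIn r E
  obtain ⟨A, hAT, hA, hA2⟩ := tau2_plane hG hM hE hτ hT
  have hAE : A ≤ E := hAT.trans hT.1
  have hp : TauPlane M E r A T := ⟨hG, hM, hE, hτ, hAE, hA, hA2, hT⟩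
  obtain ⟨v, hvA, hv1, hmv⟩ := exists_moving hp
  set S := Cfsg.sigmaCore M with hS
  haveI : Group.IsSolvable S := isSolvable_of_le (TransHyp.piCoreOf_le M)
  have hvo : orderOf v = r := orderOf_eq_prime (hA.2 v hvA) hv1
  have hvc : Nat.card (zpowers v) = r := by rw [Nat.card_zpowers, hvo]
  set N := ⁅S, zpowers v⁆ ⊔ ⁅S, S⁆ with hN
  have hrS : ¬ r ∣ Nat.card S := fun hd =>
    hτ.2.1 (TransHyp.piCoreOf_primes (π := Cfsg.sigma M) (X := M) hr.out hd)
  have hMS : M ≤ normalizer (S : Set G) := TransHyp.le_normalizer_piCoreOf M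
  have hVS : zpowers v ≤ normalizer (S : Set G) := zpowers_le.2 (hMS (hE.1 (hAE hvA)))
  have hNS : N ≤ S := sup_le (Grp.commutator_le_left_of_le_normalizer hVS) S.commutator_le_self
  have hSN : S ≤ normalizer (N : Set G) := by
    have h1 : ⁅S, S⁆ ≤ N := le_sup_right
    refine fun s hs => Grp.mem_normalizer_iff_smul.2 (Subgroup.eq_of_le_of_card_ge ?_ (by rw [Grp.card_conj_smul]))
    rintro _ ⟨n, hn, rfl⟩
    show s * n * s⁻¹ ∈ N
    rw [show s * n * s⁻¹ = ⁅s, n⁆ * n by rw [commutatorElement_def]; group]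
    exact mul_mem (h1 (commutator_mem_commutator hs (hNS hn))) hn
  have hAN : A ≤ normalizer (N : Set G) := by
    have hAv : A ≤ normalizer (zpowers v : Set G) :=
      ((le_centralizer_iff_isMulCommutative.2 hA.1).trans (centralizer_le (zpowers_le.2 hvA))).trans
        (centralizer_le_normalizer _)
    have hAS : A ≤ normalizer (S : Set G) := (hAE.trans hE.1).trans hMS
    exact Grp.le_normalizer_sup' (le_normalizer_commutator' hAS hAv) (le_normalizer_commutator' hAS hAS)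
  have hcop : (Nat.card (zpowers v)).Coprime (Nat.card S) := by
    rw [hvc]; exact hr.out.coprime_iff_not_dvd.2 hrS
  have hsplit0 := Grp.commutator_sup_fixed (zpowers v) S hVS hcop (Or.inr inferInstance)
  have hsplit : ∀ x ∈ S, ∃ n ∈ N, ∃ y ∈ Fix M v, n * y = x := by
    intro x hx
    have h1 : x ∈ N ⊔ Fix M v := by
      refine (hsplit0.ge.trans (sup_le (le_sup_left.trans le_sup_left) ?_)) hx
      exact (inf_le_inf_left S (le_of_eq (centralizer_zpowers_eq v))).trans le_sup_right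
    rw [← SetLike.mem_coe, Subgroup.coe_mul_of_right_le_normalizer_left N _ (inf_le_left.trans hSN)] at h1
    obtain ⟨n, hn, y, hy, e⟩ := h1
    exact ⟨n, hn, y, hy, e⟩
  have hfix : S ⊓ centralizer (zpowers v : Set G) ≠ ⊥ := fun e => hmv (by
    rw [e, sup_bot_eq] at hsplit0
    exact hsplit0.ge.trans le_sup_left)
  obtain ⟨-, -, huniq⟩ := Cfsg.Agent.S1418.result hG M hM E hE r hτ A ⟨hAE, hA, hA2⟩
  obtain ⟨hCv, huniq'⟩ := huniq (zpowers v) (zpowers_le.2 hvA) hvc hfix
  rw [centralizer_zpowers_eq] at hCv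
  simp only [centralizer_zpowers_eq] at huniq'
  -- the index
  obtain ⟨L, hL, hLc, hLfree⟩ := hp.exists_free
  obtain ⟨u, hu, hu1, hgen⟩ := exists_generator_line hLc
  have huo : orderOf u = r := orderOf_eq_prime (hA.2 u (hL hu)) hu1
  have hLfree' : S ⊓ centralizer (L : Set G) = ⊥ := not_not.1 hLfree
  have hcount : ∀ B : Subgroup G, B ≤ S → L ≤ normalizer (B : Set G) → (r : ℤ) ∣ (Nat.card B : ℤ) - 1 := by
    intro B hBS hLB
    classical
    letI := Fintype.ofFinite G
    set Bs := Finset.univ.filter fun x => x ∈ B ∧ x ≠ 1 with hBs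
    have h1 := dvd_sum_free huo Bs (fun _ => 1)
      (fun x hx => by
        obtain ⟨hx, hx1⟩ := (Finset.mem_filter.1 hx).2
        exact Finset.mem_filter.2 ⟨Finset.mem_univ _, Grp.mem_conj_normalizer (hLB hu) hx,
          fun e => hx1 (conj_eq_one_iff.1 e)⟩)
      (fun _ _ => rfl)
      (fun x hx e => (Finset.mem_filter.1 hx).2.2 (by
        rw [← mem_bot, ← hLfree', ← hgen, centralizer_zpowers_eq]
        exact ⟨hBS (Finset.mem_filter.1 hx).2.1, mem_centralizer_singleton_iff.2 e.symm⟩))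
    have h2 : (Bs.card : ℤ) + 1 = Nat.card B := by
      have e : Bs = (Finset.univ.filter fun x => x ∈ B).erase 1 := by ext x; simp [hBs, and_comm]
      rw [e, Nat.card_eq_fintype_card, Fintype.card_subtype]
      exact_mod_cast Finset.card_erase_add_one (Finset.mem_filter.2 ⟨Finset.mem_univ _, B.one_mem⟩)
    rw [Finset.sum_const, nsmul_eq_mul, mul_one] at h1
    rwa [← h2, add_sub_cancel_right]
  have hidx : 2 * r + 1 ≤ N.relIndex S := by
    set n := N.relIndex S
    have hmul : Nat.card N * n = Nat.card S := Grp.card_mul_relIndex hNS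
    have hn1 : n ≠ 1 := fun e => hmv (Subgroup.relIndex_eq_one.1 e)
    have hLS : L ≤ normalizer (S : Set G) := ((hL.trans hAE).trans hE.1).trans hMS
    have h1 := dvd_sub (hcount S le_rfl hLS) (hcount N hNS (hL.trans hAN))
    have h2 : (r : ℤ) ∣ (Nat.card N : ℤ) * ((n : ℤ) - 1) := by
      have h3 : (Nat.card N : ℤ) * ((n : ℤ) - 1) = ((Nat.card S : ℤ) - 1) - ((Nat.card N : ℤ) - 1) := by
        rw [← hmul]; push_cast; ring
      rw [h3]; exact h1
    have hrN : ¬ (r : ℤ) ∣ (Nat.card N : ℤ) := fun hd =>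
      hrS ((Int.natCast_dvd_natCast.1 hd).trans (card_dvd_of_le hNS))
    obtain ⟨c, hc⟩ := ((Nat.prime_iff_prime_int.1 hr.out).dvd_mul.1 h2).resolve_left hrN
    have hnodd : Odd n := hG.1.of_dvd_nat ((Dvd.intro_left _ hmul).trans (card_subgroup_dvd_card S))
    have hr2 : Odd r := hr.out.odd_of_ne_two hp.prime_ne_two
    have hn0 : 1 ≤ n := hnodd.pos
    obtain ⟨a, ha⟩ := hnodd
    have hc0 : 1 ≤ c := by
      by_contra hlt
      have : (r : ℤ) * c ≤ 0 := mul_nonpos_of_nonneg_of_nonpos (by positivity) (by omega)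
      omega
    have hc2 : c ≠ 1 := fun e => by
      subst e
      obtain ⟨b, hb⟩ := hr2
      omega
    have : (r : ℤ) * 2 ≤ r * c := mul_le_mul_of_nonneg_left (by omega) (by positivity)
    omega
  -- the overgroup
  obtain ⟨H, hH, hNA⟩ := exists_coatom_normalizer hG (K := A) (fun e => hv1 (mem_bot.1 (e ▸ hvA)))
    fun e => hM.1 (top_le_iff.1 (e ▸ hAE.trans hE.1))
  haveI := solvable_of_ne_top hG hH.1
  obtain ⟨⟨hEA, -⟩, ⟨-, -, hNAM⟩, -⟩ := Cfsg.Agent.S1418.result hG M hM E hE r hτ A ⟨hAE, hA, hA2⟩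
  have hHM : H ≠ M := fun e => hNAM (e ▸ hNA)
  have hEH : E ≤ H := hEA.trans hNA
  obtain ⟨P, hTP⟩ := hT.2.1.exists_le_sylow
  have hAP : A ≤ (P : Subgroup G) := hAT.trans hTP
  have hP1 : (P : Subgroup G) ≠ ⊥ := fun e => hv1 (mem_bot.1 (e ▸ hAP hvA))
  have hPNH : (P : Subgroup G) ≤ H ∧ normalizer ((P : Subgroup G) : Set G) ≤ H := by
    by_cases hab : IsMulCommutative (P : Subgroup G)
    · obtain ⟨hPE, -, hmem⟩ := tau2_sylow_compl hG hM hE hτ hAE hA hA2 hab hAP
      refine ⟨hPE.trans hEH, le_trans (fun g hg => ?_) hNA⟩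
      rw [Grp.mem_normalizer_iff_smul]
      refine Subgroup.eq_of_le_of_card_ge ?_ (by rw [Grp.card_conj_smul])
      rintro _ ⟨b, hb, rfl⟩
      show MulAut.conj g b ∈ A
      exact hmem _ (Grp.mem_conj_normalizer hg (hAP hb)) (by rw [← map_pow, hA.2 b hb, map_one])
    · obtain ⟨A₀, hexc⟩ := exists_exc hG hM (hAE.trans hE.1) hA hA2 hτ.2.1
      obtain ⟨-, -, -, y, hy, hyA, -, hyC⟩ := hexc.exists_mover hAP hab
      set Y := (P : Subgroup G) ⊓ normalizer (A : Set G) with hY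
      have hYna : ¬ IsMulCommutative Y := fun hc => hyC (mem_centralizer_iff.2 fun a ha => by
        exact congrArg Subtype.val (hc.is_comm.comm (⟨a, hAP ha, le_normalizer ha⟩ : Y) ⟨y, hy, hyA⟩))
      obtain ⟨L₀, -, hLu⟩ := Cfsg.Agent.S1422.result hG r Y (P.isPGroup'.to_le inf_le_left) hYna
      obtain ⟨L', hL', hNL⟩ := exists_coatom_normalizer hG hP1 (ne_top_of_pGroup hG P.isPGroup')
      have e : L' = H := (hLu L' ⟨hL', inf_le_left.trans (le_normalizer.trans hNL)⟩).trans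
        (hLu H ⟨hH, inf_le_right.trans hNA⟩).symm
      exact ⟨(le_normalizer.trans hNL).trans e.le, hNL.trans e.le⟩
  have hPsyl : Grp.IsSylowIn r (P : Subgroup G) H :=
    ⟨hPNH.1, P.isPGroup', fun hd => Sylow.not_dvd_index P (hd.trans (relIndex_dvd_index_of_le hPNH.1))⟩
  have hrσ : r ∈ Cfsg.sigma H := by
    obtain ⟨P₀, hP₀⟩ := Grp.isSylowIn_iff.1 hPsyl
    exact ⟨hr.out, hvo ▸ Subgroup.orderOf_dvd_natCard _ (hEH (hAE hvA)), P₀, hP₀ ▸ hPNH.2⟩
  have hMH : ∀ g : G, H ≠ MulAut.conj g • M := fun g e => hτ.2.1 ((sigma_smul_iff hG hM g).1 (e ▸ hrσ))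
  have hmeetS : S ⊓ H = ⊥ := (Cfsg.Agent.S1417.result hG M hM r hτ A ⟨hAE.trans hE.1, hA, hA2⟩).2.2.2.2.1 H hH hHM
    ((le_normalizer).trans hNA)
  have hmeet : M ⊓ H = E := by
    refine le_antisymm (fun m hm => ?_) (le_inf hE.1 hEH)
    obtain ⟨e, he, t, ht, rfl⟩ := hE.2.2.2 m hm.1
    have h1 : t ∈ S ⊓ H := ⟨ht, (H.mul_mem_cancel_left (hEH he)).1 hm.2⟩
    rw [hmeetS, mem_bot] at h1
    rwa [h1, mul_one]
  have hPσ : Grp.IsSylowIn r (P : Subgroup G) (Cfsg.sigmaCore H) := sigmaCore_sylow hG hH hrσ hPsyl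
  refine ⟨H, E, N, A, T, P, v, ⟨hG, hM, hτ, fitting_of_kappa_empty hG hM hκ, hE, hAE hvA, hvo, hCv, huniq', hH, hMH,
    hrσ, hmeet, hPσ.1 (hAP hvA), fun hle => hHM (huniq' H hH hle), hNS, hSN,
    hAN hvA, hsplit, hidx⟩, hκ, hp, hTP, hvA, hNA, hPσ⟩

namespace Setup

variable {M H E N A T : Subgroup G} {P : Sylow r G} {v : G} (h : Setup M H E N A T P v)
include h

theorem hG : Cfsg.IsMinSimpleOddOrder G := h.conf.hG

theorem EH : E ≤ H := h.conf.meet ▸ inf_le_right

theorem AE : A ≤ E := h.plane.hAE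

theorem AP : A ≤ (P : Subgroup G) := h.plane.le_sylow.trans h.hTP

theorem PX : (P : Subgroup G) ≤ Cfsg.sigmaCore H := h.hP.1

theorem PH : (P : Subgroup G) ≤ H := h.PX.trans (TransHyp.piCoreOf_le H)

theorem maxPlane : IsMaxPlane r A :=
  IsMaxPlane.of_sigma' h.hG h.conf.hM h.conf.hτ.2.1 (h.AE.trans h.conf.hE.1) h.plane.elem h.plane.card

theorem CA : centralizer (A : Set G) ≤ E :=
  have h1 := (Cfsg.Agent.S1418.result h.hG M h.conf.hM E h.conf.hE r h.conf.hτ A h.plane.data).2.1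
  h1.1.trans h1.2.1.le

theorem CP : centralizer ((P : Subgroup G) : Set G) ≤ E := (centralizer_le h.AP).trans h.CA

theorem PE_eq : (P : Subgroup G) ⊓ E = T :=
  (h.plane.hT.eq_of_le (le_inf h.hTP h.plane.hT.1) inf_le_right (P.isPGroup'.to_le inf_le_left)).symm

theorem T_comm : IsMulCommutative T := h.plane.sylow_comm

theorem P_not_le (hna : ¬ IsMulCommutative (P : Subgroup G)) : ¬ (P : Subgroup G) ≤ E := fun hle =>
  hna (by rw [← inf_eq_left.2 hle, h.PE_eq]; exact h.T_comm)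

theorem nilpotent_comm {D : Subgroup G} (hD : D ≤ E) (hn : Group.IsNilpotent D) : IsMulCommutative D :=
  (Cfsg.Agent.S1420.result h.hG M h.conf.hM E h.conf.hE).1 D (hD.trans h.conf.hE.1) hn fun _ hp hd =>
    compl_prime h.hG h.conf.hM h.conf.hE hp (hd.trans (card_dvd_of_le hD))

end Setup

end Cfsg.Agent.Transfer.Loc.TypeI
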