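import Cfsg.Agent.Lib.Transfer.Local.Normed
import Cfsg.Agent.Lib.Transfer.Local.BenderInvariant
import Cfsg.Agent.Lib.Invol.RankOne
import Cfsg.Agent.S1482

/-!
Uniqueness subgroups in a minimal simple group of odd order.
-/

set_option autoImplicit false
set_option linter.style.haveILetI false
set_option linter.unusedSectionVars false

namespace Cfsg.Agent.Transfer.Loc

open Subgroup
open scoped commutatorElement Pointwise

universe u

variable {G : Type u} [Group G] [Finite G] (hG : Cfsg.IsMinSimpleOddOrder G)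
include hG

theorem u_ne_bot {L : Subgroup G} (hL : Cfsg.InUniqueMaximal L) : L ≠ ⊥ := by
  rintro rfl
  obtain ⟨M, ⟨hM, -⟩, huniq⟩ := hL
  refine hM.1 (top_le_iff.1 fun g _ => ?_)
  obtain ⟨M', hM', hg⟩ := exists_coatom hG (ne_top_of_solvable hG (H := zpowers g) inferInstance)
  exact huniq M' ⟨hM', bot_le⟩ ▸ hg (mem_zpowers g)

theorem u_mono {X Y : Subgroup G} (hX : Cfsg.InUniqueMaximal X) (h : X ≤ Y) (hY : Y ≠ ⊤) :
    Cfsg.InUniqueMaximal Y := by
  obtain ⟨M, ⟨hM, hXM⟩, huniq⟩ := hX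
  obtain ⟨M', hM', hYM⟩ := exists_coatom hG hY
  refine ⟨M', ⟨hM', hYM⟩, fun L ⟨hL, hYL⟩ => ?_⟩
  rw [huniq L ⟨hL, h.trans hYL⟩, huniq M' ⟨hM', h.trans hYM⟩]

theorem centralizer_ne_top' {L : Subgroup G} (hL : L ≠ ⊥) : centralizer (L : Set G) ≠ ⊤ := fun h => hL (by
  rw [eq_bot_iff, ← TransHyp.center_eq_bot hG]
  intro a ha
  exact mem_center_iff.2 fun g => (mem_centralizer_iff.1 (h ▸ mem_top g) a ha).symm)

theorem isCoatom_conj {M : Subgroup G} (hM : IsCoatom M) (g : G) : IsCoatom (MulAut.conj g • M) := by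
  refine ⟨fun h => hM.1 ?_, fun K hK => ?_⟩
  · refine Subgroup.eq_top_of_card_eq _ ?_
    rw [← Grp.card_conj_smul g M, h, card_top]
  · have h1 : M < MulAut.conj g⁻¹ • K := by
      refine lt_of_le_of_ne ?_ fun e => hK.ne ?_
      · rw [map_inv, ← Subgroup.pointwise_smul_subset_iff]; exact hK.le
      · rw [e, Grp.conj_smul_conj_smul, mul_inv_cancel, map_one, one_smul]
    have h2 := hM.2 _ h1
    refine Subgroup.eq_top_of_card_eq _ ?_
    rw [← Grp.card_conj_smul g⁻¹ K, h2, card_top]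

theorem u_conj {X : Subgroup G} (hX : Cfsg.InUniqueMaximal X) (g : G) :
    Cfsg.InUniqueMaximal (MulAut.conj g • X) := by
  obtain ⟨M, ⟨hM, hXM⟩, huniq⟩ := hX
  refine ⟨MulAut.conj g • M, ⟨isCoatom_conj hG hM g, Subgroup.pointwise_smul_le_pointwise_smul_iff.2 hXM⟩,
    fun L ⟨hL, hXL⟩ => ?_⟩
  rw [← huniq (MulAut.conj g⁻¹ • L) ⟨isCoatom_conj hG hL g⁻¹, ?_⟩, Grp.conj_smul_conj_smul, mul_inv_cancel, map_one, one_smul]
  rw [map_inv, ← Subgroup.pointwise_smul_subset_iff]; exact hXL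

variable {p : ℕ} [hp : Fact p.Prime]

/-- An elementary abelian group of order at least `p²` whose centralisers of elements lie in a maximal
subgroup has all its invariant `p'`-subgroups there. -/
theorem normed_of_centralizers {M E : Subgroup G} (hE : Cfsg.IsElementaryAbelian p E) (hE2 : p ^ 2 ≤ Nat.card E)
    (h : ∀ b ∈ E, b ≠ 1 → centralizer ({b} : Set G) ≤ M) :
    ∀ Y : Subgroup G, E ≤ normalizer (Y : Set G) → (Nat.card Y).Coprime p → Y ≤ M := by
  intro Y hEY hY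
  refine Grp.le_of_hyperplanes hE (fun e => ?_) Y ?_ hEY fun D hDE hidx => ?_
  · rw [e, card_bot] at hE2
    exact absurd hE2 (not_le.2 (Nat.one_lt_pow (by norm_num) hp.out.one_lt))
  · exact fun hd => hp.out.ne_one (Nat.eq_one_of_dvd_coprimes hY hd dvd_rfl)
  · obtain ⟨b, hb, hb1⟩ := (Subgroup.bot_or_exists_ne_one D).resolve_left (Grp.ne_bot_of_relIndex hE2 hidx)
    refine inf_le_right.trans ((centralizer_le ?_).trans (h b (hDE hb) hb1))
    exact Set.singleton_subset_iff.2 hb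

theorem u_elem_of_centralizes {L E : Subgroup G} (hL : Cfsg.InUniqueMaximal L) (hEL : E ≤ centralizer (L : Set G))
    (hE : Cfsg.IsElementaryAbelian p E) (hE2 : p ^ 2 ≤ Nat.card E) : Cfsg.InUniqueMaximal E := by
  have hL1 := u_ne_bot hG hL
  obtain ⟨M, ⟨hM, hLM⟩, huniq⟩ := hL
  have hEM : E ≤ M := by
    have hLt : L ≠ ⊤ := fun e => hM.1 (top_le_iff.1 (e ▸ hLM))
    obtain ⟨M', hM', h⟩ := exists_coatom_normalizer hG hL1 hLt
    rw [huniq M' ⟨hM', le_normalizer.trans h⟩] at h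
    exact hEL.trans ((centralizer_le_normalizer _).trans h)
  have hC : ∀ b ∈ E, b ≠ 1 → centralizer ({b} : Set G) ≤ M := by
    intro b hb hb1
    obtain ⟨M', hM', h⟩ := exists_coatom hG (TransHyp.centralizer_ne_top hG hb1)
    rwa [huniq M' ⟨hM', ?_⟩] at h
    refine le_trans ?_ h
    rw [le_centralizer_iff] at hEL
    exact hEL.trans (centralizer_le (Set.singleton_subset_iff.2 hb))
  refine inUniqueMaximal hG hM hEM (fun e => ⟨1, Subtype.ext (by rw [coe_pow, coe_one, pow_one]; exact hE.2 e e.2)⟩) ?_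
    (normed_of_centralizers hG hE hE2 hC)
  rintro rfl
  rw [card_bot] at hE2
  exact absurd hE2 (not_le.2 (Nat.one_lt_pow (by norm_num) hp.out.one_lt))

theorem u_of_centralizes {L K : Subgroup G} (hL : Cfsg.InUniqueMaximal L) (hK : K ≤ centralizer (L : Set G))
    {E : Subgroup G} (hEK : E ≤ K) (hE : Cfsg.IsElementaryAbelian p E) (hE2 : p ^ 2 ≤ Nat.card E) :
    Cfsg.InUniqueMaximal K :=
  u_mono hG (u_elem_of_centralizes hG hL (hEK.trans hK) hE hE2) hEK
    fun e => centralizer_ne_top' hG (u_ne_bot hG hL) (top_le_iff.1 (e ▸ hK))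

omit hG in
theorem exists_elem_of_not_prank {n : ℕ} {K : Subgroup G} (h : ¬ Cfsg.PRankLE p n K) :
    ∃ E : Subgroup G, E ≤ K ∧ Cfsg.IsElementaryAbelian p E ∧ p ^ (n + 1) ≤ Nat.card E := by
  obtain ⟨E, hEc, hEp, hE⟩ : ∃ E : Subgroup K, IsMulCommutative E ∧ (∀ a ∈ E, a ^ p = 1) ∧ p ^ n < Nat.card E := by
    unfold Cfsg.PRankLE at h; push Not at h; exact h
  refine ⟨E.map K.subtype, map_subtype_le _, ⟨by haveI := hEc; infer_instance, ?_⟩, ?_⟩
  · rintro _ ⟨a, ha, rfl⟩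
    rw [← map_pow, hEp a ha, map_one]
  · have hEpg : IsPGroup p E := fun a => ⟨1, Subtype.ext (by rw [coe_pow, coe_one, pow_one]; exact hEp a a.2)⟩
    rw [card_map_of_injective K.subtype_injective]
    obtain ⟨m, hm⟩ := IsPGroup.iff_card.1 hEpg
    rw [hm] at hE ⊢
    exact Nat.pow_le_pow_right hp.out.pos ((Nat.pow_lt_pow_iff_right hp.out.one_lt).1 hE)

omit hG in
theorem not_prank_of_elem {n : ℕ} {K E : Subgroup G} (hEK : E ≤ K) (hE : Cfsg.IsElementaryAbelian p E)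
    (hn : p ^ (n + 1) ≤ Nat.card E) : ¬ Cfsg.PRankLE p n K := fun h => by
  haveI := hE.1
  have := h (E.subgroupOf K) inferInstance fun a ha => Subtype.ext (hE.2 _ ha)
  rw [Nat.card_congr (subgroupOfEquivOfLe hEK).toEquiv] at this
  exact absurd (hn.trans this) (not_le.2 (Nat.pow_lt_pow_right hp.out.one_lt (Nat.lt_succ_self n)))

theorem u_rank_three {E F : Subgroup G} (hEU : Cfsg.InUniqueMaximal E) (hE : Cfsg.IsElementaryAbelian p E)
    (hE3 : p ^ 3 ≤ Nat.card E) (hF : Cfsg.IsElementaryAbelian p F) (hF3 : p ^ 3 ≤ Nat.card F) :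
    Cfsg.InUniqueMaximal F := by
  have hpg : ∀ {A : Subgroup G}, Cfsg.IsElementaryAbelian p A → IsPGroup p A := fun hA a =>
    ⟨1, Subtype.ext (by rw [coe_pow, coe_one, pow_one]; exact hA.2 a a.2)⟩
  obtain ⟨P, hFP⟩ := (hpg hF).exists_le_sylow
  obtain ⟨T, hET⟩ := (hpg hE).exists_le_sylow
  obtain ⟨g, hg⟩ := MulAction.exists_smul_eq G T P
  set E' := MulAut.conj g • E with hE'
  have hE'P : E' ≤ (P : Subgroup G) := by
    rw [← hg, Sylow.coe_subgroup_smul]
    exact Subgroup.pointwise_smul_le_pointwise_smul_iff.2 hET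
  have hE'U : Cfsg.InUniqueMaximal E' := u_conj hG hEU g
  have hE'e : Cfsg.IsElementaryAbelian p E' := by
    rw [hE', ← Grp.map_conj_eq_smul]
    haveI := hE.1
    refine ⟨inferInstance, ?_⟩
    rintro _ ⟨a, ha, rfl⟩
    rw [← map_pow, hE.2 a ha, map_one]
  have hE'3 : p ^ 3 ≤ Nat.card E' := by rwa [hE', Grp.card_conj_smul]
  have hsub : ∀ {A : Subgroup G}, A ≤ (P : Subgroup G) → Cfsg.IsElementaryAbelian p A → p ^ 3 ≤ Nat.card A →
      p ^ 3 ≤ Nat.card (A.subgroupOf (P : Subgroup G)) := fun hA _ h => by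
    rwa [Nat.card_congr (subgroupOfEquivOfLe hA).toEquiv]
  obtain ⟨W, hWn, hWe, hW2⟩ := Grp.RankThree.exists_normal_sq P.isPGroup'
    (E := F.subgroupOf (P : Subgroup G)) ⟨by haveI := hF.1; infer_instance, fun a ha => Subtype.ext (hF.2 _ ha)⟩
    (hsub hFP hF hF3)
  haveI := hWn
  set W' := W.map (P : Subgroup G).subtype with hW'
  have hW'e : Cfsg.IsElementaryAbelian p W' := by
    haveI := hWe.1
    refine ⟨inferInstance, ?_⟩
    rintro _ ⟨a, ha, rfl⟩
    rw [← map_pow, hWe.2 a ha, map_one]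
  have hW'2 : p ^ 2 ≤ Nat.card W' := by
    rw [hW', card_map_of_injective (P : Subgroup G).subtype_injective, hW2]
  have key : ∀ {A : Subgroup G}, A ≤ (P : Subgroup G) → Cfsg.IsElementaryAbelian p A → p ^ 3 ≤ Nat.card A →
      ∃ C : Subgroup G, C ≤ A ∧ C ≤ centralizer (W' : Set G) ∧ Cfsg.IsElementaryAbelian p C ∧ p ^ 2 ≤ Nat.card C := by
    intro A hA hAe hA3
    have h := Grp.RankThree.card_inf_centralizer_ge P.isPGroup' (U := W) hWe.1 hW2.le (hsub hA hAe hA3)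
    refine ⟨(A.subgroupOf (P : Subgroup G) ⊓ centralizer (W : Set (P : Subgroup G))).map (P : Subgroup G).subtype, ?_, ?_, ?_, ?_⟩
    · exact (map_mono inf_le_left).trans (map_subgroupOf_eq_of_le hA).le
    · rintro _ ⟨a, ha, rfl⟩
      refine mem_centralizer_iff.2 ?_
      rintro _ ⟨w, hw, rfl⟩
      exact congrArg Subtype.val (mem_centralizer_iff.1 ha.2 w hw)
    · exact Grp.elemAb_mono hAe ((map_mono inf_le_left).trans (map_subgroupOf_eq_of_le hA).le)
    · rwa [card_map_of_injective (P : Subgroup G).subtype_injective]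
  obtain ⟨C₁, hC₁E, hC₁W, hC₁, hC₁2⟩ := key hE'P hE'e hE'3
  obtain ⟨C₂, hC₂F, hC₂W, hC₂, hC₂2⟩ := key hFP hF hF3
  have hEC : E' ≤ centralizer (E' : Set G) := le_centralizer_iff_isMulCommutative.2 hE'e.1
  have h1 : Cfsg.InUniqueMaximal C₁ := u_elem_of_centralizes hG hE'U (hC₁E.trans hEC) hC₁ hC₁2
  have h2 : Cfsg.InUniqueMaximal W' := u_elem_of_centralizes hG h1 (le_centralizer_iff.1 hC₁W) hW'e hW'2
  have h3 : Cfsg.InUniqueMaximal C₂ := u_elem_of_centralizes hG h2 hC₂W hC₂ hC₂2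
  exact u_mono hG h3 hC₂F (ne_top_of_pGroup hG (hpg hF))

theorem u_abelian_iff {A : Subgroup G} (hA : IsPGroup p A) (hAc : IsMulCommutative A) {E : Subgroup G} (hEA : E ≤ A)
    (hE : Cfsg.IsElementaryAbelian p E) (hE2 : p ^ 2 ≤ Nat.card E) :
    Cfsg.InUniqueMaximal A ↔ Cfsg.InUniqueMaximal E :=
  ⟨fun h => u_elem_of_centralizes hG h (hEA.trans (le_centralizer_iff_isMulCommutative.2 hAc)) hE hE2,
    fun h => u_mono hG h hEA (ne_top_of_pGroup hG hA)⟩

theorem not_prank_one_of_not_cyclic {B : Subgroup G} (hp2 : p ≠ 2) (hB : IsPGroup p B) (h : ¬ IsCyclic B) :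
    ¬ Cfsg.PRankLE p 1 B := fun hr => h (by
  rcases eq_or_ne B ⊥ with rfl | hne
  · infer_instance
  haveI : Nontrivial B := (nontrivial_iff_ne_bot B).2 hne
  haveI := hB.center_nontrivial
  obtain ⟨z, hz⟩ := exists_prime_orderOf_dvd_card' (G := center B) p (by
    obtain ⟨n, hn⟩ := IsPGroup.iff_card.1 (hB.to_subgroup (center B))
    rcases Nat.eq_zero_or_pos n with rfl | h0
    · exact absurd (Finite.one_lt_card (α := center B)) (by simp [hn])
    · rw [hn]; exact dvd_pow_self p h0.ne')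
  have hzo : orderOf (z : B) = p := by rw [Subgroup.orderOf_coe]; exact hz
  refine Invol.isCyclic_of_pow_eq_one_mem hB hp2 z.2 (by rw [← hzo]; exact pow_orderOf_eq_one _) fun y hy => ?_
  set E := zpowers (z : B) ⊔ zpowers y with hE
  have hEc : IsMulCommutative E := by
    rw [hE, show zpowers (z : B) ⊔ zpowers y = closure ({(z : B), y} : Set B) by
      rw [zpowers_eq_closure, zpowers_eq_closure, ← Subgroup.closure_union, Set.insert_eq]]
    refine Subgroup.isMulCommutative_closure ?_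
    intro a ha b hb
    rcases ha with rfl | rfl <;> rcases hb with rfl | rfl
    · rfl
    · exact (mem_center_iff.1 z.2 _).symm
    · exact mem_center_iff.1 z.2 _
    · rfl
  have hEp : ∀ a ∈ E, a ^ p = 1 := by
    intro a ha
    obtain ⟨i, hi, j, hj, rfl⟩ : ∃ i ∈ zpowers (z : B), ∃ j ∈ zpowers y, i * j = a := by
      haveI : (zpowers (z : B)).Normal := ⟨fun w hw g => by
        obtain ⟨m, rfl⟩ := hw
        have hc : g * (z : B) ^ m = (z : B) ^ m * g := (mem_center_iff.1 ((center B).zpow_mem z.2 m) g)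
        rw [hc, mul_inv_cancel_right]; exact ⟨m, rfl⟩⟩
      exact Subgroup.mem_sup_of_normal_left.1 ha
    obtain ⟨m, rfl⟩ := hi
    obtain ⟨k, rfl⟩ := hj
    have hcomm : Commute ((z : B) ^ m) (y ^ k) := Commute.zpow_zpow (mem_center_iff.1 z.2 y).symm m k
    show ((z : B) ^ m * y ^ k) ^ p = 1
    have hz1 : (z : B) ^ p = 1 := by rw [← hzo]; exact pow_orderOf_eq_one _
    rw [hcomm.mul_pow, ← zpow_natCast, ← zpow_mul, mul_comm, zpow_mul, zpow_natCast, hz1, one_zpow, one_mul,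
      ← zpow_natCast, ← zpow_mul, mul_comm, zpow_mul, zpow_natCast, hy, one_zpow]
  have hle := hr E hEc hEp
  rw [pow_one] at hle
  have heq : zpowers (z : B) = E := Subgroup.eq_of_le_of_card_ge le_sup_left (by rw [Nat.card_zpowers, hzo]; exact hle)
  exact heq ▸ mem_sup_right (mem_zpowers y))

/-- The uniqueness subgroup in the Fitting subgroup when it is not a `p`-group. -/
theorem u_fitting {M : Subgroup G} (hM : IsCoatom M) {A₀ : Subgroup G} (hA₀ : A₀ ≤ Cfsg.fittingOf M)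
    (hA₀e : Cfsg.IsElementaryAbelian p A₀) (hA₀3 : p ^ 3 ≤ Nat.card A₀) (hnp : ¬ IsPGroup p (Cfsg.fittingOf M)) :
    Cfsg.InUniqueMaximal (Cfsg.fittingOf M ⊓ centralizer (A₀ : Set G)) := by
  haveI := solvable_of_ne_top hG hM.1
  set F := Cfsg.fittingOf M with hF
  set A := F ⊓ centralizer (A₀ : Set G) with hA
  have hA₀A : A₀ ≤ A := le_inf hA₀ (le_centralizer_iff_isMulCommutative.2 hA₀e.1)
  have hpF : p ∣ Nat.card F := by
    obtain ⟨n, hn⟩ := IsPGroup.iff_card.1 (fun a => ⟨1, Subtype.ext (by rw [coe_pow, coe_one, pow_one]; exact hA₀e.2 a a.2)⟩ : IsPGroup p A₀)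
    rcases Nat.eq_zero_or_pos n with rfl | h0
    · rw [hn, pow_zero] at hA₀3
      exact absurd hA₀3 (not_le.2 (Nat.one_lt_pow (by norm_num) hp.out.one_lt))
    · exact ((dvd_pow_self p h0.ne').trans (dvd_of_eq hn.symm)).trans (card_dvd_of_le hA₀)
  have hF2 : 2 ≤ (Nat.card F).primeFactors.card := by
    by_contra hlt
    refine hnp (isPGroup_of_primes fun r hr hd => ?_)
    exact Finset.card_le_one.1 (by omega) r (Nat.mem_primeFactors.2 ⟨hr, hd, Nat.card_pos.ne'⟩) p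
      (Nat.mem_primeFactors.2 ⟨hp.out, hpF, Nat.card_pos.ne'⟩)
  have hCA : F ⊓ centralizer (A : Set G) ≤ A := le_inf inf_le_left (inf_le_right.trans (centralizer_le hA₀A))
  have hZA : ∀ t : ℕ, t.Prime → Z t M ≤ A := fun t ht => by
    haveI := Fact.mk ht
    exact le_inf (inf_le_left.trans (O_le_fittingOf M)) ((Z_centralizes_fittingOf M).trans (centralizer_le hA₀))
  have hπA : ∀ r : ℕ, r.Prime → (r ∣ Nat.card A ↔ r ∣ Nat.card F) := fun r hr => by
    haveI := Fact.mk hr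
    refine ⟨fun h => h.trans (card_dvd_of_le inf_le_left), fun h => ?_⟩
    obtain ⟨n, hn⟩ := IsPGroup.iff_card.1 ((O_isPGroup r M).to_le (inf_le_left : Z r M ≤ O r M))
    rcases Nat.eq_zero_or_pos n with rfl | h0
    · exact absurd (card_eq_one.1 (by simpa using hn)) (Z_ne_bot (O_ne_bot_of_dvd h))
    · exact ((dvd_pow_self r h0.ne').trans (dvd_of_eq hn.symm)).trans (card_dvd_of_le (hZA r hr))
  have hπ : Cfsg.primesNotDvd (Nat.card A) = Cfsg.primesNotDvd (Nat.card F) := Set.ext fun r =>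
    ⟨fun h => ⟨h.1, fun h' => h.2 ((hπA r h.1).2 h')⟩, fun h => ⟨h.1, fun h' => h.2 ((hπA r h.1).1 h')⟩⟩
  have hXA : M ⊓ centralizer (F : Set G) ≤ A :=
    le_inf (centralizer_fittingOf_le M) (inf_le_right.trans (centralizer_le hA₀))
  have hsetup : ∀ X : Subgroup G, X ≠ ⊤ → A ≤ normalizer (X : Set G) → Setup M A X := fun X hX hAX =>
    ⟨fun t ht h => by haveI := Fact.mk ht; exact centralizer_Z_le hG hM h, hF2, inf_le_left, hCA,
      solvable_of_ne_top hG hX, hAX, hXA.trans hAX⟩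
  have hAM : A ≤ M := inf_le_left.trans (fittingOf_le M)
  have hA1 : A ≠ ⊥ := ne_bot_of_le_ne_bot (fun e => by
    rw [e, card_bot] at hA₀3
    exact absurd hA₀3 (not_le.2 (Nat.one_lt_pow (by norm_num) hp.out.one_lt))) hA₀A
  have hAt : A ≠ ⊤ := fun e => hM.1 (top_le_iff.1 (e ▸ hAM))
  have hT : Cfsg.TransitivityHypothesis A := by
    refine ⟨hA1, hAt, fun X hX hAX => le_antisymm (sSup_le ?_) (le_sSup ⟨TransHyp.piCoreOf_le X,
      fun r hr hd => TransHyp.piCoreOf_primes hr hd, hAX.trans (le_normalizer_core' X)⟩)⟩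
    rintro Y ⟨hYX, hYπ, hAY⟩
    rw [hπ] at hYπ ⊢
    have hcop : (Nat.card A).Coprime (Nat.card Y) := Nat.coprime_of_dvd fun r hr h1 h2 =>
      (hYπ r hr h2).2 ((hπA r hr).1 h1)
    have h : Y ≤ Y ⊓ Cfsg.piCoreOf (Cfsg.primesNotDvd (Nat.card F)) X := by
      refine Grp.le_of_forall_sylow inf_le_left fun q hq => ?_
      obtain ⟨S, hS, hAS⟩ := Grp.exists_invariant_sylow A Y hAY hcop
        (Or.inl (solvable_of_ne_top hG hAt)) q
      refine ⟨S, hS, le_inf hS.1 ?_⟩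
      rcases eq_or_ne S ⊥ with rfl | hne
      · exact bot_le
      refine (hsetup X hX (hAX.trans le_normalizer)).le_core (fun hqF => ?_) (hS.1.trans hYX) hS.2.1 hAS
      obtain ⟨n, hn⟩ := IsPGroup.iff_card.1 hS.2.1
      rcases Nat.eq_zero_or_pos n with rfl | h0
      · exact hne (card_eq_one.1 (by simpa using hn))
      · exact (hYπ q hq.out (((dvd_pow_self q h0.ne').trans (dvd_of_eq hn.symm)).trans (card_dvd_of_le hS.1))).2 hqF
    exact h.trans inf_le_right
  have hZ : ¬ Cfsg.RankLE 2 ↥(A ⊓ centralizer (A : Set G)) := fun h =>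
    not_prank_of_elem (n := 2) (le_inf hA₀A (le_centralizer_iff.1 inf_le_right)) hA₀e hA₀3 (h p hp.out)
  set K := Cfsg.piCoreOf (Cfsg.primesNotDvd (Nat.card A)) (centralizer (A : Set G)) with hK
  have hKbot : K = ⊥ := by
    have hKM : K ≤ M := (TransHyp.piCoreOf_le _).trans ((centralizer_le (hZA p hp.out)).trans
      (centralizer_Z_le hG hM (O_ne_bot_of_dvd hpF)))
    refine (hsetup M hM.1 (hAM.trans le_normalizer)).triv hKM hKM ?_ fun r hr hd =>
      hπ ▸ TransHyp.piCoreOf_primes hr hd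
    exact ((le_centralizer_iff.1 (TransHyp.piCoreOf_le _)).trans le_rfl).trans (centralizer_le_normalizer _)
  have hinv : ∀ q : ℕ, q.Prime → ¬ q ∣ Nat.card F → ∀ Q : Subgroup G, IsPGroup q Q → A ≤ normalizer (Q : Set G) → Q = ⊥ := by
    intro q hq hqF Q hQ hAQ
    haveI := Fact.mk hq
    have hqA : ¬ q ∣ Nat.card A := fun h => hqF ((hπA q hq).1 h)
    have htr := Cfsg.Agent.S1393.result hG A hT hZ q hq hqA
    have huniq : ∀ Q₁ ∈ Cfsg.maxInvSubgroups ⊤ A ({q} : Set ℕ), ∀ Q₂ ∈ Cfsg.maxInvSubgroups ⊤ A ({q} : Set ℕ),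
        Q₂ = Q₁ := by
      intro Q₁ h₁ Q₂ h₂
      obtain ⟨k, hk, e⟩ := htr Q₁ h₁ Q₂ h₂
      rw [← hK, hKbot, mem_bot] at hk
      rw [e, hk, Grp.map_conj_eq_smul, map_one, one_smul]
    haveI : Group.IsNilpotent F := fittingOf_isNilpotent M
    obtain ⟨-, -, hmax, -⟩ := Cfsg.Agent.S1395.result hG A hT q hq hqA F
      (fun e => hM.1 (top_le_iff.1 (e ▸ fittingOf_le M))) (fun r hr hd => (hπA r hr).2 hd) inf_le_left
      (Grp.isSubnormal_of_nilpotent _) htr
    obtain ⟨Q₀, hQ₀, -⟩ := Transitivity.exists_max (E := F) (q := q) ⊥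
      (Transitivity.mem_inv_iff.2 ⟨IsPGroup.of_bot, by rw [normalizer_eq_top]; exact le_top⟩)
    obtain ⟨Q₁, hQ₁, hle⟩ := Transitivity.exists_max Q (Transitivity.mem_inv_iff.2 ⟨hQ, hAQ⟩)
    have e : Q₁ = Q₀ := huniq Q₀ (hmax hQ₀) Q₁ hQ₁
    subst e
    obtain ⟨hQ₁p, hFQ⟩ := Transitivity.mem_inv_iff.1 hQ₀.1
    have hMQ : M ≤ normalizer (Q₁ : Set G) := by
      intro m hm
      rw [Grp.mem_normalizer_iff_smul]
      obtain ⟨Q₂, hQ₂, hle₂⟩ := Transitivity.exists_max (E := A) (q := q) (MulAut.conj m • Q₁)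
        (Transitivity.mem_inv_iff.2 ⟨by rw [← Grp.map_conj_eq_smul]; exact hQ₁p.map _, fun a ha => by
          rw [Grp.mem_normalizer_iff_smul, Grp.conj_smul_conj_smul]
          have ha' : m⁻¹ * a * m ∈ F := Grp.mem_conj_normalizer' (le_normalizer_fittingOf M hm) ha.1
          have := Grp.mem_normalizer_iff_smul.1 (hFQ ha')
          conv_rhs => rw [← this, Grp.conj_smul_conj_smul]
          congr 2; group⟩)
      rw [huniq Q₁ (hmax hQ₀) Q₂ hQ₂] at hle₂
      exact Subgroup.eq_of_le_of_card_ge hle₂ (Grp.card_conj_smul _ _).ge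
    rcases eq_or_ne Q₁ ⊥ with e | hne
    · exact le_bot_iff.1 (e ▸ hle)
    exfalso
    have hQM : Q₁ ≤ M :=
      (le_normalizer (H := Q₁)).trans (normalizer_eq_of_coatom hG hM hne (ne_top_of_pGroup hG hQ₁p) hMQ).le
    exact hqF (dvd_of_O_ne_bot (ne_bot_of_le_ne_bot hne (le_O hQM hMQ hQ₁p)))
  have hinvA : ∀ Y ∈ Cfsg.invSubgroups ⊤ A (Cfsg.primesNotDvd (Nat.card F)), Y = ⊥ := by
    rintro Y ⟨-, hYπ, hAY⟩
    have hcop : (Nat.card A).Coprime (Nat.card Y) := Nat.coprime_of_dvd fun r hr h1 h2 =>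
      (hYπ r hr h2).2 ((hπA r hr).1 h1)
    refine eq_bot_iff.2 (Grp.le_of_forall_sylow bot_le fun q hq => ?_)
    obtain ⟨S, hS, hAS⟩ := Grp.exists_invariant_sylow A Y hAY hcop (Or.inl (solvable_of_ne_top hG hAt)) q
    refine ⟨S, hS, le_of_eq ?_⟩
    by_contra hne
    refine hne (hinv q hq.out (fun hqF => ?_) S hS.2.1 hAS)
    obtain ⟨n, hn⟩ := IsPGroup.iff_card.1 hS.2.1
    rcases Nat.eq_zero_or_pos n with rfl | h0
    · exact hne (card_eq_one.1 (by simpa using hn))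
    · exact (hYπ q hq.out (((dvd_pow_self q h0.ne').trans (dvd_of_eq hn.symm)).trans (card_dvd_of_le hS.1))).2 hqF
  refine ⟨M, ⟨hM, hAM⟩, fun L ⟨hL, hAL⟩ => ?_⟩
  exact Cfsg.Agent.S1482.result hG M hM hF2 A inf_le_left
    (le_inf inf_le_left (inf_le_right.trans (centralizer_le hA₀))) hinvA L hL hAL

/-- The uniqueness subgroups when the Fitting subgroup is a `p`-group. -/
theorem u_fitting_pGroup {M : Subgroup G} (hM : IsCoatom M) (hFp : IsPGroup p (Cfsg.fittingOf M))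
    (hF1 : p ∣ Nat.card (Cfsg.fittingOf M)) {P : Subgroup G} (hP : Grp.IsSylowIn p P M) :
    ¬ p ∣ P.index ∧ ∀ A : Subgroup G, Cfsg.IsSCN P A → ¬ Cfsg.PRankLE p 2 A →
      A ≤ Cfsg.fittingOf M ∧ Cfsg.InUniqueMaximal A := by
  haveI := solvable_of_ne_top hG hM.1
  set F := Cfsg.fittingOf M with hF
  have hcore : O' p M = ⊥ := core_eq_bot_of_solvable (π := ({p} : Set ℕ))
    (fun r hr hne => by
      haveI := Fact.mk hr
      obtain ⟨n, hn⟩ := IsPGroup.iff_card.1 hFp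
      exact (Nat.prime_dvd_prime_iff_eq hr hp.out).1 (hr.dvd_of_dvd_pow (hn ▸ dvd_of_O_ne_bot hne)))
    (O'_le p M) (le_normalizer_core' M) fun r hr hd hr' =>
      TransHyp.piCoreOf_primes (π := {s : ℕ | s ≠ p}) (X := M) hr hd hr'
  have hFO : F ≤ O p M := le_O (fittingOf_le M) (le_normalizer_fittingOf M) hFp
  have hOP : O p M ≤ P := by
    obtain ⟨T, rfl⟩ := Grp.isSylowIn_iff.1 hP
    rw [O_eq]; exact map_mono (Grp.pCore_le_sylow T)
  have hFP : F ≤ P := hFO.trans hOP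
  have hP1 : P ≠ ⊥ := ne_bot_of_le_ne_bot (fun e => by rw [e, card_bot] at hF1; exact hp.out.not_dvd_one hF1) hFP
  have hNP : normalizer (P : Set G) ≤ M := by
    have h1 : M ≤ normalizer (ZJ p P : Set G) :=
      (zj_factor hG.1 hP).trans (sup_le (by rw [hcore]; exact bot_le) inf_le_right)
    exact (normalizer_le_ZJ P).trans
      (normalizer_eq_of_le hG hM (ZJ_ne_bot hP.2.1 hP1) ((ZJ_le P).trans hP.1) h1).le
  obtain ⟨S, hPS⟩ := hP.2.1.exists_le_sylow
  have hSP : (S : Subgroup G) = P := by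
    rcases eq_or_lt_of_le hPS with e | hlt
    · exact e.symm
    exfalso
    have h1 := exists_grow S.isPGroup' hlt
    exact h1.ne (hP.eq_of_le h1.le (inf_le_right.trans hNP) (S.isPGroup'.to_le inf_le_left))
  subst hSP
  refine ⟨S.not_dvd_index, fun A hA hA3 => ?_⟩
  have hAc := scn_abelian hG hA
  have hp2 : p ≠ 2 := ne_two hG (hF1.trans (card_subgroup_dvd_card F))
  have hAM : A ≤ M := hA.1.trans hP.1
  have hAF : A ≤ F := by
    haveI : (Cfsg.pPrimeCore p M).Normal := Grp.pPrimeCore_isNormal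
    obtain ⟨T, hT⟩ := Grp.isSylowIn_iff.1 hP
    have hY := sup_core_eq_pPrimePCore T
    have hbot : Cfsg.pPrimeCore p M = ⊥ := Subgroup.map_injective M.subtype_injective (by rw [Subgroup.map_bot, ← O'_eq, hcore])
    rw [hbot, sup_bot_eq] at hY
    have hYp : Cfsg.pPrimePCore p M ≤ Cfsg.pCore p M := by
      refine Grp.le_pCore ?_ (hY ▸ T.isPGroup'.to_le inf_le_left)
      haveI := Grp.pCore_isNormal (p := p) (G := M ⧸ Cfsg.pPrimeCore p M)
      exact Subgroup.Normal.comap inferInstance _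
    refine le_trans ?_ (O_le_fittingOf (r := p) M)
    rw [O_eq, ← map_subgroupOf_eq_of_le hAM]
    refine map_mono (le_trans ?_ hYp)
    refine Cfsg.Agent.S1457.result (G := M) (hG.1.of_dvd_nat (card_subgroup_dvd_card M)) p T _ (fun a ha => ?_) ?_ fun s hs => ?_
    · have : (a : G) ∈ (T : Subgroup M).map M.subtype := hT.symm ▸ hA.1 ha
      obtain ⟨b, hb, e⟩ := this
      rwa [← Subtype.ext e]
    · exact ⟨⟨fun a b => Subtype.ext (Subtype.ext (congrArg (fun z : A => (z : G))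
        (hAc.is_comm.comm (⟨((a : M) : G), a.2⟩ : A) ⟨((b : M) : G), b.2⟩)))⟩⟩
    · refine Subgroup.mem_normalizer_iff.2 fun y => ?_
      have hsS : (s : G) ∈ (S : Subgroup G) := hT ▸ mem_map_of_mem M.subtype hs
      simpa [mem_subgroupOf] using Subgroup.mem_normalizer_iff.1 (hA.2.1 hsS) (y : G)
  refine ⟨hAF, inUniqueMaximal hG hM hAM (S.isPGroup'.to_le hA.1) ?_ ?_⟩
  · rintro rfl
    refine hA3 fun B _ _ => ?_
    calc Nat.card B ≤ Nat.card (⊥ : Subgroup G) := Subgroup.card_le_card_group B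
      _ ≤ p ^ 2 := by rw [card_bot]; exact Nat.one_le_pow _ _ hp.out.pos
  have hD : O' p (centralizer (A : Set G)) = ⊥ := by
    have hZA : Z p M ≤ A := by
      rw [← hA.2.2]
      exact le_inf (inf_le_left.trans hOP) ((Z_centralizes_fittingOf M).trans (centralizer_le hAF))
    have hDM : O' p (centralizer (A : Set G)) ≤ M :=
      (O'_le _ _).trans ((centralizer_le hZA).trans (centralizer_Z_le hG hM (O_ne_bot_of_dvd hF1)))
    refine le_bot_iff.1 (hcore ▸ le_O'_of_sylow hP hDM (O'_coprime _) ?_)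
    exact le_normalizer_core (hA.2.1.trans normalizer_le_normalizer_centralizer)
  intro Y hAY hY
  have hAp : IsPGroup p A := S.isPGroup'.to_le hA.1
  have hcop : (Nat.card A).Coprime (Nat.card Y) := by
    obtain ⟨m, hm⟩ := IsPGroup.iff_card.1 hAp
    rw [hm]; exact hY.symm.pow_left m
  refine le_trans (Grp.le_of_forall_sylow (H := (⊥ : Subgroup G)) bot_le fun q hq => ?_) bot_le
  obtain ⟨X, hX, hAX⟩ := Grp.exists_invariant_sylow A Y hAY hcop
    (Or.inl (by haveI := hAp.isNilpotent; infer_instance)) q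
  refine ⟨X, hX, le_of_eq ?_⟩
  by_contra hne
  have hqp : q ≠ p := by
    rintro rfl
    obtain ⟨m, hm⟩ := IsPGroup.iff_card.1 hX.2.1
    rcases Nat.eq_zero_or_pos m with rfl | h0
    · exact hne (card_eq_one.1 (by simpa using hm))
    · exact hp.out.ne_one (Nat.eq_one_of_dvd_coprimes hY (((dvd_pow_self q h0.ne').trans
        (dvd_of_eq hm.symm)).trans (card_dvd_of_le hX.1)) dvd_rfl)
  obtain ⟨htr, hmax⟩ := scn_conj hG S hA hA3 hqp
  have huniq : ∀ Q₁ ∈ Cfsg.maxInvSubgroups ⊤ A ({q} : Set ℕ), ∀ Q₂ ∈ Cfsg.maxInvSubgroups ⊤ A ({q} : Set ℕ),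
      Q₂ = Q₁ := by
    intro Q₁ h₁ Q₂ h₂
    obtain ⟨k, hk, e⟩ := htr Q₁ h₁ Q₂ h₂
    rw [hD, mem_bot] at hk
    rw [e, hk, Grp.map_conj_eq_smul, map_one, one_smul]
  obtain ⟨Q₀, hQ₀, -⟩ := Transitivity.exists_max (E := (S : Subgroup G)) (q := q) ⊥
    (Transitivity.mem_inv_iff.2 ⟨IsPGroup.of_bot, by rw [normalizer_eq_top]; exact le_top⟩)
  obtain ⟨Q₁, hQ₁, hle⟩ := Transitivity.exists_max X (Transitivity.mem_inv_iff.2 ⟨hX.2.1, hAX⟩)
  have e : Q₁ = Q₀ := huniq Q₀ (hmax hQ₀) Q₁ hQ₁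
  subst e
  obtain ⟨hQ₁p, hSQ⟩ := Transitivity.mem_inv_iff.1 hQ₀.1
  have hMQ : M ≤ normalizer (Q₁ : Set G) := by
    intro m hm
    rw [Grp.mem_normalizer_iff_smul]
    obtain ⟨Q₂, hQ₂, hle₂⟩ := Transitivity.exists_max (E := A) (q := q) (MulAut.conj m • Q₁)
      (Transitivity.mem_inv_iff.2 ⟨by rw [← Grp.map_conj_eq_smul]; exact hQ₁p.map _, fun a ha => by
        rw [Grp.mem_normalizer_iff_smul, Grp.conj_smul_conj_smul]
        have ha' : m⁻¹ * a * m ∈ F := Grp.mem_conj_normalizer' (le_normalizer_fittingOf M hm) (hAF ha)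
        have := Grp.mem_normalizer_iff_smul.1 (hSQ (hFP ha'))
        conv_rhs => rw [← this, Grp.conj_smul_conj_smul]
        congr 2; group⟩)
    rw [huniq Q₁ (hmax hQ₀) Q₂ hQ₂] at hle₂
    exact Subgroup.eq_of_le_of_card_ge hle₂ (Grp.card_conj_smul _ _).ge
  have hne₁ : Q₁ ≠ ⊥ := ne_bot_of_le_ne_bot hne hle
  have hQM : Q₁ ≤ M :=
    (le_normalizer (H := Q₁)).trans (normalizer_eq_of_coatom hG hM hne₁ (ne_top_of_pGroup hG hQ₁p) hMQ).le
  refine hne₁ (le_bot_iff.1 (hcore ▸ le_O' hQM hMQ ?_))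
  obtain ⟨m, hm⟩ := IsPGroup.iff_card.1 hQ₁p
  rw [hm]; exact ((Nat.coprime_primes hq.out hp.out).2 hqp).pow_left m

/-- A maximal subgroup whose Fitting subgroup has rank three makes every rank three abelian `p`-subgroup a
uniqueness subgroup. -/
theorem u_of_fitting_rank {M : Subgroup G} (hM : IsCoatom M) (hF : ¬ Cfsg.PRankLE p 2 (Cfsg.fittingOf M))
    {F₁ : Subgroup G} (hF₁ : Cfsg.IsElementaryAbelian p F₁) (hF₁3 : p ^ 3 ≤ Nat.card F₁) :
    Cfsg.InUniqueMaximal F₁ := by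
  obtain ⟨E, hEF, hE, hE3⟩ := exists_elem_of_not_prank hF
  have hE3' : p ^ 3 ≤ Nat.card E := hE3
  by_cases hFp : IsPGroup p (Cfsg.fittingOf M)
  · haveI := solvable_of_ne_top hG hM.1
    obtain ⟨X, hX⟩ := Grp.exists_isSylowIn p M
    have hpF : p ∣ Nat.card (Cfsg.fittingOf M) := by
      obtain ⟨n, hn⟩ := IsPGroup.iff_card.1 hFp
      rcases Nat.eq_zero_or_pos n with rfl | h0
      · have := hE3'.trans (card_le_of_le hEF)
        rw [hn, pow_zero] at this
        exact absurd this (not_le.2 (Nat.one_lt_pow (by norm_num) hp.out.one_lt))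
      · exact (dvd_pow_self p h0.ne').trans (dvd_of_eq hn.symm)
    obtain ⟨-, hA⟩ := u_fitting_pGroup hG hM hFp hpF hX
    have hr : ¬ Cfsg.PRankLE p 2 X := by
      obtain ⟨S, hS⟩ := Grp.isSylowIn_iff.1 hX
      have hEX : E ≤ X := by
        refine hEF.trans (((le_O (fittingOf_le M) (le_normalizer_fittingOf M) hFp).trans ?_))
        rw [← hS, O_eq]; exact map_mono (Grp.pCore_le_sylow S)
      exact not_prank_of_elem hEX hE hE3'
    obtain ⟨A, hAs, hA3⟩ := exists_scn (ne_two hG (hpF.trans (card_subgroup_dvd_card _))) hX.2.1 hr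
    obtain ⟨E', hE'A, hE', hE'3⟩ := exists_elem_of_not_prank hA3
    refine u_rank_three hG (u_elem_of_centralizes hG (hA A hAs hA3).2
      (hE'A.trans (le_centralizer_iff_isMulCommutative.2 (scn_abelian hG hAs))) hE'
      ((Nat.pow_le_pow_right hp.out.pos (by norm_num)).trans hE'3)) hE' hE'3 hF₁ hF₁3
  · exact u_rank_three hG (u_elem_of_centralizes hG (u_fitting hG hM hEF hE hE3' hFp)
      (le_centralizer_iff.1 inf_le_right) hE ((Nat.pow_le_pow_right hp.out.pos (by norm_num)).trans hE3'))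
      hE hE3' hF₁ hF₁3

end Cfsg.Agent.Transfer.Loc
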